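-- helper48: piece (M-G) NSIDE of helper16's defect-one engine (#4952, WANTED #5014): a module `V` with
-- `End(V) = k + traces` has at most one simple `P`-trivial quotient reached by a non-trace map.
import Mathlib
import Cfsg.Agent.Helper16.ModDefs

set_option autoImplicit false

namespace Cfsg.Agent.Helper48.DefOneNSide

open Cfsg.Agent.Helper16 Representation Module

universe u v

section Compl

variable {k : Type v} [Field k] {Γ : Type u} [Group Γ] [Fintype Γ]
variable {V : Type*} [AddCommGroup V] [Module k V]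
variable (ρ : Representation k Γ V) (A B : Submodule k V)
  (hA : ∀ γ, A ≤ A.comap (ρ γ)) (hB : ∀ γ, B ≤ B.comap (ρ γ)) (hc : IsCompl A B)
include hB hc

omit [Fintype Γ] hB hc in
theorem subtype_comm (γ : Γ) :
    A.subtype ∘ₗ ρ.subrepresentation A hA γ = ρ γ ∘ₗ A.subtype := by
  ext a
  rfl

omit [Fintype Γ] in
theorem proj_comm (γ : Γ) :
    A.projectionOnto B hc ∘ₗ ρ γ = ρ.subrepresentation A hA γ ∘ₗ A.projectionOnto B hc := by
  ext v
  have hv := Submodule.projection_add_projection_eq_self hc v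
  have h1 : ρ γ v = ρ γ ((A.projectionOnto B hc v : A) : V)
      + ρ γ ((B.projectionOnto A hc.symm v : B) : V) := by
    rw [← map_add]
    congr 1
    exact hv.symm
  simp only [LinearMap.comp_apply]
  rw [h1, map_add,
    Submodule.projectionOnto_apply_of_mem_left hc (hA γ (A.projectionOnto B hc v).2),
    Submodule.projectionOnto_apply_of_mem_right hc (hB γ (B.projectionOnto A hc.symm v).2),
    add_zero]
  rfl

/-- the idempotent of a `Γ`-stable decomposition, fed to `hend`, gives a scalar `c` such that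
`(1 - c) • id` is a trace on `A` and `(-c) • id` is a trace on `B`. -/
theorem exists_scalar
    (hend : ∀ f : V →ₗ[k] V, (∀ γ, f ∘ₗ ρ γ = ρ γ ∘ₗ f) →
      ∃ c : k, IsRepTrace ρ ρ (f - c • LinearMap.id)) :
    ∃ c : k,
      IsRepTrace (ρ.subrepresentation A hA) (ρ.subrepresentation A hA)
        ((1 - c) • (LinearMap.id : A →ₗ[k] A)) ∧
      IsRepTrace (ρ.subrepresentation B hB) (ρ.subrepresentation B hB)
        ((-c) • (LinearMap.id : B →ₗ[k] B)) := by
  set e : V →ₗ[k] V := A.subtype ∘ₗ A.projectionOnto B hc with he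
  have hecomm : ∀ γ, e ∘ₗ ρ γ = ρ γ ∘ₗ e := by
    intro γ
    rw [he, LinearMap.comp_assoc, proj_comm ρ A B hA hB hc γ, ← LinearMap.comp_assoc,
      subtype_comm ρ A hA γ, LinearMap.comp_assoc]
  obtain ⟨c, hcT⟩ := hend e hecomm
  refine ⟨c, ?_, ?_⟩
  · have h1 := (hcT.comp_left (τ := ρ.subrepresentation A hA) (A.projectionOnto B hc)
      (proj_comm ρ A B hA hB hc)).comp_right (τ := ρ.subrepresentation A hA) A.subtype
      (subtype_comm ρ A hA)
    have h2 : (A.projectionOnto B hc ∘ₗ (e - c • LinearMap.id)) ∘ₗ A.subtype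
        = (1 - c) • (LinearMap.id : A →ₗ[k] A) := by
      refine LinearMap.ext fun a => ?_
      simp only [LinearMap.comp_apply, LinearMap.sub_apply, LinearMap.smul_apply,
        LinearMap.id_apply, Submodule.subtype_apply, he, map_sub, map_smul,
        Submodule.projectionOnto_apply_left]
      rw [sub_smul, one_smul]
    rw [h2] at h1
    exact h1
  · have hB' := proj_comm ρ B A hB hA hc.symm
    have h1 := (hcT.comp_left (τ := ρ.subrepresentation B hB) (B.projectionOnto A hc.symm)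
      hB').comp_right (τ := ρ.subrepresentation B hB) B.subtype
      (subtype_comm ρ B hB)
    have h2 : (B.projectionOnto A hc.symm ∘ₗ (e - c • LinearMap.id)) ∘ₗ B.subtype
        = (-c) • (LinearMap.id : B →ₗ[k] B) := by
      refine LinearMap.ext fun b => ?_
      have hb0 : A.projectionOnto B hc (b : V) = 0 :=
        Submodule.projectionOnto_apply_of_mem_right hc b.2
      simp only [LinearMap.comp_apply, LinearMap.sub_apply, LinearMap.smul_apply,
        LinearMap.id_apply, Submodule.subtype_apply, he, hb0, map_zero, zero_sub, neg_smul]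
      rw [map_neg, map_smul, Submodule.projectionOnto_apply_left]
    rw [h2] at h1
    exact h1

/-- `hend` passes to a `Γ`-stable summand. -/
theorem hend_summand
    (hend : ∀ f : V →ₗ[k] V, (∀ γ, f ∘ₗ ρ γ = ρ γ ∘ₗ f) →
      ∃ c : k, IsRepTrace ρ ρ (f - c • LinearMap.id))
    (f : A →ₗ[k] A)
    (hf : ∀ γ, f ∘ₗ ρ.subrepresentation A hA γ = ρ.subrepresentation A hA γ ∘ₗ f) :
    ∃ c : k, IsRepTrace (ρ.subrepresentation A hA) (ρ.subrepresentation A hA)
      (f - c • LinearMap.id) := by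
  set F : V →ₗ[k] V := A.subtype ∘ₗ f ∘ₗ A.projectionOnto B hc with hF
  have hFcomm : ∀ γ, F ∘ₗ ρ γ = ρ γ ∘ₗ F := by
    intro γ
    calc F ∘ₗ ρ γ = A.subtype ∘ₗ f ∘ₗ (A.projectionOnto B hc ∘ₗ ρ γ) := by
          rw [hF]; simp only [LinearMap.comp_assoc]
      _ = A.subtype ∘ₗ (f ∘ₗ ρ.subrepresentation A hA γ) ∘ₗ A.projectionOnto B hc := by
          rw [proj_comm ρ A B hA hB hc γ]; simp only [LinearMap.comp_assoc]
      _ = (A.subtype ∘ₗ ρ.subrepresentation A hA γ) ∘ₗ f ∘ₗ A.projectionOnto B hc := by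
          rw [hf γ]; simp only [LinearMap.comp_assoc]
      _ = ρ γ ∘ₗ F := by
          rw [subtype_comm ρ A hA γ, hF]; simp only [LinearMap.comp_assoc]
  obtain ⟨c, hcT⟩ := hend F hFcomm
  refine ⟨c, ?_⟩
  have h1 := (hcT.comp_left (τ := ρ.subrepresentation A hA) (A.projectionOnto B hc)
    (proj_comm ρ A B hA hB hc)).comp_right (τ := ρ.subrepresentation A hA) A.subtype
    (subtype_comm ρ A hA)
  have h2 : (A.projectionOnto B hc ∘ₗ (F - c • LinearMap.id)) ∘ₗ A.subtype
      = f - c • LinearMap.id := by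
    refine LinearMap.ext fun a => ?_
    simp only [LinearMap.comp_apply, LinearMap.sub_apply, LinearMap.smul_apply,
      LinearMap.id_apply, Submodule.subtype_apply, hF, map_sub, map_smul,
      Submodule.projectionOnto_apply_left]
  rw [h2] at h1
  exact h1

/-- if the complement `B` is trace-projective, a non-trace `Γ`-map out of `V` stays non-trace on `A`. -/
theorem not_trace_summand {T : Type*} [AddCommGroup T] [Module k T] (τ : Representation k Γ T)
    (hBproj : IsTraceProj (ρ.subrepresentation B hB))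
    (ψ : V →ₗ[k] T) (hψ : ∀ γ, ψ ∘ₗ ρ γ = τ γ ∘ₗ ψ) (hψn : ¬ IsRepTrace ρ τ ψ) :
    ¬ IsRepTrace (ρ.subrepresentation A hA) τ (ψ ∘ₗ A.subtype) := by
  intro h
  apply hψn
  have h1 : IsRepTrace ρ τ ((ψ ∘ₗ A.subtype) ∘ₗ A.projectionOnto B hc) :=
    h.comp_right (τ := ρ) (A.projectionOnto B hc) (proj_comm ρ A B hA hB hc)
  have hψB : ∀ γ, (ψ ∘ₗ B.subtype) ∘ₗ ρ.subrepresentation B hB γ = τ γ ∘ₗ (ψ ∘ₗ B.subtype) := by
    intro γ
    rw [LinearMap.comp_assoc, subtype_comm ρ B hB γ, ← LinearMap.comp_assoc, hψ γ,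
      LinearMap.comp_assoc]
  have h2 : IsRepTrace (ρ.subrepresentation B hB) τ (ψ ∘ₗ B.subtype) :=
    hBproj.isRepTrace_of_comm (ψ ∘ₗ B.subtype) hψB
  have h3 : IsRepTrace ρ τ ((ψ ∘ₗ B.subtype) ∘ₗ B.projectionOnto A hc.symm) :=
    h2.comp_right (τ := ρ) (B.projectionOnto A hc.symm) (proj_comm ρ B A hB hA hc.symm)
  have h4 : ψ = (ψ ∘ₗ A.subtype) ∘ₗ A.projectionOnto B hc
      + (ψ ∘ₗ B.subtype) ∘ₗ B.projectionOnto A hc.symm := by
    ext v
    simp only [LinearMap.add_apply, LinearMap.comp_apply, Submodule.subtype_apply]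
    rw [← map_add]
    congr 1
    exact (Submodule.projection_add_projection_eq_self hc v).symm
  rw [h4]
  exact h1.add h3

end Compl

/-- The statement of (M-F) SPLIT (helper16's #5001), for modules in the universe of `Γ`. -/
def SplitStmt (k : Type v) [Field k] (Γ : Type u) [Group Γ] (P : Subgroup Γ) : Prop :=
  ∀ {V : Type u} [AddCommGroup V] [Module k V] [FiniteDimensional k V] [Nontrivial V]
    (ρ : Representation k Γ V),
    ∃ W W' : Submodule k V, (∀ γ, W ≤ W.comap (ρ γ)) ∧ (∀ γ, W' ≤ W'.comap (ρ γ)) ∧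
      IsCompl W W' ∧ W ≠ ⊥ ∧
      ∀ {T T' : Type u} [AddCommGroup T] [Module k T] [AddCommGroup T'] [Module k T']
        (τ : Representation k Γ T) (τ' : Representation k Γ T'),
        τ.IsIrreducible → τ'.IsIrreducible → (∀ x ∈ P, τ x = 1) → (∀ x ∈ P, τ' x = 1) →
        ∀ (a : V →ₗ[k] T) (a' : V →ₗ[k] T'), (∀ γ, a ∘ₗ ρ γ = τ γ ∘ₗ a) →
          (∀ γ, a' ∘ₗ ρ γ = τ' γ ∘ₗ a') → W' ≤ LinearMap.ker a → W' ≤ LinearMap.ker a' →
          a ≠ 0 → a' ≠ 0 → Nonempty (τ.Equiv τ')

section Main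

variable {k : Type v} [Field k] {Γ : Type u} [Group Γ] [Fintype Γ]

/-- (M-G) NSIDE, with (M-F) SPLIT as a hypothesis. -/
theorem nonempty_equiv_of_nonTrace_of_split (P : Subgroup Γ) (hsplit : SplitStmt k Γ P)
    {T T' : Type u} [AddCommGroup T] [Module k T] [AddCommGroup T'] [Module k T']
    (τ : Representation k Γ T) (τ' : Representation k Γ T')
    (hτ : τ.IsIrreducible) (hτ' : τ'.IsIrreducible)
    (hτP : ∀ x ∈ P, τ x = 1) (hτ'P : ∀ x ∈ P, τ' x = 1) :
    ∀ (n : ℕ) {V : Type u} [AddCommGroup V] [Module k V] [FiniteDimensional k V]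
      (ρ : Representation k Γ V), finrank k V = n →
      (∀ f : V →ₗ[k] V, (∀ γ, f ∘ₗ ρ γ = ρ γ ∘ₗ f) →
        ∃ c : k, IsRepTrace ρ ρ (f - c • LinearMap.id)) →
      ∀ (ψ : V →ₗ[k] T), (∀ γ, ψ ∘ₗ ρ γ = τ γ ∘ₗ ψ) → ¬ IsRepTrace ρ τ ψ →
      ∀ (ψ' : V →ₗ[k] T'), (∀ γ, ψ' ∘ₗ ρ γ = τ' γ ∘ₗ ψ') → ¬ IsRepTrace ρ τ' ψ' →
      Nonempty (τ.Equiv τ') := by
  intro n
  induction n using Nat.strong_induction_on with
  | _ n ih =>
  intro V _ _ _ ρ hn hend ψ hψ hψn ψ' hψ' hψ'n
  have hψ0 : ψ ≠ 0 := by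
    rintro rfl
    exact hψn IsRepTrace.zero
  have hψ'0 : ψ' ≠ 0 := by
    rintro rfl
    exact hψ'n IsRepTrace.zero
  have hVnt : Nontrivial V := by
    by_contra hnt
    rw [not_nontrivial_iff_subsingleton] at hnt
    apply hψ0
    ext v
    rw [Subsingleton.elim v 0, map_zero, map_zero]
  obtain ⟨W, W', hW, hW', hc, hWne, hlast⟩ := hsplit ρ
  by_cases hW'bot : W' = ⊥
  · exact hlast τ τ' hτ hτ' hτP hτ'P ψ ψ' hψ hψ' (by rw [hW'bot]; exact bot_le)
      (by rw [hW'bot]; exact bot_le) hψ0 hψ'0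
  · obtain ⟨c, hcW, hcW'⟩ := exists_scalar ρ W W' hW hW' hc hend
    have hfr := Submodule.finrank_add_eq_of_isCompl hc
    by_cases hc0 : c = 0
    · -- `W` is trace-projective: descend to `W'`
      have hWproj : IsTraceProj (ρ.subrepresentation W hW) := by
        have := hcW
        rw [hc0, sub_zero, one_smul] at this
        exact this
      have hlt : finrank k W' < n := by
        have : 0 < finrank k W := Submodule.one_le_finrank_iff.mpr hWne
        omega
      exact ih (finrank k W') hlt (ρ.subrepresentation W' hW') rfl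
        (hend_summand ρ W' W hW' hW hc.symm hend)
        (ψ ∘ₗ W'.subtype)
        (by
          intro γ
          rw [LinearMap.comp_assoc, subtype_comm ρ W' hW' γ, ← LinearMap.comp_assoc, hψ γ,
            LinearMap.comp_assoc])
        (not_trace_summand ρ W' W hW' hW hc.symm τ hWproj ψ hψ hψn)
        (ψ' ∘ₗ W'.subtype)
        (by
          intro γ
          rw [LinearMap.comp_assoc, subtype_comm ρ W' hW' γ, ← LinearMap.comp_assoc, hψ' γ,
            LinearMap.comp_assoc])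
        (not_trace_summand ρ W' W hW' hW hc.symm τ' hWproj ψ' hψ' hψ'n)
    · -- `W'` is trace-projective: descend to `W`
      have hW'proj : IsTraceProj (ρ.subrepresentation W' hW') := by
        have := hcW'.smul ((-c)⁻¹)
        rw [smul_smul, inv_mul_cancel₀ (neg_ne_zero.mpr hc0), one_smul] at this
        exact this
      have hlt : finrank k W < n := by
        have : 0 < finrank k W' := Submodule.one_le_finrank_iff.mpr hW'bot
        omega
      exact ih (finrank k W) hlt (ρ.subrepresentation W hW) rfl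
        (hend_summand ρ W W' hW hW' hc hend)
        (ψ ∘ₗ W.subtype)
        (by
          intro γ
          rw [LinearMap.comp_assoc, subtype_comm ρ W hW γ, ← LinearMap.comp_assoc, hψ γ,
            LinearMap.comp_assoc])
        (not_trace_summand ρ W W' hW hW' hc τ hW'proj ψ hψ hψn)
        (ψ' ∘ₗ W.subtype)
        (by
          intro γ
          rw [LinearMap.comp_assoc, subtype_comm ρ W hW γ, ← LinearMap.comp_assoc, hψ' γ,
            LinearMap.comp_assoc])
        (not_trace_summand ρ W W' hW hW' hc τ' hW'proj ψ' hψ' hψ'n)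

/-- (M-G) NSIDE in the form of #5014, with (M-F) SPLIT as the hypothesis `hsplit`. -/
theorem nonempty_equiv_of_nonTrace' (P : Subgroup Γ) (hsplit : SplitStmt k Γ P)
    {V : Type u} [AddCommGroup V] [Module k V] [FiniteDimensional k V]
    {T T' : Type u} [AddCommGroup T] [Module k T] [AddCommGroup T'] [Module k T']
    (ρ : Representation k Γ V) (τ : Representation k Γ T) (τ' : Representation k Γ T')
    (hτ : τ.IsIrreducible) (hτ' : τ'.IsIrreducible)
    (hτP : ∀ x ∈ P, τ x = 1) (hτ'P : ∀ x ∈ P, τ' x = 1)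
    (hend : ∀ f : V →ₗ[k] V, (∀ γ, f ∘ₗ ρ γ = ρ γ ∘ₗ f) →
      ∃ c : k, Cfsg.Agent.Helper16.IsRepTrace ρ ρ (f - c • LinearMap.id))
    (ψ : V →ₗ[k] T) (hψ : ∀ γ, ψ ∘ₗ ρ γ = τ γ ∘ₗ ψ)
    (hψn : ¬ Cfsg.Agent.Helper16.IsRepTrace ρ τ ψ)
    (ψ' : V →ₗ[k] T') (hψ' : ∀ γ, ψ' ∘ₗ ρ γ = τ' γ ∘ₗ ψ')
    (hψ'n : ¬ Cfsg.Agent.Helper16.IsRepTrace ρ τ' ψ') : Nonempty (τ.Equiv τ') :=
  nonempty_equiv_of_nonTrace_of_split P hsplit τ τ' hτ hτ' hτP hτ'P (finrank k V) ρ rfl hend
    ψ hψ hψn ψ' hψ' hψ'n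

end Main

end Cfsg.Agent.Helper48.DefOneNSide
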