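-- (MZ-1) of helper16's WANTED #5465: when `p ∤ |Γ : K|`, the irreducible Brauer-side family of
-- `Γ ⧸ K` (all characters have defect zero) inflates to a `SimpleRepFamily` of `Γ` trivial on `K`
-- (helper48).
import Mathlib
import Cfsg.Agent.Helper16.DefOneSetup
import Cfsg.Agent.Helper16.ModDefs
import Cfsg.Agent.Helper78.Residue
import Cfsg.Agent.Helper57.DZIdem
import Cfsg.Agent.Helper37.DefOneDZb
import Cfsg.Agent.Helper74.DegP

set_option autoImplicit false

namespace Cfsg.Agent.Helper48.DefOneMZ

open Cfsg Cfsg.Agent.Helper16 Cfsg.Agent.Helper16.DefOne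

universe u

section inflate

variable {k : Type*} [Field k] {G H : Type*} [Group G] [Group H]
variable {V W : Type*} [AddCommGroup V] [Module k V] [AddCommGroup W] [Module k W]

/-- subrepresentations of an inflation along a surjective map are those of the representation -/
def subrepCompOrderIso (ρ : Representation k H V) (f : G →* H) (hf : Function.Surjective f) :
    Subrepresentation (ρ.comp f) ≃o Subrepresentation ρ where
  toFun σ := ⟨σ.toSubmodule, fun h v hv => by
    obtain ⟨g, rfl⟩ := hf h
    exact σ.apply_mem_toSubmodule g hv⟩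
  invFun σ := ⟨σ.toSubmodule, fun g v hv => σ.apply_mem_toSubmodule (f g) hv⟩
  left_inv σ := rfl
  right_inv σ := rfl
  map_rel_iff' := Iff.rfl

theorem isIrreducible_comp_of_surjective (ρ : Representation k H V) (f : G →* H)
    (hf : Function.Surjective f) (h : ρ.IsIrreducible) :
    Representation.IsIrreducible (ρ.comp f : Representation k G V) :=
  (OrderIso.isSimpleOrder_iff (subrepCompOrderIso ρ f hf)).2 h

/-- an equivalence of inflations along a surjective map is an equivalence -/
def equivOfComp (ρ : Representation k H V) (σ : Representation k H W) (f : G →* H)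
    (hf : Function.Surjective f)
    (E : Representation.Equiv (ρ.comp f : Representation k G V) (σ.comp f : Representation k G W)) :
    ρ.Equiv σ :=
  Representation.Equiv.mk E.toLinearEquiv (fun h => by
    obtain ⟨g, rfl⟩ := hf h
    exact E.isIntertwining' g)

end inflate

theorem exists_family_quotient (p : ℕ) [Fact p.Prime] (M : Ideal AlgInt) [M.IsPrime]
    (hM : IsPModular p M) {Γ : Type u} [Group Γ] [Fintype Γ] (K : Subgroup Γ) [K.Normal]
    (hK : ¬ p ∣ K.index) :
    ∃ F : SimpleRepFamily (Helper78.ResField M) Γ (IrrCharacter (Γ ⧸ K)),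
      ∀ i, ∀ x ∈ K, F.ρ i x = 1 := by
  classical
  let _ : Fintype (Γ ⧸ K) := Fintype.ofFinite _
  obtain ⟨e, hc, hi, ho, hne, htr⟩ :=
    Cfsg.Agent.Helper57.DZIdem.exists_defectZero_idempotents (G := Γ ⧸ K) p M hM
  obtain ⟨F₀, -⟩ :=
    Cfsg.Agent.Helper37.DefOneDZb.exists_simpleRepFamily_of_idempotents e hc hi ho hne htr
  have hq : ∀ χ : IrrCharacter (Γ ⧸ K),
      ¬ p ∣ Nat.card (Γ ⧸ K) / charDegree (χ : Γ ⧸ K → ℂ) := by
    intro χ hdvd
    apply hK
    rw [Subgroup.index_eq_card]
    exact hdvd.trans (Nat.div_dvd_of_dvd (Cfsg.Agent.Helper74.charDegree_dvd_card χ))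
  have hsurj : Function.Surjective (QuotientGroup.mk' K) := QuotientGroup.mk'_surjective K
  refine ⟨{ V := fun i => F₀.V ⟨i, hq i⟩
            ρ := fun i => (F₀.ρ ⟨i, hq i⟩).comp (QuotientGroup.mk' K)
            irr := fun i => isIrreducible_comp_of_surjective _ _ hsurj (F₀.irr _)
            ne := fun i j hij => ⟨fun E => (F₀.ne ⟨i, hq i⟩ ⟨j, hq j⟩
              (fun h => hij (congrArg Subtype.val h))).false
              (equivOfComp _ _ _ hsurj E)⟩ }, ?_⟩
  intro i x hx
  change (F₀.ρ ⟨i, hq i⟩) (QuotientGroup.mk' K x) = 1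
  have : QuotientGroup.mk' K x = 1 := by
    rw [QuotientGroup.mk'_apply, QuotientGroup.eq_one_iff]
    exact hx
  rw [this, map_one]

end Cfsg.Agent.Helper48.DefOneMZ
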