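-- helper48: piece (MZ-3) of helper16's WANTED #5465 (defect-one engine): `N_G(P)` controls the `p`-singular
-- elements, `|P| = p`.
import Mathlib
import Cfsg.Agent.Helper16.DefOneSetup
import Cfsg.Agent.Helper16.ModDefs
import Cfsg.Agent.Helper78.Residue
import Cfsg.Agent.Helper82.McKayP.Singular

set_option autoImplicit false
set_option linter.unusedSectionVars false

namespace Cfsg.Agent.Helper48.DefOneMZ

open Cfsg Cfsg.Agent.Helper16 Cfsg.Agent.Helper16.DefOne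

universe u

theorem not_dvd_orderOf_of_conj_mem_nor {G : Type u} [Group G] [Fintype G] {p : ℕ} [Fact p.Prime]
    (P : Sylow p G) (hP : Nat.card P = p)
    (hnor : nor P = Subgroup.normalizer ((P : Subgroup G) : Set G)) :
    ∀ g : G, g ∉ nor P → ∀ x : G, x ∈ nor P → g⁻¹ * x * g ∈ nor P → ¬ p ∣ orderOf x := by
  intro g hg x hx hgx hpx
  apply hg
  rw [hnor] at hx hgx ⊢
  set k := orderOf x / p with hk
  have hu : orderOf (x ^ k) = p := Cfsg.Agent.Helper82.McKayP.orderOf_pow_div p x hpx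
  have huN : x ^ k ∈ Subgroup.normalizer ((P : Subgroup G) : Set G) := Subgroup.pow_mem _ hx k
  have huP : x ^ k ∈ (P : Subgroup G) :=
    Cfsg.Agent.Helper82.McKayP.mem_sylow_of_normalizes p P _ huN hu
  have h1 : Subgroup.zpowers (x ^ k) = (P : Subgroup G) :=
    Cfsg.Agent.Helper82.McKayP.zpowers_eq_sylow p P hP _ huP hu
  have e : g⁻¹ * x ^ k * g⁻¹⁻¹ = (g⁻¹ * x * g) ^ k := by
    rw [inv_inv]
    have := (conj_pow (a := g⁻¹) (b := x) (i := k))
    rw [inv_inv] at this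
    exact this.symm
  have hu' : orderOf (g⁻¹ * x ^ k * g⁻¹⁻¹) = p := by
    rw [Cfsg.Agent.Helper82.McKayP.orderOf_conj_eq]; exact hu
  have hu'N : g⁻¹ * x ^ k * g⁻¹⁻¹ ∈ Subgroup.normalizer ((P : Subgroup G) : Set G) := by
    rw [e]; exact Subgroup.pow_mem _ hgx k
  have hu'P : g⁻¹ * x ^ k * g⁻¹⁻¹ ∈ (P : Subgroup G) :=
    Cfsg.Agent.Helper82.McKayP.mem_sylow_of_normalizes p P _ hu'N hu'
  have h2 : Subgroup.zpowers (g⁻¹ * x ^ k * g⁻¹⁻¹) = (P : Subgroup G) :=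
    Cfsg.Agent.Helper82.McKayP.zpowers_eq_sylow p P hP _ hu'P hu'
  have h3 : g⁻¹ ∈ Subgroup.normalizer ((P : Subgroup G) : Set G) :=
    Cfsg.Agent.Helper82.McKayP.mem_normalizer_of_zpowers (P : Subgroup G) g⁻¹ (x ^ k) h1 h2
  have := Subgroup.inv_mem _ h3
  rwa [inv_inv] at this

end Cfsg.Agent.Helper48.DefOneMZ
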