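-- helper48: piece (GR-a) of helper82's WANTED #5401 (defect-one engine): group theory of `C_G(P)`, `N_G(P)` for a
-- Sylow subgroup `P` of prime order.
import Mathlib
import Cfsg.Agent.Helper16.DefOneSetup
import Cfsg.Agent.Helper82.McKayP.Singular

set_option autoImplicit false
set_option linter.unusedSectionVars false

namespace Cfsg.Agent.Helper48.DefOneGR

open Cfsg Cfsg.Agent.Helper16 Cfsg.Agent.Helper16.DefOne

universe u

variable {G : Type u} [Group G] [Fintype G] {p : ℕ} [Fact p.Prime] (P : Sylow p G)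

theorem le_cen (hP : Nat.card P = p) : (P : Subgroup G) ≤ cen P := by
  have hcyc : IsCyclic ↥(P : Subgroup G) := isCyclic_of_prime_card hP
  intro x hx
  rw [Subgroup.mem_centralizer_iff]
  intro y hy
  have := (IsCyclic.commGroup (α := ↥(P : Subgroup G))).mul_comm ⟨y, hy⟩ ⟨x, hx⟩
  exact congrArg Subtype.val this

omit [Fintype G] [Fact p.Prime] in
/-- the normalizer of a subgroup normalizes its centralizer -/
theorem normalizer_le_normalizer_centralizer (H : Subgroup G) :
    Subgroup.normalizer (H : Set G) ≤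
      Subgroup.normalizer ((Subgroup.centralizer (H : Set G) : Subgroup G) : Set G) := by
  have key : ∀ g : G, g ∈ Subgroup.normalizer (H : Set G) → ∀ c : G,
      c ∈ Subgroup.centralizer (H : Set G) → g * c * g⁻¹ ∈ Subgroup.centralizer (H : Set G) := by
    intro g hg c hc
    rw [Subgroup.mem_centralizer_iff]
    intro y hy
    have h1 : g⁻¹ * y * g ∈ H := by
      have := (Subgroup.mem_normalizer_iff.mp (Subgroup.inv_mem _ hg) y).mp hy
      rwa [inv_inv] at this
    have h2 := Subgroup.mem_centralizer_iff.mp hc _ h1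
    calc y * (g * c * g⁻¹) = g * ((g⁻¹ * y * g) * c) * g⁻¹ := by group
      _ = g * (c * (g⁻¹ * y * g)) * g⁻¹ := by rw [h2]
      _ = g * c * g⁻¹ * y := by group
  intro g hg
  rw [Subgroup.mem_normalizer_iff]
  intro c
  refine ⟨key g hg c, fun h => ?_⟩
  have := key g⁻¹ (Subgroup.inv_mem _ hg) _ h
  have e : g⁻¹ * (g * c * g⁻¹) * g⁻¹⁻¹ = c := by group
  rwa [e] at this

/-- a non-identity element of `P` -/
theorem exists_gen (hP : Nat.card P = p) :
    ∃ u : G, u ∈ (P : Subgroup G) ∧ orderOf u = p := by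
  have hp : p.Prime := Fact.out
  have hnt : Nontrivial ↥(P : Subgroup G) := by
    rw [← Finite.one_lt_card_iff_nontrivial, hP]
    exact hp.one_lt
  obtain ⟨u, hu⟩ := exists_ne (1 : ↥(P : Subgroup G))
  refine ⟨(u : G), u.2, ?_⟩
  rw [Subgroup.orderOf_coe]
  have h1 : orderOf u ∣ p := by
    have := orderOf_dvd_natCard u
    rwa [hP] at this
  rcases (Nat.dvd_prime hp).mp h1 with h2 | h2
  · exact absurd (orderOf_eq_one_iff.mp h2) hu
  · exact h2

theorem nor_eq_normalizer (hP : Nat.card P = p) :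
    nor P = Subgroup.normalizer ((P : Subgroup G) : Set G) := by
  apply le_antisymm
  · intro g hg
    obtain ⟨u, huP, hup⟩ := exists_gen P hP
    have h1 : Subgroup.zpowers u = (P : Subgroup G) :=
      Cfsg.Agent.Helper82.McKayP.zpowers_eq_sylow p P hP u huP hup
    have h2 : g * u * g⁻¹ ∈ cen P :=
      (Subgroup.mem_normalizer_iff.mp hg u).mp (le_cen P hP huP)
    have h3 : g * u * g⁻¹ ∈ Subgroup.normalizer ((P : Subgroup G) : Set G) :=
      Subgroup.centralizer_le_normalizer _ h2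
    have h4 : orderOf (g * u * g⁻¹) = p := by
      rw [Cfsg.Agent.Helper82.McKayP.orderOf_conj_eq]; exact hup
    have h5 : g * u * g⁻¹ ∈ (P : Subgroup G) :=
      Cfsg.Agent.Helper82.McKayP.mem_sylow_of_normalizes p P _ h3 h4
    have h6 : Subgroup.zpowers (g * u * g⁻¹) = (P : Subgroup G) :=
      Cfsg.Agent.Helper82.McKayP.zpowers_eq_sylow p P hP _ h5 h4
    exact Cfsg.Agent.Helper82.McKayP.mem_normalizer_of_zpowers (P : Subgroup G) g u h1 h6
  · exact normalizer_le_normalizer_centralizer (P : Subgroup G)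

theorem subgroupOf_cen_le_center (_hP : Nat.card P = p) :
    (P : Subgroup G).subgroupOf (cen P) ≤ Subgroup.center ↥(cen P) := by
  intro x hx
  rw [Subgroup.mem_subgroupOf] at hx
  rw [Subgroup.mem_center_iff]
  intro c
  apply Subtype.ext
  have := Subgroup.mem_centralizer_iff.mp c.2 (x : G) hx
  simpa using this.symm

theorem card_subgroupOf_cen (hP : Nat.card P = p) :
    Nat.card ((P : Subgroup G).subgroupOf (cen P)) = p := by
  rw [Nat.card_congr (Subgroup.subgroupOfEquivOfLe (le_cen P hP)).toEquiv]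
  exact hP

theorem not_dvd_index_subgroupOf_cen (hP : Nat.card P = p) :
    ¬ p ∣ ((P : Subgroup G).subgroupOf (cen P)).index := by
  intro hd
  have h1 : ((P : Subgroup G).subgroupOf (cen P)).index = (P : Subgroup G).relIndex (cen P) := rfl
  rw [h1] at hd
  have h2 := Subgroup.relIndex_mul_index (le_cen P hP)
  exact P.not_dvd_index (h2 ▸ Dvd.dvd.mul_right hd _)

/-- (TI) the `p`-singular elements of `C` form a TI set with normalizer `N`. -/
theorem mem_nor_of_conj_mem (hP : Nat.card P = p) (g : G) (a : G)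
    (ha : a ∈ {a : G | a ∈ cen P ∧ p ∣ orderOf a})
    (hga : g⁻¹ * a * g ∈ {a : G | a ∈ cen P ∧ p ∣ orderOf a}) : g ∈ nor P := by
  obtain ⟨haC, hap⟩ := ha
  obtain ⟨hgaC, -⟩ := hga
  set k := orderOf a / p with hk
  have hu : orderOf (a ^ k) = p := Cfsg.Agent.Helper82.McKayP.orderOf_pow_div p a hap
  have huC : a ^ k ∈ cen P := Subgroup.pow_mem _ haC k
  have huP : a ^ k ∈ (P : Subgroup G) :=
    Cfsg.Agent.Helper82.McKayP.mem_sylow_of_normalizes p P _
      (Subgroup.centralizer_le_normalizer _ huC) hu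
  have h1 : Subgroup.zpowers (a ^ k) = (P : Subgroup G) :=
    Cfsg.Agent.Helper82.McKayP.zpowers_eq_sylow p P hP _ huP hu
  have e : g⁻¹ * a ^ k * g⁻¹⁻¹ = (g⁻¹ * a * g) ^ k := by
    rw [inv_inv]
    have := (conj_pow (a := g⁻¹) (b := a) (i := k))
    rw [inv_inv] at this
    exact this.symm
  have hu' : orderOf (g⁻¹ * a ^ k * g⁻¹⁻¹) = p := by
    rw [Cfsg.Agent.Helper82.McKayP.orderOf_conj_eq]; exact hu
  have hu'C : g⁻¹ * a ^ k * g⁻¹⁻¹ ∈ cen P := by
    rw [e]; exact Subgroup.pow_mem _ hgaC k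
  have hu'P : g⁻¹ * a ^ k * g⁻¹⁻¹ ∈ (P : Subgroup G) :=
    Cfsg.Agent.Helper82.McKayP.mem_sylow_of_normalizes p P _
      (Subgroup.centralizer_le_normalizer _ hu'C) hu'
  have h2 : Subgroup.zpowers (g⁻¹ * a ^ k * g⁻¹⁻¹) = (P : Subgroup G) :=
    Cfsg.Agent.Helper82.McKayP.zpowers_eq_sylow p P hP _ hu'P hu'
  have h3 : g⁻¹ ∈ Subgroup.normalizer ((P : Subgroup G) : Set G) :=
    Cfsg.Agent.Helper82.McKayP.mem_normalizer_of_zpowers (P : Subgroup G) g⁻¹ (a ^ k) h1 h2
  rw [nor_eq_normalizer P hP]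
  have := Subgroup.inv_mem _ h3
  rwa [inv_inv] at this

end Cfsg.Agent.Helper48.DefOneGR
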