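import Cfsg.Agent.Helper48.Averaging
import Mathlib.GroupTheory.Sylow
import Mathlib.GroupTheory.Subgroup.Centralizer

set_option autoImplicit false

namespace Cfsg.Agent.Helper48

variable {G : Type*} [Group G]

/-- subgroup of `K` generated by the centralizers in `K` of the nonidentity elements of `A` -/
def cgen (K A : Subgroup G) : Subgroup G :=
  ⨆ a : {a : G // a ∈ A ∧ a ≠ 1}, K ⊓ Subgroup.centralizer {(a : G)}

theorem cgen_le (K A : Subgroup G) : cgen K A ≤ K := iSup_le (fun _ => inf_le_left)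

theorem cgen_mono {K K' : Subgroup G} (A : Subgroup G) (h : K ≤ K') : cgen K A ≤ cgen K' A :=
  iSup_mono (fun _ => inf_le_inf_right _ h)

theorem mem_cgen_of {K A : Subgroup G} {a x : G} (ha : a ∈ A) (ha1 : a ≠ 1) (hx : x ∈ K)
    (hc : a * x * a⁻¹ = x) : x ∈ cgen K A := by
  have h2 : x ∈ Subgroup.centralizer {a} := by
    rw [Subgroup.mem_centralizer_singleton_iff]
    calc x * a = (a * x * a⁻¹) * a := by rw [hc]
      _ = a * x := by group
  have : x ∈ K ⊓ Subgroup.centralizer {a} := ⟨hx, h2⟩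
  exact (le_iSup (fun a : {a : G // a ∈ A ∧ a ≠ 1} => K ⊓ Subgroup.centralizer {(a : G)}) ⟨a, ha, ha1⟩) this

/-- Step A: the abelian case, via the averaging identity. -/
theorem cgen_abelian {p : ℕ} [Fact p.Prime] (K A : Subgroup G)
    (hKab : ∀ x ∈ K, ∀ y ∈ K, x * y = y * x) (hAK : A ≤ Subgroup.normalizer (K : Set G))
    {a b : G} (ha : a ∈ A) (hb : b ∈ A) (hab : a * b = b * a) (hap : a ^ p = 1) (hbp : b ^ p = 1)
    (ha1 : a ≠ 1) (hb1 : b ≠ 1) (hne : ∀ i : ZMod p, a * b ^ i.val ≠ 1)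
    (hK : ∀ x ∈ K, (orderOf x).Coprime p) : K ≤ cgen K A := by
  intro x hx
  let _ : CommGroup K := { (inferInstance : Group K) with
    mul_comm := fun u v => Subtype.ext (hKab u u.2 v v.2) }
  let φ : Subgroup.normalizer (K : Set G) →* MulAut K := Subgroup.normalizerMonoidHom K
  have hφ : ∀ (c : Subgroup.normalizer (K : Set G)) (w : K), ((φ c w : K) : G) = (c : G) * w * (c : G)⁻¹ :=
    fun c w => rfl
  let a' : Subgroup.normalizer (K : Set G) := ⟨a, hAK ha⟩
  let b' : Subgroup.normalizer (K : Set G) := ⟨b, hAK hb⟩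
  have hαp : (φ a') ^ p = 1 := by
    rw [← map_pow]
    have : a' ^ p = 1 := Subtype.ext (by simpa using hap)
    rw [this, map_one]
  have hβp : (φ b') ^ p = 1 := by
    rw [← map_pow]
    have : b' ^ p = 1 := Subtype.ext (by simpa using hbp)
    rw [this, map_one]
  have hcomm : Commute (φ a') (φ b') := by
    have : Commute a' b' := Subtype.ext (by simpa using hab)
    exact this.map φ
  -- fixed points of φ c lie in cgen
  have hfix : ∀ (c : Subgroup.normalizer (K : Set G)), (c : G) ∈ A → (c : G) ≠ 1 → ∀ w : K, φ c w = w →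
      (w : G) ∈ cgen K A := by
    intro c hcA hc1 w hw
    apply mem_cgen_of hcA hc1 w.2
    rw [← hφ, hw]
  set v : K := ⟨x, hx⟩ with hv
  have hid := averaging_identity (p := p) hβp hcomm v
  -- each factor is in cgen
  have h1 : ∀ i : ZMod p, ((trAut p (φ a' * φ b' ^ i.val) v : K) : G) ∈ cgen K A := by
    intro i
    have hc : φ a' * φ b' ^ i.val = φ (a' * b' ^ i.val) := by rw [map_mul, map_pow]
    rw [hc]
    apply hfix (a' * b' ^ i.val) (by simpa using A.mul_mem ha (A.pow_mem hb _)) (by simpa using hne i)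
    apply trAut_fixed
    rw [← map_pow]
    have : (a' * b' ^ i.val) ^ p = 1 := by
      have hc' : Commute a' (b' ^ i.val) := (show Commute a' b' from Subtype.ext (by simpa using hab)).pow_right _
      rw [hc'.mul_pow, ← pow_mul, mul_comm, pow_mul]
      have : a' ^ p = 1 := Subtype.ext (by simpa using hap)
      rw [this]
      have : b' ^ p = 1 := Subtype.ext (by simpa using hbp)
      rw [this]; simp
    rw [this, map_one]
  have h2 : ((trAut p (φ b') v : K) : G) ∈ cgen K A :=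
    hfix b' hb hb1 _ (trAut_fixed hβp v)
  have h3 : ((trAut p (φ a') (trAut p (φ b') v) : K) : G) ∈ cgen K A :=
    hfix a' ha ha1 _ (trAut_fixed hαp _)
  have hvp : ((v ^ p : K) : G) ∈ cgen K A := by
    have : v ^ p = (∏ i : ZMod p, trAut p (φ a' * φ b' ^ i.val) v) * trAut p (φ b') v *
        (trAut p (φ a') (trAut p (φ b') v))⁻¹ := by
      rw [hid]; simp
    rw [this]
    have hprod : (((∏ i : ZMod p, trAut p (φ a' * φ b' ^ i.val) v : K)) : G) ∈ cgen K A := by
      have : ∀ s : Finset (ZMod p), (((∏ i ∈ s, trAut p (φ a' * φ b' ^ i.val) v : K)) : G) ∈ cgen K A := by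
        intro s
        induction s using Finset.induction_on with
        | empty => simp
        | insert i s hi ih =>
          rw [Finset.prod_insert hi]
          exact (cgen K A).mul_mem (h1 i) ih
      exact this Finset.univ
    exact (cgen K A).mul_mem ((cgen K A).mul_mem hprod h2) ((cgen K A).inv_mem h3)
  have hxp : x ^ p ∈ cgen K A := by simpa [hv] using hvp
  obtain ⟨m, hm⟩ := exists_pow_eq_self_of_coprime (hK x hx).symm
  rw [← hm]
  exact (cgen K A).pow_mem hxp m

/-- data of an elementary abelian group of order `p ^ 2` -/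
def IsEA2 (p : ℕ) (A : Subgroup G) : Prop :=
  (∀ x ∈ A, ∀ y ∈ A, x * y = y * x) ∧ (∀ a ∈ A, a ^ p = 1) ∧ Nat.card A = p ^ 2

theorem IsEA2.isPGroup {p : ℕ} [Fact p.Prime] {A : Subgroup G} (hA : IsEA2 p A) : IsPGroup p A :=
  IsPGroup.of_card hA.2.2

/-- generators of an elementary abelian group of order `p^2`, in the form needed for averaging -/
theorem IsEA2.exists_gens {p : ℕ} [Fact p.Prime] {A : Subgroup G} (hA : IsEA2 p A) :
    ∃ a ∈ A, ∃ b ∈ A, a ≠ 1 ∧ b ≠ 1 ∧ ∀ i : ZMod p, a * b ^ i.val ≠ 1 := by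
  obtain ⟨hcomm, hexp, hcard⟩ := hA
  have hp : p.Prime := Fact.out
  have hfin : Finite A := Nat.finite_of_card_ne_zero (by rw [hcard]; exact pow_ne_zero _ hp.ne_zero)
  have h1 : 1 < Nat.card A := by rw [hcard]; exact Nat.one_lt_pow (by norm_num) hp.one_lt
  have hnt : Nontrivial A := Finite.one_lt_card_iff_nontrivial.mp h1
  obtain ⟨a', ha'⟩ := exists_ne (1 : A)
  have ha1 : (a' : G) ≠ 1 := fun h => ha' (Subtype.ext h)
  have hoa : orderOf (a' : G) = p := by
    have := orderOf_dvd_of_pow_eq_one (hexp a' a'.2)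
    rcases (Nat.dvd_prime hp).mp this with h | h
    · exact absurd (orderOf_eq_one_iff.mp h) ha1
    · exact h
  -- b outside zpowers a
  have hex : ∃ b ∈ A, b ∉ Subgroup.zpowers (a' : G) := by
    by_contra hcon
    have hle : A ≤ Subgroup.zpowers (a' : G) := fun b hb => by_contra (fun h => hcon ⟨b, hb, h⟩)
    have : Nat.card A ≤ Nat.card (Subgroup.zpowers (a' : G)) := by
      have hfin2 : Finite (Subgroup.zpowers (a' : G)) :=
        Nat.finite_of_card_ne_zero (by rw [Nat.card_zpowers, hoa]; exact hp.ne_zero)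
      exact Nat.card_le_card_of_injective (Subgroup.inclusion hle) (Subgroup.inclusion_injective hle)
    rw [Nat.card_zpowers, hoa, hcard] at this
    have : p * p ≤ p * 1 := by rw [mul_one, ← sq]; exact this
    have := Nat.le_of_mul_le_mul_left this hp.pos
    exact absurd hp.one_lt (by omega)
  obtain ⟨b, hbA, hb⟩ := hex
  have hb1 : b ≠ 1 := fun h => hb (h ▸ Subgroup.one_mem _)
  have hob : orderOf b = p := by
    have := orderOf_dvd_of_pow_eq_one (hexp b hbA)
    rcases (Nat.dvd_prime hp).mp this with h | h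
    · exact absurd (orderOf_eq_one_iff.mp h) hb1
    · exact h
  refine ⟨a', a'.2, b, hbA, ha1, hb1, ?_⟩
  intro i hi
  by_cases hi0 : i = 0
  · rw [hi0, ZMod.val_zero, pow_zero, mul_one] at hi
    exact ha1 hi
  · apply hb
    have h2 : b ^ i.val = (a' : G)⁻¹ := by
      rw [eq_inv_iff_mul_eq_one, ← hi]
      exact (hcomm _ (A.pow_mem hbA _) _ a'.2)
    have hcop : (i.val).Coprime (orderOf b) := by
      rw [hob]
      apply Nat.Coprime.symm
      rw [hp.coprime_iff_not_dvd]
      intro hdvd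
      have hlt : i.val < p := ZMod.val_lt i
      have hpos : 0 < i.val := Nat.pos_of_ne_zero (fun h => hi0 ((ZMod.val_eq_zero i).mp h))
      exact absurd (Nat.le_of_dvd hpos hdvd) (by omega)
    obtain ⟨m, hm⟩ := exists_pow_eq_self_of_coprime hcop
    rw [← hm, h2]
    exact Subgroup.pow_mem _ (Subgroup.inv_mem _ (Subgroup.mem_zpowers _)) _

theorem coprime_orderOf_of_not_dvd_card {p : ℕ} [Fact p.Prime] {K : Subgroup G} [Finite K]
    (hpK : ¬ p ∣ Nat.card K) {x : G} (hx : x ∈ K) : (orderOf x).Coprime p := by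
  apply Nat.Coprime.symm
  rw [(Fact.out : p.Prime).coprime_iff_not_dvd]
  intro h
  apply hpK
  have : orderOf (⟨x, hx⟩ : K) ∣ Nat.card K := orderOf_dvd_natCard _
  rw [Subgroup.orderOf_mk] at this
  exact h.trans this

/-- Step A, packaged. -/
theorem cgen_abelian' {p : ℕ} [Fact p.Prime] (K A : Subgroup G) [Finite K]
    (hKab : ∀ x ∈ K, ∀ y ∈ K, x * y = y * x) (hAK : A ≤ Subgroup.normalizer (K : Set G))
    (hA : IsEA2 p A) (hpK : ¬ p ∣ Nat.card K) : K ≤ cgen K A := by
  obtain ⟨a, ha, b, hb, ha1, hb1, hne⟩ := hA.exists_gens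
  exact cgen_abelian K A hKab hAK ha hb (hA.1 a ha b hb) (hA.2.1 a ha) (hA.2.1 b hb) ha1 hb1 hne
    (fun x hx => coprime_orderOf_of_not_dvd_card hpK hx)

open scoped Pointwise in
/-- Step B: an `A`-invariant Sylow `q`-subgroup of `K`, when the `p`-group `A` normalizes the `p'`-group `K`. -/
theorem exists_invariant_sylow {p : ℕ} [Fact p.Prime] (K A : Subgroup G) [Finite K]
    (hAK : A ≤ Subgroup.normalizer (K : Set G)) (hA : IsPGroup p A) (hpK : ¬ p ∣ Nat.card K)
    (q : ℕ) [Fact q.Prime] :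
    ∃ S : Sylow q K, ∀ a ∈ A, ∀ x : K, x ∈ S → ∀ hx : a * (x : G) * a⁻¹ ∈ K, (⟨a * x * a⁻¹, hx⟩ : K) ∈ S := by
  let _ : MulAction A (Sylow q K) := MulAction.compHom (Sylow q K) (Subgroup.inclusion hAK)
  have hcard : ¬ p ∣ Nat.card (Sylow q K) := by
    intro h
    apply hpK
    obtain ⟨S⟩ : Nonempty (Sylow q K) := inferInstance
    exact h.trans ((Sylow.card_dvd_index S).trans (Subgroup.index_dvd_card _))
  obtain ⟨S, hS⟩ := hA.nonempty_fixed_point_of_prime_not_dvd_card (Sylow q K) hcard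
  refine ⟨S, ?_⟩
  intro a ha x hx hx'
  have h1 : (⟨a, ha⟩ : A) • S = S := hS ⟨a, ha⟩
  have h2 : (Subgroup.inclusion hAK ⟨a, ha⟩) • x ∈ ((Subgroup.inclusion hAK ⟨a, ha⟩) • (S : Subgroup K)) :=
    Subgroup.smul_mem_pointwise_smul x _ _ hx
  have h3 : ((Subgroup.inclusion hAK ⟨a, ha⟩) • (S : Subgroup K)) = ((⟨a, ha⟩ : A) • S : Sylow q K) := rfl
  rw [h3, h1] at h2
  exact h2

/-- Step C: a subgroup of `K` containing a Sylow `q`-subgroup of `K` for each prime `q` is `K`. -/
theorem le_of_forall_sylow_le {K₀ K : Subgroup G} [Finite K] (h0 : K₀ ≤ K)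
    (h : ∀ q : ℕ, ∀ _ : Fact q.Prime, ∃ S : Sylow q K, (S : Subgroup K).map K.subtype ≤ K₀) : K ≤ K₀ := by
  have hfin0 : Finite K₀ := Finite.of_injective (Subgroup.inclusion h0) (Subgroup.inclusion_injective h0)
  have hdvd : Nat.card K ∣ Nat.card K₀ := by
    rw [← Nat.factorization_prime_le_iff_dvd Nat.card_pos.ne' Nat.card_pos.ne']
    intro q hq
    have : Fact q.Prime := ⟨hq⟩
    obtain ⟨S, hS⟩ := h q ⟨hq⟩
    rw [← hq.pow_dvd_iff_le_factorization Nat.card_pos.ne', ← S.card_eq_multiplicity]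
    have := Subgroup.card_dvd_of_le hS
    rwa [Subgroup.card_map_of_injective K.subtype_injective] at this
  exact (Subgroup.eq_of_le_of_card_ge h0 (Nat.le_of_dvd Nat.card_pos hdvd)).ge

/-- (T1) transfer from a subgroup -/
theorem cgen_map_subtype (N : Subgroup G) (K' A' : Subgroup N) :
    (cgen K' A').map N.subtype ≤ cgen (K'.map N.subtype) (A'.map N.subtype) := by
  unfold cgen
  rw [Subgroup.map_iSup]
  apply iSup_le
  rintro ⟨a', ha', ha1⟩
  have hmem : (a' : G) ∈ A'.map N.subtype ∧ (a' : G) ≠ 1 :=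
    ⟨⟨a', ha', rfl⟩, fun h => ha1 (Subtype.ext h)⟩
  refine le_trans ?_ (le_iSup (fun a : {a : G // a ∈ A'.map N.subtype ∧ a ≠ 1} =>
    K'.map N.subtype ⊓ Subgroup.centralizer {(a : G)}) ⟨(a' : G), hmem⟩)
  intro y hy
  obtain ⟨x, hx, rfl⟩ := Subgroup.mem_map.mp hy
  obtain ⟨hxK, hxC⟩ := Subgroup.mem_inf.mp hx
  refine Subgroup.mem_inf.mpr ⟨Subgroup.mem_map.mpr ⟨x, hxK, rfl⟩, ?_⟩
  rw [Subgroup.mem_centralizer_singleton_iff] at hxC ⊢
  exact congrArg Subtype.val hxC

/-- coset fixed point lemma: if `a ^ p = 1`, `Z` is a normal `p'`-subgroup and `k` commutes with `a` modulo `Z`,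
then some element of the coset `k Z` commutes with `a`. -/
theorem exists_fixed_in_coset {p : ℕ} [Fact p.Prime] (Z : Subgroup G) [Z.Normal] [Finite Z]
    (hpZ : ¬ p ∣ Nat.card Z) {a k : G} (hap : a ^ p = 1)
    (hk : (QuotientGroup.mk' Z k) * (QuotientGroup.mk' Z a) = (QuotientGroup.mk' Z a) * (QuotientGroup.mk' Z k)) :
    ∃ z ∈ Z, a * (k * z) * a⁻¹ = k * z := by
  have hmem : ∀ c ∈ Subgroup.zpowers a, ∀ z ∈ Z, k⁻¹ * (c * (k * z) * c⁻¹) ∈ Z := by
    intro c hc z hz
    obtain ⟨n, rfl⟩ := Subgroup.mem_zpowers_iff.mp hc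
    rw [← QuotientGroup.eq_one_iff, ← QuotientGroup.mk'_apply]
    have hz1 : QuotientGroup.mk' Z z = 1 := (QuotientGroup.eq_one_iff z).mpr hz
    have hcomm : Commute (QuotientGroup.mk' Z k) (QuotientGroup.mk' Z a) := hk
    have hcomm' : Commute (QuotientGroup.mk' Z k) ((QuotientGroup.mk' Z a) ^ n) := hcomm.zpow_right n
    simp only [map_mul, map_inv, map_zpow, hz1, mul_one]
    rw [← hcomm'.eq]; group
  let act : MulAction (Subgroup.zpowers a) Z :=
    { smul := fun c z => ⟨k⁻¹ * ((c : G) * (k * (z : G)) * (c : G)⁻¹), hmem c c.2 z z.2⟩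
      one_smul := fun z => by
        apply Subtype.ext
        show k⁻¹ * (((1 : Subgroup.zpowers a) : G) * (k * (z : G)) * ((1 : Subgroup.zpowers a) : G)⁻¹) = z
        simp
      mul_smul := fun c d z => by
        apply Subtype.ext
        show k⁻¹ * (((c * d : Subgroup.zpowers a) : G) * (k * (z : G)) * ((c * d : Subgroup.zpowers a) : G)⁻¹) =
          k⁻¹ * ((c : G) * (k * (k⁻¹ * ((d : G) * (k * (z : G)) * (d : G)⁻¹))) * (c : G)⁻¹)
        simp only [Subgroup.coe_mul]
        group }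
  have hP : IsPGroup p (Subgroup.zpowers a) := by
    rintro ⟨g, hg⟩
    obtain ⟨n, rfl⟩ := Subgroup.mem_zpowers_iff.mp hg
    refine ⟨1, Subtype.ext ?_⟩
    simp only [pow_one, Subgroup.coe_pow, Subgroup.coe_one]
    rw [← zpow_natCast, ← zpow_mul, mul_comm, zpow_mul, zpow_natCast, hap, one_zpow]
  obtain ⟨z, hz⟩ := hP.nonempty_fixed_point_of_prime_not_dvd_card Z hpZ
  refine ⟨z, z.2, ?_⟩
  have := hz ⟨a, Subgroup.mem_zpowers a⟩
  have h2 : k⁻¹ * (a * (k * (z : G)) * a⁻¹) = z := congrArg Subtype.val this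
  calc a * (k * z) * a⁻¹ = k * (k⁻¹ * (a * (k * (z : G)) * a⁻¹)) := by group
    _ = k * z := by rw [h2]

/-- (T2) transfer from a quotient by a normal `p'`-subgroup `Z ≤ K`. -/
theorem le_cgen_sup_of_map_le {p : ℕ} [Fact p.Prime] (Z : Subgroup G) [Z.Normal] [Finite Z]
    (hpZ : ¬ p ∣ Nat.card Z) (K A : Subgroup G) (hZK : Z ≤ K) (hAp : ∀ a ∈ A, a ^ p = 1)
    (h : K.map (QuotientGroup.mk' Z) ≤ cgen (K.map (QuotientGroup.mk' Z)) (A.map (QuotientGroup.mk' Z))) :
    K ≤ cgen K A ⊔ Z := by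
  have key : cgen (K.map (QuotientGroup.mk' Z)) (A.map (QuotientGroup.mk' Z)) ≤ (cgen K A).map (QuotientGroup.mk' Z) := by
    unfold cgen
    apply iSup_le
    rintro ⟨abar, habar, ha1⟩
    obtain ⟨a, haA, rfl⟩ := Subgroup.mem_map.mp habar
    have ha1' : a ≠ 1 := by
      rintro rfl
      exact ha1 (map_one _)
    intro y hy
    obtain ⟨hyK, hC⟩ := Subgroup.mem_inf.mp hy
    obtain ⟨k, hkK, rfl⟩ := Subgroup.mem_map.mp hyK
    rw [Subgroup.mem_centralizer_singleton_iff] at hC
    obtain ⟨z, hz, hfix⟩ := exists_fixed_in_coset Z hpZ (hAp a haA) hC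
    refine Subgroup.mem_map.mpr ⟨k * z, ?_, ?_⟩
    · apply (le_iSup (fun a : {a : G // a ∈ A ∧ a ≠ 1} => K ⊓ Subgroup.centralizer {(a : G)}) ⟨a, haA, ha1'⟩)
      refine Subgroup.mem_inf.mpr ⟨K.mul_mem hkK (hZK hz), ?_⟩
      rw [Subgroup.mem_centralizer_singleton_iff]
      calc k * z * a = (a * (k * z) * a⁻¹) * a := by rw [hfix]
        _ = a * (k * z) := by group
    · have hz1 : QuotientGroup.mk' Z z = 1 := (QuotientGroup.eq_one_iff z).mpr hz
      rw [map_mul, hz1, mul_one]
  have h2 := h.trans key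
  have h3 : K ≤ ((cgen K A).map (QuotientGroup.mk' Z)).comap (QuotientGroup.mk' Z) := by
    rw [← Subgroup.map_le_iff_le_comap]; exact h2
  rw [Subgroup.comap_map_eq, QuotientGroup.ker_mk'] at h3
  exact h3

theorem IsEA2.subgroupOf {p : ℕ} {A N : Subgroup G} (hA : IsEA2 p A) (hAN : A ≤ N) :
    IsEA2 p (A.subgroupOf N) := by
  refine ⟨?_, ?_, ?_⟩
  · intro x hx y hy
    exact Subtype.ext (hA.1 x hx y hy)
  · intro a ha
    exact Subtype.ext (by simpa using hA.2.1 a ha)
  · rw [← hA.2.2]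
    exact Nat.card_congr (Subgroup.subgroupOfEquivOfLe hAN).toEquiv

theorem card_map_of_inf_ker_eq_bot {H : Type*} [Group H] (f : G →* H) (A : Subgroup G)
    (h : A ⊓ f.ker = ⊥) : Nat.card (A.map f) = Nat.card A := by
  rw [← MonoidHom.domRestrict_range]
  have hinj : Function.Injective (f.domRestrict A) := by
    rw [← MonoidHom.ker_eq_bot_iff, MonoidHom.ker_domRestrict, Subgroup.subgroupOf_eq_bot, disjoint_iff,
      inf_comm]
    exact h
  exact (Nat.card_congr (MonoidHom.ofInjective hinj).toEquiv).symm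

theorem IsEA2.map {p : ℕ} {H : Type*} [Group H] (f : G →* H) {A : Subgroup G} (hA : IsEA2 p A)
    (h : A ⊓ f.ker = ⊥) : IsEA2 p (A.map f) := by
  refine ⟨?_, ?_, ?_⟩
  · rintro _ ⟨x, hx, rfl⟩ _ ⟨y, hy, rfl⟩
    rw [← map_mul, ← map_mul, hA.1 x hx y hy]
  · rintro _ ⟨a, ha, rfl⟩
    rw [← map_pow, hA.2.1 a ha, map_one]
  · rw [card_map_of_inf_ker_eq_bot f A h, hA.2.2]

theorem mem_normalizer_of_forall_conj_mem {Q A : Subgroup G}
    (h : ∀ a ∈ A, ∀ x ∈ Q, a * x * a⁻¹ ∈ Q) : A ≤ Subgroup.normalizer (Q : Set G) := by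
  intro a ha
  rw [Subgroup.mem_normalizer_iff]
  intro x
  constructor
  · exact h a ha x
  · intro hx
    have := h a⁻¹ (A.inv_mem ha) _ hx
    have e : a⁻¹ * (a * x * a⁻¹) * a⁻¹⁻¹ = x := by group
    rwa [e] at this

theorem card_map_lt {H : Type*} [Group H] (f : G →* H) (K : Subgroup G) [Finite K]
    (h : K ⊓ f.ker ≠ ⊥) : Nat.card (K.map f) < Nat.card K := by
  have h1 : Nat.card K = Nat.card (K ⧸ (f.domRestrict K).ker) * Nat.card (f.domRestrict K).ker :=
    Subgroup.card_eq_card_quotient_mul_card_subgroup _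
  have h2 : Nat.card (K ⧸ (f.domRestrict K).ker) = Nat.card (K.map f) := by
    rw [← MonoidHom.domRestrict_range]
    exact Nat.card_congr (QuotientGroup.quotientKerEquivRange (f.domRestrict K)).toEquiv
  have h3 : 1 < Nat.card (f.domRestrict K).ker := by
    rw [Subgroup.one_lt_card_iff_ne_bot, MonoidHom.ker_domRestrict, Ne, Subgroup.subgroupOf_eq_bot,
      disjoint_iff, inf_comm]
    exact h
  have hfin : Finite (K.map f) := by
    rw [← MonoidHom.domRestrict_range]
    exact Finite.of_surjective _ (f.domRestrict K).rangeRestrict_surjective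
  have h4 : 0 < Nat.card (K.map f) := Nat.card_pos
  rw [h1, h2]
  nlinarith

/-- The generation theorem: main induction. -/
theorem le_cgen_aux.{u} {p : ℕ} [Fact p.Prime] : ∀ n : ℕ, ∀ (G : Type u) [Group G] [Finite G] (K A : Subgroup G),
    Nat.card K = n → ¬ p ∣ Nat.card K → A ≤ Subgroup.normalizer (K : Set G) → IsEA2 p A → K ≤ cgen K A := by
  intro n
  induction n using Nat.strong_induction_on with
  | _ n ih =>
  intro G _ _ K A hn hpK hAK hA
  -- Case 1: abelian
  by_cases hab : ∀ x ∈ K, ∀ y ∈ K, x * y = y * x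
  · exact cgen_abelian' K A hab hAK hA hpK
  -- Case 2
  by_cases hq : ∃ q : ℕ, q.Prime ∧ IsPGroup q K
  · -- 2a: K is a q-group
    obtain ⟨q, hqp, hKq⟩ := hq
    have : Fact q.Prime := ⟨hqp⟩
    set N := Subgroup.normalizer (K : Set G) with hN
    have hKN : K ≤ N := Subgroup.le_normalizer
    set K' := K.subgroupOf N with hK'
    set A' := A.subgroupOf N with hA'
    have hK'n : K'.Normal := Subgroup.normal_in_normalizer
    set Z' : Subgroup N := K' ⊓ Subgroup.centralizer (K' : Set N) with hZ'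
    have hZ'n : Z'.Normal := inferInstance
    have hZ'K' : Z' ≤ K' := inf_le_left
    have hcardK' : Nat.card K' = Nat.card K := Nat.card_congr (Subgroup.subgroupOfEquivOfLe hKN).toEquiv
    have hpK' : ¬ p ∣ Nat.card K' := hcardK' ▸ hpK
    have hpZ' : ¬ p ∣ Nat.card Z' := fun h => hpK' (h.trans (Subgroup.card_dvd_of_le hZ'K'))
    have hA'ea : IsEA2 p A' := hA.subgroupOf hAK
    have hA'K' : A' ≤ Subgroup.normalizer (K' : Set N) := by
      rw [Subgroup.normalizer_eq_top]; exact le_top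
    have hA'Z' : A' ≤ Subgroup.normalizer (Z' : Set N) := by
      rw [Subgroup.normalizer_eq_top]; exact le_top
    -- Z' ≠ ⊥
    have hZ'ne : Z' ≠ ⊥ := by
      have hK'q : IsPGroup q K' := hKq.comap_subtype
      have hK'nt : Nontrivial K' := by
        by_contra h
        rw [not_nontrivial_iff_subsingleton] at h
        apply hab
        intro x hx y hy
        have hx' : (⟨⟨x, hKN hx⟩, hx⟩ : K') = ⟨⟨y, hKN hy⟩, hy⟩ := Subsingleton.elim _ _
        have : x = y := congrArg (fun t : K' => ((t : N) : G)) hx'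
        rw [this]
      have hcnt := hK'q.center_nontrivial
      obtain ⟨z, hz⟩ := exists_ne (1 : Subgroup.center K')
      intro hbot
      apply hz
      have hmem : ((z : K') : N) ∈ Z' := by
        refine Subgroup.mem_inf.mpr ⟨(z : K').2, ?_⟩
        rw [Subgroup.mem_centralizer_iff]
        intro y hy
        have := (Subgroup.mem_center_iff.mp z.2) ⟨y, hy⟩
        exact congrArg Subtype.val this
      rw [hbot, Subgroup.mem_bot] at hmem
      exact Subtype.ext (Subtype.ext hmem)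
    -- quotient
    set π := QuotientGroup.mk' Z' with hπ
    have hker : π.ker = Z' := QuotientGroup.ker_mk' Z'
    have hcardlt : Nat.card (K'.map π) < n := by
      rw [← hn, ← hcardK']
      apply card_map_lt
      rw [hker, inf_of_le_right hZ'K']
      exact hZ'ne
    have hpKbar : ¬ p ∣ Nat.card (K'.map π) := fun h => hpK' (h.trans (Subgroup.card_map_dvd _ π))
    have hAKbar : A'.map π ≤ Subgroup.normalizer ((K'.map π : Subgroup (N ⧸ Z')) : Set (N ⧸ Z')) :=
      (Subgroup.map_mono hA'K').trans (Subgroup.le_normalizer_map π)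
    have hAbar : IsEA2 p (A'.map π) := by
      apply hA'ea.map π
      rw [hker]
      apply disjoint_iff.mp
      apply Subgroup.disjoint_of_coprime_natCard
      rw [hA'ea.2.2]
      apply Nat.Coprime.pow_left
      rw [(Fact.out : p.Prime).coprime_iff_not_dvd]
      exact hpZ'
    have hIH := ih _ hcardlt (N ⧸ Z') (K'.map π) (A'.map π) rfl hpKbar hAKbar hAbar
    have hT2 := le_cgen_sup_of_map_le Z' hpZ' K' A' hZ'K' hA'ea.2.1 hIH
    -- Z' abelian
    have hZ'ab : ∀ x ∈ Z', ∀ y ∈ Z', x * y = y * x := by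
      intro x hx y hy
      have := (Subgroup.mem_centralizer_iff.mp hx.2) y hy.1
      exact this.symm
    have hZ'gen : Z' ≤ cgen Z' A' := cgen_abelian' Z' A' hZ'ab hA'Z' hA'ea hpZ'
    have hK'gen : K' ≤ cgen K' A' := hT2.trans (sup_le le_rfl (hZ'gen.trans (cgen_mono A' hZ'K')))
    have h1 := (Subgroup.map_mono hK'gen).trans (cgen_map_subtype N K' A')
    rw [hK', hA', Subgroup.subgroupOf_map_subtype, Subgroup.subgroupOf_map_subtype,
      inf_of_le_left hKN, inf_of_le_left hAK] at h1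
    exact h1
  · -- 2b: all Sylow subgroups are proper
    apply le_of_forall_sylow_le (cgen_le K A)
    intro q hqf
    obtain ⟨S, hS⟩ := exists_invariant_sylow K A hAK hA.isPGroup hpK q
    refine ⟨S, ?_⟩
    set Q := (S : Subgroup K).map K.subtype with hQ
    have hQK : Q ≤ K := by rintro _ ⟨x, -, rfl⟩; exact x.2
    have hAQ : A ≤ Subgroup.normalizer (Q : Set G) := by
      apply mem_normalizer_of_forall_conj_mem
      rintro a ha _ ⟨x, hx, rfl⟩
      have hxK : a * (x : G) * a⁻¹ ∈ K := by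
        have := (Subgroup.mem_normalizer_iff.mp (hAK ha) (x : G)).mp x.2
        exact this
      exact ⟨⟨a * x * a⁻¹, hxK⟩, hS a ha x hx hxK, rfl⟩
    have hQne : Q ≠ K := by
      intro h
      apply hq
      refine ⟨q, hqf.out, ?_⟩
      have htop : (S : Subgroup K) = ⊤ := by
        rw [eq_top_iff]
        intro x _
        have : (x : G) ∈ Q := by rw [h]; exact x.2
        obtain ⟨y, hy, hyx⟩ := this
        have : y = x := Subtype.ext hyx
        rw [← this]; exact hy
      have := S.2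
      rw [htop] at this
      exact this.of_equiv Subgroup.topEquiv
    have hcardlt : Nat.card Q < Nat.card K := by
      have := Subgroup.card_le_of_le hQK
      rcases this.lt_or_eq with h | h
      · exact h
      · exact absurd (Subgroup.eq_of_le_of_card_ge hQK h.ge) hQne
    have hpQ : ¬ p ∣ Nat.card Q := fun h => hpK (h.trans (Subgroup.card_dvd_of_le hQK))
    have := ih (Nat.card Q) (hn ▸ hcardlt) G Q A rfl hpQ hAQ hA
    exact this.trans (cgen_mono A hQK)

/-- **Coprime generation theorem** (rank two form): if the elementary abelian group `A` of order `p ^ 2` normalizes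
the `p'`-subgroup `K` of the finite group `G`, then `K` is generated by the centralizers `C_K(a)`, `1 ≠ a ∈ A`. -/
theorem le_cgen {p : ℕ} [Fact p.Prime] {G : Type*} [Group G] [Finite G] (K A : Subgroup G)
    (hpK : ¬ p ∣ Nat.card K) (hAK : A ≤ Subgroup.normalizer (K : Set G)) (hA : IsEA2 p A) : K ≤ cgen K A :=
  le_cgen_aux _ G K A rfl hpK hAK hA

theorem cgen_eq {p : ℕ} [Fact p.Prime] {G : Type*} [Group G] [Finite G] (K A : Subgroup G)
    (hpK : ¬ p ∣ Nat.card K) (hAK : A ≤ Subgroup.normalizer (K : Set G)) (hA : IsEA2 p A) : cgen K A = K :=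
  le_antisymm (cgen_le K A) (le_cgen K A hpK hAK hA)

/-- an abelian group of exponent `p` and order at least `p ^ 2` contains an `IsEA2` subgroup. -/
theorem exists_isEA2_le {p : ℕ} [Fact p.Prime] {G : Type*} [Group G] [Finite G] (A : Subgroup G)
    (hcomm : ∀ x ∈ A, ∀ y ∈ A, x * y = y * x) (hexp : ∀ a ∈ A, a ^ p = 1) (hcard : p ^ 2 ≤ Nat.card A) :
    ∃ A₁ : Subgroup G, A₁ ≤ A ∧ IsEA2 p A₁ := by
  have hAp : IsPGroup p A := by
    intro a
    exact ⟨1, Subtype.ext (by simpa using hexp a a.2)⟩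
  obtain ⟨H, hH⟩ := Sylow.exists_subgroup_card_pow_prime_of_le_card (Fact.out : p.Prime) hAp hcard
  refine ⟨H.map A.subtype, ?_, ?_, ?_, ?_⟩
  · rintro _ ⟨x, -, rfl⟩; exact x.2
  · rintro _ ⟨x, -, rfl⟩ _ ⟨y, -, rfl⟩
    exact hcomm x x.2 y y.2
  · rintro _ ⟨x, -, rfl⟩
    exact hexp x x.2
  · rw [Subgroup.card_map_of_injective A.subtype_injective, hH]

/-- generation theorem for any abelian `A` of exponent `p` with `|A| ≥ p ^ 2`. -/
theorem le_cgen_of_le_card {p : ℕ} [Fact p.Prime] {G : Type*} [Group G] [Finite G] (K A : Subgroup G)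
    (hpK : ¬ p ∣ Nat.card K) (hAK : A ≤ Subgroup.normalizer (K : Set G))
    (hcomm : ∀ x ∈ A, ∀ y ∈ A, x * y = y * x) (hexp : ∀ a ∈ A, a ^ p = 1) (hcard : p ^ 2 ≤ Nat.card A) :
    K ≤ cgen K A := by
  obtain ⟨A₁, hle, hA₁⟩ := exists_isEA2_le A hcomm hexp hcard
  refine (le_cgen K A₁ hpK (hle.trans hAK) hA₁).trans ?_
  unfold cgen
  apply iSup_le
  rintro ⟨a, ha, ha1⟩
  exact le_iSup (fun a : {a : G // a ∈ A ∧ a ≠ 1} => K ⊓ Subgroup.centralizer {(a : G)}) ⟨a, hle ha, ha1⟩

end Cfsg.Agent.Helper48
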