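import Mathlib.GroupTheory.Sylow
import Cfsg.Prelude.Def_Solvable

set_option autoImplicit false

namespace Cfsg.Agent.Helper48

open Cfsg

variable {G : Type*} [Group G] {p : ℕ}

theorem pCore_normal (p : ℕ) (G : Type*) [Group G] : (pCore p G).Normal :=
  Subgroup.sSup_normal _ (fun _ h => h.1)

theorem pCore_isPGroup [Fact p.Prime] [Finite (Sylow p G)] : IsPGroup p (pCore p G) :=
  Sylow.sSup_of_normal _ (fun _ h => h.2) (fun _ h => h.1)

theorem le_pCore {N : Subgroup G} (hN : N.Normal) (hp : IsPGroup p N) : N ≤ pCore p G :=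
  le_sSup ⟨hN, hp⟩

theorem pCore_le_sylow (P : Sylow p G) : pCore p G ≤ P :=
  sSup_le (fun _ h => @IsPGroup.le_sylow_of_normal _ _ _ _ h.1 h.2 P)

theorem pPrimeCore_normal (p : ℕ) (G : Type*) [Group G] : (pPrimeCore p G).Normal :=
  Subgroup.sSup_normal _ (fun _ h => h.1)

theorem le_pPrimeCore {N : Subgroup G} (hN : N.Normal) (hp : (Nat.card N).Coprime p) : N ≤ pPrimeCore p G :=
  le_sSup ⟨hN, hp⟩

end Cfsg.Agent.Helper48
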