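import Mathlib.GroupTheory.Sylow
import Cfsg.Prelude.Def_EvenType

set_option autoImplicit false

namespace Cfsg.Agent.Helper48

open Cfsg

variable {G : Type*} [Group G]

/-- conjugate of a subgroup by `g`, as used in the statements. -/
abbrev conjSub (g : G) (Q : Subgroup G) : Subgroup G := Q.map (MulAut.conj g).toMonoidHom

theorem mem_conjSub {g x : G} {Q : Subgroup G} : x ∈ conjSub g Q ↔ g⁻¹ * x * g ∈ Q := by
  constructor
  · rintro ⟨y, hy, rfl⟩
    simpa [mul_assoc] using hy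
  · intro h
    exact ⟨g⁻¹ * x * g, h, by simp [mul_assoc]⟩

theorem conj_mem_conjSub {g x : G} {Q : Subgroup G} (hx : x ∈ Q) : g * x * g⁻¹ ∈ conjSub g Q :=
  ⟨x, hx, by simp⟩

theorem conjSub_le_of_mem {g : G} {Q H : Subgroup G} (hQ : Q ≤ H) (hg : g ∈ H) : conjSub g Q ≤ H := by
  rintro _ ⟨y, hy, rfl⟩
  exact H.mul_mem (H.mul_mem hg (hQ hy)) (H.inv_mem hg)

theorem conjSub_conjSub (g h : G) (Q : Subgroup G) : conjSub g (conjSub h Q) = conjSub (g * h) Q := by
  ext x
  simp [mem_conjSub, mul_assoc]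

theorem conjSub_one (Q : Subgroup G) : conjSub (1 : G) Q = Q := by
  ext x; simp [mem_conjSub]

theorem conjSub_ne_bot {g : G} {Q : Subgroup G} (hQ : Q ≠ ⊥) : conjSub g Q ≠ ⊥ := by
  intro h
  apply hQ
  rw [eq_bot_iff] at h ⊢
  intro x hx
  have := h (conj_mem_conjSub (g := g) hx)
  simp only [Subgroup.mem_bot] at this ⊢
  have h2 : x = g⁻¹ * (g * x * g⁻¹) * g := by group
  rw [h2, this]; group

theorem isPGroup_conjSub {p : ℕ} {g : G} {Q : Subgroup G} (hQ : IsPGroup p Q) : IsPGroup p (conjSub g Q) :=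
  hQ.map _

/-- normalizer of a conjugate is the conjugate of the normalizer -/
theorem normalizer_conjSub (g : G) (Q : Subgroup G) :
    Subgroup.normalizer ((conjSub g Q : Subgroup G) : Set G) = conjSub g (Subgroup.normalizer (Q : Set G)) := by
  ext x
  rw [mem_conjSub, Subgroup.mem_normalizer_iff, Subgroup.mem_normalizer_iff]
  constructor
  · intro h y
    have := h (g * y * g⁻¹)
    rw [mem_conjSub, mem_conjSub] at this
    have e1 : g⁻¹ * (g * y * g⁻¹) * g = y := by group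
    have e2 : g⁻¹ * (x * (g * y * g⁻¹) * x⁻¹) * g = g⁻¹ * x * g * y * (g⁻¹ * x * g)⁻¹ := by group
    rw [e1, e2] at this
    exact this
  · intro h y
    rw [mem_conjSub, mem_conjSub]
    have := h (g⁻¹ * y * g)
    have e2 : g⁻¹ * x * g * (g⁻¹ * y * g) * (g⁻¹ * x * g)⁻¹ = g⁻¹ * (x * y * x⁻¹) * g := by group
    rw [e2] at this
    exact this

theorem normalizer_le_of_conjSub {g : G} {Q H : Subgroup G} (hg : g ∈ H)
    (h : Subgroup.normalizer ((conjSub g Q : Subgroup G) : Set G) ≤ H) :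
    Subgroup.normalizer (Q : Set G) ≤ H := by
  intro x hx
  have : g * x * g⁻¹ ∈ Subgroup.normalizer ((conjSub g Q : Subgroup G) : Set G) := by
    rw [normalizer_conjSub]; exact conj_mem_conjSub hx
  have h1 := h this
  have : x = g⁻¹ * (g * x * g⁻¹) * g := by group
  rw [this]
  exact H.mul_mem (H.mul_mem (H.inv_mem hg) h1) hg

section Finite
variable [Finite G] {p : ℕ} [Fact p.Prime]

/-- A nontrivial `p`-subgroup does not have `p`-rank `≤ 0`. -/
theorem not_pRankLE_zero {Q : Subgroup G} (hQp : IsPGroup p Q) (hQ : Q ≠ ⊥) : ¬ PRankLE p 0 Q := by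
  intro h
  have hnt : Nontrivial Q := (Subgroup.nontrivial_iff_ne_bot Q).mpr hQ
  have hcard : p ∣ Nat.card Q := by
    obtain ⟨n, hn⟩ := IsPGroup.iff_card.mp hQp
    have hn0 : n ≠ 0 := by
      rintro rfl
      have : Nat.card Q = 1 := by simpa using hn
      have := Finite.one_lt_card_iff_nontrivial.mpr hnt
      omega
    rw [hn]
    exact dvd_pow_self p hn0
  obtain ⟨x, hx⟩ := exists_prime_orderOf_dvd_card' p hcard
  have hA := h (Subgroup.zpowers x) (by infer_instance) (by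
    intro a ha
    obtain ⟨k, rfl⟩ := Subgroup.mem_zpowers_iff.mp ha
    rw [← zpow_natCast, ← zpow_mul, mul_comm, zpow_mul, zpow_natCast, ← hx, pow_orderOf_eq_one, one_zpow])
  rw [Nat.card_zpowers, hx, pow_zero] at hA
  exact absurd hA (by have := (Fact.out : p.Prime).two_le; omega)

/-- In a strongly `p`-embedded subgroup `H`, the chosen Sylow lies in `H`. -/
theorem sylow_le_of_kGeneratedCore_le {H : Subgroup G} (hdiv : p ∣ Nat.card G) (P : Sylow p G)
    (hP : kGeneratedCore p 1 (P : Subgroup G) ≤ H) : (P : Subgroup G) ≤ H := by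
  have hPne : (P : Subgroup G) ≠ ⊥ := P.ne_bot_of_dvd_card hdiv
  have h1 : Subgroup.normalizer ((P : Subgroup G) : Set G) ≤ kGeneratedCore p 1 (P : Subgroup G) := by
    unfold kGeneratedCore
    exact le_iSup (fun Q : {Q : Subgroup G // Q ≤ (P : Subgroup G) ∧ ¬ PRankLE p (1 - 1) Q} =>
      Subgroup.normalizer ((Q : Subgroup G) : Set G)) ⟨P, le_refl _, by simpa using not_pRankLE_zero P.2 hPne⟩
  exact Subgroup.le_normalizer.trans (h1.trans hP)

theorem normalizer_le_kGeneratedCore {P Q : Subgroup G} (hQP : Q ≤ P) (hQp : IsPGroup p Q) (hQ : Q ≠ ⊥) :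
    Subgroup.normalizer (Q : Set G) ≤ kGeneratedCore p 1 P := by
  unfold kGeneratedCore
  exact le_iSup (fun Q : {Q : Subgroup G // Q ≤ P ∧ ¬ PRankLE p (1 - 1) Q} =>
      Subgroup.normalizer ((Q : Subgroup G) : Set G)) ⟨Q, hQP, by simpa using not_pRankLE_zero hQp hQ⟩

/-- If `P ≤ H` is a Sylow `p`-subgroup of `G` then every `p`-subgroup of `H` is `H`-conjugate into `P`. -/
theorem exists_conj_le_sylow {H : Subgroup G} (P : Sylow p G) (hPH : (P : Subgroup G) ≤ H)
    {Q : Subgroup G} (hQH : Q ≤ H) (hQp : IsPGroup p Q) : ∃ h ∈ H, conjSub h Q ≤ (P : Subgroup G) := by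
  -- work inside H
  let PH : Sylow p H := P.subtype hPH
  have hQ' : IsPGroup p (Q.subgroupOf H) := hQp.comap_subtype
  obtain ⟨R, hR⟩ := hQ'.exists_le_sylow
  obtain ⟨h, hh⟩ := MulAction.exists_smul_eq H R PH
  refine ⟨h, h.2, ?_⟩
  rintro _ ⟨y, hy, rfl⟩
  have hyH : y ∈ H := hQH hy
  have hyR : (⟨y, hyH⟩ : H) ∈ R := hR (by simpa [Subgroup.mem_subgroupOf] using hy)
  have : h * ⟨y, hyH⟩ * h⁻¹ ∈ (h • R : Sylow p H) := by
    rw [← SetLike.mem_coe, Sylow.coe_smul]
    exact ⟨⟨y, hyH⟩, hyR, by simp [MulAut.smul_def]⟩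
  rw [hh] at this
  have h2 : h * ⟨y, hyH⟩ * h⁻¹ ∈ (P : Subgroup G).subgroupOf H := by
    rw [← Sylow.coe_subtype (P := P) hPH]; exact this
  simpa [Subgroup.mem_subgroupOf] using h2

/-- Main basic lemma: in a strongly `p`-embedded subgroup `H`, the normalizer in `G` of every nontrivial
`p`-subgroup of `H` lies in `H`. -/
theorem normalizer_le_of_stronglyPEmbedded {H : Subgroup G} (hH : IsStronglyPEmbedded p H)
    {Q : Subgroup G} (hQH : Q ≤ H) (hQp : IsPGroup p Q) (hQ : Q ≠ ⊥) :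
    Subgroup.normalizer (Q : Set G) ≤ H := by
  obtain ⟨hdiv, -, P, hP⟩ := hH
  have hPH := sylow_le_of_kGeneratedCore_le hdiv P hP
  obtain ⟨h, hh, hle⟩ := exists_conj_le_sylow P hPH hQH hQp
  apply normalizer_le_of_conjSub hh
  exact (normalizer_le_kGeneratedCore hle (isPGroup_conjSub hQp) (conjSub_ne_bot hQ)).trans hP

/-- The chosen Sylow subgroup of `G` lies in `H`. -/
theorem exists_sylow_le_of_stronglyPEmbedded {H : Subgroup G} (hH : IsStronglyPEmbedded p H) :
    ∃ P : Sylow p G, (P : Subgroup G) ≤ H ∧ (P : Subgroup G) ≠ ⊥ := by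
  obtain ⟨hdiv, -, P, hP⟩ := hH
  exact ⟨P, sylow_le_of_kGeneratedCore_le hdiv P hP, P.ne_bot_of_dvd_card hdiv⟩

/-- A `p`-subgroup of `G` meeting `H` nontrivially lies in `H`. -/
theorem pSubgroup_le_of_inf_ne_bot {H : Subgroup G} (hH : IsStronglyPEmbedded p H)
    {Y : Subgroup G} (hYp : IsPGroup p Y) (hY : Y ⊓ H ≠ ⊥) : Y ≤ H := by
  by_contra hle
  have hlt : Y ⊓ H < Y := lt_of_le_of_ne inf_le_left (fun h => hle (h ▸ inf_le_right))
  -- normalizer grows in p-groups: work inside Y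
  have hYfin : Finite Y := inferInstance
  have : Group.IsNilpotent Y := hYp.isNilpotent
  have hnc : NormalizerCondition Y := Group.normalizerCondition_of_isNilpotent
  have hlt' : (Y ⊓ H).subgroupOf Y < ⊤ := by
    rw [lt_top_iff_ne_top]
    intro h
    rw [Subgroup.subgroupOf_eq_top] at h
    exact hle (le_trans h inf_le_right)
  have := hnc _ hlt'
  obtain ⟨y, hyN, hynot⟩ := SetLike.exists_of_lt this
  have hN : Subgroup.normalizer ((Y ⊓ H : Subgroup G) : Set G) ≤ H :=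
    normalizer_le_of_stronglyPEmbedded hH inf_le_right (hYp.to_le inf_le_left) hY
  apply hynot
  rw [Subgroup.mem_subgroupOf]
  refine ⟨y.2, hN ?_⟩
  rw [Subgroup.mem_normalizer_iff] at hyN ⊢
  intro x
  constructor
  · intro hx
    have := (hyN ⟨x, hx.1⟩).mp (by rw [Subgroup.mem_subgroupOf]; exact hx)
    rw [Subgroup.mem_subgroupOf] at this
    simpa using this
  · intro hx
    have hxY : x ∈ Y := by
      have h1 := hx.1
      have : x = (y : G)⁻¹ * ((y : G) * x * (y : G)⁻¹) * (y : G) := by group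
      rw [this]
      exact Y.mul_mem (Y.mul_mem (Y.inv_mem y.2) h1) y.2
    have := (hyN ⟨x, hxY⟩).mpr (by rw [Subgroup.mem_subgroupOf]; simpa using hx)
    rw [Subgroup.mem_subgroupOf] at this
    simpa using this

theorem card_conjSub (g : G) (Q : Subgroup G) : Nat.card (conjSub g Q) = Nat.card Q :=
  Subgroup.card_map_of_injective (MulAut.conj g).injective

/-- In a finite group, `gQg⁻¹ ≤ Q` implies `g ∈ N_G(Q)`. -/
theorem mem_normalizer_of_conjSub_le {g : G} {Q : Subgroup G} (h : conjSub g Q ≤ Q) :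
    g ∈ Subgroup.normalizer (Q : Set G) := by
  rw [Subgroup.mem_normalizer_iff_map_conj_eq]
  exact Subgroup.eq_of_le_of_card_ge h (card_conjSub g Q).ge

/-- conjugation control: if a nontrivial `p`-subgroup `Q` of `H` has `kQk⁻¹ ≤ H` then `k ∈ H`. -/
theorem mem_of_conjSub_le {H : Subgroup G} (hH : IsStronglyPEmbedded p H)
    {Q : Subgroup G} (hQH : Q ≤ H) (hQp : IsPGroup p Q) (hQ : Q ≠ ⊥) {k : G}
    (hk : conjSub k Q ≤ H) : k ∈ H := by
  obtain ⟨P, hPH, hPne⟩ := exists_sylow_le_of_stronglyPEmbedded hH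
  obtain ⟨h, hh, hle⟩ := exists_conj_le_sylow P hPH hk (isPGroup_conjSub hQp)
  rw [conjSub_conjSub] at hle
  set m := h * k with hm
  -- P₂ = m⁻¹ P m contains Q
  have hQP2 : Q ≤ conjSub m⁻¹ (P : Subgroup G) := by
    intro x hx
    rw [mem_conjSub]
    have := hle (conj_mem_conjSub (g := m) hx)
    simpa using this
  have hP2p : IsPGroup p (conjSub m⁻¹ (P : Subgroup G)) := isPGroup_conjSub P.2
  have hP2H : conjSub m⁻¹ (P : Subgroup G) ≤ H := by
    apply pSubgroup_le_of_inf_ne_bot hH hP2p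
    intro hbot
    apply hQ
    rw [eq_bot_iff, ← hbot]
    exact le_inf hQP2 hQH
  obtain ⟨h₂, hh₂, hle₂⟩ := exists_conj_le_sylow P hPH hP2H hP2p
  rw [conjSub_conjSub] at hle₂
  have hN : h₂ * m⁻¹ ∈ Subgroup.normalizer ((P : Subgroup G) : Set G) := mem_normalizer_of_conjSub_le hle₂
  have hNH : Subgroup.normalizer ((P : Subgroup G) : Set G) ≤ H :=
    normalizer_le_of_stronglyPEmbedded hH hPH P.2 hPne
  have h1 : h₂ * m⁻¹ ∈ H := hNH hN
  have h2 : m⁻¹ ∈ H := by
    have := H.mul_mem (H.inv_mem hh₂) h1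
    simpa using this
  have h3 : m ∈ H := by simpa using H.inv_mem h2
  have : k = h⁻¹ * m := by rw [hm]; group
  rw [this]
  exact H.mul_mem (H.inv_mem hh) h3

omit [Finite G] in
theorem orderOf_conj' (g x : G) : orderOf (g * x * g⁻¹) = orderOf x := by
  have := orderOf_injective (MulAut.conj g).toMonoidHom (MulAut.conj g).injective x
  simpa using this

omit [Finite G] in
theorem isPGroup_zpowers_of_orderOf {x : G} (hx : orderOf x = p) : IsPGroup p (Subgroup.zpowers x) := by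
  apply IsPGroup.of_card (n := 1)
  rw [Nat.card_zpowers, pow_one, hx]

omit [Finite G] in
theorem zpowers_ne_bot_of_orderOf {x : G} (hx : orderOf x = p) : Subgroup.zpowers x ≠ ⊥ := by
  intro h
  rw [Subgroup.zpowers_eq_bot] at h
  rw [h, orderOf_one] at hx
  exact (Fact.out : p.Prime).ne_one hx.symm

omit [Finite G] in
theorem conjSub_zpowers_le {H : Subgroup G} {k x : G} (h : k * x * k⁻¹ ∈ H) :
    conjSub k (Subgroup.zpowers x) ≤ H := by
  rintro _ ⟨z, hz, rfl⟩
  obtain ⟨n, rfl⟩ := Subgroup.mem_zpowers_iff.mp hz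
  have : (MulAut.conj k).toMonoidHom (x ^ n) = (k * x * k⁻¹) ^ n := by simp
  rw [this]
  exact H.zpow_mem h n

/-- element version: if `x ∈ H` has order `p` and `k x k⁻¹ ∈ H` then `k ∈ H`. -/
theorem mem_of_conj_mem {H : Subgroup G} (hH : IsStronglyPEmbedded p H)
    {x : G} (hxH : x ∈ H) (hx : orderOf x = p) {k : G} (hk : k * x * k⁻¹ ∈ H) : k ∈ H :=
  mem_of_conjSub_le hH (Q := Subgroup.zpowers x) (by simpa using hxH)
    (isPGroup_zpowers_of_orderOf hx) (zpowers_ne_bot_of_orderOf hx) (conjSub_zpowers_le hk)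

/-- if `y ∈ H` has order `p`, `C` is any subgroup containing `y`, and `u ∈ C` is a `p`-element,
then some `C`-conjugate of `u` lies in `H`. -/
theorem exists_conj_mem_of_pElement {H : Subgroup G} (hH : IsStronglyPEmbedded p H)
    {C : Subgroup G} {y : G} (hyH : y ∈ H) (hyC : y ∈ C) (hy : orderOf y = p)
    {u : G} (huC : u ∈ C) (hu : orderOf u = p) : ∃ c ∈ C, c * u * c⁻¹ ∈ H := by
  let Y₀ : Subgroup C := Subgroup.zpowers ⟨y, hyC⟩
  let X₀ : Subgroup C := Subgroup.zpowers ⟨u, huC⟩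
  have hY₀ : IsPGroup p Y₀ := isPGroup_zpowers_of_orderOf (by rw [Subgroup.orderOf_mk, hy])
  have hX₀ : IsPGroup p X₀ := isPGroup_zpowers_of_orderOf (by rw [Subgroup.orderOf_mk, hu])
  obtain ⟨R, hR⟩ := hY₀.exists_le_sylow
  obtain ⟨R', hR'⟩ := hX₀.exists_le_sylow
  obtain ⟨c, hc⟩ := MulAction.exists_smul_eq C R' R
  set Y : Subgroup G := (R : Subgroup C).map C.subtype with hYdef
  have hYp : IsPGroup p Y := R.2.map _
  have hyY : y ∈ Y := ⟨⟨y, hyC⟩, hR (Subgroup.mem_zpowers _), rfl⟩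
  have hYH : Y ≤ H := by
    apply pSubgroup_le_of_inf_ne_bot hH hYp
    intro hbot
    have : y ∈ Y ⊓ H := ⟨hyY, hyH⟩
    rw [hbot, Subgroup.mem_bot] at this
    rw [this, orderOf_one] at hy
    exact (Fact.out : p.Prime).ne_one hy.symm
  have huR : c * ⟨u, huC⟩ * c⁻¹ ∈ R := by
    rw [← hc, ← SetLike.mem_coe, Sylow.coe_smul]
    exact ⟨⟨u, huC⟩, hR' (Subgroup.mem_zpowers _), by simp [MulAut.smul_def]⟩
  exact ⟨c, c.2, hYH ⟨_, huR, by simp⟩⟩

end Finite

end Cfsg.Agent.Helper48
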