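import Mathlib.Data.ZMod.Basic
import Mathlib.Algebra.Field.ZMod
import Mathlib.Algebra.BigOperators.Group.Finset.Basic
import Mathlib.Algebra.Group.End
import Mathlib.GroupTheory.OrderOfElement

set_option autoImplicit false

namespace Cfsg.Agent.Helper48

open Finset

variable {V : Type*} [CommGroup V] {p : ℕ} [Fact p.Prime]

/-- the "trace" of `v` under the cyclic group generated by `γ` (with `γ ^ p = 1`). -/
noncomputable def trAut (p : ℕ) [Fact p.Prime] (γ : MulAut V) (v : V) : V :=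
  ∏ j : ZMod p, (γ ^ j.val) v

theorem pow_val_succ {M : Type*} [Monoid M] {γ : M} (hγ : γ ^ p = 1) (j : ZMod p) :
    γ ^ (j + 1).val = γ ^ (j.val + 1) := by
  have hp : 1 < p := (Fact.out : p.Prime).one_lt
  have : Fact (1 < p) := ⟨hp⟩
  rw [ZMod.val_add, ZMod.val_one, ← pow_eq_pow_mod _ hγ]

theorem pow_val_mul {M : Type*} [Monoid M] {γ : M} (hγ : γ ^ p = 1) (i j : ZMod p) :
    γ ^ (i * j).val = γ ^ (i.val * j.val) := by
  rw [ZMod.val_mul, ← pow_eq_pow_mod _ hγ]

theorem trAut_fixed {γ : MulAut V} (hγ : γ ^ p = 1) (v : V) : γ (trAut p γ v) = trAut p γ v := by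
  unfold trAut
  rw [map_prod]
  have : ∀ j : ZMod p, γ ((γ ^ j.val) v) = (γ ^ (j + 1).val) v := by
    intro j
    rw [pow_val_succ hγ, pow_succ']
    rfl
  simp_rw [this]
  exact Fintype.prod_equiv (Equiv.addRight (1 : ZMod p)) _ _ (fun j => rfl)

/-- The averaging identity for two commuting automorphisms of order dividing `p`. -/
theorem averaging_identity {α β : MulAut V} (hβ : β ^ p = 1) (hc : Commute α β) (v : V) :
    (∏ i : ZMod p, trAut p (α * β ^ i.val) v) * trAut p β v = v ^ p * trAut p α (trAut p β v) := by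
  classical
  -- rewrite each T_i
  have hT : ∀ i : ZMod p, trAut p (α * β ^ i.val) v = ∏ j : ZMod p, (α ^ j.val * β ^ (i * j).val) v := by
    intro i
    unfold trAut
    apply Fintype.prod_congr
    intro j
    rw [(hc.pow_right i.val).mul_pow, ← pow_mul, pow_val_mul hβ]
  simp_rw [hT]
  rw [Finset.prod_comm]
  -- N(v)
  have hN : trAut p α (trAut p β v) = ∏ j : ZMod p, ∏ l : ZMod p, (α ^ j.val * β ^ l.val) v := by
    unfold trAut
    apply Fintype.prod_congr
    intro j
    rw [map_prod]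
    rfl
  rw [hN]
  -- split off j = 0 on both sides
  rw [Fintype.prod_eq_mul_prod_compl (0 : ZMod p), Fintype.prod_eq_mul_prod_compl (0 : ZMod p) (fun j => ∏ l : ZMod p, (α ^ j.val * β ^ l.val) v)]
  have h0 : ∏ i : ZMod p, (α ^ (0 : ZMod p).val * β ^ (i * 0).val) v = v ^ p := by
    simp [ZMod.val_zero, ZMod.card]
  have h0' : ∏ l : ZMod p, (α ^ (0 : ZMod p).val * β ^ l.val) v = trAut p β v := by
    unfold trAut
    simp [ZMod.val_zero]
  rw [h0, h0']
  have hrest : ∀ j ∈ ({0}ᶜ : Finset (ZMod p)), ∏ i : ZMod p, (α ^ j.val * β ^ (i * j).val) v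
      = ∏ l : ZMod p, (α ^ j.val * β ^ l.val) v := by
    intro j hj
    have hj0 : j ≠ 0 := by simpa using hj
    exact Fintype.prod_equiv (Equiv.mulRight₀ j hj0) _ _ (fun i => rfl)
  rw [Finset.prod_congr rfl hrest]
  rw [mul_assoc, mul_comm (∏ j ∈ ({0}ᶜ : Finset (ZMod p)), _) (trAut p β v)]

end Cfsg.Agent.Helper48
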