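import Mathlib
import Cfsg.Agent.Helper48.Averaging

set_option autoImplicit false

/-!
# Wielandt's order formula, abelian case (helper48)

`V` a finite abelian group of order prime to `p`, `α β` commuting automorphisms of `V` with
`α ^ p = β ^ p = 1`. Then

`|V| * |C_V(α, β)| ^ p = (∏ i : ZMod p, |C_V(α β^i)|) * |C_V(β)|`.

No independence of `α`, `β` is needed.
-/

namespace Cfsg.Agent.Helper48

open Finset

/-- fixed points of an automorphism -/
def fixSub {W : Type*} [Group W] (γ : MulAut W) : Subgroup W where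
  carrier := {v | γ v = v}
  one_mem' := map_one γ
  mul_mem' := by
    intro a b ha hb
    simp only [Set.mem_ofPred_eq] at *
    rw [map_mul, ha, hb]
  inv_mem' := by
    intro a ha
    simp only [Set.mem_ofPred_eq] at *
    rw [map_inv, ha]

theorem mem_fixSub {W : Type*} [Group W] {γ : MulAut W} {v : W} : v ∈ fixSub γ ↔ γ v = v := Iff.rfl

/-- In a finite group of order prime to `n`, a subgroup is closed under `n`-th roots. -/
theorem mem_of_pow_mem {W : Type*} [Group W] [Finite W] {n : ℕ} (h : (Nat.card W).Coprime n)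
    (C : Subgroup W) {u : W} (hu : u ^ n ∈ C) : u ∈ C := by
  have hC : (Nat.card C).Coprime n :=
    Nat.Coprime.coprime_dvd_left (Subgroup.card_subgroup_dvd_card C) h
  obtain ⟨c, hc⟩ := (powCoprime hC).surjective ⟨u ^ n, hu⟩
  have h1 : (c : W) ^ n = u ^ n := by
    have := congrArg Subtype.val hc
    simpa using this
  have h2 : (c : W) = u := (powCoprime h).injective (by simpa using h1)
  rw [← h2]; exact c.2

/-- If `g ^ p = 1`, `k` is prime to `p` and `g ^ k ∈ S` then `g ∈ S`. -/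
theorem mem_of_pow_mem_of_coprime {M : Type*} [Group M] (S : Subgroup M) {g : M} {p k : ℕ}
    (hp : 1 < p) (hg : g ^ p = 1) (hk : Nat.Coprime k p) (h : g ^ k ∈ S) : g ∈ S := by
  obtain ⟨m, -, hm⟩ := Nat.exists_mul_mod_eq_one_of_coprime hk hp
  have h1 : g ^ (k * m) = g := by
    rw [pow_eq_pow_mod _ hg, hm, pow_one]
  rw [← h1, pow_mul]
  exact S.pow_mem h m

section

variable {V : Type*} [CommGroup V] {p : ℕ} [Fact p.Prime]

theorem trAut_mul (γ : MulAut V) (v w : V) :
    trAut p γ (v * w) = trAut p γ v * trAut p γ w := by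
  unfold trAut
  rw [← Finset.prod_mul_distrib]
  exact Finset.prod_congr rfl (fun j _ => map_mul _ _ _)

theorem trAut_one' (γ : MulAut V) : trAut p γ (1 : V) = 1 := by
  unfold trAut
  simp

/-- the trace map as a homomorphism -/
noncomputable def trHom (p : ℕ) [Fact p.Prime] (γ : MulAut V) : V →* V where
  toFun := trAut p γ
  map_one' := trAut_one' γ
  map_mul' := trAut_mul γ

theorem trHom_apply (γ : MulAut V) (v : V) : trHom p γ v = trAut p γ v := rfl

theorem pow_apply_of_fixed {γ : MulAut V} {v : V} (hv : γ v = v) (n : ℕ) : (γ ^ n) v = v := by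
  induction n with
  | zero => simp
  | succ n ih => rw [pow_succ, MulAut.mul_apply, hv, ih]

theorem trAut_of_fixed {γ : MulAut V} {v : V} (hv : γ v = v) : trAut p γ v = v ^ p := by
  unfold trAut
  simp only [pow_apply_of_fixed hv]
  rw [Finset.prod_const, Finset.card_univ, ZMod.card]

theorem trAut_map_of_commute {γ δ : MulAut V} (h : Commute δ γ) (v : V) :
    δ (trAut p γ v) = trAut p γ (δ v) := by
  unfold trAut
  rw [map_prod]
  refine Finset.prod_congr rfl (fun j _ => ?_)
  have h1 := (h.pow_right j.val).eq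
  have h2 := congrArg (fun f : MulAut V => f v) h1
  simpa [MulAut.mul_apply] using h2

theorem trAut_mem_fixSub_of_commute {γ δ : MulAut V} (h : Commute δ γ) {v : V} (hv : δ v = v) :
    trAut p γ v ∈ fixSub δ := by
  rw [mem_fixSub, trAut_map_of_commute h, hv]

end

section

variable {V : Type*} [CommGroup V] {p : ℕ} [Fact p.Prime]

theorem commute_mul_pow_of_commute {α β : MulAut V} (hc : Commute α β) (k l : ℕ) :
    Commute (α * β ^ k) (α * β ^ l) := by
  have h1 : Commute α (β ^ l) := hc.pow_right l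
  have h2 : Commute (β ^ k) α := (hc.pow_right k).symm
  have h3 : Commute (β ^ k) (β ^ l) := (Commute.refl β).pow_pow k l
  exact Commute.mul_left (Commute.mul_right (Commute.refl α) h1) (Commute.mul_right h2 h3)

omit [Fact p.Prime] in
theorem mul_pow_pow_eq_one {α β : MulAut V} (hα : α ^ p = 1) (hβ : β ^ p = 1) (hc : Commute α β)
    (k : ℕ) : (α * β ^ k) ^ p = 1 := by
  rw [(hc.pow_right k).mul_pow, hα, ← pow_mul, mul_comm, pow_mul, hβ, one_pow, one_mul]

theorem fixSub_inf_le_mul_pow (α β : MulAut V) (k : ℕ) :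
    fixSub α ⊓ fixSub β ≤ fixSub (α * β ^ k) := by
  intro v hv
  obtain ⟨h1, h2⟩ := Subgroup.mem_inf.1 hv
  rw [mem_fixSub] at h1 h2 ⊢
  rw [MulAut.mul_apply, pow_apply_of_fixed h2, h1]

theorem fixSub_inf_mul_pow_le (α β : MulAut V) (k : ℕ) :
    fixSub β ⊓ fixSub (α * β ^ k) ≤ fixSub α ⊓ fixSub β := by
  intro v hv
  obtain ⟨h1, h2⟩ := Subgroup.mem_inf.1 hv
  rw [mem_fixSub] at h1 h2
  refine Subgroup.mem_inf.2 ⟨?_, h1⟩
  rw [mem_fixSub]
  rw [MulAut.mul_apply, pow_apply_of_fixed h1] at h2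
  exact h2

theorem fixSub_mul_pow_inf_le_aux {α β : MulAut V} (hβ : β ^ p = 1) {k l : ℕ} (hlk : l < k)
    (hk : k < p) : fixSub (α * β ^ k) ⊓ fixSub (α * β ^ l) ≤ fixSub α ⊓ fixSub β := by
  intro v hv
  obtain ⟨h1, h2⟩ := Subgroup.mem_inf.1 hv
  rw [mem_fixSub] at h1 h2
  have hp : 1 < p := (Fact.out : p.Prime).one_lt
  -- β ^ (k - l) fixes v
  have h3 : (β ^ k) v = (β ^ l) v := by
    apply α.injective
    rw [MulAut.mul_apply] at h1 h2
    rw [h1, h2]
  have h4 : (β ^ (k - l)) v = v := by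
    apply (β ^ l).injective
    rw [← MulAut.mul_apply, ← pow_add, Nat.add_sub_cancel' hlk.le]
    exact h3
  have hcop : Nat.Coprime (k - l) p := by
    apply Nat.Coprime.symm
    rw [(Fact.out : p.Prime).coprime_iff_not_dvd]
    intro hd
    have := Nat.le_of_dvd (by omega) hd
    omega
  have h6 : β ∈ MulAction.stabilizer (MulAut V) v := by
    apply mem_of_pow_mem_of_coprime _ hp hβ hcop
    rw [MulAction.mem_stabilizer_iff]
    exact h4
  rw [MulAction.mem_stabilizer_iff] at h6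
  have h7 : β v = v := h6
  refine Subgroup.mem_inf.2 ⟨?_, h7⟩
  rw [mem_fixSub]
  rw [MulAut.mul_apply, pow_apply_of_fixed h7] at h1
  exact h1

theorem fixSub_mul_pow_inf_le {α β : MulAut V} (hβ : β ^ p = 1) {i i' : ZMod p} (h : i ≠ i') :
    fixSub (α * β ^ i.val) ⊓ fixSub (α * β ^ i'.val) ≤ fixSub α ⊓ fixSub β := by
  have hne : i.val ≠ i'.val := fun hh => h (ZMod.val_injective p hh)
  rcases lt_or_gt_of_ne hne with h1 | h1
  · rw [inf_comm]
    exact fixSub_mul_pow_inf_le_aux hβ h1 (ZMod.val_lt i')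
  · exact fixSub_mul_pow_inf_le_aux hβ h1 (ZMod.val_lt i)

end

section main

variable {V : Type*} [CommGroup V] {p : ℕ} [Fact p.Prime]

/-- The product map `(∏ᵢ C_V(αβⁱ)) × C_V(β) → V`. -/
noncomputable def wProd (p : ℕ) [Fact p.Prime] (α β : MulAut V) :
    ((∀ i : ZMod p, ↥(fixSub (α * β ^ i.val))) × ↥(fixSub β)) →* V where
  toFun f := (∏ i : ZMod p, (f.1 i : V)) * (f.2 : V)
  map_one' := by simp
  map_mul' := by
    intro f g
    simp only [Prod.fst_mul, Prod.snd_mul, Pi.mul_apply, Subgroup.coe_mul]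
    rw [Finset.prod_mul_distrib]
    exact mul_mul_mul_comm _ _ _ _

theorem wProd_apply (α β : MulAut V)
    (f : (∀ i : ZMod p, ↥(fixSub (α * β ^ i.val))) × ↥(fixSub β)) :
    wProd p α β f = (∏ i : ZMod p, (f.1 i : V)) * (f.2 : V) := rfl

variable [Finite V]

theorem wProd_surjective (hcop : (Nat.card V).Coprime p) {α β : MulAut V} (hα : α ^ p = 1)
    (hβ : β ^ p = 1) (hc : Commute α β) : Function.Surjective (wProd p α β) := by
  intro v
  obtain ⟨w, hw⟩ := (powCoprime hcop).surjective v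
  have hw' : w ^ p = v := by simpa using hw
  have hγ : ∀ i : ZMod p, (α * β ^ i.val) ^ p = 1 := fun i => mul_pow_pow_eq_one hα hβ hc _
  refine ⟨(fun i => ⟨trAut p (α * β ^ i.val) w, mem_fixSub.2 (trAut_fixed (hγ i) w)⟩,
    ⟨trAut p β w * (trAut p α (trAut p β w))⁻¹, ?_⟩), ?_⟩
  · apply Subgroup.mul_mem
    · exact mem_fixSub.2 (trAut_fixed hβ w)
    · apply Subgroup.inv_mem
      exact trAut_mem_fixSub_of_commute hc.symm (trAut_fixed hβ w)
  · rw [wProd_apply]
    show (∏ i : ZMod p, trAut p (α * β ^ i.val) w) *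
      (trAut p β w * (trAut p α (trAut p β w))⁻¹) = v
    rw [← mul_assoc, averaging_identity hβ hc w, mul_inv_cancel_right, hw']

theorem wProd_ker_snd_mem (hcop : (Nat.card V).Coprime p) {α β : MulAut V}
    (hβ : β ^ p = 1) (hc : Commute α β)
    {f : (∀ i : ZMod p, ↥(fixSub (α * β ^ i.val))) × ↥(fixSub β)} (hf : wProd p α β f = 1) :
    (f.2 : V) ∈ fixSub α ⊓ fixSub β := by
  have h0 : (∏ i : ZMod p, (f.1 i : V)) * (f.2 : V) = 1 := hf
  have h1 := congrArg (trHom p β) h0
  rw [map_mul, map_prod, map_one] at h1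
  simp only [trHom_apply] at h1
  rw [trAut_of_fixed (mem_fixSub.1 f.2.2)] at h1
  have hC : ∏ i : ZMod p, trAut p β (f.1 i : V) ∈ fixSub α ⊓ fixSub β := by
    apply Subgroup.prod_mem
    intro i _
    apply fixSub_inf_mul_pow_le α β i.val
    refine Subgroup.mem_inf.2 ⟨mem_fixSub.2 (trAut_fixed hβ _), ?_⟩
    apply trAut_mem_fixSub_of_commute _ (mem_fixSub.1 (f.1 i).2)
    exact Commute.mul_left hc ((Commute.refl β).pow_left _)
  apply mem_of_pow_mem hcop
  rw [eq_inv_of_mul_eq_one_right h1]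
  exact Subgroup.inv_mem _ hC

theorem wProd_ker_fst_mem (hcop : (Nat.card V).Coprime p) {α β : MulAut V} (hα : α ^ p = 1)
    (hβ : β ^ p = 1) (hc : Commute α β)
    {f : (∀ i : ZMod p, ↥(fixSub (α * β ^ i.val))) × ↥(fixSub β)} (hf : wProd p α β f = 1)
    (i₀ : ZMod p) : (f.1 i₀ : V) ∈ fixSub α ⊓ fixSub β := by
  classical
  have h0 : (∏ i : ZMod p, (f.1 i : V)) * (f.2 : V) = 1 := hf
  have hγ₀ : (α * β ^ i₀.val) ^ p = 1 := mul_pow_pow_eq_one hα hβ hc _
  have h1 := congrArg (trHom p (α * β ^ i₀.val)) h0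
  rw [map_mul, map_prod, map_one] at h1
  simp only [trHom_apply] at h1
  rw [← Finset.mul_prod_erase Finset.univ _ (Finset.mem_univ i₀),
    trAut_of_fixed (mem_fixSub.1 (f.1 i₀).2), mul_assoc] at h1
  have hC1 : ∏ i ∈ Finset.univ.erase i₀, trAut p (α * β ^ i₀.val) (f.1 i : V) ∈
      fixSub α ⊓ fixSub β := by
    apply Subgroup.prod_mem
    intro i hi
    have hne : i₀ ≠ i := fun h => (Finset.ne_of_mem_erase hi) h.symm
    apply fixSub_mul_pow_inf_le hβ hne
    refine Subgroup.mem_inf.2 ⟨mem_fixSub.2 (trAut_fixed hγ₀ _), ?_⟩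
    apply trAut_mem_fixSub_of_commute _ (mem_fixSub.1 (f.1 i).2)
    exact commute_mul_pow_of_commute hc _ _
  have hC2 : trAut p (α * β ^ i₀.val) (f.2 : V) ∈ fixSub α ⊓ fixSub β := by
    apply fixSub_inf_mul_pow_le α β i₀.val
    refine Subgroup.mem_inf.2 ⟨?_, mem_fixSub.2 (trAut_fixed hγ₀ _)⟩
    apply trAut_mem_fixSub_of_commute _ (mem_fixSub.1 f.2.2)
    exact (Commute.mul_left hc ((Commute.refl β).pow_left _)).symm
  apply mem_of_pow_mem hcop
  rw [eq_inv_of_mul_eq_one_left h1]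
  exact Subgroup.inv_mem _ (Subgroup.mul_mem _ hC1 hC2)

/-- **Wielandt's order formula**, abelian case. -/
theorem wielandt_abelian (hcop : (Nat.card V).Coprime p) {α β : MulAut V} (hα : α ^ p = 1)
    (hβ : β ^ p = 1) (hc : Commute α β) :
    Nat.card V * Nat.card ↥(fixSub α ⊓ fixSub β) ^ p =
      (∏ i : ZMod p, Nat.card ↥(fixSub (α * β ^ i.val))) * Nat.card ↥(fixSub β) := by
  classical
  have e : (wProd p α β).ker ≃ (ZMod p → ↥(fixSub α ⊓ fixSub β)) :=
    { toFun := fun f i => ⟨(f.1.1 i : V), wProd_ker_fst_mem hcop hα hβ hc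
        (MonoidHom.mem_ker.1 f.2) i⟩
      invFun := fun c => ⟨(fun i => ⟨(c i : V), fixSub_inf_le_mul_pow α β i.val (c i).2⟩,
        ⟨(∏ i : ZMod p, (c i : V))⁻¹, Subgroup.inv_mem _ (Subgroup.prod_mem _
          (fun i _ => (inf_le_right : fixSub α ⊓ fixSub β ≤ fixSub β) (c i).2))⟩), by
          rw [MonoidHom.mem_ker, wProd_apply]
          exact mul_inv_cancel _⟩
      left_inv := by
        intro f
        apply Subtype.ext
        have hf : (∏ i : ZMod p, (f.1.1 i : V)) * (f.1.2 : V) = 1 := MonoidHom.mem_ker.1 f.2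
        apply Prod.ext
        · rfl
        · apply Subtype.ext
          show (∏ i : ZMod p, (f.1.1 i : V))⁻¹ = (f.1.2 : V)
          rw [inv_eq_iff_mul_eq_one]
          exact hf
      right_inv := by
        intro c
        rfl }
  have h1 : Nat.card (wProd p α β).ker = Nat.card ↥(fixSub α ⊓ fixSub β) ^ p := by
    rw [Nat.card_congr e, Nat.card_fun, Nat.card_zmod]
  have h2 : Nat.card (wProd p α β).ker * Nat.card V =
      Nat.card ((∀ i : ZMod p, ↥(fixSub (α * β ^ i.val))) × ↥(fixSub β)) := by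
    have := Subgroup.card_mul_index (wProd p α β).ker
    rw [Subgroup.index_ker, MonoidHom.range_eq_top.2 (wProd_surjective hcop hα hβ hc),
      Subgroup.card_top] at this
    exact this
  rw [Nat.card_prod, Nat.card_pi] at h2
  rw [← h2, h1]
  ring

end main

end Cfsg.Agent.Helper48
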