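import Mathlib
import Cfsg.Agent.Helper48.WielandtAbelian
import Cfsg.Agent.Helper53.Conj
import Cfsg.Agent.Helper21.Fitting
import Cfsg.Agent.S0022
import Cfsg.Agent.S0023
import Cfsg.Agent.S0025
import Cfsg.Agent.Helper1.CoprimeSylow
import Cfsg.Agent.Helper22.Coprime

set_option autoImplicit false

/-!
# Wielandt's order formula (helper48)

`a b : G` commuting with `a ^ p = b ^ p = 1`, both normalizing the subgroup `L` of order prime to `p`:

`|L| * |C_L(a) ∩ C_L(b)| ^ p = (∏ i : ZMod p, |C_L(a b^i)|) * |C_L(b)|`.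

This file: the induced action on the abelianization, lifting of fixed points, the solvable case.
-/

namespace Cfsg.Agent.Helper48

open Cfsg

variable {G : Type*} [Group G]

/-- conjugation `N_G(L) →* MulAut L` -/
def conjNormalizerHom (L : Subgroup G) : ↥(Subgroup.normalizer (L : Set G)) →* MulAut ↥L where
  toFun g := Cfsg.Agent.Helper53.conjEquiv L g g.2
  map_one' := by
    ext t
    simp
  map_mul' := by
    intro g h
    ext t
    simp only [MulAut.mul_apply, Cfsg.Agent.Helper53.conjEquiv_coe, Subgroup.coe_mul]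
    group

theorem conjNormalizerHom_coe (L : Subgroup G) (g : ↥(Subgroup.normalizer (L : Set G))) (t : ↥L) :
    ((conjNormalizerHom L g t : ↥L) : G) = g * t * (g : G)⁻¹ := rfl

/-- `MulAut X →* MulAut (Abelianization X)` -/
def abelianizationAutHom (X : Type*) [Group X] : MulAut X →* MulAut (Abelianization X) where
  toFun e := e.abelianizationCongr
  map_one' := by
    apply MulEquiv.ext
    intro v
    obtain ⟨x, rfl⟩ := QuotientGroup.mk_surjective v
    rfl
  map_mul' := by
    intro e f
    apply MulEquiv.ext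
    intro v
    obtain ⟨x, rfl⟩ := QuotientGroup.mk_surjective v
    rfl

/-- the action of `N_G(L)` on the abelianization of `L` -/
def abAct (L : Subgroup G) : ↥(Subgroup.normalizer (L : Set G)) →* MulAut (Abelianization ↥L) :=
  (abelianizationAutHom ↥L).comp (conjNormalizerHom L)

theorem abAct_of (L : Subgroup G) (g : ↥(Subgroup.normalizer (L : Set G))) (l : ↥L) :
    abAct L g (Abelianization.of l) = Abelianization.of (conjNormalizerHom L g l) := rfl

theorem mem_commutator_iff (L : Subgroup G) (x : ↥L) :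
    x ∈ commutator ↥L ↔ (x : G) ∈ ⁅L, L⁆ := by
  rw [← Subgroup.map_subtype_commutator]
  constructor
  · intro h
    exact ⟨x, h, rfl⟩
  · rintro ⟨y, hy, hyx⟩
    have : y = x := Subtype.ext hyx
    rwa [← this]

theorem of_eq_of_iff (L : Subgroup G) (x y : ↥L) :
    (Abelianization.of x : Abelianization ↥L) = Abelianization.of y ↔
      (x : G)⁻¹ * (y : G) ∈ ⁅L, L⁆ := by
  have h1 : (Abelianization.of x : Abelianization ↥L) = Abelianization.of y ↔
      x⁻¹ * y ∈ commutator ↥L := by
    show (QuotientGroup.mk x : ↥L ⧸ commutator ↥L) = QuotientGroup.mk y ↔ _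
    rw [QuotientGroup.eq]
  rw [h1, mem_commutator_iff]
  rfl

section lift

variable [Finite G]

/-- Fixed points of a coprime operator group `A` lift from the abelianization:
`|C_L(A)| = |C_{L'}(A)| * |C_{L/L'}(A)|`. -/
theorem card_centralizer_eq_mul (L A : Subgroup G)
    (hAL : A ≤ Subgroup.normalizer (L : Set G))
    (hcop : (Nat.card A).Coprime (Nat.card L))
    (hsolv : Group.IsSolvable A ∨ Group.IsSolvable L) :
    Nat.card ↥(L ⊓ Subgroup.centralizer (A : Set G)) =
      Nat.card ↥(⁅L, L⁆ ⊓ Subgroup.centralizer (A : Set G)) *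
        Nat.card ↥(⨅ g : A, fixSub (abAct L ⟨g, hAL g.2⟩)) := by
  have hLL : ⁅L, L⁆ ≤ L := Cfsg.Agent.Helper21.commutator_self_le L
  -- the homomorphism C_L(A) → L/L'
  let f : ↥(L ⊓ Subgroup.centralizer (A : Set G)) →* Abelianization ↥L :=
    Abelianization.of.comp (Subgroup.inclusion inf_le_left)
  have hker : f.ker.map (L ⊓ Subgroup.centralizer (A : Set G)).subtype =
      ⁅L, L⁆ ⊓ Subgroup.centralizer (A : Set G) := by
    ext x
    constructor
    · intro hx
      obtain ⟨y, hy, rfl⟩ := Subgroup.mem_map.1 hx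
      rw [MonoidHom.mem_ker] at hy
      have h1 : (Subgroup.inclusion (inf_le_left : L ⊓ Subgroup.centralizer (A : Set G) ≤ L) y)
          ∈ commutator ↥L := by
        rw [← Abelianization.ker_of]
        exact hy
      rw [mem_commutator_iff] at h1
      exact Subgroup.mem_inf.2 ⟨h1, (Subgroup.mem_inf.1 y.2).2⟩
    · intro hx
      obtain ⟨h1, h2⟩ := Subgroup.mem_inf.1 hx
      have hxm : x ∈ L ⊓ Subgroup.centralizer (A : Set G) := Subgroup.mem_inf.2 ⟨hLL h1, h2⟩
      refine Subgroup.mem_map.2 ⟨⟨x, hxm⟩, ?_, rfl⟩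
      rw [MonoidHom.mem_ker]
      have h3 : (Subgroup.inclusion (inf_le_left : L ⊓ Subgroup.centralizer (A : Set G) ≤ L)
          ⟨x, hxm⟩) ∈ commutator ↥L := by
        rw [mem_commutator_iff]
        exact h1
      rw [← Abelianization.ker_of] at h3
      exact h3
  have hrange : f.range = ⨅ g : A, fixSub (abAct L ⟨g, hAL g.2⟩) := by
    apply le_antisymm
    · rintro _ ⟨x, rfl⟩
      rw [Subgroup.mem_iInf]
      intro g
      rw [mem_fixSub]
      show abAct L ⟨g, hAL g.2⟩ (Abelianization.of _) = Abelianization.of _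
      rw [abAct_of]
      congr 1
      apply Subtype.ext
      rw [conjNormalizerHom_coe]
      show (g : G) * (x : G) * (g : G)⁻¹ = (x : G)
      have := Subgroup.mem_centralizer_iff.1 (Subgroup.mem_inf.1 x.2).2 g g.2
      rw [this, mul_inv_cancel_right]
    · intro v hv
      rw [Subgroup.mem_iInf] at hv
      obtain ⟨l, rfl⟩ := QuotientGroup.mk_surjective v
      have hfix : ∀ g ∈ A, g * (l : G) * g⁻¹ * (l : G)⁻¹ ∈ ⁅L, L⁆ := by
        intro g hg
        have h1 : abAct L ⟨g, hAL hg⟩ (Abelianization.of l) = Abelianization.of l :=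
          hv ⟨g, hg⟩
        have h2 : (Abelianization.of l : Abelianization ↥L) =
            Abelianization.of (conjNormalizerHom L ⟨g, hAL hg⟩ l) := h1.symm
        rw [of_eq_of_iff, conjNormalizerHom_coe] at h2
        have h3 : g * (l : G) * g⁻¹ * (l : G)⁻¹ =
            (l : G) * ((l : G)⁻¹ * (g * (l : G) * g⁻¹)) * (l : G)⁻¹ := by group
        rw [h3]
        have hn : (l : G) ∈ Subgroup.normalizer ((⁅L, L⁆ : Subgroup G) : Set G) :=
          (Subgroup.normalizer_commutator_ge_left L L) l.2
        exact (Subgroup.mem_normalizer_iff.1 hn _).1 h2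
      obtain ⟨c, hc, hlc⟩ := Cfsg.Agent.S0022.result A L hAL hcop hsolv ⁅L, L⁆ hLL
        (Subgroup.normalizer_commutator_ge_left L L)
        (by
          intro g hg
          have hgL := hAL hg
          rw [Subgroup.mem_normalizer_iff]
          intro x
          constructor
          · intro hx
            have h1 : (⁅L, L⁆).map (MulAut.conj g).toMonoidHom = ⁅L, L⁆ := by
              rw [Subgroup.map_commutator,
                Cfsg.Agent.Helper21.map_conj_eq_of_mem_normalizer hgL]
            rw [← h1]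
            exact ⟨x, hx, rfl⟩
          · intro hx
            have hgL' : g⁻¹ ∈ Subgroup.normalizer (L : Set G) := Subgroup.inv_mem _ hgL
            have h1 : (⁅L, L⁆).map (MulAut.conj g⁻¹).toMonoidHom = ⁅L, L⁆ := by
              rw [Subgroup.map_commutator,
                Cfsg.Agent.Helper21.map_conj_eq_of_mem_normalizer hgL']
            have h2 : x = g⁻¹ * (g * x * g⁻¹) * g⁻¹⁻¹ := by group
            rw [h2, ← h1]
            exact ⟨g * x * g⁻¹, hx, rfl⟩)
        (l : G) l.2 hfix
      refine ⟨⟨c, hc⟩, ?_⟩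
      show (Abelianization.of (Subgroup.inclusion inf_le_left ⟨c, hc⟩) : Abelianization ↥L) =
        Abelianization.of l
      rw [eq_comm, of_eq_of_iff]
      exact hlc
  have h1 := Subgroup.card_mul_index f.ker
  rw [Subgroup.index_ker, hrange] at h1
  rw [← h1, ← hker, Subgroup.card_map_of_injective (Subgroup.subtype_injective _)]

end lift

section spec

/-- stabilizer (in `G`) of a point of the abelianization of `L` -/
def abStab (L : Subgroup G) (v : Abelianization ↥L) : Subgroup G :=
  ((MulAction.stabilizer (MulAut (Abelianization ↥L)) v).comap (abAct L)).map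
    (Subgroup.normalizer (L : Set G)).subtype

theorem mem_abStab {L : Subgroup G} {v : Abelianization ↥L} {x : G}
    (hx : x ∈ Subgroup.normalizer (L : Set G)) :
    x ∈ abStab L v ↔ abAct L ⟨x, hx⟩ v = v := by
  constructor
  · intro h
    obtain ⟨s, hs, hsx⟩ := Subgroup.mem_map.1 h
    have : s = ⟨x, hx⟩ := Subtype.ext hsx
    rw [this, Subgroup.mem_comap, MulAction.mem_stabilizer_iff] at hs
    exact hs
  · intro h
    refine Subgroup.mem_map.2 ⟨⟨x, hx⟩, ?_, rfl⟩
    rw [Subgroup.mem_comap, MulAction.mem_stabilizer_iff]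
    exact h

theorem mem_centralizer_coe_iff_le (H : Subgroup G) (x : G) :
    x ∈ Subgroup.centralizer (H : Set G) ↔ H ≤ Subgroup.centralizer ({x} : Set G) := by
  constructor
  · intro hx h hh
    rw [Subgroup.mem_centralizer_singleton_iff]
    exact Subgroup.mem_centralizer_iff.1 hx h hh
  · intro hH
    rw [Subgroup.mem_centralizer_iff]
    intro h hh
    have := hH hh
    rw [Subgroup.mem_centralizer_singleton_iff] at this
    exact this

theorem mem_centralizer_singleton_comm (x g : G) :
    x ∈ Subgroup.centralizer ({g} : Set G) ↔ g ∈ Subgroup.centralizer ({x} : Set G) := by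
  rw [Subgroup.mem_centralizer_singleton_iff, Subgroup.mem_centralizer_singleton_iff]
  exact eq_comm

theorem centralizer_zpowers_eq (g : G) :
    Subgroup.centralizer ((Subgroup.zpowers g : Subgroup G) : Set G) =
      Subgroup.centralizer ({g} : Set G) := by
  ext x
  rw [mem_centralizer_coe_iff_le, Subgroup.zpowers_le, mem_centralizer_singleton_comm]

theorem centralizer_zpowers_sup_eq (a b : G) :
    Subgroup.centralizer ((Subgroup.zpowers a ⊔ Subgroup.zpowers b : Subgroup G) : Set G) =
      Subgroup.centralizer ({a} : Set G) ⊓ Subgroup.centralizer ({b} : Set G) := by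
  ext x
  rw [mem_centralizer_coe_iff_le, sup_le_iff, Subgroup.zpowers_le, Subgroup.zpowers_le,
    Subgroup.mem_inf, mem_centralizer_singleton_comm x a, mem_centralizer_singleton_comm x b]

theorem iInf_fixSub_zpowers (L : Subgroup G) {g : G}
    (hg : g ∈ Subgroup.normalizer (L : Set G))
    (hA : Subgroup.zpowers g ≤ Subgroup.normalizer (L : Set G)) :
    ⨅ x : Subgroup.zpowers g, fixSub (abAct L ⟨x, hA x.2⟩) = fixSub (abAct L ⟨g, hg⟩) := by
  apply le_antisymm
  · exact iInf_le _ (⟨g, Subgroup.mem_zpowers g⟩ : Subgroup.zpowers g)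
  · intro v hv
    rw [Subgroup.mem_iInf]
    intro x
    rw [mem_fixSub] at hv ⊢
    have h1 : g ∈ abStab L v := (mem_abStab hg).2 hv
    have h2 : Subgroup.zpowers g ≤ abStab L v := (Subgroup.zpowers_le).2 h1
    exact (mem_abStab (hA x.2)).1 (h2 x.2)

theorem iInf_fixSub_zpowers_sup (L : Subgroup G) {a b : G}
    (ha : a ∈ Subgroup.normalizer (L : Set G)) (hb : b ∈ Subgroup.normalizer (L : Set G))
    (hA : Subgroup.zpowers a ⊔ Subgroup.zpowers b ≤ Subgroup.normalizer (L : Set G)) :
    ⨅ x : (Subgroup.zpowers a ⊔ Subgroup.zpowers b : Subgroup G), fixSub (abAct L ⟨x, hA x.2⟩) =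
      fixSub (abAct L ⟨a, ha⟩) ⊓ fixSub (abAct L ⟨b, hb⟩) := by
  apply le_antisymm
  · apply le_inf
    · exact iInf_le _ (⟨a, (le_sup_left : Subgroup.zpowers a ≤ _) (Subgroup.mem_zpowers a)⟩ :
        (Subgroup.zpowers a ⊔ Subgroup.zpowers b : Subgroup G))
    · exact iInf_le _ (⟨b, (le_sup_right : Subgroup.zpowers b ≤ _) (Subgroup.mem_zpowers b)⟩ :
        (Subgroup.zpowers a ⊔ Subgroup.zpowers b : Subgroup G))
  · intro v hv
    obtain ⟨hva, hvb⟩ := Subgroup.mem_inf.1 hv
    rw [Subgroup.mem_iInf]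
    intro x
    rw [mem_fixSub] at hva hvb ⊢
    have h1 : a ∈ abStab L v := (mem_abStab ha).2 hva
    have h2 : b ∈ abStab L v := (mem_abStab hb).2 hvb
    have h3 : Subgroup.zpowers a ⊔ Subgroup.zpowers b ≤ abStab L v :=
      sup_le ((Subgroup.zpowers_le).2 h1) ((Subgroup.zpowers_le).2 h2)
    exact (mem_abStab (hA x.2)).1 (h3 x.2)

variable [Finite G] {p : ℕ} [Fact p.Prime]

theorem isPGroup_zpowers_sup {a b : G} (hab : Commute a b) (ha : a ^ p = 1) (hb : b ^ p = 1) :
    IsPGroup p ↥(Subgroup.zpowers a ⊔ Subgroup.zpowers b : Subgroup G) := by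
  apply IsPGroup.to_sup_of_normal_right'
    (Cfsg.Agent.Helper22.isPGroup_zpowers_of_pow_eq_one p a ha)
    (Cfsg.Agent.Helper22.isPGroup_zpowers_of_pow_eq_one p b hb)
  refine le_trans ?_ (Subgroup.centralizer_le_normalizer _)
  rw [Subgroup.zpowers_le, centralizer_zpowers_eq, Subgroup.mem_centralizer_singleton_iff]
  exact hab.eq

theorem coprime_card_of_isPGroup {A L : Subgroup G} (hA : IsPGroup p A)
    (hcop : (Nat.card L).Coprime p) : (Nat.card A).Coprime (Nat.card L) := by
  obtain ⟨n, hn⟩ := IsPGroup.iff_card.1 hA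
  rw [hn]
  exact Nat.Coprime.pow_left n hcop.symm

theorem isSolvable_of_isPGroup {A : Subgroup G} (hA : IsPGroup p A) : Group.IsSolvable A := by
  have := hA.isNilpotent
  infer_instance

theorem card_centralizer_singleton_eq_mul (L : Subgroup G) {g : G}
    (hg : g ∈ Subgroup.normalizer (L : Set G)) (hgp : g ^ p = 1)
    (hcop : (Nat.card L).Coprime p) :
    Nat.card ↥(L ⊓ Subgroup.centralizer ({g} : Set G)) =
      Nat.card ↥(⁅L, L⁆ ⊓ Subgroup.centralizer ({g} : Set G)) *
        Nat.card ↥(fixSub (abAct L ⟨g, hg⟩)) := by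
  have hA : Subgroup.zpowers g ≤ Subgroup.normalizer (L : Set G) := (Subgroup.zpowers_le).2 hg
  have hP := Cfsg.Agent.Helper22.isPGroup_zpowers_of_pow_eq_one p g hgp
  have := card_centralizer_eq_mul L (Subgroup.zpowers g) hA (coprime_card_of_isPGroup hP hcop)
    (Or.inl (isSolvable_of_isPGroup hP))
  rw [centralizer_zpowers_eq, iInf_fixSub_zpowers L hg hA] at this
  exact this

theorem card_centralizer_pair_eq_mul (L : Subgroup G) {a b : G} (hab : Commute a b)
    (ha : a ∈ Subgroup.normalizer (L : Set G)) (hb : b ∈ Subgroup.normalizer (L : Set G))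
    (hap : a ^ p = 1) (hbp : b ^ p = 1) (hcop : (Nat.card L).Coprime p) :
    Nat.card ↥(L ⊓ Subgroup.centralizer ({a} : Set G) ⊓ Subgroup.centralizer ({b} : Set G)) =
      Nat.card ↥(⁅L, L⁆ ⊓ Subgroup.centralizer ({a} : Set G) ⊓
        Subgroup.centralizer ({b} : Set G)) *
        Nat.card ↥(fixSub (abAct L ⟨a, ha⟩) ⊓ fixSub (abAct L ⟨b, hb⟩)) := by
  have hA : Subgroup.zpowers a ⊔ Subgroup.zpowers b ≤ Subgroup.normalizer (L : Set G) :=
    sup_le ((Subgroup.zpowers_le).2 ha) ((Subgroup.zpowers_le).2 hb)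
  have hP := isPGroup_zpowers_sup hab hap hbp
  have := card_centralizer_eq_mul L (Subgroup.zpowers a ⊔ Subgroup.zpowers b) hA
    (coprime_card_of_isPGroup hP hcop) (Or.inl (isSolvable_of_isPGroup hP))
  rw [centralizer_zpowers_sup_eq, iInf_fixSub_zpowers_sup L ha hb hA, ← inf_assoc,
    ← inf_assoc] at this
  exact this

end spec

section solvable

/-- the order formula as a proposition -/
def WFormula (p : ℕ) [Fact p.Prime] (a b : G) (L : Subgroup G) : Prop :=
  Nat.card L * Nat.card ↥(L ⊓ Subgroup.centralizer ({a} : Set G) ⊓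
      Subgroup.centralizer ({b} : Set G)) ^ p =
    (∏ i : ZMod p, Nat.card ↥(L ⊓ Subgroup.centralizer ({a * b ^ i.val} : Set G))) *
      Nat.card ↥(L ⊓ Subgroup.centralizer ({b} : Set G))

theorem normalizer_le_normalizer_commutator_self (L : Subgroup G) :
    Subgroup.normalizer (L : Set G) ≤ Subgroup.normalizer ((⁅L, L⁆ : Subgroup G) : Set G) := by
  intro g hgL
  rw [Subgroup.mem_normalizer_iff]
  intro x
  constructor
  · intro hx
    have h1 : (⁅L, L⁆).map (MulAut.conj g).toMonoidHom = ⁅L, L⁆ := by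
      rw [Subgroup.map_commutator, Cfsg.Agent.Helper21.map_conj_eq_of_mem_normalizer hgL]
    rw [← h1]
    exact ⟨x, hx, rfl⟩
  · intro hx
    have hgL' : g⁻¹ ∈ Subgroup.normalizer (L : Set G) := Subgroup.inv_mem _ hgL
    have h1 : (⁅L, L⁆).map (MulAut.conj g⁻¹).toMonoidHom = ⁅L, L⁆ := by
      rw [Subgroup.map_commutator, Cfsg.Agent.Helper21.map_conj_eq_of_mem_normalizer hgL']
    have h2 : x = g⁻¹ * (g * x * g⁻¹) * g⁻¹⁻¹ := by group
    rw [h2, ← h1]
    exact ⟨g * x * g⁻¹, hx, rfl⟩

theorem commutator_self_lt_of_isSolvable {L : Subgroup G} (hsolv : Group.IsSolvable L)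
    (hL : L ≠ ⊥) : ⁅L, L⁆ < L := by
  have hnt : Nontrivial ↥L := (Subgroup.nontrivial_iff_ne_bot L).2 hL
  have h := Group.IsSolvable.commutator_lt_top_of_nontrivial ↥L
  refine lt_of_le_of_ne (Cfsg.Agent.Helper21.commutator_self_le L) ?_
  intro heq
  apply h.ne
  rw [eq_top_iff]
  intro x _
  rw [mem_commutator_iff, heq]
  exact x.2

theorem card_eq_card_commutator_mul_card_abelianization [Finite G] (L : Subgroup G) :
    Nat.card L = Nat.card ↥(⁅L, L⁆ : Subgroup G) * Nat.card (Abelianization ↥L) := by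
  have h1 := Subgroup.card_eq_card_quotient_mul_card_subgroup (commutator ↥L)
  have h2 : Nat.card ↥(commutator ↥L) = Nat.card ↥(⁅L, L⁆ : Subgroup G) := by
    rw [← Subgroup.map_subtype_commutator,
      Subgroup.card_map_of_injective (Subgroup.subtype_injective _)]
  rw [h2] at h1
  rw [h1, mul_comm]
  rfl

variable [Finite G] {p : ℕ} [Fact p.Prime]

theorem mul_pow_pow_eq_one' {a b : G} (hab : Commute a b) (hap : a ^ p = 1) (hbp : b ^ p = 1)
    (k : ℕ) : (a * b ^ k) ^ p = 1 := by
  rw [(hab.pow_right k).mul_pow, hap, ← pow_mul, mul_comm, pow_mul, hbp, one_pow, one_mul]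

/-- Wielandt's order formula for solvable `L`. -/
theorem wFormula_of_isSolvable {a b : G} (hab : Commute a b) (hap : a ^ p = 1)
    (hbp : b ^ p = 1) :
    ∀ n : ℕ, ∀ L : Subgroup G, Nat.card L = n → Group.IsSolvable L →
      a ∈ Subgroup.normalizer (L : Set G) → b ∈ Subgroup.normalizer (L : Set G) →
      (Nat.card L).Coprime p → WFormula p a b L := by
  intro n
  induction n using Nat.strong_induction_on with
  | _ n ih =>
    intro L hn hsolv ha hb hcop
    by_cases hL : L = ⊥
    · subst hL
      unfold WFormula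
      simp
    · have hLL : ⁅L, L⁆ ≤ L := Cfsg.Agent.Helper21.commutator_self_le L
      have hlt : ⁅L, L⁆ < L := commutator_self_lt_of_isSolvable hsolv hL
      have hcard : Nat.card ↥(⁅L, L⁆ : Subgroup G) < n := by
        rw [← hn]; exact Cfsg.Agent.Helper21.card_lt_card_of_lt hlt
      have hsolv' : Group.IsSolvable ↥(⁅L, L⁆ : Subgroup G) :=
        Group.isSolvable_of_isSolvable_injective (Subgroup.inclusion_injective hLL)
      have hcop' : (Nat.card ↥(⁅L, L⁆ : Subgroup G)).Coprime p :=
        Nat.Coprime.coprime_dvd_left (Subgroup.card_dvd_of_le hLL) hcop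
      have hL' := ih _ hcard ⁅L, L⁆ rfl hsolv'
        (normalizer_le_normalizer_commutator_self L ha)
        (normalizer_le_normalizer_commutator_self L hb) hcop'
      have hcardL := card_eq_card_commutator_mul_card_abelianization L
      have hcopAb : (Nat.card (Abelianization ↥L)).Coprime p :=
        Nat.Coprime.coprime_dvd_left (Dvd.intro_left _ hcardL.symm) hcop
      -- the induced automorphisms
      have hα : (abAct L ⟨a, ha⟩) ^ p = 1 := by
        rw [← map_pow]
        have : (⟨a, ha⟩ : ↥(Subgroup.normalizer (L : Set G))) ^ p = 1 := by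
          apply Subtype.ext
          simp [hap]
        rw [this, map_one]
      have hβ : (abAct L ⟨b, hb⟩) ^ p = 1 := by
        rw [← map_pow]
        have : (⟨b, hb⟩ : ↥(Subgroup.normalizer (L : Set G))) ^ p = 1 := by
          apply Subtype.ext
          simp [hbp]
        rw [this, map_one]
      have hc : Commute (abAct L ⟨a, ha⟩) (abAct L ⟨b, hb⟩) := by
        have : Commute (⟨a, ha⟩ : ↥(Subgroup.normalizer (L : Set G))) ⟨b, hb⟩ :=
          Subtype.ext hab.eq
        exact this.map (abAct L)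
      have hAb := wielandt_abelian (V := Abelianization ↥L) (p := p) hcopAb hα hβ hc
      have hmem : ∀ k : ℕ, a * b ^ k ∈ Subgroup.normalizer (L : Set G) := fun k =>
        Subgroup.mul_mem _ ha (Subgroup.pow_mem _ hb k)
      have hact : ∀ k : ℕ, abAct L ⟨a * b ^ k, hmem k⟩ =
          abAct L ⟨a, ha⟩ * abAct L ⟨b, hb⟩ ^ k := by
        intro k
        rw [← map_pow, ← map_mul]
        rfl
      have h1 := card_centralizer_pair_eq_mul L hab ha hb hap hbp hcop
      have h2 := card_centralizer_singleton_eq_mul L hb hbp hcop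
      have h3 : ∀ i : ZMod p, Nat.card ↥(L ⊓ Subgroup.centralizer ({a * b ^ i.val} : Set G)) =
          Nat.card ↥(⁅L, L⁆ ⊓ Subgroup.centralizer ({a * b ^ i.val} : Set G)) *
            Nat.card ↥(fixSub (abAct L ⟨a, ha⟩ * abAct L ⟨b, hb⟩ ^ i.val)) := by
        intro i
        have := card_centralizer_singleton_eq_mul L (hmem i.val)
          (mul_pow_pow_eq_one' hab hap hbp i.val) hcop
        rw [hact] at this
        exact this
      unfold WFormula at hL' ⊢
      rw [h1, h2, hcardL, mul_pow]
      simp only [h3]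
      rw [Finset.prod_mul_distrib]
      calc Nat.card ↥(⁅L, L⁆ : Subgroup G) * Nat.card (Abelianization ↥L) *
            (Nat.card ↥(⁅L, L⁆ ⊓ Subgroup.centralizer ({a} : Set G) ⊓
              Subgroup.centralizer ({b} : Set G)) ^ p *
            Nat.card ↥(fixSub (abAct L ⟨a, ha⟩) ⊓ fixSub (abAct L ⟨b, hb⟩)) ^ p)
          = (Nat.card ↥(⁅L, L⁆ : Subgroup G) *
              Nat.card ↥(⁅L, L⁆ ⊓ Subgroup.centralizer ({a} : Set G) ⊓
                Subgroup.centralizer ({b} : Set G)) ^ p) *
            (Nat.card (Abelianization ↥L) *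
              Nat.card ↥(fixSub (abAct L ⟨a, ha⟩) ⊓ fixSub (abAct L ⟨b, hb⟩)) ^ p) := by ring
        _ = _ := by rw [hL', hAb]; ring

end solvable

section general

open Pointwise

variable [Finite G]

/-- Under coprime action of an abelian group `A`, an `A`-invariant Sylow `q`-subgroup `Q` of `L`
meets `C_L(B)` in a Sylow `q`-subgroup of `C_L(B)`, for every `B ≤ A`. -/
theorem card_sylow_inf_centralizer {A L : Subgroup G}
    (hAL : A ≤ Subgroup.normalizer (L : Set G))
    (hcop : (Nat.card A).Coprime (Nat.card L))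
    (hsolv : Group.IsSolvable A)
    (hAab : ∀ x ∈ A, ∀ y ∈ A, x * y = y * x)
    (q : ℕ) [Fact q.Prime] (Q : Sylow q ↥L)
    (hQ : A ≤ Subgroup.normalizer (((Q : Subgroup ↥L).map L.subtype : Subgroup G) : Set G))
    (B : Subgroup G) (hBA : B ≤ A) :
    Nat.card ↥((Q : Subgroup ↥L).map L.subtype ⊓ Subgroup.centralizer (B : Set G)) =
      q ^ (Nat.card ↥(L ⊓ Subgroup.centralizer (B : Set G))).factorization q := by
  have hq : q.Prime := Fact.out
  have hAC : A ≤ Subgroup.centralizer (B : Set G) := by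
    intro x hx
    rw [Subgroup.mem_centralizer_iff]
    intro y hy
    exact hAab y (hBA hy) x hx
  have hALB : A ≤ Subgroup.normalizer
      ((L ⊓ Subgroup.centralizer (B : Set G) : Subgroup G) : Set G) :=
    (le_inf hAL (hAC.trans Subgroup.le_normalizer)).trans
      Subgroup.inf_normalizer_le_normalizer_inf
  have hcopLB : (Nat.card A).Coprime (Nat.card ↥(L ⊓ Subgroup.centralizer (B : Set G))) :=
    Nat.Coprime.coprime_dvd_right (Subgroup.card_dvd_of_le inf_le_left) hcop
  obtain ⟨R, hR⟩ := Cfsg.Agent.S0023.result A (L ⊓ Subgroup.centralizer (B : Set G)) hALB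
    hcopLB (Or.inl hsolv) q
  have hR'LB : (R : Subgroup ↥(L ⊓ Subgroup.centralizer (B : Set G))).map
      (L ⊓ Subgroup.centralizer (B : Set G)).subtype ≤ L ⊓ Subgroup.centralizer (B : Set G) :=
    Subgroup.map_subtype_le _
  have hR'card : Nat.card ↥((R : Subgroup ↥(L ⊓ Subgroup.centralizer (B : Set G))).map
      (L ⊓ Subgroup.centralizer (B : Set G)).subtype) =
      q ^ (Nat.card ↥(L ⊓ Subgroup.centralizer (B : Set G))).factorization q := by
    rw [Subgroup.card_map_of_injective (Subgroup.subtype_injective _)]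
    exact R.card_eq_multiplicity
  have hR'q : IsPGroup q ↥((R : Subgroup ↥(L ⊓ Subgroup.centralizer (B : Set G))).map
      (L ⊓ Subgroup.centralizer (B : Set G)).subtype) := R.isPGroup'.map _
  generalize (R : Subgroup ↥(L ⊓ Subgroup.centralizer (B : Set G))).map
      (L ⊓ Subgroup.centralizer (B : Set G)).subtype = R' at hR hR'LB hR'card hR'q
  obtain ⟨P, hRP, hPA⟩ := Cfsg.Agent.S0025.result A L hAL hcop (Or.inl hsolv) q R'
    (hR'LB.trans inf_le_left) hR'q hR
  obtain ⟨c, hc, hcPQ⟩ := Cfsg.Agent.Helper1.invariant_sylow_conj A L hAL hcop (Or.inl hsolv) q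
    P Q hPA hQ
  obtain ⟨hcL, hcA⟩ := Subgroup.mem_inf.1 hc
  -- the conjugate of R' by c lies in Q' ⊓ C(B)
  have hle : MulAut.conj c • R' ≤
      (Q : Subgroup ↥L).map L.subtype ⊓ Subgroup.centralizer (B : Set G) := by
    intro x hx
    rw [Cfsg.Agent.Helper1.mem_conj_smul] at hx
    refine Subgroup.mem_inf.2 ⟨?_, ?_⟩
    · rw [← hcPQ, Cfsg.Agent.Helper1.mem_conj_smul]
      exact hRP hx
    · have h1 := (Subgroup.mem_inf.1 (hR'LB hx)).2
      have hcB : c ∈ Subgroup.centralizer (B : Set G) :=
        Subgroup.centralizer_le (by exact_mod_cast hBA) hcA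
      have h2 : x = c * (c⁻¹ * x * c) * c⁻¹ := by group
      rw [h2]
      exact Subgroup.mul_mem _ (Subgroup.mul_mem _ hcB h1) (Subgroup.inv_mem _ hcB)
  have hcard2 : Nat.card ↥(MulAut.conj c • R') = Nat.card ↥R' :=
    (Nat.card_congr (Subgroup.equivSMul (MulAut.conj c) R').toEquiv).symm
  -- D is a q-group inside L ⊓ C(B)
  have hDq : IsPGroup q ↥((Q : Subgroup ↥L).map L.subtype ⊓
      Subgroup.centralizer (B : Set G) : Subgroup G) :=
    (Q.isPGroup'.map L.subtype).to_le inf_le_left
  obtain ⟨k, hk⟩ := IsPGroup.iff_card.1 hDq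
  have hDLB : (Q : Subgroup ↥L).map L.subtype ⊓ Subgroup.centralizer (B : Set G) ≤
      L ⊓ Subgroup.centralizer (B : Set G) :=
    inf_le_inf_right _ (Subgroup.map_subtype_le _)
  have h1 : q ^ k ∣ Nat.card ↥(L ⊓ Subgroup.centralizer (B : Set G)) := by
    rw [← hk]; exact Subgroup.card_dvd_of_le hDLB
  have h2 : k ≤ (Nat.card ↥(L ⊓ Subgroup.centralizer (B : Set G))).factorization q :=
    (hq.pow_dvd_iff_le_factorization Nat.card_pos.ne').1 h1
  have h3 : q ^ (Nat.card ↥(L ⊓ Subgroup.centralizer (B : Set G))).factorization q ∣ q ^ k := by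
    rw [← hk, ← hR'card, ← hcard2]
    exact Subgroup.card_dvd_of_le hle
  have h4 : (Nat.card ↥(L ⊓ Subgroup.centralizer (B : Set G))).factorization q ≤ k :=
    (Nat.pow_dvd_pow_iff_le_right hq.one_lt).1 h3
  rw [hk, le_antisymm h2 h4]

end general

section main

variable [Finite G] {p : ℕ} [Fact p.Prime]

/-- **Wielandt's order formula.** -/
theorem wFormula {a b : G} (hab : Commute a b) (hap : a ^ p = 1) (hbp : b ^ p = 1)
    (L : Subgroup G) (ha : a ∈ Subgroup.normalizer (L : Set G))
    (hb : b ∈ Subgroup.normalizer (L : Set G)) (hcop : (Nat.card L).Coprime p) :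
    WFormula p a b L := by
  unfold WFormula
  have hpos : ∀ H : Subgroup G, Nat.card ↥H ≠ 0 := fun H => Nat.card_pos.ne'
  apply Nat.eq_of_factorization_eq
  · exact mul_ne_zero (hpos _) (pow_ne_zero _ (hpos _))
  · exact mul_ne_zero (Finset.prod_ne_zero_iff.2 (fun i _ => hpos _)) (hpos _)
  intro q
  by_cases hq : q.Prime
  · have : Fact q.Prime := ⟨hq⟩
    have hP : IsPGroup p ↥(Subgroup.zpowers a ⊔ Subgroup.zpowers b : Subgroup G) :=
      isPGroup_zpowers_sup hab hap hbp
    have hAL : Subgroup.zpowers a ⊔ Subgroup.zpowers b ≤ Subgroup.normalizer (L : Set G) :=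
      sup_le ((Subgroup.zpowers_le).2 ha) ((Subgroup.zpowers_le).2 hb)
    have hcopA := coprime_card_of_isPGroup hP hcop
    have hsolvA := isSolvable_of_isPGroup hP
    have haA : a ∈ Subgroup.zpowers a ⊔ Subgroup.zpowers b :=
      (le_sup_left : Subgroup.zpowers a ≤ _) (Subgroup.mem_zpowers a)
    have hbA : b ∈ Subgroup.zpowers a ⊔ Subgroup.zpowers b :=
      (le_sup_right : Subgroup.zpowers b ≤ _) (Subgroup.mem_zpowers b)
    have hAab : ∀ x ∈ Subgroup.zpowers a ⊔ Subgroup.zpowers b,
        ∀ y ∈ Subgroup.zpowers a ⊔ Subgroup.zpowers b, x * y = y * x := by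
      have h1 : Subgroup.zpowers a ⊔ Subgroup.zpowers b ≤
          Subgroup.centralizer ((Subgroup.zpowers a ⊔ Subgroup.zpowers b : Subgroup G) : Set G) := by
        rw [centralizer_zpowers_sup_eq]
        apply sup_le
        · rw [Subgroup.zpowers_le]
          refine Subgroup.mem_inf.2 ⟨?_, ?_⟩
          · rw [Subgroup.mem_centralizer_singleton_iff]
          · rw [Subgroup.mem_centralizer_singleton_iff]; exact hab.eq
        · rw [Subgroup.zpowers_le]
          refine Subgroup.mem_inf.2 ⟨?_, ?_⟩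
          · rw [Subgroup.mem_centralizer_singleton_iff]; exact hab.eq.symm
          · rw [Subgroup.mem_centralizer_singleton_iff]
      intro x hx y hy
      exact Subgroup.mem_centralizer_iff.1 (h1 hy) x hx
    obtain ⟨Q, hQ⟩ := Cfsg.Agent.S0023.result (Subgroup.zpowers a ⊔ Subgroup.zpowers b) L hAL
      hcopA (Or.inl hsolvA) q
    have key := fun B hBA => card_sylow_inf_centralizer hAL hcopA hsolvA hAab q Q hQ B hBA
    have hQ'L : (Q : Subgroup ↥L).map L.subtype ≤ L := Subgroup.map_subtype_le _
    have hQ'q : IsPGroup q ↥((Q : Subgroup ↥L).map L.subtype) := Q.isPGroup'.map _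
    have hQ'card : Nat.card ↥((Q : Subgroup ↥L).map L.subtype) =
        q ^ (Nat.card ↥L).factorization q := by
      rw [Subgroup.card_map_of_injective (Subgroup.subtype_injective _)]
      exact Q.card_eq_multiplicity
    generalize (Q : Subgroup ↥L).map L.subtype = Q' at hQ key hQ'L hQ'q hQ'card
    have hW := wFormula_of_isSolvable hab hap hbp _ Q' rfl
      (by have := hQ'q.isNilpotent; infer_instance) (hQ haA) (hQ hbA)
      (Nat.Coprime.coprime_dvd_left (Subgroup.card_dvd_of_le hQ'L) hcop)
    unfold WFormula at hW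
    have e1 : Nat.card ↥(Q' ⊓ Subgroup.centralizer ({a} : Set G) ⊓
        Subgroup.centralizer ({b} : Set G)) =
        q ^ (Nat.card ↥(L ⊓ Subgroup.centralizer ({a} : Set G) ⊓
          Subgroup.centralizer ({b} : Set G))).factorization q := by
      have := key (Subgroup.zpowers a ⊔ Subgroup.zpowers b) le_rfl
      rw [centralizer_zpowers_sup_eq, ← inf_assoc, ← inf_assoc] at this
      exact this
    have e2 : ∀ i : ZMod p, Nat.card ↥(Q' ⊓ Subgroup.centralizer ({a * b ^ i.val} : Set G)) =
        q ^ (Nat.card ↥(L ⊓ Subgroup.centralizer ({a * b ^ i.val} : Set G))).factorization q := by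
      intro i
      have := key (Subgroup.zpowers (a * b ^ i.val)) (by
        rw [Subgroup.zpowers_le]
        exact Subgroup.mul_mem _ haA (Subgroup.pow_mem _ hbA _))
      rw [centralizer_zpowers_eq] at this
      exact this
    have e3 : Nat.card ↥(Q' ⊓ Subgroup.centralizer ({b} : Set G)) =
        q ^ (Nat.card ↥(L ⊓ Subgroup.centralizer ({b} : Set G))).factorization q := by
      have := key (Subgroup.zpowers b) le_sup_right
      rw [centralizer_zpowers_eq] at this
      exact this
    rw [hQ'card, e1, e3] at hW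
    simp only [e2] at hW
    rw [← pow_mul, ← pow_add, Finset.prod_pow_eq_pow_sum, ← pow_add] at hW
    have hexp := Nat.pow_right_injective hq.two_le hW
    rw [Nat.factorization_mul (hpos _) (pow_ne_zero _ (hpos _)), Nat.factorization_pow,
      Nat.factorization_mul (Finset.prod_ne_zero_iff.2 (fun i _ => hpos _)) (hpos _),
      Nat.factorization_prod (fun i _ => hpos _)]
    simp only [Finsupp.coe_add, Pi.add_apply, Finsupp.coe_smul, Pi.smul_apply, smul_eq_mul,
      Finsupp.coe_finset_sum, Finset.sum_apply]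
    rw [mul_comm p]
    exact hexp
  · rw [Nat.factorization_eq_zero_of_not_prime _ hq, Nat.factorization_eq_zero_of_not_prime _ hq]

end main

end Cfsg.Agent.Helper48
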