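import Mathlib.GroupTheory.SpecificGroups.Cyclic
import Mathlib.GroupTheory.PGroup

set_option autoImplicit false

namespace Cfsg.Agent.Helper48

open Finset

section
variable {α : Type*} [CommGroup α] [Fintype α] [DecidableEq α]

theorem card_pow_mul_le (m p : ℕ) :
    #{a : α | a ^ (p * m) = 1} ≤ #{a : α | a ^ m = 1} * #{a : α | a ^ p = 1} := by
  have himg : ({a : α | a ^ (p * m) = 1} : Finset α).image (· ^ m) ⊆ ({a : α | a ^ p = 1} : Finset α) := by
    intro b hb
    obtain ⟨a, ha, rfl⟩ := Finset.mem_image.mp hb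
    rw [Finset.mem_filter] at ha ⊢
    refine ⟨Finset.mem_univ _, ?_⟩
    rw [← pow_mul, mul_comm]; exact ha.2
  refine (Finset.card_le_mul_card_image _ (#{a : α | a ^ m = 1}) ?_).trans
    (Nat.mul_le_mul_left _ (Finset.card_le_card himg))
  intro b hb
  obtain ⟨a₀, ha₀, rfl⟩ := Finset.mem_image.mp hb
  apply Finset.card_le_card_of_injOn (fun a => a₀⁻¹ * a)
  · intro a ha
    have ha' := (Finset.mem_filter.mp (Finset.mem_coe.mp ha)).2
    simp only [Finset.coe_filter, Finset.mem_univ, true_and, Set.mem_ofPred_eq]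
    rw [mul_pow, inv_pow, ha', inv_mul_cancel]
  · intro a _ a' _ h
    exact mul_left_cancel h

theorem card_pow_eq_one_le_of_prime (h : ∀ p : ℕ, p.Prime → #{a : α | a ^ p = 1} ≤ p) :
    ∀ n : ℕ, 0 < n → #{a : α | a ^ n = 1} ≤ n := by
  intro n
  induction n using Nat.strong_induction_on with
  | _ n ih =>
  intro hn
  by_cases h1 : n = 1
  · subst h1
    simp only [pow_one]
    rw [Finset.card_le_one]
    intro a ha b hb
    rw [(Finset.mem_filter.mp ha).2, (Finset.mem_filter.mp hb).2]
  · have hp := Nat.minFac_prime h1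
    obtain ⟨m, hm⟩ := Nat.minFac_dvd n
    have hm0 : 0 < m := by
      rcases Nat.eq_zero_or_pos m with h0 | h0
      · rw [h0, mul_zero] at hm; omega
      · exact h0
    have hmn : m < n := by
      rw [hm]
      exact lt_mul_of_one_lt_left hm0 hp.one_lt
    calc #{a : α | a ^ n = 1} = #{a : α | a ^ (n.minFac * m) = 1} := by rw [← hm]
      _ ≤ #{a : α | a ^ m = 1} * #{a : α | a ^ n.minFac = 1} := card_pow_mul_le m n.minFac
      _ ≤ m * n.minFac := Nat.mul_le_mul (ih m hmn hm0) (h _ hp)
      _ = n := by rw [mul_comm, ← hm]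

end

/-- A finite noncyclic commutative group has, for some prime `p`, at least `p ^ 2` solutions of `x ^ p = 1`. -/
theorem exists_prime_sq_le_card_torsion {α : Type*} [CommGroup α] [Finite α] (h : ¬ IsCyclic α) :
    ∃ p : ℕ, p.Prime ∧ p ^ 2 ≤ Nat.card (powMonoidHom p : α →* α).ker := by
  classical
  have := Fintype.ofFinite α
  by_contra hcon
  push Not at hcon
  apply h
  apply isCyclic_of_card_pow_eq_one_le
  apply card_pow_eq_one_le_of_prime
  intro p hp
  have hlt := hcon p hp
  have : Fact p.Prime := ⟨hp⟩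
  -- the kernel is a p-group
  have hpg : IsPGroup p (powMonoidHom p : α →* α).ker := by
    intro x
    refine ⟨1, Subtype.ext ?_⟩
    have := x.2
    rw [MonoidHom.mem_ker, powMonoidHom_apply] at this
    simpa using this
  obtain ⟨k, hk⟩ := IsPGroup.iff_card.mp hpg
  have hk2 : k < 2 := by
    rw [hk] at hlt
    exact (Nat.pow_lt_pow_iff_right hp.one_lt).mp hlt
  have hcard : #{a : α | a ^ p = 1} = Nat.card (powMonoidHom p : α →* α).ker := by
    rw [Nat.card_eq_fintype_card, Fintype.card_subtype]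
    congr 1
    ext a
    simp [MonoidHom.mem_ker]
  rw [hcard, hk]
  calc p ^ k ≤ p ^ 1 := Nat.pow_le_pow_right hp.pos (by omega)
    _ = p := pow_one p

end Cfsg.Agent.Helper48
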