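import Mathlib
import Cfsg.Agent.Helper1.MinDeg.Defs

/-!
# (M4) for helper1's S2140: under the dichotomy a subgroup of index `q` of `Qc x` is a `Qc2 x y`
-/

set_option autoImplicit false
set_option linter.unusedSectionVars false

namespace Cfsg.Agent.Helper48.MinDeg

open Matrix Cfsg.Agent.Helper14.AutPSL Cfsg.Agent.Helper1.MinDeg

variable {F : Type*} [Field F] {n : ℕ}

/-- the functionals `φ` with `tv x φ ∈ A` -/
def fnA (x : Fin n → F) (A : Subgroup (SpecialLinearGroup (Fin n) F)) :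
    AddSubgroup (Fin n → F) where
  carrier := {φ | ∃ h : φ ⬝ᵥ x = 0, tv x φ h ∈ A}
  zero_mem' := ⟨zero_dotProduct x, by rw [tv_zero_right]; exact A.one_mem⟩
  add_mem' := by
    rintro φ ψ ⟨h, hφ⟩ ⟨h', hψ⟩
    refine ⟨by rw [add_dotProduct, h, h', add_zero], ?_⟩
    have := A.mul_mem hφ hψ
    rwa [tv_mul_center] at this
  neg_mem' := by
    rintro φ ⟨h, hφ⟩
    refine ⟨by rw [neg_dotProduct, h, neg_zero], ?_⟩
    have := A.inv_mem hφ
    rwa [tv_inv] at this

theorem mem_fnA {x φ : Fin n → F} {A : Subgroup (SpecialLinearGroup (Fin n) F)} :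
    φ ∈ fnA x A ↔ ∃ h : φ ⬝ᵥ x = 0, tv x φ h ∈ A := Iff.rfl

/-- the transvections with centre `x` whose functional lies in `C` -/
def Sg (x : Fin n → F) (C : AddSubgroup (Fin n → F)) :
    Subgroup (SpecialLinearGroup (Fin n) F) where
  carrier := {g | ∃ φ ∈ C, ∃ h : φ ⬝ᵥ x = 0, g = tv x φ h}
  one_mem' := ⟨0, C.zero_mem, zero_dotProduct x, (tv_zero_right x).symm⟩
  mul_mem' := by
    rintro _ _ ⟨φ, hφ, h, rfl⟩ ⟨ψ, hψ, h', rfl⟩
    exact ⟨φ + ψ, C.add_mem hφ hψ, _, tv_mul_center x φ ψ h h'⟩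
  inv_mem' := by
    rintro _ ⟨φ, hφ, h, rfl⟩
    exact ⟨-φ, C.neg_mem hφ, _, tv_inv x φ h⟩

theorem tv_inj {x φ ψ : Fin n → F} (hx : x ≠ 0) (h : φ ⬝ᵥ x = 0) (h' : ψ ⬝ᵥ x = 0)
    (he : tv x φ h = tv x ψ h') : φ = ψ := by
  have h1 : vecMulVec x φ = vecMulVec x ψ := by
    have := congrArg Subtype.val he
    rw [tv_coe, tv_coe] at this
    exact add_left_cancel this
  obtain ⟨i0, hi0⟩ := Function.ne_iff.mp hx
  ext j
  have := congrFun (congrFun h1 i0) j
  rw [vecMulVec_apply, vecMulVec_apply] at this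
  exact mul_left_cancel₀ hi0 this

theorem conj_tv_tv {x y φ χ : Fin n → F} (hχy : χ ⬝ᵥ y = 0) (hχx : χ ⬝ᵥ x = 0)
    (h : φ ⬝ᵥ x = 0) :
    tv y χ hχy * tv x φ h * (tv y χ hχy)⁻¹ =
      tv x (φ - (φ ⬝ᵥ y) • χ)
        (by rw [sub_dotProduct, smul_dotProduct, h, hχx, smul_zero, sub_zero]) := by
  rw [conj_tv]
  apply tv_eq_of_vecMulVec_eq
  rw [tv_mulVec, hχx, zero_smul, add_zero, tv_inv, vecMul_tv, smul_neg, sub_eq_add_neg]

/-- the functional `ψ ↦ ψ ⬝ᵥ x` -/
def dotL (x : Fin n → F) : (Fin n → F) →ₗ[F] F where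
  toFun ψ := ψ ⬝ᵥ x
  map_add' a b := add_dotProduct a b x
  map_smul' c a := by simp [smul_dotProduct]

theorem dotL_apply (x ψ : Fin n → F) : dotL x ψ = ψ ⬝ᵥ x := rfl

theorem mem_ker_dotL {x ψ : Fin n → F} : ψ ∈ LinearMap.ker (dotL x) ↔ ψ ⬝ᵥ x = 0 := by
  rw [LinearMap.mem_ker, dotL_apply]

theorem finrank_ker_dotL {x : Fin n → F} (hx : x ≠ 0) :
    Module.finrank F (LinearMap.ker (dotL x)) = n - 1 := by
  have h1 := LinearMap.finrank_range_add_finrank_ker (dotL x)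
  have h2 : LinearMap.range (dotL x) = ⊤ := by
    rw [LinearMap.range_eq_top]
    intro c
    obtain ⟨i0, hi0⟩ := Function.ne_iff.mp hx
    rw [Pi.zero_apply] at hi0
    refine ⟨Pi.single i0 (c / x i0), ?_⟩
    rw [dotL_apply, single_dotProduct]
    field_simp
  rw [h2, finrank_top, Module.finrank_self, Module.finrank_fintype_fun_eq_card,
    Fintype.card_fin] at h1
  omega

theorem card_ker_dotL [Fintype F] {x : Fin n → F} (hx : x ≠ 0) :
    Nat.card (LinearMap.ker (dotL x)) = Fintype.card F ^ (n - 1) := by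
  rw [Module.natCard_eq_pow_finrank (K := F), finrank_ker_dotL hx, Nat.card_eq_fintype_card]

theorem card_fnA {x : Fin n → F} (hx : x ≠ 0) (A : Subgroup (SpecialLinearGroup (Fin n) F))
    (hA : A ≤ Qc x) : Nat.card (fnA x A) = Nat.card A := by
  have hP : ∀ φ : fnA x A, φ.1 ⬝ᵥ x = 0 := fun φ => by
    obtain ⟨h, -⟩ := φ.2
    exact h
  have hM : ∀ φ : fnA x A, tv x φ.1 (hP φ) ∈ A := fun φ => by
    obtain ⟨h, h'⟩ := φ.2
    exact h'
  apply Nat.card_congr
  refine Equiv.ofBijective (fun φ => ⟨tv x φ.1 (hP φ), hM φ⟩) ⟨?_, ?_⟩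
  · intro φ ψ he
    have := congrArg Subtype.val he
    exact Subtype.ext (tv_inj hx (hP φ) (hP ψ) this)
  · rintro ⟨g, hg⟩
    obtain ⟨φ, h, rfl⟩ := hA hg
    exact ⟨⟨φ, h, hg⟩, rfl⟩

/-- the key closure property of `fnA x A` under the dichotomy -/
theorem key_claim [Fintype F] {x : Fin n → F} (hx : x ≠ 0)
    (A : Subgroup (SpecialLinearGroup (Fin n) F)) (hA : A ≤ Qc x)
    (hdich : ∀ g ∈ Lx x, A.map (MulAut.conj g).toMonoidHom = A ∨
      A ⊔ A.map (MulAut.conj g).toMonoidHom = Qc x)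
    (hcard : Fintype.card F * Nat.card A = Fintype.card F ^ (n - 1))
    {φ0 : Fin n → F} (hφ0 : φ0 ∈ fnA x A) {y : Fin n → F} (hy : φ0 ⬝ᵥ y = 0)
    {φ : Fin n → F} (hφ : φ ∈ fnA x A) : (φ ⬝ᵥ y) • φ0 ∈ fnA x A := by
  obtain ⟨hφ0x, hφ0A⟩ := hφ0
  obtain ⟨hφx, hφA⟩ := hφ
  have htL : tv y φ0 hy ∈ Lx x := tv_mem_Lx hy hφ0x
  rcases hdich _ htL with h1 | h1
  · have hmem : tv y φ0 hy * tv x φ hφx * (tv y φ0 hy)⁻¹ ∈ A := by
      rw [← h1]
      exact ⟨tv x φ hφx, hφA, rfl⟩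
    rw [conj_tv_tv hy hφ0x hφx] at hmem
    have h2 : φ - (φ ⬝ᵥ y) • φ0 ∈ fnA x A := ⟨_, hmem⟩
    have h3 : φ ∈ fnA x A := ⟨hφx, hφA⟩
    have := (fnA x A).sub_mem h3 h2
    rwa [sub_sub_cancel] at this
  · exfalso
    set C : AddSubgroup (Fin n → F) := fnA x A ⊔ (Submodule.span F {φ0}).toAddSubgroup with hC
    have hle1 : A ≤ Sg x C := by
      intro g hg
      obtain ⟨ψ, h, rfl⟩ := hA hg
      exact ⟨ψ, AddSubgroup.mem_sup_left ⟨h, hg⟩, h, rfl⟩
    have hle2 : A.map (MulAut.conj (tv y φ0 hy)).toMonoidHom ≤ Sg x C := by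
      rintro _ ⟨g, hg, rfl⟩
      obtain ⟨ψ, h, rfl⟩ := hA hg
      refine ⟨ψ - (ψ ⬝ᵥ y) • φ0, ?_, _, conj_tv_tv hy hφ0x h⟩
      apply AddSubgroup.sub_mem
      · exact AddSubgroup.mem_sup_left ⟨h, hg⟩
      · exact AddSubgroup.mem_sup_right
          (Submodule.smul_mem _ _ (Submodule.mem_span_singleton_self φ0))
    have hle : Qc x ≤ Sg x C := by
      rw [← h1]
      exact sup_le hle1 hle2
    let m : (fnA x A) × F → LinearMap.ker (dotL x) := fun p => ⟨p.1.1 + p.2 • φ0, by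
      rw [mem_ker_dotL, add_dotProduct, smul_dotProduct, hφ0x, smul_zero, add_zero]
      obtain ⟨h, -⟩ := p.1.2
      exact h⟩
    have hsurj : Function.Surjective m := by
      rintro ⟨ψ, hψ⟩
      have hψ' := mem_ker_dotL.mp hψ
      obtain ⟨φ', hφ'C, h', he⟩ := hle (tv_mem_Qc x ψ hψ')
      have hψφ' : ψ = φ' := tv_inj hx hψ' h' he
      subst hψφ'
      obtain ⟨a, ha, z, hz, hsum⟩ := AddSubgroup.mem_sup.mp hφ'C
      obtain ⟨c, rfl⟩ := Submodule.mem_span_singleton.mp hz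
      exact ⟨(⟨a, ha⟩, c), Subtype.ext hsum⟩
    have hcardle : Nat.card ((fnA x A) × F) ≤ Nat.card (LinearMap.ker (dotL x)) := by
      rw [Nat.card_prod, card_fnA hx A hA, card_ker_dotL hx, Nat.card_eq_fintype_card (α := F),
        mul_comm, hcard]
    have hbij := hsurj.bijective_of_nat_card_le hcardle
    have h0 : m (⟨φ0, hφ0x, hφ0A⟩, 0) = m (0, 1) := by
      apply Subtype.ext
      show φ0 + (0 : F) • φ0 = (0 : Fin n → F) + (1 : F) • φ0
      rw [zero_smul, add_zero, zero_add, one_smul]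
    have h2 := hbij.1 h0
    have h01 : (0 : F) = 1 := congrArg Prod.snd h2
    exact zero_ne_one h01

/-- (M4) under the dichotomy a subgroup of index `q` of `Qc x` is some `Qc2 x y`. -/
theorem eq_Qc2_of_dichotomy [Fintype F] (hn : 3 ≤ n) {x : Fin n → F} (hx : x ≠ 0)
    (A : Subgroup (SpecialLinearGroup (Fin n) F)) (hA : A ≤ Qc x)
    (hdich : ∀ g ∈ Lx x, A.map (MulAut.conj g).toMonoidHom = A ∨
      A ⊔ A.map (MulAut.conj g).toMonoidHom = Qc x)
    (hcard : Fintype.card F * Nat.card A = Fintype.card F ^ (n - 1)) :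
    ∃ y : Fin n → F, (∀ c : F, y ≠ c • x) ∧ A = Qc2 x y := by
  classical
  have hq2 : 2 ≤ Fintype.card F := Fintype.one_lt_card
  have hcA : Nat.card (fnA x A) = Fintype.card F ^ (n - 2) := by
    rw [card_fnA hx A hA]
    have h1 : Fintype.card F * Nat.card A = Fintype.card F * Fintype.card F ^ (n - 2) := by
      rw [hcard, ← pow_succ']
      congr 1
      omega
    exact Nat.eq_of_mul_eq_mul_left (by omega) h1
  -- `fnA x A` is closed under scalar multiplication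
  have hsmul : ∀ (c : F) (φ0 : Fin n → F), φ0 ∈ fnA x A → c • φ0 ∈ fnA x A := by
    intro c φ0 hφ0
    by_cases hex : ∃ φ ∈ fnA x A, ∀ c' : F, φ ≠ c' • φ0
    · obtain ⟨φ, hφ, hne⟩ := hex
      obtain ⟨l, hl1, hl0⟩ := Cfsg.Agent.Helper14.AutPSL.exists_dot_pair hne
      have hy : φ0 ⬝ᵥ (c • l) = 0 := by rw [dotProduct_smul, dotProduct_comm, hl0, smul_zero]
      have h1 := key_claim hx A hA hdich hcard hφ0 hy hφ
      rwa [dotProduct_smul, dotProduct_comm, hl1, smul_eq_mul, mul_one] at h1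
    · push Not at hex
      choose! f hf using hex
      have hinj : Function.Injective (fun φ : fnA x A => f φ.1) := by
        intro φ ψ he
        apply Subtype.ext
        rw [hf φ.1 φ.2, hf ψ.1 ψ.2]
        have he' : f φ.1 = f ψ.1 := he
        rw [he']
      have hle : Nat.card F ≤ Nat.card (fnA x A) := by
        rw [hcA, Nat.card_eq_fintype_card]
        exact Nat.le_self_pow (by omega) _
      have hbij := hinj.bijective_of_nat_card_le hle
      obtain ⟨φ, hφ⟩ := hbij.2 c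
      have hφ' : f φ.1 = c := hφ
      have h1 := hf φ.1 φ.2
      rw [hφ'] at h1
      rw [← h1]
      exact φ.2
  let As : Submodule F (Fin n → F) :=
    { carrier := fnA x A
      add_mem' := (fnA x A).add_mem
      zero_mem' := (fnA x A).zero_mem
      smul_mem' := fun c φ h => hsmul c φ h }
  have hAsP : As ≤ LinearMap.ker (dotL x) := by
    intro φ hφ
    obtain ⟨h, -⟩ := hφ
    exact mem_ker_dotL.mpr h
  have hcAs : Nat.card As = Fintype.card F ^ (n - 2) := hcA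
  have hfAs : Module.finrank F As = n - 2 := by
    have h := Module.natCard_eq_pow_finrank (K := F) (V := As)
    rw [hcAs, Nat.card_eq_fintype_card] at h
    exact (Nat.pow_right_injective hq2 h).symm
  have hlt : As < LinearMap.ker (dotL x) := by
    refine lt_of_le_of_ne hAsP ?_
    intro he
    have h1 := finrank_ker_dotL hx
    rw [← he, hfAs] at h1
    omega
  obtain ⟨ψ1, hψ1P, hψ1A⟩ := SetLike.exists_of_lt hlt
  obtain ⟨l, hl1, hl0⟩ := Cfsg.Agent.Helper14.AutPSL.exists_dot_of_notMem hψ1A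
  refine ⟨l, ?_, ?_⟩
  · intro c hc
    rw [hc, smul_dotProduct, dotProduct_comm, mem_ker_dotL.mp hψ1P, smul_zero] at hl1
    exact zero_ne_one hl1
  · let P2 : Submodule F (Fin n → F) := LinearMap.ker (dotL x) ⊓ LinearMap.ker (dotL l)
    have hAsP2 : As ≤ P2 := fun φ hφ =>
      ⟨hAsP hφ, by rw [SetLike.mem_coe, mem_ker_dotL, dotProduct_comm]; exact hl0 φ hφ⟩
    have hP2lt : P2 < LinearMap.ker (dotL x) := by
      refine lt_of_le_of_ne inf_le_left ?_
      intro he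
      have h1 : ψ1 ∈ P2 := by rw [he]; exact hψ1P
      have h2 := mem_ker_dotL.mp h1.2
      rw [dotProduct_comm, hl1] at h2
      exact one_ne_zero h2
    have hfin := Submodule.finrank_lt_finrank_of_lt hP2lt
    rw [finrank_ker_dotL hx] at hfin
    have heq : As = P2 := Submodule.eq_of_le_of_finrank_le hAsP2 (by rw [hfAs]; omega)
    ext g
    constructor
    · intro hg
      obtain ⟨φ, h, rfl⟩ := hA hg
      have hφ : φ ∈ As := ⟨h, hg⟩
      have h2 := (hAsP2 hφ).2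
      exact ⟨φ, h, mem_ker_dotL.mp h2, rfl⟩
    · rintro ⟨φ, h, hy, rfl⟩
      have h1 : φ ∈ P2 := ⟨mem_ker_dotL.mpr h, mem_ker_dotL.mpr hy⟩
      rw [← heq] at h1
      obtain ⟨h', hm⟩ := h1
      exact hm

end Cfsg.Agent.Helper48.MinDeg
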