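import Mathlib
import Cfsg.Agent.Helper1.ShultDefs
import Cfsg.Agent.Helper1.WardT
import Cfsg.Agent.Helper31.WardW34
import Cfsg.Agent.Helper60.WardW2

/-!
# Shult's theorem for `S₃` (S4305), piece (Am): Lemma A from its cases (helper48, for helper1)

`lemmaA_fixed` proves Lemma A in a fixed ambient group from the pieces (Aσ), (Aτ), (O0), (O1),
which are taken as hypotheses.
-/

set_option autoImplicit false

namespace Cfsg.Agent.Helper48.Shult

open Subgroup Cfsg.Agent.Helper1.Shult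
open scoped commutatorElement

section tools

variable {H : Type*} [Group H]

theorem conj_mem_centralizer {W : Subgroup H} {g : H} (hg : g ∈ normalizer (W : Set H)) {h : H}
    (hh : h ∈ centralizer (W : Set H)) : g * h * g⁻¹ ∈ centralizer (W : Set H) := by
  rw [mem_centralizer_iff] at hh ⊢
  intro w hw
  have hw' : g⁻¹ * w * g ∈ W := by
    have := (mem_normalizer_iff.1 (inv_mem hg) w).1 hw
    simpa using this
  have h2 := hh _ hw'
  calc w * (g * h * g⁻¹) = g * ((g⁻¹ * w * g) * h) * g⁻¹ := by group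
    _ = g * (h * (g⁻¹ * w * g)) * g⁻¹ := by rw [h2]
    _ = g * h * g⁻¹ * w := by group

theorem mem_normalizer_centralizer {W : Subgroup H} {g : H} (hg : g ∈ normalizer (W : Set H)) :
    g ∈ normalizer ((centralizer (W : Set H) : Subgroup H) : Set H) := by
  rw [mem_normalizer_iff]
  intro h
  constructor
  · exact conj_mem_centralizer hg
  · intro hh
    have := conj_mem_centralizer (inv_mem hg) hh
    have he : g⁻¹ * (g * h * g⁻¹) * g⁻¹⁻¹ = h := by group
    rwa [he] at this

theorem mem_normalizer_inf {A B : Subgroup H} {g : H} (hA : g ∈ normalizer (A : Set H))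
    (hB : g ∈ normalizer (B : Set H)) : g ∈ normalizer ((A ⊓ B : Subgroup H) : Set H) := by
  rw [mem_normalizer_iff] at hA hB ⊢
  intro h
  rw [mem_inf, mem_inf, hA h, hB h]

theorem map_conj_eq_of_mem_normalizer {A : Subgroup H} {g : H} (hg : g ∈ normalizer (A : Set H)) :
    A.map (MulAut.conj g).toMonoidHom = A := by
  ext x
  constructor
  · rintro ⟨y, hy, rfl⟩
    simpa [MulAut.conj_apply] using (mem_normalizer_iff.1 hg y).1 hy
  · intro hx
    refine ⟨g⁻¹ * x * g, ?_, by simp [MulAut.conj_apply, mul_assoc]⟩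
    have := (mem_normalizer_iff.1 (inv_mem hg) x).1 hx
    simpa using this

theorem mem_normalizer_of_map_conj_eq {A : Subgroup H} {g : H}
    (h : A.map (MulAut.conj g).toMonoidHom = A) : g ∈ normalizer (A : Set H) := by
  rw [mem_normalizer_iff]
  intro x
  constructor
  · intro hx
    rw [← h]
    exact ⟨x, hx, by simp [MulAut.conj_apply]⟩
  · intro hx
    rw [← h] at hx
    obtain ⟨y, hy, hyx⟩ := hx
    have h2 : g * y * g⁻¹ = g * x * g⁻¹ := by simpa [MulAut.conj_apply] using hyx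
    have : y = x := mul_left_cancel (mul_right_cancel h2)
    rwa [← this]

theorem mem_normalizer_commutator {A B : Subgroup H} {g : H} (hA : g ∈ normalizer (A : Set H))
    (hB : g ∈ normalizer (B : Set H)) : g ∈ normalizer ((⁅A, B⁆ : Subgroup H) : Set H) := by
  apply mem_normalizer_of_map_conj_eq
  rw [map_commutator, map_conj_eq_of_mem_normalizer hA, map_conj_eq_of_mem_normalizer hB]

theorem inv_of_inf {σ τ : H} {A B : Subgroup H} (hA : Inv σ τ A) (hB : Inv σ τ B) :
    Inv σ τ (A ⊓ B) := ⟨mem_normalizer_inf hA.1 hB.1, mem_normalizer_inf hA.2 hB.2⟩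

theorem inv_of_centralizer {σ τ : H} {A : Subgroup H} (hA : Inv σ τ A) :
    Inv σ τ (centralizer (A : Set H)) :=
  ⟨mem_normalizer_centralizer hA.1, mem_normalizer_centralizer hA.2⟩

theorem inv_of_commutator {σ τ : H} {A B : Subgroup H} (hA : Inv σ τ A) (hB : Inv σ τ B) :
    Inv σ τ ⁅A, B⁆ := ⟨mem_normalizer_commutator hA.1 hB.1, mem_normalizer_commutator hA.2 hB.2⟩

theorem fix_mono {σ τ : H} {A B : Subgroup H} (h : A ≤ B) : Fix σ τ A ≤ Fix σ τ B :=
  inf_le_inf_right _ h

theorem isEA_mono {r : ℕ} {A B : Subgroup H} (h : A ≤ B) (hB : IsEA r B) : IsEA r A :=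
  ⟨fun u hu v hv => hB.1 u (h hu) v (h hv), fun w hw => hB.2 w (h hw)⟩

theorem centralizer_anti {A B : Subgroup H} (h : A ≤ B) :
    centralizer (B : Set H) ≤ centralizer (A : Set H) :=
  centralizer_le (by exact_mod_cast h)

end tools

section main

variable {H : Type*} [Group H] [Finite H]

/-- Lemma A in a fixed ambient group, from the pieces (Aσ), (Aτ), (O0), (O1). -/
theorem lemmaA_fixed (q r : ℕ) [Fact q.Prime] [Fact r.Prime] (σ τ : H) (Q : Subgroup H)
    (hS : S3Pair σ τ) (hq2 : q ≠ 2) (hq3 : q ≠ 3) (hr2 : r ≠ 2) (hr3 : r ≠ 3) (hqr : q ≠ r)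
    (hQ : IsPGroup q Q) (hQinv : Inv σ τ Q)
    -- (Aσ)
    (hAσ : ∀ {W Z1 K : Subgroup H}, ACfg q r σ τ Q W Z1 K → ∀ D : Subgroup H, IsHyp q Z1 K D →
      σ ∈ normalizer (D : Set H) →
      ⁅Q, Q⁆ ≤ centralizer ((W ⊓ centralizer (D : Set H) : Subgroup H) : Set H))
    -- (Aτ)
    (hAτ : ∀ {W Z1 K : Subgroup H}, ACfg q r σ τ Q W Z1 K → ∀ D : Subgroup H, IsHyp q Z1 K D →
      τ ∈ normalizer (D : Set H) → σ ∉ normalizer (D : Set H) →
      ⁅Q, Q⁆ ≤ centralizer ((W ⊓ centralizer (D : Set H) : Subgroup H) : Set H))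
    -- (O0)
    (hO0a : ∀ {T S0 D : Subgroup H}, IsHyp q T S0 D → ∀ g : H, g ∈ normalizer (T : Set H) →
      g ∈ normalizer (S0 : Set H) → IsHyp q T S0 (D.map (MulAut.conj g).toMonoidHom))
    (hO0b : ∀ (V D : Subgroup H) (g : H), g ∈ normalizer (V : Set H) → ∀ v : H,
      (v ∈ V ⊓ centralizer (D : Set H) ↔
        g * v * g⁻¹ ∈ V ⊓ centralizer ((D.map (MulAut.conj g).toMonoidHom : Subgroup H) : Set H)))
    -- (O1)
    (hO1 : ∀ {V T S0 : Subgroup H}, HypSet q V T S0 → Inv σ τ V → Inv σ τ T → Inv σ τ S0 →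
      Fix σ τ V = ⊥ → ∀ D : Subgroup H, IsHyp q T S0 D → σ ∉ normalizer (D : Set H) →
      (∀ i : ℕ, σ ^ i * τ * σ⁻¹ ^ i ∉ normalizer (D : Set H)) → V ⊓ centralizer (D : Set H) = ⊥) :
    ∀ (n : ℕ) (W : Subgroup H), Nat.card W = n → IsEA r W → IsPGroup r W → Inv σ τ W →
      Q ≤ normalizer (W : Set H) → Fix σ τ W = ⊥ → Fix σ τ Q ≤ centralizer (W : Set H) →
      ⁅Q, Q⁆ ≤ centralizer (W : Set H) := by
  intro n
  induction n using Nat.strong_induction_on with
  | _ n ih =>
  intro W hWn hW hWr hWinv hQW hfixW hfixQ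
  have hq : q.Prime := Fact.out
  have hr : r.Prime := Fact.out
  set K : Subgroup H := Q ⊓ centralizer (W : Set H) with hK
  have hKQ : K ≤ Q := inf_le_left
  by_cases hKeq : K = Q
  · -- Q centralizes W
    have hQc : Q ≤ centralizer (W : Set H) := by
      rw [← hKeq]; exact inf_le_right
    have hle : ⁅Q, Q⁆ ≤ Q := by
      rw [commutator_le]
      intro a ha b hb
      rw [commutatorElement_def]
      exact Q.mul_mem (Q.mul_mem (Q.mul_mem ha hb) (Q.inv_mem ha)) (Q.inv_mem hb)
    exact hle.trans hQc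
  -- K is normalized by Q, σ, τ
  have hQnK : Q ≤ normalizer (K : Set H) := fun x hx =>
    mem_normalizer_inf (le_normalizer hx) (mem_normalizer_centralizer (hQW hx))
  have hKinv : Inv σ τ K := inv_of_inf hQinv (inv_of_centralizer hWinv)
  obtain ⟨Z1, hKZ, hZQ, hZne, hZcent, hZpow, hZnorm⟩ :=
    Cfsg.Agent.Helper1.Ward.exists_T (s := q) Q K hQ hKQ hQnK hKeq
  have hZinv : Inv σ τ Z1 := ⟨hZnorm σ hQinv.1 hKinv.1, hZnorm τ hQinv.2 hKinv.2⟩
  have hQnZ : Q ≤ normalizer (Z1 : Set H) := fun x hx =>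
    hZnorm x (le_normalizer hx) (hQnK hx)
  have hZW : Z1 ≤ normalizer (W : Set H) := hZQ.trans hQW
  have hZq : IsPGroup q Z1 := hQ.to_le hZQ
  have hcopWZ : (Nat.card W).Coprime (Nat.card Z1) := by
    obtain ⟨a, ha⟩ := hWr.exists_card_eq
    obtain ⟨b, hb⟩ := hZq.exists_card_eq
    rw [ha, hb]
    exact Nat.Coprime.pow _ _ ((Nat.coprime_primes hr hq).2 (Ne.symm hqr))
  have hcopWq : (Nat.card W).Coprime q := by
    obtain ⟨a, ha⟩ := hWr.exists_card_eq
    rw [ha]
    exact Nat.Coprime.pow_left _ ((Nat.coprime_primes hr hq).2 (Ne.symm hqr))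
  obtain ⟨hsplit1, hsplit2⟩ :=
    Cfsg.Agent.Helper31.Ward.abelian_coprime_split W Z1 hW.1 hZW hcopWZ
  set W1 : Subgroup H := W ⊓ centralizer (Z1 : Set H) with hW1
  set W2 : Subgroup H := ⁅W, Z1⁆ with hW2
  have hW1W : W1 ≤ W := inf_le_left
  have hW2W : W2 ≤ W := by
    rw [hW2, commutator_le]
    intro w hw z hz
    have h1 : z * w⁻¹ * z⁻¹ ∈ W := (mem_normalizer_iff.1 (hZW hz) w⁻¹).1 (W.inv_mem hw)
    have : w * (z * w⁻¹ * z⁻¹) ∈ W := W.mul_mem hw h1
    have he : ⁅w, z⁆ = w * (z * w⁻¹ * z⁻¹) := by rw [commutatorElement_def]; group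
    rw [he]; exact this
  -- W1 ≠ W
  have hW1ne : W1 ≠ W := by
    intro h
    apply hZne
    apply le_antisymm _ hKZ
    intro z hz
    refine mem_inf.2 ⟨hZQ hz, ?_⟩
    have hWc : W ≤ centralizer (Z1 : Set H) := by rw [← h]; exact inf_le_right
    exact (le_centralizer_iff.1 hWc) hz
  -- a general consequence: if ⁅Q,Q⁆ centralizes W1 and W2 then it centralizes W
  have hcombine : ⁅Q, Q⁆ ≤ centralizer (W1 : Set H) → ⁅Q, Q⁆ ≤ centralizer (W2 : Set H) →
      ⁅Q, Q⁆ ≤ centralizer (W : Set H) := by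
    intro h1 h2
    rw [le_centralizer_iff] at h1 h2 ⊢
    exact hsplit1.trans (sup_le h1 h2)
  by_cases hW1bot : W1 = ⊥
  · -- the configuration ACfg
    have hc : ACfg q r σ τ Q W Z1 K :=
      { hS := hS, hq2 := hq2, hq3 := hq3, hr2 := hr2, hr3 := hr3, hqr := hqr, hQ := hQ, hW := hW,
        hWr := hWr, hQinv := hQinv, hWinv := hWinv, hQW := hQW, hfixW := hfixW, hfixQ := hfixQ,
        hK := hK, hKZ := hKZ, hZQ := hZQ, hZcent := hZcent, hZpow := hZpow, hZinv := hZinv,
        hfix := hW1bot }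
    have hKc : K ≤ centralizer (W : Set H) := inf_le_right
    have hs : HypSet q W Z1 K :=
      { hVab := hW.1, hTV := hZW, hTs := hZq, hcop := hcopWq, hS0T := hKZ, hS0 := hKc,
        hcomm := fun t ht u hu => hZcent t ht u (hZQ hu), hpow := hZpow, hfix := hW1bot }
    have hgen := Cfsg.Agent.Helper60.WardW2.gen_hyperplanes (s := q) W Z1 K hW.1 hZW hcopWq hKZ hKc
      (fun t ht u hu => hZcent t ht u (hZQ hu)) hZpow hW1bot
    rw [le_centralizer_iff]
    refine hgen.trans (iSup_le ?_)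
    rintro ⟨D, hD⟩
    have hDhyp : IsHyp q Z1 K D := hD
    rw [← le_centralizer_iff]
    show ⁅Q, Q⁆ ≤ centralizer ((W ⊓ centralizer (D : Set H) : Subgroup H) : Set H)
    by_cases hσD : σ ∈ normalizer (D : Set H)
    · exact hAσ hc D hDhyp hσD
    by_cases hτD : ∃ i : ℕ, σ ^ i * τ * σ⁻¹ ^ i ∈ normalizer (D : Set H)
    · obtain ⟨i, hi⟩ := hτD
      -- g = σ^i, D' = g⁻¹ D g
      set g : H := σ ^ i with hg
      have hgZ : g ∈ normalizer (Z1 : Set H) := pow_mem hZinv.1 i
      have hgK : g ∈ normalizer (K : Set H) := pow_mem hKinv.1 i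
      have hgW : g ∈ normalizer (W : Set H) := pow_mem hWinv.1 i
      have hgQ : g ∈ normalizer (Q : Set H) := pow_mem hQinv.1 i
      set D' : Subgroup H := D.map (MulAut.conj g⁻¹).toMonoidHom with hD'
      have hD'hyp : IsHyp q Z1 K D' := hO0a hDhyp g⁻¹ (inv_mem hgZ) (inv_mem hgK)
      have hDD' : D'.map (MulAut.conj g).toMonoidHom = D := by
        rw [hD', map_map]
        have : ((MulAut.conj g).toMonoidHom.comp (MulAut.conj g⁻¹).toMonoidHom) = MonoidHom.id H := by
          ext x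
          simp [MulAut.conj_apply, mul_assoc]
        rw [this, map_id]
      have hmemD' : ∀ x, x ∈ D' ↔ g * x * g⁻¹ ∈ D := by
        intro x
        constructor
        · rintro ⟨y, hy, rfl⟩
          simpa [MulAut.conj_apply, mul_assoc] using hy
        · intro hx
          exact ⟨g * x * g⁻¹, hx, by simp [mul_assoc]⟩
      -- τ normalizes D'
      have hτD' : τ ∈ normalizer (D' : Set H) := by
        rw [mem_normalizer_iff]
        intro x
        rw [hmemD', hmemD']
        have h3 := mem_normalizer_iff.1 hi (g * x * g⁻¹)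
        have hinvpow : σ⁻¹ ^ i = g⁻¹ := by rw [hg, inv_pow]
        rw [hinvpow] at h3
        have he : g * τ * g⁻¹ * (g * x * g⁻¹) * (g * τ * g⁻¹)⁻¹ = g * (τ * x * τ⁻¹) * g⁻¹ := by group
        rw [he] at h3
        exact h3
      have hσD' : σ ∉ normalizer (D' : Set H) := by
        intro h
        apply hσD
        rw [mem_normalizer_iff] at h ⊢
        intro x
        have hcomm : g * σ = σ * g := by rw [hg]; exact (Commute.pow_self σ i).eq
        have h3 := h (g⁻¹ * x * g)
        rw [hmemD', hmemD'] at h3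
        have he1 : g * (g⁻¹ * x * g) * g⁻¹ = x := by group
        have he2 : g * (σ * (g⁻¹ * x * g) * σ⁻¹) * g⁻¹ = σ * x * σ⁻¹ := by
          have hc' : g * σ * g⁻¹ = σ := by rw [hcomm]; group
          calc g * (σ * (g⁻¹ * x * g) * σ⁻¹) * g⁻¹
              = (g * σ * g⁻¹) * x * (g * σ * g⁻¹)⁻¹ := by group
            _ = σ * x * σ⁻¹ := by rw [hc']
        rw [he1, he2] at h3
        exact h3
      have hmain := hAτ hc D' hD'hyp hτD' hσD'
      -- conjugate back
      intro x hx
      rw [mem_centralizer_iff]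
      intro w hw
      have hw' : g⁻¹ * w * g ∈ W ⊓ centralizer (D' : Set H) := by
        have := (hO0b W D' g hgW (g⁻¹ * w * g)).2
        apply this
        rw [hDD']
        have he : g * (g⁻¹ * w * g) * g⁻¹ = w := by group
        rw [he]; exact hw
      have hx' : g⁻¹ * x * g ∈ ⁅Q, Q⁆ := by
        have hn : g⁻¹ ∈ normalizer ((⁅Q, Q⁆ : Subgroup H) : Set H) :=
          mem_normalizer_commutator (inv_mem hgQ) (inv_mem hgQ)
        have := (mem_normalizer_iff.1 hn x).1 hx
        simpa using this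
      have h5 := (mem_centralizer_iff.1 (hmain hx')) _ hw'
      calc w * x = g * ((g⁻¹ * w * g) * (g⁻¹ * x * g)) * g⁻¹ := by group
        _ = g * ((g⁻¹ * x * g) * (g⁻¹ * w * g)) * g⁻¹ := by rw [h5]
        _ = x * w := by group
    · push Not at hτD
      have hbot := hO1 hs hWinv hZinv hKinv hfixW D hDhyp hσD hτD
      rw [hbot]
      intro x _
      rw [mem_centralizer_iff]
      intro w hw
      have : w = 1 := by simpa using hw
      rw [this]; simp
  · -- both factors proper: induction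
    have hW2ne : W2 ≠ W := by
      intro h
      apply hW1bot
      have : W1 ⊓ W2 = W1 := by rw [h]; exact inf_eq_left.2 hW1W
      rw [← this]; exact hsplit2
    have hlt1 : Nat.card W1 < n := by
      rw [← hWn]
      rcases lt_or_eq_of_le (card_le_of_le hW1W) with h | h
      · exact h
      · exact absurd (eq_of_le_of_card_ge hW1W h.ge) hW1ne
    have hlt2 : Nat.card W2 < n := by
      rw [← hWn]
      rcases lt_or_eq_of_le (card_le_of_le hW2W) with h | h
      · exact h
      · exact absurd (eq_of_le_of_card_ge hW2W h.ge) hW2ne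
    have hW1inv : Inv σ τ W1 := inv_of_inf hWinv (inv_of_centralizer hZinv)
    have hW2inv : Inv σ τ W2 := inv_of_commutator hWinv hZinv
    have hQW1 : Q ≤ normalizer (W1 : Set H) := fun x hx =>
      mem_normalizer_inf (hQW hx) (mem_normalizer_centralizer (hQnZ hx))
    have hQW2 : Q ≤ normalizer (W2 : Set H) := fun x hx =>
      mem_normalizer_commutator (hQW hx) (hQnZ hx)
    have h1 := ih _ hlt1 W1 rfl (isEA_mono hW1W hW) (hWr.to_le hW1W) hW1inv hQW1
      (le_bot_iff.1 (hfixW ▸ fix_mono hW1W)) (hfixQ.trans (centralizer_anti hW1W))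
    have h2 := ih _ hlt2 W2 rfl (isEA_mono hW2W hW) (hWr.to_le hW2W) hW2inv hQW2
      (le_bot_iff.1 (hfixW ▸ fix_mono hW2W)) (hfixQ.trans (centralizer_anti hW2W))
    exact hcombine h1 h2

end main

end Cfsg.Agent.Helper48.Shult
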