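import Cfsg.Agent.Helper48.StronglyEmbedded

set_option autoImplicit false

namespace Cfsg.Agent.Helper48

open Cfsg

variable {G : Type*} [Group G] [Finite G] {p : ℕ} [Fact p.Prime]

/-- normalizers grow in `p`-groups (relative version inside `G`). -/
theorem lt_inf_normalizer_of_lt {Q Y : Subgroup G} (hYp : IsPGroup p Y) (h : Q < Y) :
    Q < Y ⊓ Subgroup.normalizer (Q : Set G) := by
  have : Group.IsNilpotent Y := hYp.isNilpotent
  have hnc : NormalizerCondition Y := Group.normalizerCondition_of_isNilpotent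
  have hlt' : Q.subgroupOf Y < ⊤ := by
    rw [lt_top_iff_ne_top]
    intro h'
    rw [Subgroup.subgroupOf_eq_top] at h'
    exact absurd (le_antisymm h.le h') h.ne
  have := hnc _ hlt'
  obtain ⟨y, hyN, hynot⟩ := SetLike.exists_of_lt this
  refine lt_of_le_of_ne (le_inf h.le Subgroup.le_normalizer) ?_
  intro heq
  apply hynot
  rw [Subgroup.mem_subgroupOf, heq]
  refine ⟨y.2, ?_⟩
  rw [← Subgroup.subgroupOf_normalizer_eq h.le, Subgroup.mem_subgroupOf] at hyN
  exact hyN

/-- If `N_Y(Y ∩ K) ≤ K` for a `p`-group `Y` then `Y ≤ K`. -/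
theorem le_of_inf_normalizer_le {Y K : Subgroup G} (hYp : IsPGroup p Y)
    (h : Y ⊓ Subgroup.normalizer ((Y ⊓ K : Subgroup G) : Set G) ≤ K) : Y ≤ K := by
  by_contra hle
  have hlt : Y ⊓ K < Y := lt_of_le_of_ne inf_le_left (fun h => hle (h ▸ inf_le_right))
  have h1 := lt_inf_normalizer_of_lt hYp hlt
  have h2 : Y ⊓ Subgroup.normalizer ((Y ⊓ K : Subgroup G) : Set G) ≤ Y ⊓ K := le_inf inf_le_left h
  exact absurd (lt_of_lt_of_le h1 h2) (lt_irrefl _)

/-- A `p`-group `R` normalizing a nontrivial `p`-group `Q` centralizes an element of order `p` of `Q`. -/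
theorem exists_orderOf_eq_prime_centralized {Q R : Subgroup G} (hRp : IsPGroup p R) (hQp : IsPGroup p Q)
    (hQ : Q ≠ ⊥) (hRN : R ≤ Subgroup.normalizer (Q : Set G)) :
    ∃ x ∈ Q, orderOf x = p ∧ R ≤ Subgroup.centralizer ({x} : Set G) := by
  let _ : MulAction R Q := MulAction.compHom Q (Subgroup.inclusion hRN)
  have hsmul : ∀ (r : R) (q : Q), ((r • q : Q) : G) = (r : G) * q * (r : G)⁻¹ := fun r q => rfl
  have hnt : Nontrivial Q := (Subgroup.nontrivial_iff_ne_bot Q).mpr hQ
  have hcard : p ∣ Nat.card Q := by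
    obtain ⟨n, hn0, hn⟩ := hQp.nontrivial_iff_card.mp hnt
    exact hn.symm ▸ dvd_pow_self _ (ne_of_gt hn0)
  have h1 : (1 : Q) ∈ MulAction.fixedPoints R Q := by
    intro r
    apply Subtype.ext
    rw [hsmul]; simp
  obtain ⟨b, hb, hb1⟩ := hRp.exists_fixed_point_of_prime_dvd_card_of_fixed_point Q hcard h1
  have hbc : ∀ r ∈ R, r * (b : G) * r⁻¹ = b := by
    intro r hr
    have := hb ⟨r, hr⟩
    have := congrArg (Subtype.val) this
    rwa [hsmul] at this
  -- b has order p^k with k ≥ 1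
  obtain ⟨k, hk⟩ := exists_orderOf_eq_prime_pow_iff.mpr (hQp b)
  rw [Subgroup.orderOf_coe b |>.symm] at hk
  have hk0 : k ≠ 0 := by
    rintro rfl
    rw [pow_zero, orderOf_eq_one_iff] at hk
    exact hb1 (Subtype.ext hk.symm)
  obtain ⟨j, rfl⟩ := Nat.exists_eq_succ_of_ne_zero hk0
  have hp0 : p ≠ 0 := (Fact.out : p.Prime).ne_zero
  refine ⟨(b : G) ^ (p ^ j), Q.pow_mem b.2 _, ?_, ?_⟩
  · rw [orderOf_pow_of_dvd (pow_ne_zero _ hp0) (by rw [hk]; exact pow_dvd_pow p (Nat.le_succ j)), hk,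
      pow_succ, Nat.mul_div_cancel_left _ (pow_pos (Nat.pos_of_ne_zero hp0) j)]
  · intro r hr
    rw [Subgroup.mem_centralizer_singleton_iff]
    have h2 := hbc r hr
    have h3 : r * (b : G) ^ (p ^ j) * r⁻¹ = (b : G) ^ (p ^ j) := by
      rw [← conj_pow, h2]  
    calc r * (b : G) ^ (p ^ j) = r * (b : G) ^ (p ^ j) * r⁻¹ * r := by group
      _ = (b : G) ^ (p ^ j) * r := by rw [h3]

/-- every `p`-subgroup of `H` is `H`-conjugate into a given Sylow `p`-subgroup of `H`. -/
theorem exists_conj_le_sylow' {H : Subgroup G} (S : Sylow p H)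
    {Q : Subgroup G} (hQH : Q ≤ H) (hQp : IsPGroup p Q) :
    ∃ h ∈ H, conjSub h Q ≤ (S : Subgroup H).map H.subtype := by
  have hQ' : IsPGroup p (Q.subgroupOf H) := hQp.comap_subtype
  obtain ⟨R, hR⟩ := hQ'.exists_le_sylow
  obtain ⟨h, hh⟩ := MulAction.exists_smul_eq H R S
  refine ⟨h, h.2, ?_⟩
  rintro _ ⟨y, hy, rfl⟩
  have hyH : y ∈ H := hQH hy
  have hyR : (⟨y, hyH⟩ : H) ∈ R := hR (by simpa [Subgroup.mem_subgroupOf] using hy)
  have : h * ⟨y, hyH⟩ * h⁻¹ ∈ (h • R : Sylow p H) := by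
    rw [← SetLike.mem_coe, Sylow.coe_smul]
    exact ⟨⟨y, hyH⟩, hyR, by simp [MulAut.smul_def]⟩
  rw [hh] at this
  exact ⟨_, this, by simp⟩

omit [Finite G] [Fact p.Prime] in
/-- the image of a Sylow `p`-subgroup of `H` is a maximal `p`-subgroup of `H`. -/
theorem sylow_map_maximal {H : Subgroup G} (S : Sylow p H) {R : Subgroup G} (hRp : IsPGroup p R)
    (hSR : (S : Subgroup H).map H.subtype ≤ R) (hRH : R ≤ H) : R = (S : Subgroup H).map H.subtype := by
  have h1 : IsPGroup p (R.subgroupOf H) := hRp.comap_subtype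
  have h2 : (S : Subgroup H) ≤ R.subgroupOf H := by
    intro x hx
    rw [Subgroup.mem_subgroupOf]
    exact hSR ⟨x, hx, rfl⟩
  have h3 := S.is_maximal' h1 h2
  rw [← h3, Subgroup.subgroupOf_map_subtype, inf_of_le_left hRH]

omit [Finite G] [Fact p.Prime] in
theorem centralizer_le_of_conj {H : Subgroup G} {h x : G} (hh : h ∈ H)
    (hc : Subgroup.centralizer ({h * x * h⁻¹} : Set G) ≤ H) : Subgroup.centralizer ({x} : Set G) ≤ H := by
  intro c hc'
  rw [Subgroup.mem_centralizer_singleton_iff] at hc'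
  have : h * c * h⁻¹ ∈ Subgroup.centralizer ({h * x * h⁻¹} : Set G) := by
    rw [Subgroup.mem_centralizer_singleton_iff]
    calc h * c * h⁻¹ * (h * x * h⁻¹) = h * (c * x) * h⁻¹ := by group
      _ = h * (x * c) * h⁻¹ := by rw [hc']
      _ = h * x * h⁻¹ * (h * c * h⁻¹) := by group
  have h1 := hc this
  have : c = h⁻¹ * (h * c * h⁻¹) * h := by group
  rw [this]
  exact H.mul_mem (H.mul_mem (H.inv_mem hh) h1) hh

/-- every Sylow `p`-subgroup of `N_G(Q)` lies in `H` when `1 ≠ Q ≤ H` and centralizers of elements of order `p`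
of `H` lie in `H`. -/
theorem sylow_normalizer_le {H : Subgroup G}
    (hcent : ∀ x : G, x ∈ H → orderOf x = p → Subgroup.centralizer ({x} : Set G) ≤ H)
    {Q : Subgroup G} (hQH : Q ≤ H) (hQp : IsPGroup p Q) (hQ : Q ≠ ⊥)
    {R : Subgroup G} (hRp : IsPGroup p R) (hRN : R ≤ Subgroup.normalizer (Q : Set G)) : R ≤ H := by
  obtain ⟨x, hxQ, hxo, hRx⟩ := exists_orderOf_eq_prime_centralized hRp hQp hQ hRN
  exact hRx.trans (hcent x (hQH hxQ) hxo)

/-- The main induction: normalizers of nontrivial `p`-subgroups of `H` lie in `H`. -/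
theorem normalizer_le_of_crit {H : Subgroup G} (S : Sylow p H)
    (hcent : ∀ x : G, x ∈ H → orderOf x = p → Subgroup.centralizer ({x} : Set G) ≤ H)
    (hnorm : Subgroup.normalizer (((S : Subgroup H).map H.subtype : Subgroup G) : Set G) ≤ H) :
    ∀ n : ℕ, ∀ Q : Subgroup G, Q ≤ H → IsPGroup p Q → Q ≠ ⊥ → Nat.card G - Nat.card Q = n →
      Subgroup.normalizer (Q : Set G) ≤ H := by
  intro n
  induction n using Nat.strong_induction_on with
  | _ n ih =>
  intro Q₀ hQ₀H hQ₀p hQ₀ne hn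
  set S' := (S : Subgroup H).map H.subtype with hS'
  have hS'p : IsPGroup p S' := S.2.map _
  have hS'H : S' ≤ H := by rintro _ ⟨x, -, rfl⟩; exact x.2
  -- conjugate into S'
  obtain ⟨h, hh, hle⟩ := exists_conj_le_sylow' S hQ₀H hQ₀p
  apply normalizer_le_of_conjSub hh
  set Q := conjSub h Q₀ with hQdef
  have hQp : IsPGroup p Q := isPGroup_conjSub hQ₀p
  have hQne : Q ≠ ⊥ := conjSub_ne_bot hQ₀ne
  have hQH : Q ≤ H := hle.trans hS'H
  have hcardQ : Nat.card Q = Nat.card Q₀ := card_conjSub h Q₀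
  by_cases hQS : Q = S'
  · rw [hQS]; exact hnorm
  · have hlt : Q < S' := lt_of_le_of_ne hle hQS
    set N := Subgroup.normalizer (Q : Set G) with hN
    have hT := lt_inf_normalizer_of_lt hS'p hlt
    -- a Sylow p-subgroup of N containing T = S' ⊓ N
    have hTp : IsPGroup p ((S' ⊓ N).subgroupOf N) := (hS'p.to_le inf_le_left).comap_subtype
    obtain ⟨R₀, hR₀⟩ := hTp.exists_le_sylow
    -- all Sylow subgroups of N lie in H
    have hall : ∀ R₁ : Sylow p N, (R₁ : Subgroup N) ≤ H.subgroupOf N := by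
      intro R₁ x hx
      rw [Subgroup.mem_subgroupOf]
      have hR1 : ((R₁ : Subgroup N).map N.subtype) ≤ H :=
        sylow_normalizer_le hcent hQH hQp hQne (R₁.2.map _) (by rintro _ ⟨y, -, rfl⟩; exact y.2)
      exact hR1 ⟨x, hx, rfl⟩
    set R := (R₀ : Subgroup N).map N.subtype with hR
    have hRp : IsPGroup p R := R₀.2.map _
    have hRH : R ≤ H := by
      rintro _ ⟨x, hx, rfl⟩
      exact hall R₀ hx
    have hTR : S' ⊓ N ≤ R := by
      intro x hx
      exact ⟨⟨x, hx.2⟩, hR₀ (by rw [Subgroup.mem_subgroupOf]; exact hx), rfl⟩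
    have hQR : Q < R := lt_of_lt_of_le hT hTR
    have hRne : R ≠ ⊥ := by
      intro hbot
      rw [hbot] at hQR
      exact absurd hQR (not_lt_bot)
    have hcardlt : Nat.card Q < Nat.card R := by
      have := Subgroup.card_le_of_le hQR.le
      rcases this.lt_or_eq with h | h
      · exact h
      · exact absurd (Subgroup.eq_of_le_of_card_ge hQR.le h.ge) hQR.ne
    have hRG : Nat.card R ≤ Nat.card G := Subgroup.card_le_card_group R
    have hNR : Subgroup.normalizer (R : Set G) ≤ H :=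
      ih (Nat.card G - Nat.card R) (by omega) R hRH hRp hRne rfl
    -- now take g ∈ N
    intro g hg
    have h1 := hall R₀
    have h2 := hall ((⟨g, hg⟩ : N) • R₀)
    obtain ⟨k, hk⟩ := MulAction.exists_smul_eq (H.subgroupOf N) (R₀.subtype h1) (((⟨g, hg⟩ : N) • R₀).subtype h2)
    rw [Sylow.smul_subtype] at hk
    have hk' := Sylow.subtype_injective hk
    rw [Subgroup.smul_def] at hk'
    have hk'' : ((k : N)⁻¹ * ⟨g, hg⟩) • R₀ = R₀ := by
      rw [mul_smul, ← hk', inv_smul_smul]
    rw [Sylow.smul_eq_iff_mem_normalizer] at hk''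
    have hkg : ((k : N) : G)⁻¹ * g ∈ Subgroup.normalizer (R : Set G) := by
      rw [Subgroup.mem_set_normalizer_iff] at hk'' ⊢
      intro x
      constructor
      · rintro ⟨y, hy, rfl⟩
        exact ⟨_, (hk'' y).mp hy, by simp⟩
      · intro hx
        obtain ⟨y, hy, hyx⟩ := hx
        have hxN : x ∈ N := by
          have : x = (((k : N) : G)⁻¹ * g)⁻¹ * (y : G) * (((k : N) : G)⁻¹ * g) := by
            have : (y : G) = ((k : N) : G)⁻¹ * g * x * (((k : N) : G)⁻¹ * g)⁻¹ := hyx
            rw [this]; group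
          rw [this]
          exact N.mul_mem (N.mul_mem (N.inv_mem (N.mul_mem (N.inv_mem (k : N).2) hg)) y.2)
            (N.mul_mem (N.inv_mem (k : N).2) hg)
        refine ⟨⟨x, hxN⟩, (hk'' ⟨x, hxN⟩).mpr ?_, rfl⟩
        have : (k : N)⁻¹ * ⟨g, hg⟩ * ⟨x, hxN⟩ * ((k : N)⁻¹ * ⟨g, hg⟩)⁻¹ = y := by
          apply Subtype.ext
          simpa using hyx.symm
        rw [this]; exact hy
    have hkH : ((k : N) : G) ∈ H := by
      have := k.2
      rwa [Subgroup.mem_subgroupOf] at this
    have := H.mul_mem hkH (hNR hkg)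
    simpa using this

/-- The criterion: `H` proper, centralizers of elements of order `p` of a Sylow `p`-subgroup `S` of `H`
lie in `H`, and `N_G(S) ≤ H`; then `H` is strongly `p`-embedded. -/
theorem stronglyPEmbedded_of_crit {H : Subgroup G} (hH : H ≠ ⊤) (S : Sylow p H)
    (hcentS : ∀ x : G, x ∈ (S : Subgroup H).map H.subtype → orderOf x = p →
      Subgroup.centralizer ({x} : Set G) ≤ H)
    (hnorm : Subgroup.normalizer (((S : Subgroup H).map H.subtype : Subgroup G) : Set G) ≤ H) :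
    IsStronglyPEmbedded p H := by
  set S' := (S : Subgroup H).map H.subtype with hS'
  have hS'p : IsPGroup p S' := S.2.map _
  have hS'H : S' ≤ H := by rintro _ ⟨x, -, rfl⟩; exact x.2
  -- centralizers of all elements of order p of H
  have hcent : ∀ x : G, x ∈ H → orderOf x = p → Subgroup.centralizer ({x} : Set G) ≤ H := by
    intro x hxH hxo
    obtain ⟨h, hh, hle⟩ := exists_conj_le_sylow' S (Q := Subgroup.zpowers x) (by simpa using hxH)
      (isPGroup_zpowers_of_orderOf hxo)
    have hmem : h * x * h⁻¹ ∈ S' := hle (conj_mem_conjSub (Subgroup.mem_zpowers x))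
    exact centralizer_le_of_conj hh (hcentS _ hmem (by rw [orderOf_conj', hxo]))
  have hmain : ∀ Q : Subgroup G, Q ≤ H → IsPGroup p Q → Q ≠ ⊥ → Subgroup.normalizer (Q : Set G) ≤ H :=
    fun Q h1 h2 h3 => normalizer_le_of_crit S hcent hnorm _ Q h1 h2 h3 rfl
  -- S' ≠ ⊥
  have hS'ne : S' ≠ ⊥ := by
    intro hbot
    apply hH
    rw [eq_top_iff]
    have : Subgroup.normalizer ((S' : Subgroup G) : Set G) = ⊤ := by
      rw [hbot]; exact Subgroup.normalizer_eq_top (H := (⊥ : Subgroup G))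
    rw [← this]; exact hnorm
  have hdiv : p ∣ Nat.card G := by
    have hnt : Nontrivial S' := (Subgroup.nontrivial_iff_ne_bot S').mpr hS'ne
    obtain ⟨n, hn0, hn⟩ := hS'p.nontrivial_iff_card.mp hnt
    have h1 : p ∣ Nat.card S' := hn.symm ▸ dvd_pow_self _ (ne_of_gt hn0)
    exact h1.trans (Subgroup.card_subgroup_dvd_card S')
  obtain ⟨P, hP⟩ := hS'p.exists_le_sylow
  have hPH : (P : Subgroup G) ≤ H := by
    apply le_of_inf_normalizer_le P.2
    have hne : (P : Subgroup G) ⊓ H ≠ ⊥ := by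
      intro hbot
      apply hS'ne
      rw [eq_bot_iff, ← hbot]
      exact le_inf hP hS'H
    exact inf_le_right.trans (hmain _ inf_le_right (P.2.to_le inf_le_left) hne)
  refine ⟨hdiv, hH, P, ?_⟩
  unfold kGeneratedCore
  apply iSup_le
  rintro ⟨Q, hQP, hQr⟩
  have hQne : Q ≠ ⊥ := by
    rintro rfl
    apply hQr
    intro A _ _
    have : Nat.card A = 1 := by
      have : Subsingleton (⊥ : Subgroup G) := inferInstance
      have : Subsingleton A := inferInstance
      exact Nat.card_unique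
    rw [this]; simp
  exact hmain Q (hQP.trans hPH) (P.2.to_le hQP) hQne

/-- conversely -/
theorem crit_of_stronglyPEmbedded {H : Subgroup G} (hH : IsStronglyPEmbedded p H) (S : Sylow p H) :
    (∀ x : G, x ∈ (S : Subgroup H).map H.subtype → orderOf x = p →
      Subgroup.centralizer ({x} : Set G) ≤ H) ∧
    Subgroup.normalizer (((S : Subgroup H).map H.subtype : Subgroup G) : Set G) ≤ H := by
  have hS'H : (S : Subgroup H).map H.subtype ≤ H := by rintro _ ⟨x, -, rfl⟩; exact x.2
  constructor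
  · intro x hx hxo
    have h1 : Subgroup.normalizer ((Subgroup.zpowers x : Subgroup G) : Set G) ≤ H :=
      normalizer_le_of_stronglyPEmbedded hH (by simpa using hS'H hx) (isPGroup_zpowers_of_orderOf hxo)
        (zpowers_ne_bot_of_orderOf hxo)
    refine le_trans ?_ h1
    intro c hc
    rw [Subgroup.mem_centralizer_singleton_iff] at hc
    rw [Subgroup.mem_normalizer_iff]
    intro y
    have key : ∀ z ∈ Subgroup.zpowers x, c * z * c⁻¹ = z := by
      intro z hz
      obtain ⟨n, rfl⟩ := Subgroup.mem_zpowers_iff.mp hz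
      have : c * x * c⁻¹ = x := by rw [hc]; group
      rw [← conj_zpow, this]
    constructor
    · intro hy; rw [key y hy]; exact hy
    · intro hy
      have := key _ hy
      have h2 : c⁻¹ * (c * y * c⁻¹) * c = y := by group
      rw [← this] at h2
      have h3 : c⁻¹ * (c * (c * y * c⁻¹) * c⁻¹) * c = c * y * c⁻¹ := by group
      rw [h3] at h2
      rw [← h2]; exact hy
  · apply normalizer_le_of_stronglyPEmbedded hH hS'H (S.2.map _)
    obtain ⟨P, hPH, hPne⟩ := exists_sylow_le_of_stronglyPEmbedded hH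
    intro hbot
    have hSbot : (S : Subgroup H) = ⊥ := by
      rw [eq_bot_iff]
      intro x hx
      have : (x : G) ∈ (S : Subgroup H).map H.subtype := ⟨x, hx, rfl⟩
      rw [hbot, Subgroup.mem_bot] at this
      exact Subtype.ext this
    have hdivH : p ∣ Nat.card H := by
      have hnt : Nontrivial (P : Subgroup G) := (Subgroup.nontrivial_iff_ne_bot _).mpr hPne
      obtain ⟨n, hn0, hn⟩ := P.2.nontrivial_iff_card.mp hnt
      have h1 : p ∣ Nat.card (P : Subgroup G) := hn.symm ▸ dvd_pow_self _ (ne_of_gt hn0)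
      exact h1.trans (Subgroup.card_dvd_of_le hPH)
    exact S.ne_bot_of_dvd_card hdivH hSbot

end Cfsg.Agent.Helper48
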