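-- helper48: piece (Am) of helper1's WANTED #4604 for S4305 (Shult's theorem for S3):
-- Lemma A from its two hyperplane cases (Aσ), (Aτ); the orbit pieces (O0), (O1) are plugged in from helper60.
import Mathlib
import Cfsg.Agent.Helper1.ShultDefs
import Cfsg.Agent.Helper48.ShultAmA
import Cfsg.Agent.Helper60.ShultO

set_option autoImplicit false

namespace Cfsg.Agent.Helper48.Shult

open Subgroup Cfsg.Agent.Helper1.Shult

universe u

/-- (Am) Lemma A from the two cases (Aσ), (Aτ), stated as hypotheses over all ambient groups. -/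
theorem lemmaA_of_cases
    (hAσ : ∀ (H : Type u) [Group H] [Finite H] (q r : ℕ) [Fact q.Prime] [Fact r.Prime] (σ τ : H)
      (Q W Z1 K : Subgroup H), ACfg q r σ τ Q W Z1 K → ∀ D : Subgroup H, IsHyp q Z1 K D →
      σ ∈ normalizer (D : Set H) →
      ⁅Q, Q⁆ ≤ centralizer ((W ⊓ centralizer (D : Set H) : Subgroup H) : Set H))
    (hAτ : ∀ (H : Type u) [Group H] [Finite H] (q r : ℕ) [Fact q.Prime] [Fact r.Prime] (σ τ : H)
      (Q W Z1 K : Subgroup H), ACfg q r σ τ Q W Z1 K → ∀ D : Subgroup H, IsHyp q Z1 K D →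
      τ ∈ normalizer (D : Set H) → σ ∉ normalizer (D : Set H) →
      ⁅Q, Q⁆ ≤ centralizer ((W ⊓ centralizer (D : Set H) : Subgroup H) : Set H)) :
    LemmaAStmt.{u} := by
  intro H _ _ q r _ _ σ τ Q W hS hq2 hq3 hr2 hr3 hqr hQ hW hWr hQinv hWinv hQW hfixW hfixQ
  exact lemmaA_fixed q r σ τ Q hS hq2 hq3 hr2 hr3 hqr hQ hQinv
    (fun {W Z1 K} c D hD hσ => hAσ H q r σ τ Q W Z1 K c D hD hσ)
    (fun {W Z1 K} c D hD hτ hσ => hAτ H q r σ τ Q W Z1 K c D hD hτ hσ)
    (fun {T S0 D} hD g hgT hgS0 => Cfsg.Agent.Helper60.Shult.isHyp_conj hD g hgT hgS0)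
    (fun V D g hg v => Cfsg.Agent.Helper60.Shult.fix_conj V D g hg v)
    (fun {V T S0} hs hV hT hS0 hfix D hD hσD hτD =>
      Cfsg.Agent.Helper60.Shult.orbit_regular hS hs hV hT hS0 hfix D hD hσD hτD)
    (Nat.card W) W rfl hW hWr hWinv hQW hfixW hfixQ

end Cfsg.Agent.Helper48.Shult
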