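import Mathlib
import Cfsg.Prelude.Def_IsolatedElements
import Cfsg.Agent.S5562
import Cfsg.Agent.Helper49.Isolated

/-!
# Z*-theorem, part A (helper48): two involutions, one of them isolated

Pure group theory.  For involutions `a`, `b` put `r = a * b`.
-/

set_option autoImplicit false
set_option linter.unusedSectionVars false

namespace Cfsg.Agent.Helper48.ZStar

open Cfsg

variable {G : Type*} [Group G]

theorem inv_eq_self_of_sq {a : G} (ha : a * a = 1) : a⁻¹ = a :=
  inv_eq_of_mul_eq_one_left ha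

/-- `r⁻¹ * a = b`. -/
theorem inv_mul_left (a b : G) (ha : a * a = 1) (hb : b * b = 1) : (a * b)⁻¹ * a = b := by
  rw [Cfsg.Agent.S5562.inv_eq' a b ha hb, mul_assoc, ha, mul_one]

/-- odd order: `b` is conjugate to `a` by a power of `a * b`. -/
theorem conj_of_odd (a b : G) (ha : a * a = 1) (hb : b * b = 1) {k : ℕ}
    (hk : orderOf (a * b) = 2 * k + 1) :
    (a * b) ^ k * a * ((a * b) ^ k)⁻¹ = b := by
  rw [Cfsg.Agent.S5562.conj_pow a b ha hb k]
  have h1 : (a * b) ^ (2 * k + 1) = 1 := by rw [← hk]; exact pow_orderOf_eq_one _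
  have h2 : (a * b) ^ (2 * k) = (a * b)⁻¹ := by
    rw [pow_succ] at h1
    exact eq_inv_of_mul_eq_one_left h1
  rw [h2, inv_mul_left a b ha hb]

section Even

variable [Finite G] (a b : G) (ha : a * a = 1) (hb : b * b = 1) {m : ℕ}
  (hm : orderOf (a * b) = 2 * m)

include ha hb hm

theorem z_sq : (a * b) ^ m * (a * b) ^ m = 1 := by
  rw [← pow_add, ← two_mul, ← hm]; exact pow_orderOf_eq_one _

theorem m_pos : 0 < m := by
  rcases Nat.eq_zero_or_pos m with h | h
  · have := orderOf_pos (a * b)
    rw [hm, h] at this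
    exact absurd this (by decide)
  · exact h

theorem z_ne_one : (a * b) ^ m ≠ 1 := by
  intro h
  have h1 := orderOf_dvd_of_pow_eq_one h
  rw [hm] at h1
  have h2 := Nat.le_of_dvd (m_pos a b ha hb hm) h1
  have := m_pos a b ha hb hm
  omega

theorem z_comm_left : Commute a ((a * b) ^ m) := by
  have h := Cfsg.Agent.S5562.inv_pow_comm a b ha hb m
  rw [inv_eq_self_of_sq (z_sq a b ha hb hm)] at h
  exact h

theorem z_comm_right : Commute b ((a * b) ^ m) := by
  -- `b = r⁻¹ * a`
  have h1 : Commute (a * b) ((a * b) ^ m) := Commute.pow_right (Commute.refl _) m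
  have h2 : Commute ((a * b)⁻¹ * a) ((a * b) ^ m) :=
    (h1.inv_left).mul_left (z_comm_left a b ha hb hm)
  rwa [inv_mul_left a b ha hb] at h2

/-- `m` even: `a * z` is conjugate to `a`. -/
theorem conj_of_even_even {j : ℕ} (hj : m = 2 * j) :
    (a * b) ^ j * a * ((a * b) ^ j)⁻¹ = a * (a * b) ^ m := by
  rw [Cfsg.Agent.S5562.conj_pow a b ha hb j, ← hj]
  exact (z_comm_left a b ha hb hm).eq.symm

/-- `m` odd: `z * b` is conjugate to `a`. -/
theorem conj_of_even_odd {j : ℕ} (hj : m = 2 * j + 1) :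
    (a * b) ^ j * a * ((a * b) ^ j)⁻¹ = (a * b) ^ m * b := by
  rw [Cfsg.Agent.S5562.conj_pow a b ha hb j]
  have h1 : (a * b) ^ m = (a * b) ^ (2 * j) * (a * b) := by rw [hj, pow_succ]
  rw [h1, mul_assoc _ (a * b) b, mul_assoc a b b, hb, mul_one]

/-- `r = z * r^(m+1)`. -/
theorem r_eq : a * b = (a * b) ^ m * (a * b) ^ (m + 1) := by
  rw [← pow_add]
  have : m + (m + 1) = 2 * m + 1 := by ring
  rw [this, pow_succ, ← hm, pow_orderOf_eq_one, one_mul]

omit hm in
/-- `r ^ 2` is the commutator. -/
theorem r_sq : (a * b) ^ 2 = a * b * a⁻¹ * b⁻¹ := by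
  rw [inv_eq_self_of_sq ha, inv_eq_self_of_sq hb, pow_two]; group

end Even

/-! ### isolated involutions -/

theorem sq_eq_one_of_orderOf {t : G} (ht : orderOf t = 2) : t * t = 1 := by
  rw [← pow_two, ← ht]; exact pow_orderOf_eq_one t

theorem conj_sq {t : G} (ht : t * t = 1) (g : G) : (g * t * g⁻¹) * (g * t * g⁻¹) = 1 := by
  have : (g * t * g⁻¹) * (g * t * g⁻¹) = g * (t * t) * g⁻¹ := by group
  rw [this, ht]; group

/-- The product of an isolated involution with a conjugate has odd order. -/
theorem odd_orderOf_mul_conj [Finite G] {t : G} (ht : t * t = 1) (hiso : IsIsolated t) (g : G) :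
    Odd (orderOf (t * (g * t * g⁻¹))) := by
  set s := g * t * g⁻¹ with hs
  have hss : s * s = 1 := conj_sq ht g
  rcases Nat.even_or_odd' (orderOf (t * s)) with ⟨m, hm | hm⟩
  · exfalso
    have hz1 := z_ne_one t s ht hss hm
    have hzt := z_comm_left t s ht hss hm
    rcases Nat.even_or_odd' m with ⟨j, hj | hj⟩
    · -- `t * z` is a conjugate of `t` commuting with `t`
      have hc := conj_of_even_even t s ht hss hm hj
      have hcomm : Commute t ((t * s) ^ j * t * ((t * s) ^ j)⁻¹) := by
        rw [hc]; exact (Commute.refl t).mul_right hzt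
      have := hiso _ hcomm
      rw [hc] at this
      exact hz1 (mul_left_cancel (this.trans (mul_one t).symm))
    · -- `z * t` is a conjugate of `s`, hence of `t`
      have hm' : orderOf (s * t) = 2 * m := by
        rw [← hm]
        have : s * t = (t * s)⁻¹ := (Cfsg.Agent.S5562.inv_eq' t s ht hss).symm
        rw [this, orderOf_inv]
      have hc := conj_of_even_odd s t hss ht hm' hj
      -- `(s*t)^m = (t*s)^m`
      have hpow : (s * t) ^ m = (t * s) ^ m := by
        have h1 : s * t = (t * s)⁻¹ := (Cfsg.Agent.S5562.inv_eq' t s ht hss).symm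
        rw [h1, inv_pow, inv_eq_self_of_sq (z_sq t s ht hss hm)]
      rw [hpow] at hc
      have hconj : ((s * t) ^ j * g) * t * ((s * t) ^ j * g)⁻¹ = (t * s) ^ m * t := by
        rw [← hc, hs]; group
      have hcomm : Commute t (((s * t) ^ j * g) * t * ((s * t) ^ j * g)⁻¹) := by
        rw [hconj]; exact hzt.mul_right (Commute.refl t)
      have := hiso _ hcomm
      rw [hconj] at this
      exact hz1 (mul_right_cancel (this.trans (one_mul t).symm))
  · exact ⟨m, hm⟩

/-- The data attached to an isolated involution `t` and an involution `u` not conjugate to `t`. -/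
theorem exists_data_of_not_conj [Finite G] {t u : G} (ht : t * t = 1) (hiso : IsIsolated t)
    (hu : u * u = 1) (hnc : ∀ g : G, g * t * g⁻¹ ≠ u) :
    ∃ (j : ℕ) (z : G), z * z = 1 ∧ z ≠ 1 ∧ Commute t z ∧ Commute u z ∧
      (∃ c : G, c * t * c⁻¹ = z * u) ∧
      t * u = z * (t * u * t⁻¹ * u⁻¹) ^ (j + 1) := by
  rcases Nat.even_or_odd' (orderOf (t * u)) with ⟨m, hm | hm⟩
  · have hz1 := z_ne_one t u ht hu hm
    have hzt := z_comm_left t u ht hu hm
    rcases Nat.even_or_odd' m with ⟨j, hj | hj⟩
    · exfalso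
      have hc := conj_of_even_even t u ht hu hm hj
      have hcomm : Commute t ((t * u) ^ j * t * ((t * u) ^ j)⁻¹) := by
        rw [hc]; exact (Commute.refl t).mul_right hzt
      have := hiso _ hcomm
      rw [hc] at this
      exact hz1 (mul_left_cancel (this.trans (mul_one t).symm))
    · refine ⟨j, (t * u) ^ m, z_sq t u ht hu hm, hz1, hzt, z_comm_right t u ht hu hm,
        ⟨(t * u) ^ j, conj_of_even_odd t u ht hu hm hj⟩, ?_⟩
      have h1 := r_eq t u ht hu hm
      have h2 : (t * u) ^ (m + 1) = (t * u * t⁻¹ * u⁻¹) ^ (j + 1) := by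
        have h3 : m + 1 = 2 * (j + 1) := by omega
        rw [← r_sq t u ht hu, ← pow_mul, h3]
      rw [← h2]
      exact h1
  · exfalso
    exact hnc _ (conj_of_odd t u ht hu hm)

end Cfsg.Agent.Helper48.ZStar
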