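import Mathlib
import Cfsg.Agent.Helper48.ZStarA
import Cfsg.Agent.S0942
import Cfsg.Agent.S0925
import Cfsg.Agent.Helper3.QuatKer
import Cfsg.Agent.Helper78.IrrTransport

/-!
# Z*-theorem, part B (helper48): the block-theoretic core

`t` an isolated involution of `G`, `u ≠ t` an involution of `C_G(t)`.  For every `χ` in the
principal 2-block, `χ 1 * χ (t * u) = χ t * χ u`, provided `t` is central modulo the odd core in the
centralizer of every involution commuting with `t`.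
-/

set_option autoImplicit false
set_option linter.unusedSectionVars false
set_option linter.style.haveILetI false

namespace Cfsg.Agent.Helper48.ZStar

open Cfsg
open scoped ComplexConjugate

universe u

variable {G : Type u} [Group G] [Finite G]

theorem orderOf_eq_two_of_sq {z : G} (hz : z * z = 1) (hz1 : z ≠ 1) : orderOf z = 2 := by
  haveI : Fact (Nat.Prime 2) := ⟨Nat.prime_two⟩
  exact orderOf_eq_prime (by rw [pow_two]; exact hz) hz1

/-- The induction hypothesis used below: `t` is central modulo the odd core in the centralizer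
of every involution `z` commuting with `t`. -/
def CentHyp (t : G) : Prop :=
  ∀ z : G, z * z = 1 → z ≠ 1 → ∀ htz : t ∈ Subgroup.centralizer ({z} : Set G),
    InZStar 2 (⟨t, htz⟩ : ↥(Subgroup.centralizer ({z} : Set G)))

/-- Step 1: `χ (t * u') = χ z` where `z` is the 2-part of `t * u'`. -/
theorem char_mul_eq_of_not_conj (M : Ideal AlgInt) (hM : IsPModular 2 M) {t : G}
    (ht : t * t = 1) (hiso : IsIsolated t) (hind : CentHyp t) {u' : G} (hu : u' * u' = 1)
    (hnc : ∀ g : G, g * t * g⁻¹ ≠ u') (χ : IrrCharacter G) (hχ : χ ∈ principalBlock M G) :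
    ∃ (z c : G), Commute u' z ∧ c * t * c⁻¹ = z * u' ∧ (χ : G → ℂ) (t * u') = (χ : G → ℂ) z := by
  haveI : Fact (Nat.Prime 2) := ⟨Nat.prime_two⟩
  obtain ⟨j, z, hzz, hz1, htz, huz, ⟨c, hc⟩, hr⟩ := exists_data_of_not_conj ht hiso hu hnc
  refine ⟨z, c, huz, hc, ?_⟩
  have htC : t ∈ Subgroup.centralizer ({z} : Set G) := by
    rw [Subgroup.mem_centralizer_iff]
    intro y hy
    rw [Set.mem_singleton_iff] at hy
    rw [hy]; exact htz.eq.symm
  have huC : u' ∈ Subgroup.centralizer ({z} : Set G) := by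
    rw [Subgroup.mem_centralizer_iff]
    intro y hy
    rw [Set.mem_singleton_iff] at hy
    rw [hy]; exact huz.eq.symm
  have h1 := hind z hzz hz1 htC ⟨u', huC⟩
  -- the commutator lies in the odd core of `C(z)`
  have h2 : ((⟨u', huC⟩ : ↥(Subgroup.centralizer ({z} : Set G))) * ⟨t, htC⟩ * ⟨u', huC⟩⁻¹ *
      ⟨t, htC⟩⁻¹)⁻¹ ^ (j + 1) ∈ pPrimeCore 2 ↥(Subgroup.centralizer ({z} : Set G)) :=
    Subgroup.pow_mem _ (Subgroup.inv_mem _ h1) _
  have hw : (t * u' * t⁻¹ * u'⁻¹) ^ (j + 1) ∈ centralizerPPrimeCore 2 z := by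
    refine ⟨_, h2, ?_⟩
    simp only [Subgroup.coe_subtype, Subgroup.coe_pow, Subgroup.coe_inv, Subgroup.coe_mul]
    congr 1
    group
  have h3 := Cfsg.Agent.S0942.result 2 M hM z ⟨1, by rw [pow_one]; exact orderOf_eq_two_of_sq hzz hz1⟩
    _ hw χ hχ
  rw [hr]
  exact h3

/-- Step 2: for `u` commuting with `t`, all values `χ (t * (g u g⁻¹))` equal `χ (t * u)`. -/
theorem char_mul_conj_eq (M : Ideal AlgInt) (hM : IsPModular 2 M) {t : G}
    (ht : orderOf t = 2) (hiso : IsIsolated t) (hind : CentHyp t) {u : G} (hu : u * u = 1)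
    (htu : Commute t u) (hne : u ≠ t) (χ : IrrCharacter G) (hχ : χ ∈ principalBlock M G) (g : G) :
    (χ : G → ℂ) (t * (g * u * g⁻¹)) = (χ : G → ℂ) (t * u) := by
  haveI : Fact (Nat.Prime 2) := ⟨Nat.prime_two⟩
  have htt := sq_eq_one_of_orderOf ht
  have hcl := Helper74.irr_isClassFunction χ
  -- `u` is not conjugate to `t`
  have hncu : ∀ c : G, c * t * c⁻¹ ≠ u := by
    intro c hc
    have := hiso c (by rw [hc]; exact htu)
    exact hne (hc.symm.trans this)
  have hnc : ∀ c : G, c * t * c⁻¹ ≠ g * u * g⁻¹ := by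
    intro c hc
    apply hncu (g⁻¹ * c)
    have : g⁻¹ * c * t * (g⁻¹ * c)⁻¹ = g⁻¹ * (c * t * c⁻¹) * g := by group
    rw [this, hc]; group
  obtain ⟨z, c, huz, hc, hval⟩ := char_mul_eq_of_not_conj M hM htt hiso hind (conj_sq hu g) hnc χ hχ
  rw [hval]
  -- `a₁ = g⁻¹ (z u') g u` … work in `C(u)`
  set H : Subgroup G := Subgroup.centralizer ({u} : Set G) with hH
  have htH : t ∈ H := by
    rw [hH, Subgroup.mem_centralizer_iff]
    intro y hy
    rw [Set.mem_singleton_iff] at hy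
    rw [hy]; exact htu.eq.symm
  -- `a₁ := (g⁻¹ c) t (g⁻¹ c)⁻¹ = g⁻¹ z g * u`
  have ha1 : (g⁻¹ * c) * t * (g⁻¹ * c)⁻¹ = g⁻¹ * z * g * u := by
    have : (g⁻¹ * c) * t * (g⁻¹ * c)⁻¹ = g⁻¹ * (c * t * c⁻¹) * g := by group
    rw [this, hc]; group
  have hzu : Commute (g⁻¹ * z * g) u := by
    have h0 : (g * u * g⁻¹) * z = z * (g * u * g⁻¹) := huz.eq
    show g⁻¹ * z * g * u = u * (g⁻¹ * z * g)
    calc g⁻¹ * z * g * u = g⁻¹ * (z * (g * u * g⁻¹)) * g := by group
      _ = g⁻¹ * ((g * u * g⁻¹) * z) * g := by rw [h0]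
      _ = u * (g⁻¹ * z * g) := by group
  have ha1H : (g⁻¹ * c) * t * (g⁻¹ * c)⁻¹ ∈ H := by
    rw [ha1, hH, Subgroup.mem_centralizer_iff]
    intro y hy
    rw [Set.mem_singleton_iff] at hy
    rw [hy]
    exact ((hzu.mul_left (Commute.refl u)).eq).symm
  obtain ⟨y, hyH, hy⟩ := Helper49.isolated_exists_conj_mem (p := 2) hiso ⟨1, by rw [pow_one]; exact ht⟩
    htH ha1H
  have hyu : Commute y u := by
    rw [hH, Subgroup.mem_centralizer_iff] at hyH
    exact (hyH u rfl).symm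
  -- `z = g (a₁ u) g⁻¹ = (g y) (t u) (g y)⁻¹`
  have hz : z = (g * y) * (t * u) * (g * y)⁻¹ := by
    have e1 : g⁻¹ * z * g = (g⁻¹ * c) * t * (g⁻¹ * c)⁻¹ * u := by
      rw [ha1, mul_assoc _ u u, hu, mul_one]
    have e2 : g⁻¹ * z * g = y * (t * u) * y⁻¹ := by
      rw [e1, hy]
      have : y * (t * u) * y⁻¹ = y * t * (u * y⁻¹) := by group
      rw [this]
      have h3 : u * y⁻¹ = y⁻¹ * u := (hyu.inv_left.eq).symm
      rw [h3]; group
    have : z = g * (g⁻¹ * z * g) * g⁻¹ := by group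
    rw [this, e2]; group
  rw [hz]
  exact hcl _ _

/-- Step 3: multiplicativity. -/
theorem char_mul (M : Ideal AlgInt) (hM : IsPModular 2 M) {t : G}
    (ht : orderOf t = 2) (hiso : IsIsolated t) (hind : CentHyp t) {u : G} (hu : u * u = 1)
    (htu : Commute t u) (hne : u ≠ t) (χ : IrrCharacter G) (hχ : χ ∈ principalBlock M G) :
    (χ : G → ℂ) 1 * (χ : G → ℂ) (t * u) = (χ : G → ℂ) t * (χ : G → ℂ) u := by
  classical
  haveI : Fintype G := Fintype.ofFinite G
  have h1 := Helper3.Quat.sum_irr_mul_conj χ.2 t u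
  have h2 : ∑ g : G, (χ : G → ℂ) (t * (g * u * g⁻¹)) = (Nat.card G : ℂ) * (χ : G → ℂ) (t * u) := by
    rw [Finset.sum_congr rfl (fun g _ => char_mul_conj_eq M hM ht hiso hind hu htu hne χ hχ g),
      Finset.sum_const, Finset.card_univ, nsmul_eq_mul, Nat.card_eq_fintype_card]
  rw [h2] at h1
  obtain ⟨d, hd, hd1⟩ := Helper75.fk_irr_apply_one χ
  have hN : (Nat.card G : ℂ) ≠ 0 := by
    have : Nat.card G ≠ 0 := Nat.card_pos.ne'
    exact_mod_cast this
  have hd0 : (χ : G → ℂ) 1 ≠ 0 := by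
    rw [hd1]; exact_mod_cast hd.ne'
  have h3 : (χ : G → ℂ) (t * u) = (χ : G → ℂ) u / (χ : G → ℂ) 1 * (χ : G → ℂ) t := by
    apply mul_left_cancel₀ hN
    rw [h1]; ring
  rw [h3]
  field_simp

end Cfsg.Agent.Helper48.ZStar
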