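import Mathlib
import Cfsg.Agent.Helper48.ZStarB
import Cfsg.Agent.Helper79.Linear

/-!
# Z*-theorem, part C (helper48): no second involution in `C_G(t)`

In a group generated by the conjugates of the isolated involution `t`, with the induction
hypothesis `CentHyp t`, the centralizer of `t` contains no involution other than `t`.
-/

set_option autoImplicit false
set_option linter.unusedSectionVars false
set_option linter.style.haveILetI false

namespace Cfsg.Agent.Helper48.ZStar

open Cfsg
open scoped ComplexConjugate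

universe u

variable {G : Type u} [Group G] [Finite G]

theorem isPPart_self_of_orderOf_two {u : G} (hu : orderOf u = 2) : IsPPart 2 u u :=
  ⟨1, mul_one u, Commute.one_right u, ⟨1, by rw [pow_one]; exact hu⟩, by
    rw [orderOf_one]; decide⟩

theorem isPPart_one : IsPPart 2 (1 : G) 1 :=
  ⟨1, mul_one 1, Commute.one_right 1, ⟨0, by rw [pow_zero]; exact orderOf_one⟩, by
    rw [orderOf_one]; decide⟩

theorem false_of_second_involution (M : Ideal AlgInt) (hM : IsPModular 2 M) {t : G}
    (ht : orderOf t = 2) (hiso : IsIsolated t) (hind : CentHyp t)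
    (hgen : ∀ N : Subgroup G, N.Normal → t ∈ N → N = ⊤) {u : G} (hu : u * u = 1) (hu1 : u ≠ 1)
    (htu : Commute t u) (hne : u ≠ t) : False := by
  classical
  haveI : Fact (Nat.Prime 2) := ⟨Nat.prime_two⟩
  have htt := sq_eq_one_of_orderOf ht
  have huo : orderOf u = 2 := orderOf_eq_two_of_sq hu hu1
  have huinv : u⁻¹ = u := inv_eq_self_of_sq hu
  -- the second involution `t * u`
  have hu2 : (t * u) * (t * u) = 1 := by
    have : (t * u) * (t * u) = t * (u * t) * u := by group
    rw [this, ← htu.eq]
    have : t * (t * u) * u = (t * t) * (u * u) := by group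
    rw [this, htt, hu, mul_one]
  have htu2 : Commute t (t * u) := (Commute.refl t).mul_right htu
  have hne2 : t * u ≠ t := by
    intro h
    exact hu1 (mul_left_cancel (h.trans (mul_one t).symm))
  have httu : t * (t * u) = u := by rw [← mul_assoc, htt, one_mul]
  -- key vanishing
  have hkey : ∀ χ : IrrCharacter G, χ ∈ principalBlock M G →
      ((χ : G → ℂ) 1 * (χ : G → ℂ) 1 - (χ : G → ℂ) t * (χ : G → ℂ) t) * (χ : G → ℂ) u = 0 := by
    intro χ hχ
    have e1 := char_mul M hM ht hiso hind hu htu hne χ hχ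
    have e2 := char_mul M hM ht hiso hind hu2 htu2 hne2 χ hχ
    rw [httu] at e2
    linear_combination (χ : G → ℂ) 1 * e2 + (χ : G → ℂ) t * e1
  -- `u` is not conjugate to `t`
  have hnct : ¬ IsConj t u := by
    rw [isConj_iff]
    rintro ⟨c, hc⟩
    have := hiso c (by rw [hc]; exact htu)
    exact hne (hc.symm.trans this)
  have hnc1 : ¬ IsConj (1 : G) u := by
    rw [isConj_one_right]
    exact fun h => hu1 h
  have hB := Helper78.isPBlock_principalBlock M G
  have hort := (Cfsg.Agent.S0925.result 2 M hM (G := G)).2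
  have s1 := hort 1 u 1 u isPPart_one (isPPart_self_of_orderOf_two huo) hnc1 _ hB
  have s2 := hort t u t u (isPPart_self_of_orderOf_two ht) (isPPart_self_of_orderOf_two huo) hnct _ hB
  rw [huinv] at s1 s2
  haveI : Finite (IrrCharacter G) := Helper74.irr_finite
  have hfin : (principalBlock M G).Finite := Set.toFinite _
  have s3 : ∑ᶠ χ ∈ principalBlock M G,
      ((χ : G → ℂ) 1 + (χ : G → ℂ) t) * (χ : G → ℂ) u = 0 := by
    have : ∀ χ : IrrCharacter G, ((χ : G → ℂ) 1 + (χ : G → ℂ) t) * (χ : G → ℂ) u =
        (χ : G → ℂ) 1 * (χ : G → ℂ) u + (χ : G → ℂ) t * (χ : G → ℂ) u := fun χ => by ring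
    simp only [this]
    rw [finsum_mem_add_distrib hfin, s1, s2, add_zero]
  -- every term is a nonnegative real
  have hterm : ∀ χ : IrrCharacter G, χ ∈ principalBlock M G →
      0 ≤ (((χ : G → ℂ) 1 + (χ : G → ℂ) t) * (χ : G → ℂ) u).re := by
    intro χ hχ
    have hk := hkey χ hχ
    obtain ⟨d, hd, hd1⟩ := Helper75.fk_irr_apply_one χ
    rcases mul_eq_zero.mp hk with h | h
    · -- `χ t = ± χ 1`
      have h' : ((χ : G → ℂ) 1 - (χ : G → ℂ) t) * ((χ : G → ℂ) 1 + (χ : G → ℂ) t) = 0 := by
        linear_combination h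
      rcases mul_eq_zero.mp h' with h1 | h1
      · -- `χ t = χ 1`: `t` lies in the kernel, which is everything
        have ht1 : (χ : G → ℂ) t = (χ : G → ℂ) 1 := (sub_eq_zero.mp h1).symm
        obtain ⟨N, hNn, hN⟩ := Helper75.fk_exists_normal_kernel (Helper74.irr_isCharacter χ)
        have hNtop := hgen N hNn ((hN t).mpr ht1)
        have hu' : (χ : G → ℂ) u = (χ : G → ℂ) 1 := (hN u).mp (hNtop ▸ Subgroup.mem_top u)
        rw [ht1, hu', hd1]
        have : ((d : ℂ) + d) * d = ((2 * d * d : ℕ) : ℂ) := by push_cast; ring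
        rw [this, Complex.natCast_re]
        positivity
      · rw [h1, zero_mul]; simp
    · rw [h, mul_zero]; simp
  -- the principal character contributes 2
  have hmem : Helper79.principalIrr G ∈ principalBlock M G :=
    Helper78.principalIrr_mem_principalBlock M (Helper78.isPrime_of_isPModular hM) G
  have hre : (∑ᶠ χ ∈ principalBlock M G,
      ((χ : G → ℂ) 1 + (χ : G → ℂ) t) * (χ : G → ℂ) u).re = 0 := by rw [s3]; rfl
  rw [finsum_mem_eq_finite_toFinset_sum _ hfin, Complex.re_sum] at hre
  have hle := Finset.single_le_sum (f := fun χ : IrrCharacter G =>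
      (((χ : G → ℂ) 1 + (χ : G → ℂ) t) * (χ : G → ℂ) u).re)
    (fun χ hχ => hterm χ (hfin.mem_toFinset.mp hχ)) (hfin.mem_toFinset.mpr hmem)
  rw [hre] at hle
  have h2 : ((((Helper79.principalIrr G : IrrCharacter G) : G → ℂ) 1 +
      ((Helper79.principalIrr G : IrrCharacter G) : G → ℂ) t) *
      ((Helper79.principalIrr G : IrrCharacter G) : G → ℂ) u).re = 2 := by
    show (((1 : ℂ) + 1) * 1).re = 2
    norm_num
  rw [h2] at hle
  norm_num at hle

end Cfsg.Agent.Helper48.ZStar
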