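import Mathlib
import Cfsg.Agent.Helper48.ZStarC
import Cfsg.Agent.Helper48.PCore
import Cfsg.Agent.Helper22.ZStarMin
import Cfsg.Agent.Helper34.CentralSylow
import Cfsg.Agent.Helper54.PConstrained2
import Cfsg.Agent.Helper73.PGroupCyclic
import Cfsg.Agent.Helper74.DefectZero
import Cfsg.Agent.S2970

/-!
# Z*-theorem, part D (helper48): the minimal counterexample

Reductions for a minimal counterexample to the `Z*`-theorem for an isolated involution `t`:
`O(G) = 1`, `G` is generated by the conjugates of `t`, there is no central involution, and then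
(part C) `t` is the only involution of a Sylow 2-subgroup, which is cyclic or generalized
quaternion.  The quaternion case is the Brauer–Suzuki theorem, taken as the hypothesis `BSHyp`.
-/

set_option autoImplicit false
set_option linter.unusedSectionVars false
set_option linter.style.haveILetI false

namespace Cfsg.Agent.Helper48.ZStar

open Cfsg

universe u

/-- The Brauer–Suzuki statement (the statement of `S0201`) for all groups in `Type u`. -/
def BSHyp : Prop :=
  ∀ (G : Type u) [Group G] [Finite G] (S : Sylow 2 G) (n : ℕ)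
    (_ : (S : Subgroup G) ≃* QuaternionGroup (2 ^ (n + 1)))
    (_ : ∀ N : Subgroup G, N.Normal → Odd (Nat.card N) → N = ⊥),
    Nat.card (Subgroup.center G) = 2

variable {G : Type u} [Group G] [Finite G] {t : G}

/-- `t` is central as soon as it commutes with all its conjugates. -/
theorem central_of_commute_conj (hiso : IsIsolated t) (h : ∀ g : G, Commute t (g * t * g⁻¹)) :
    ∀ g : G, g * t * g⁻¹ = t := fun g => hiso g (h g)

/-- In a minimal counterexample `G` is the normal closure of `t`. -/
theorem min_hgen (hiso : IsIsolated t) (hO : pPrimeCore 2 G = ⊥)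
    (hnc : ¬ ∀ g : G, g * t * g⁻¹ = t)
    (hmin : ∀ (H : Subgroup G) (hxH : t ∈ H), H ≠ ⊤ → InZStar 2 (⟨t, hxH⟩ : ↥H)) :
    ∀ N : Subgroup G, N.Normal → t ∈ N → N = ⊤ := by
  intro N hN htN
  by_contra hne
  have h1 := hmin N htN hne
  haveI := hN
  have h2 : pPrimeCore 2 ↥N = ⊥ := Helper54.pPrimeCore_eq_bot_of_normal N hO
  apply hnc
  intro g
  apply hiso
  have hgN : g * t * g⁻¹ ∈ N := hN.conj_mem t htN g
  have h3 := h1 ⟨g * t * g⁻¹, hgN⟩
  rw [h2, Subgroup.mem_bot] at h3
  have h4 : (g * t * g⁻¹) * t * (g * t * g⁻¹)⁻¹ * t⁻¹ = 1 := by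
    have := congrArg Subtype.val h3
    simpa using this
  have h5 : (g * t * g⁻¹) * t = t * (g * t * g⁻¹) := by
    have : (g * t * g⁻¹) * t = ((g * t * g⁻¹) * t * (g * t * g⁻¹)⁻¹ * t⁻¹) * (t * (g * t * g⁻¹)) := by
      group
    rw [this, h4, one_mul]
  exact h5.symm

/-- In a minimal counterexample there is no central involution. -/
theorem min_no_central_involution (ht : t * t = 1) (hiso : IsIsolated t)
    (hO : pPrimeCore 2 G = ⊥) (hnc : ¬ ∀ g : G, g * t * g⁻¹ = t)
    (hquot : ∀ (N : Subgroup G) [N.Normal], N ≠ ⊥ → InZStar 2 (QuotientGroup.mk t : G ⧸ N))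
    {z : G} (hz1 : z ≠ 1) (hzc : ∀ g : G, g * z = z * g) : False := by
  classical
  haveI : Fact (Nat.Prime 2) := ⟨Nat.prime_two⟩
  set N : Subgroup G := Subgroup.zpowers z with hNdef
  have hNc : ∀ n ∈ N, ∀ g : G, g * n = n * g := by
    intro n hn g
    rw [hNdef, Subgroup.mem_zpowers_iff] at hn
    obtain ⟨k, rfl⟩ := hn
    have h1 : Commute g z := hzc g
    exact (h1.zpow_right k).eq
  haveI hNn : N.Normal := ⟨fun n hn g => by
    have := hNc n hn g
    rw [this, mul_inv_cancel_right]; exact hn⟩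
  have hNbot : N ≠ ⊥ := by
    intro h
    have : z ∈ N := Subgroup.mem_zpowers z
    rw [h, Subgroup.mem_bot] at this
    exact hz1 this
  have hq := hquot N hNbot
  set N1 : Subgroup G := (pPrimeCore 2 (G ⧸ N)).comap (QuotientGroup.mk' N) with hN1
  haveI hN1n : N1.Normal := by
    haveI : (pPrimeCore 2 (G ⧸ N)).Normal := Helper48.pPrimeCore_normal 2 (G ⧸ N)
    exact Subgroup.Normal.comap inferInstance _
  have hO1 : pPrimeCore 2 ↥N1 = ⊥ := Helper54.pPrimeCore_eq_bot_of_normal N1 hO
  -- a Sylow 2-subgroup of `N1` is central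
  obtain ⟨S⟩ : Nonempty (Sylow 2 ↥N1) := inferInstance
  have hS : (S : Subgroup ↥N1) ≤ Subgroup.center ↥N1 := by
    intro s hs
    obtain ⟨k, hk⟩ := (IsPGroup.iff_orderOf.mp S.isPGroup') ⟨s, hs⟩
    rw [Subgroup.orderOf_mk] at hk
    have hmem : (QuotientGroup.mk' N (s : G)) ∈ pPrimeCore 2 (G ⧸ N) := s.2
    have hone : QuotientGroup.mk' N (s : G) = 1 := by
      have hd1 : orderOf (QuotientGroup.mk' N (s : G)) ∣ 2 ^ k := by
        have := orderOf_map_dvd (QuotientGroup.mk' N) (s : G)
        rw [Subgroup.orderOf_coe, hk] at this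
        exact this
      have hd2 : orderOf (QuotientGroup.mk' N (s : G)) ∣ Nat.card (pPrimeCore 2 (G ⧸ N)) := by
        have := orderOf_dvd_natCard (⟨_, hmem⟩ : ↥(pPrimeCore 2 (G ⧸ N)))
        rwa [Subgroup.orderOf_mk] at this
      have hcop : (Nat.card (pPrimeCore 2 (G ⧸ N))).Coprime (2 ^ k) :=
        Nat.Coprime.pow_right k (Cfsg.Agent.Lib.card_pPrimeCore_coprime 2)
      have := Nat.eq_one_of_dvd_coprimes hcop hd2 hd1
      exact orderOf_eq_one_iff.mp this
    have hsN : (s : G) ∈ N := (QuotientGroup.eq_one_iff _).mp hone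
    rw [Subgroup.mem_center_iff]
    intro g
    apply Subtype.ext
    have := hNc _ hsN (g : G)
    simpa using this
  have htop := Helper34.central_sylow_sup_pPrimeCore S hS
  rw [hO1, sup_bot_eq] at htop
  apply hnc
  intro g
  have hss : (g * t * g⁻¹) * (g * t * g⁻¹) = 1 := conj_sq ht g
  have hc : g * t * g⁻¹ * t⁻¹ ∈ N1 := by
    rw [hN1, Subgroup.mem_comap]
    have := hq (QuotientGroup.mk g)
    simpa using this
  have hodd : Odd (orderOf (g * t * g⁻¹ * t⁻¹)) := by
    have h1 := odd_orderOf_mul_conj ht hiso g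
    have e : g * t * g⁻¹ * t⁻¹ = (t * (g * t * g⁻¹))⁻¹ := by
      rw [mul_inv_rev, inv_eq_self_of_sq hss]
    rw [e, orderOf_inv]; exact h1
  have h2 : ∃ k, orderOf (g * t * g⁻¹ * t⁻¹) = 2 ^ k := by
    have hmem : (⟨_, hc⟩ : ↥N1) ∈ (S : Subgroup ↥N1) := htop ▸ Subgroup.mem_top _
    obtain ⟨k, hk⟩ := (IsPGroup.iff_orderOf.mp S.isPGroup') ⟨_, hmem⟩
    rw [Subgroup.orderOf_mk, Subgroup.orderOf_mk] at hk
    exact ⟨k, hk⟩
  obtain ⟨k, hk⟩ := h2
  have hk0 : k = 0 := by
    by_contra hk0
    rw [hk] at hodd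
    have : Even (2 ^ k) := (Nat.even_pow.mpr ⟨even_two, hk0⟩)
    exact (Nat.not_even_iff_odd.mpr hodd) this
  rw [hk0, pow_zero, orderOf_eq_one_iff] at hk
  calc g * t * g⁻¹ = (g * t * g⁻¹ * t⁻¹) * t := by group
    _ = t := by rw [hk, one_mul]

/-- **The minimal counterexample does not exist** (given Brauer–Suzuki). -/
theorem min_false (BS : BSHyp.{u}) (ht : orderOf t = 2) (hiso : IsIsolated t)
    (hnz : ¬ InZStar 2 t)
    (hmin : ∀ (H : Subgroup G) (hxH : t ∈ H), H ≠ ⊤ → InZStar 2 (⟨t, hxH⟩ : ↥H))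
    (hquot : ∀ (N : Subgroup G) [N.Normal], N ≠ ⊥ → InZStar 2 (QuotientGroup.mk t : G ⧸ N)) :
    False := by
  classical
  haveI : Fact (Nat.Prime 2) := ⟨Nat.prime_two⟩
  have htt := sq_eq_one_of_orderOf ht
  have ht1 : t ≠ 1 := by
    intro h
    rw [h, orderOf_one] at ht
    exact absurd ht (by decide)
  have hO := Helper22.zsm_pPrimeCore_eq_bot t hnz hquot
  have hnc := Helper22.zsm_not_central t hnz
  have hgen := min_hgen hiso hO hnc hmin
  have hncz : ∀ z : G, z ≠ 1 → ¬ ∀ g : G, g * z = z * g := fun z hz1 hzc =>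
    min_no_central_involution htt hiso hO hnc hquot hz1 hzc
  have hoddbot : ∀ N : Subgroup G, N.Normal → Odd (Nat.card N) → N = ⊥ := by
    intro N hN hodd
    have h1 : N ≤ pPrimeCore 2 G :=
      Helper48.le_pPrimeCore hN (Nat.coprime_two_right.mpr hodd)
    rw [hO] at h1
    exact le_bot_iff.mp h1
  have hind : CentHyp t := by
    intro z hzz hz1 htz
    apply hmin
    intro htop
    apply hncz z hz1
    intro g
    have hg : g ∈ Subgroup.centralizer ({z} : Set G) := htop ▸ Subgroup.mem_top g
    rw [Subgroup.mem_centralizer_iff] at hg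
    exact (hg z rfl).symm
  obtain ⟨M, hM⟩ := Helper74.exists_isPModular 2 Nat.prime_two
  by_cases hex : ∃ u : G, u * u = 1 ∧ u ≠ 1 ∧ Commute t u ∧ u ≠ t
  · obtain ⟨u, hu, hu1, htu, hne⟩ := hex
    exact false_of_second_involution M hM ht hiso hind hgen hu hu1 htu hne
  · -- `t` is the only involution of `C(t)`
    have hzp : IsPGroup 2 (Subgroup.zpowers t) :=
      IsPGroup.of_card (n := 1) (by rw [Nat.card_zpowers, ht, pow_one])
    obtain ⟨P, hP⟩ := hzp.exists_le_sylow
    have htP : t ∈ (P : Subgroup G) := hP (Subgroup.mem_zpowers t)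
    have hPc : ∀ y ∈ (P : Subgroup G), y * t = t * y :=
      Helper49.isolated_commute_of_mem_pgroup hiso P.isPGroup' htP
    have huniq : Helper73.UniqueOrderP 2 ↥(P : Subgroup G) := by
      have key : ∀ w : ↥(P : Subgroup G), orderOf w = 2 → (w : G) = t := by
        intro w hw
        have hw' : orderOf (w : G) = 2 := by rw [Subgroup.orderOf_coe]; exact hw
        have hw2 : (w : G) * (w : G) = 1 := sq_eq_one_of_orderOf hw'
        have hw1 : (w : G) ≠ 1 := by
          intro h
          rw [h, orderOf_one] at hw'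
          exact absurd hw' (by decide)
        by_contra hwt
        exact hex ⟨(w : G), hw2, hw1, (hPc w w.2).symm, hwt⟩
      intro x y hx hy
      have hxy : x = y := Subtype.ext ((key x hx).trans (key y hy).symm)
      rw [hxy]; exact Subgroup.mem_zpowers y
    rcases Helper73.cyclic_or_quaternion P.isPGroup' huniq with hcyc | ⟨_, n, hn, ⟨e⟩⟩
    · -- cyclic Sylow 2-subgroups: normal 2-complement
      have hall : ∀ Q : Sylow 2 G, IsCyclic ↥(Q : Subgroup G) := by
        intro Q
        obtain ⟨g, hg⟩ := MulAction.exists_smul_eq G P Q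
        rw [← hg]
        haveI := hcyc
        exact isCyclic_of_surjective (Sylow.equivSMul P g) (Sylow.equivSMul P g).surjective
      obtain ⟨P', N, hN, hcompl⟩ :=
        (Cfsg.Agent.S2970.result t ⟨1, by rw [ht, pow_one]⟩ hiso).2 ht1 hall
      have hNodd : Odd (Nat.card N) := by
        have h1 : (P' : Subgroup G).index = Nat.card N := hcompl.index_eq_card
        rw [← h1]
        have := P'.not_dvd_index
        exact Nat.odd_iff.mpr (Nat.two_dvd_ne_zero.mp this)
      have hNbot := hoddbot N hN hNodd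
      rw [hNbot, Subgroup.isComplement'_bot_left] at hcompl
      have htP' : t ∈ (P' : Subgroup G) := hcompl ▸ Subgroup.mem_top t
      have hP'c := Helper49.isolated_commute_of_mem_pgroup hiso P'.isPGroup' htP'
      apply hnc
      intro g
      have := hP'c g (hcompl ▸ Subgroup.mem_top g)
      rw [this, mul_inv_cancel_right]
    · -- quaternion Sylow 2-subgroups: Brauer–Suzuki
      obtain ⟨m, rfl⟩ : ∃ m, n = m + 1 := ⟨n - 1, by omega⟩
      have hBS := BS G P m e hoddbot
      have hne : Subgroup.center G ≠ ⊥ := by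
        intro h
        rw [h, Subgroup.card_bot] at hBS
        exact absurd hBS (by decide)
      obtain ⟨z, hz1⟩ := (Subgroup.ne_bot_iff_exists_ne_one.mp hne)
      exact hncz (z : G) (fun h => hz1 (Subtype.ext h))
        (fun g => (Subgroup.mem_center_iff.mp z.2 g))

/-- **Glauberman's `Z*`-theorem** for isolated involutions, given Brauer–Suzuki. -/
theorem zstar_core (BS : BSHyp.{u}) : ∀ (n : ℕ) (G : Type u) [Group G] [Finite G],
    Nat.card G = n → ∀ t : G, orderOf t = 2 → IsIsolated t → InZStar 2 t := by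
  intro n
  induction n using Nat.strong_induction_on with
  | _ n ih =>
    intro G _ _ hn t ht hiso
    haveI : Fact (Nat.Prime 2) := ⟨Nat.prime_two⟩
    by_contra hnz
    apply min_false BS ht hiso hnz
    · intro H htH hne
      have hlt : Nat.card ↥H < n := by
        rw [← hn]
        exact lt_of_le_of_ne (Subgroup.card_le_card_group H)
          (fun h => hne ((Subgroup.card_eq_iff_eq_top H).mp h))
      apply ih _ hlt ↥H rfl
      · rw [Subgroup.orderOf_mk]; exact ht
      · intro a hc
        apply Subtype.ext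
        exact hiso (a : G) (congrArg Subtype.val hc.eq)
    · intro N hN hne
      by_cases h1 : (QuotientGroup.mk t : G ⧸ N) = 1
      · intro g
        rw [h1, mul_one, mul_inv_cancel, inv_one, mul_one]
        exact Subgroup.one_mem _
      · have hlt : Nat.card (G ⧸ N) < n := by
          rw [← hn, Subgroup.card_eq_card_quotient_mul_card_subgroup N]
          have h2 : 1 < Nat.card ↥N := (Subgroup.one_lt_card_iff_ne_bot N).mpr hne
          have h3 : 0 < Nat.card (G ⧸ N) := Nat.card_pos
          nlinarith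
        apply ih _ hlt (G ⧸ N) rfl
        · apply orderOf_eq_prime _ h1
          rw [← QuotientGroup.mk_pow, ← ht, pow_orderOf_eq_one, QuotientGroup.mk_one]
        · exact (Cfsg.Agent.S2970.result t ⟨1, by rw [ht, pow_one]⟩ hiso).1 N

/-- **Glauberman's `Z*`-theorem** in the form of the statement `S0215`, given Brauer–Suzuki. -/
theorem zstar_of_brauerSuzuki (BS : BSHyp.{u}) {G : Type u} [Group G] [Finite G] (P : Sylow 2 G)
    (x : G) (hx : orderOf x = 2) (_hxP : x ∈ P)
    (hiso : ∀ g : G, g * x * g⁻¹ ∈ P → g * x * g⁻¹ = x) :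
    ∃ N : Subgroup G, N.Normal ∧ Odd (Nat.card N) ∧ ∀ g : G, (x * g * x⁻¹ * g⁻¹) ∈ N := by
  classical
  haveI : Fact (Nat.Prime 2) := ⟨Nat.prime_two⟩
  have hxx := sq_eq_one_of_orderOf hx
  -- `x` is isolated
  have hI : IsIsolated x := by
    intro g hc
    -- `⟨x, g x g⁻¹⟩` is a 2-group, contained in a conjugate of `P`
    set y : G := g * x * g⁻¹ with hy
    have hyy : y * y = 1 := conj_sq hxx g
    have hxy : Commute x y := hc
    have hyo : orderOf y = 2 := by
      apply orderOf_eq_two_of_sq hyy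
      intro h
      have : x = 1 := by
        have h2 : g⁻¹ * y * g = x := by rw [hy]; group
        rw [← h2, h]; group
      rw [this, orderOf_one] at hx
      exact absurd hx (by decide)
    have hXp : IsPGroup 2 (Subgroup.zpowers x) :=
      IsPGroup.of_card (n := 1) (by rw [Nat.card_zpowers, hx, pow_one])
    have hYp : IsPGroup 2 (Subgroup.zpowers y) :=
      IsPGroup.of_card (n := 1) (by rw [Nat.card_zpowers, hyo, pow_one])
    have hle : Subgroup.zpowers y ≤ Subgroup.normalizer ((Subgroup.zpowers x : Subgroup G) : Set G) := by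
      rw [Subgroup.zpowers_le, Subgroup.mem_normalizer_iff]
      intro h
      have key : ∀ h ∈ Subgroup.zpowers x, y * h * y⁻¹ = h := by
        intro h hh
        rw [Subgroup.mem_zpowers_iff] at hh
        obtain ⟨k, rfl⟩ := hh
        have h1 : Commute y (x ^ k) := (hxy.symm).zpow_right k
        rw [h1.eq, mul_inv_cancel_right]
      constructor
      · intro hh
        rw [key h hh]; exact hh
      · intro hh
        have h5 := key _ hh
        have e : y * h * y⁻¹ = h := by
          have h6 : y⁻¹ * (y * (y * h * y⁻¹) * y⁻¹) * y = y⁻¹ * (y * h * y⁻¹) * y := by rw [h5]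
          have e1 : y⁻¹ * (y * (y * h * y⁻¹) * y⁻¹) * y = y * h * y⁻¹ := by group
          have e2 : y⁻¹ * (y * h * y⁻¹) * y = h := by group
          rw [e1, e2] at h6
          exact h6
        rw [← e]; exact hh
    have hAp : IsPGroup 2 (Subgroup.zpowers y ⊔ Subgroup.zpowers x : Subgroup G) :=
      IsPGroup.to_sup_of_normal_right' hYp hXp hle
    obtain ⟨Q, hQ⟩ := hAp.exists_le_sylow
    obtain ⟨c, hcQ⟩ := MulAction.exists_smul_eq G Q P
    have hmem : ∀ a ∈ (Q : Subgroup G), c * a * c⁻¹ ∈ (P : Subgroup G) := by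
      intro a ha
      rw [← hcQ, Sylow.coe_subgroup_smul]
      have := Subgroup.smul_mem_pointwise_smul a (MulAut.conj c) _ ha
      simpa [MulAut.smul_def] using this
    have hxQ : x ∈ (Q : Subgroup G) := hQ (le_sup_right (a := Subgroup.zpowers y) (Subgroup.mem_zpowers x))
    have hyQ : y ∈ (Q : Subgroup G) := hQ (le_sup_left (b := Subgroup.zpowers x) (Subgroup.mem_zpowers y))
    have h1 := hiso c (hmem x hxQ)
    have h2 : (c * g) * x * (c * g)⁻¹ = x := by
      apply hiso
      have e : (c * g) * x * (c * g)⁻¹ = c * y * c⁻¹ := by rw [hy]; group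
      rw [e]; exact hmem y hyQ
    have h3 : c * y * c⁻¹ = c * x * c⁻¹ := by
      rw [h1, ← h2, hy]; group
    exact mul_left_cancel (mul_right_cancel h3)
  have hZ := zstar_core BS _ G rfl x hx hI
  refine ⟨pPrimeCore 2 G, Helper48.pPrimeCore_normal 2 G, ?_, ?_⟩
  · exact Nat.coprime_two_right.mp (Cfsg.Agent.Lib.card_pPrimeCore_coprime 2)
  · intro g
    have h1 := hZ g⁻¹
    have h2 := (Helper48.pPrimeCore_normal 2 G).conj_mem _ h1 g
    have e : x * g * x⁻¹ * g⁻¹ = g * (g⁻¹ * x * g⁻¹⁻¹ * x⁻¹) * g⁻¹ := by group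
    rw [e]; exact h2

end Cfsg.Agent.Helper48.ZStar
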