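import Cfsg.Agent.Lib.ZJ10
import Cfsg.Agent.Helper33.SylowSub
import Cfsg.Agent.Helper48.PCore

/-!
# Transfer lemmas for the ZJ-theorem with a strongly closed subgroup (helper48)

* `isNormalizerPStable_of_injective`: normalizer-form `p`-stability passes to subgroups.
* `isPStableOn_quotient_of_isNormalizerPStable`: it gives `p`-stability of `X / O_{p'}(X)` on its normal
  `p`-subgroups.
* `isStronglyClosed_map_of_coprime_ker`: strong closure passes to the quotient by a normal `p'`-subgroup.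
* `pPrimeCore_sup_normalizer_sInf_maxGood`: `X = O_{p'}(X) N_X(ZJ(E))` for `X` `p`-constrained and
  normalizer-`p`-stable, `E` strongly closed in a Sylow `p`-subgroup.
* `exists_mem_conj_eq_of_sup_eq_top`: if `X = K N` with `K` a normal `p'`-subgroup then `N` controls strong
  fusion of `p`-subgroups of `N`.
-/

set_option autoImplicit false

namespace Cfsg.Agent.Helper48

open Subgroup
open Cfsg.Agent.Lib.ZJ

universe u

section stable

/-- Normalizer-form `p`-stability is inherited along injective homomorphisms (in particular by subgroups). -/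
theorem isNormalizerPStable_of_injective {X G : Type*} [Group X] [Group G] {p : ℕ} (f : X →* G)
    (hf : Function.Injective f) (hst : Cfsg.IsNormalizerPStable p G) :
    Cfsg.IsNormalizerPStable p X := by
  intro Q hQ g hg hq
  have hg' : f g ∈ normalizer ((Q.map f : Subgroup G) : Set G) :=
    (Subgroup.le_normalizer_map f) ⟨g, hg, rfl⟩
  have hq' : ⁅⁅Q.map f, zpowers (f g)⁆, zpowers (f g)⁆ = ⊥ := by
    rw [← MonoidHom.map_zpowers, ← Subgroup.map_commutator, ← Subgroup.map_commutator, hq,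
      Subgroup.map_bot]
  have hmem := hst (Q.map f) (hQ.map f) (f g) hg' hq'
  set N := normalizer (Q : Set X) with hN
  set N' := normalizer ((Q.map f : Subgroup G) : Set G) with hN'
  set C := (centralizer (Q : Set X)).subgroupOf N with hC
  set C' := (centralizer ((Q.map f : Subgroup G) : Set G)).subgroupOf N' with hC'
  let ι : ↥N →* ↥N' := (f.comp N.subtype).codRestrict N'
    (fun x => (Subgroup.le_normalizer_map f) ⟨x, x.2, rfl⟩)
  let φ : ↥N →* ↥N' ⧸ C' := (QuotientGroup.mk' C').comp ι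
  have hker : ∀ x : ↥N, φ x = 1 ↔ x ∈ C := by
    intro x
    show (QuotientGroup.mk' C') (ι x) = 1 ↔ _
    rw [QuotientGroup.mk'_apply, QuotientGroup.eq_one_iff, hC', hC, Subgroup.mem_subgroupOf,
      Subgroup.mem_subgroupOf, Subgroup.mem_centralizer_iff, Subgroup.mem_centralizer_iff]
    constructor
    · intro h y hy
      apply hf
      have := h (f y) ⟨y, hy, rfl⟩
      rw [map_mul, map_mul]
      exact this
    · rintro h _ ⟨y, hy, rfl⟩
      have := h y hy
      show f y * f x = f x * f y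
      rw [← map_mul, ← map_mul, this]
  let φb : ↥N ⧸ C →* ↥N' ⧸ C' := QuotientGroup.lift C φ (fun x hx => (hker x).2 hx)
  have hinj : Function.Injective φb := by
    rw [injective_iff_map_eq_one]
    intro q hq1
    obtain ⟨x, rfl⟩ := QuotientGroup.mk_surjective q
    have : φ x = 1 := hq1
    exact (QuotientGroup.eq_one_iff x).2 ((hker x).1 this)
  have hpn : (Cfsg.pCore p (↥N' ⧸ C')).Normal := pCore_normal p _
  have hle : (Cfsg.pCore p (↥N' ⧸ C')).comap φb ≤ Cfsg.pCore p (↥N ⧸ C) :=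
    Cfsg.Agent.Helper48.le_pCore (Subgroup.Normal.comap hpn φb)
      ((Cfsg.Agent.Lib.isPGroup_pCore p).comap_of_injective φb hinj)
  apply hle
  rw [Subgroup.mem_comap]
  exact hmem

/-- Normalizer-form `p`-stability of `X` gives `p`-stability of `X / O_{p'}(X)` on each of its normal
`p`-subgroups. -/
theorem isPStableOn_quotient_of_isNormalizerPStable {X : Type*} [Group X] [Finite X] {p : ℕ}
    [Fact p.Prime] (hs : Cfsg.IsNormalizerPStable p X)
    (Vb : Subgroup (X ⧸ Cfsg.pPrimeCore p X)) [hVbn : Vb.Normal] (hVb : IsPGroup p Vb) :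
    Cfsg.IsPStableOn p Vb := by
  set K := Cfsg.pPrimeCore p X with hK
  intro ab hq
  set π := QuotientGroup.mk' K with hπ
  have hπs : Function.Surjective π := QuotientGroup.mk'_surjective K
  have hker : π.ker = K := QuotientGroup.ker_mk' K
  have hKc : (Nat.card K).Coprime p := Cfsg.Agent.Lib.card_pPrimeCore_coprime p
  obtain ⟨T⟩ : Nonempty (Sylow p X) := Sylow.nonempty
  set V := (T : Subgroup X) ⊓ Vb.comap π with hV
  have hVp : IsPGroup p V := T.2.to_le inf_le_left
  have hVble : Vb ≤ Cfsg.pCore p (X ⧸ K) := Cfsg.Agent.Lib.le_pCore hVbn hVb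
  have hVmap : V.map π = Vb := by
    apply le_antisymm
    · rintro _ ⟨x, hx, rfl⟩
      exact hx.2
    · intro xb hxb
      have h2 : xb ∈ ((T.mapSurjective hπs : Sylow p (X ⧸ K)) : Subgroup (X ⧸ K)) :=
        Cfsg.Agent.Lib.pCore_le_sylow _ (hVble hxb)
      rw [Sylow.coe_mapSurjective] at h2
      obtain ⟨t, ht, rfl⟩ := h2
      exact ⟨t, ⟨ht, hxb⟩, rfl⟩
  have hsurj : ∀ h : X ⧸ K, ∃ g ∈ normalizer (V : Set X), π g = h := by
    intro h
    obtain ⟨x, rfl⟩ := hπs h
    have hx : π x ∈ normalizer ((V.map π : Subgroup (X ⧸ K)) : Set (X ⧸ K)) := by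
      rw [hVmap, Subgroup.normalizer_eq_top]
      exact Subgroup.mem_top _
    exact Cfsg.Agent.Helper54.exists_mem_normalizer_map_eq π (by rw [hker]; exact hKc) V hVp x hx
  obtain ⟨a, haN, hab⟩ := hsurj ab
  have hdisj : V ⊓ K = ⊥ := by
    apply (Subgroup.disjoint_of_coprime_natCard _).eq_bot
    obtain ⟨n, hn⟩ := IsPGroup.iff_card.1 hVp
    rw [hn]
    exact (Nat.Coprime.pow_right n hKc).symm
  have hza : zpowers a ≤ normalizer (V : Set X) := (Subgroup.zpowers_le).2 haN
  have hVa : ⁅V, zpowers a⁆ ≤ V := by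
    rw [Subgroup.commutator_comm]
    exact commutator_le_of_le_normalizer hza
  have hquad : ⁅⁅V, zpowers a⁆, zpowers a⁆ = ⊥ := by
    rw [eq_bot_iff, ← hdisj]
    refine le_inf ((Subgroup.commutator_mono hVa le_rfl).trans hVa) ?_
    rw [← hker, ← Subgroup.map_eq_bot_iff, Subgroup.map_commutator, Subgroup.map_commutator, hVmap,
      MonoidHom.map_zpowers, hab]
    exact hq
  have hmem := hs V hVp a haN hquad
  have hfin := mem_pCore_quotient_centralizer_map π V Vb hVmap hsurj a haN hmem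
  rw [hab] at hfin
  exact hfin

end stable

section closed

/-- A `p`-subgroup of `K T` (`K` normal, `T` a Sylow `p`-subgroup) is conjugate into `T` by an element
of `K`. -/
theorem exists_mem_normal_conj_mem_sylow {X : Type*} [Group X] [Finite X] {p : ℕ} [Fact p.Prime]
    (K : Subgroup X) [K.Normal] (T : Sylow p X) (R : Subgroup X) (hR : IsPGroup p R)
    (hRle : R ≤ K ⊔ (T : Subgroup X)) :
    ∃ k ∈ K, ∀ r ∈ R, k * r * k⁻¹ ∈ (T : Subgroup X) := by
  have hidx : ¬ p ∣ (T : Subgroup X).relIndex (K ⊔ (T : Subgroup X)) := fun h =>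
    T.not_dvd_index (h.trans (Subgroup.relIndex_dvd_index_of_le le_sup_right))
  obtain ⟨m, hm, hmR⟩ :=
    Cfsg.Agent.Helper33.exists_conj_le_of_not_dvd_relIndex le_sup_right T.2 hidx hRle hR
  have hm' : m ∈ ((T : Subgroup X) ⊔ K : Subgroup X) := by rw [sup_comm]; exact hm
  rw [← SetLike.mem_coe, Subgroup.mul_normal, Set.mem_mul] at hm'
  obtain ⟨t, ht, k, hk, rfl⟩ := hm'
  refine ⟨k, hk, fun r hr => ?_⟩
  have h1 := hmR r hr
  have h2 : k * r * k⁻¹ = t⁻¹ * (t * k * r * (t * k)⁻¹) * t := by group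
  rw [h2]
  exact (T : Subgroup X).mul_mem ((T : Subgroup X).mul_mem ((T : Subgroup X).inv_mem ht) h1) ht

/-- Strong closure passes to the quotient by a normal `p'`-subgroup. -/
theorem isStronglyClosed_map_of_surjective {X Y : Type*} [Group X] [Group Y] [Finite X] {p : ℕ}
    [Fact p.Prime] (π : X →* Y) (hπ : Function.Surjective π) (T : Sylow p X) (E : Subgroup X)
    (hE : Cfsg.IsStronglyClosed E (T : Subgroup X)) :
    Cfsg.IsStronglyClosed (E.map π) ((T : Subgroup X).map π) := by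
  refine ⟨Subgroup.map_mono hE.1, ?_⟩
  rintro _ ⟨e, he, rfl⟩ gb hgb
  obtain ⟨g, rfl⟩ := hπ gb
  obtain ⟨t, ht, htg⟩ := hgb
  have hy : g * e * g⁻¹ ∈ π.ker ⊔ (T : Subgroup X) := by
    have hker : g * e * g⁻¹ * t⁻¹ ∈ π.ker := by
      rw [MonoidHom.mem_ker, map_mul, map_inv, htg, map_mul, map_mul, map_inv, mul_inv_cancel]
    have : g * e * g⁻¹ = (g * e * g⁻¹ * t⁻¹) * t := by group
    rw [this]
    exact Subgroup.mul_mem_sup hker ht
  have hRp : IsPGroup p (zpowers (g * e * g⁻¹)) := by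
    have h1 : zpowers (g * e * g⁻¹) = (zpowers e).map (MulAut.conj g).toMonoidHom := by
      rw [MonoidHom.map_zpowers]
      rfl
    rw [h1]
    exact (T.2.to_le ((Subgroup.zpowers_le).2 (hE.1 he))).map _
  obtain ⟨k, hk, hkR⟩ := exists_mem_normal_conj_mem_sylow π.ker T _ hRp ((Subgroup.zpowers_le).2 hy)
  have h1 := hkR _ (Subgroup.mem_zpowers _)
  have h2 : k * (g * e * g⁻¹) * k⁻¹ = (k * g) * e * (k * g)⁻¹ := by group
  rw [h2] at h1
  have h3 := hE.2 e he (k * g) h1
  refine ⟨_, h3, ?_⟩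
  have hk1 : π k = 1 := hk
  simp only [map_mul, map_inv, hk1, one_mul]

end closed

section factor

variable {good : ∀ (K : Type u) [Group K], Subgroup K → Prop}

theorem maxGood_nonempty' (hI : Intrinsic good) {X : Type u} [Group X] [Finite X] (E : Subgroup X) :
    (maxGood (good X) E).Nonempty := by
  rw [← image_map_subtype_maxGoodT hI]
  exact (maxGoodT_nonempty hI).image _

theorem sInf_maxGood_le' (hI : Intrinsic good) {X : Type u} [Group X] [Finite X] (E : Subgroup X) :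
    sInf (maxGood (good X) E) ≤ E := by
  obtain ⟨A, hA⟩ := maxGood_nonempty' hI E
  exact (sInf_le hA).trans hA.1

/-- `X = O_{p'}(X) N_X(ZJ(E))` for `X` `p`-constrained and normalizer-`p`-stable and `E` strongly closed in
a Sylow `p`-subgroup of `X`; generic form in the family. -/
theorem pPrimeCore_sup_normalizer_sInf_maxGood (hI : Intrinsic good) {X : Type u} [Group X] [Finite X]
    {p : ℕ} [Fact p.Prime]
    (hrepl : ∀ (S : Type u) [Group S] [Finite S], IsPGroup p S → ∀ (D : Subgroup S) [D.Normal],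
      ReplD good S D)
    (hc : Cfsg.IsPConstrained p X) (hs : Cfsg.IsNormalizerPStable p X) (T : Sylow p X)
    (E : Subgroup X) (hE : Cfsg.IsStronglyClosed E (T : Subgroup X)) :
    Cfsg.pPrimeCore p X ⊔ normalizer ((sInf (maxGood (good X) E) : Subgroup X) : Set X) = ⊤ := by
  set K := Cfsg.pPrimeCore p X with hK
  set π := QuotientGroup.mk' K with hπ
  have hπs : Function.Surjective π := QuotientGroup.mk'_surjective K
  have hker : π.ker = K := QuotientGroup.ker_mk' K
  have hKc : (Nat.card K).Coprime p := Cfsg.Agent.Lib.card_pPrimeCore_coprime p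
  have hcb : centralizer (Cfsg.pCore p (X ⧸ K) : Set (X ⧸ K)) ≤ Cfsg.pCore p (X ⧸ K) :=
    Cfsg.Agent.Helper54.isPConstrained_iff.1 hc
  have hstb : ∀ (Pb : Subgroup (X ⧸ K)) [Pb.Normal], IsPGroup p Pb → Cfsg.IsPStableOn p Pb :=
    fun Pb _ h => isPStableOn_quotient_of_isNormalizerPStable hs Pb h
  set Tb : Sylow p (X ⧸ K) := T.mapSurjective hπs with hTb
  have hEb : Cfsg.IsStronglyClosed (E.map π) (Tb : Subgroup (X ⧸ K)) := by
    rw [Sylow.coe_mapSurjective]
    exact isStronglyClosed_map_of_surjective π hπs T E hE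
  have hEbn : ((E.map π).subgroupOf (Tb : Subgroup (X ⧸ K))).Normal :=
    normal_subgroupOf_of_stronglyClosed hEb
  have hreplb : ReplD good ↥(Tb : Subgroup (X ⧸ K)) ((E.map π).subgroupOf (Tb : Subgroup (X ⧸ K))) :=
    hrepl ↥(Tb : Subgroup (X ⧸ K)) Tb.isPGroup' _
  have hZn : (sInf (maxGood (good (X ⧸ K)) (E.map π))).Normal := by
    have h := sInf_normal (hyp_goodInto hI Tb (E.map π) hEb hreplb) hstb hcb
    rwa [maxGood_goodInto hEb] at h
  have hdisj : E ⊓ π.ker = ⊥ := by
    rw [hker]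
    apply (Subgroup.disjoint_of_coprime_natCard _).eq_bot
    obtain ⟨n, hn⟩ := IsPGroup.iff_card.1 (T.2.to_le hE.1)
    rw [hn]
    exact (Nat.Coprime.pow_right n hKc).symm
  have hinj := injective_comp_subtype_of_inf_ker π E hdisj
  rw [sInf_maxGood_map_of_injOn π E hinj hI (maxGood_nonempty' hI E)] at hZn
  set Z := sInf (maxGood (good X) E) with hZ
  have hZp : IsPGroup p Z := T.2.to_le ((sInf_maxGood_le' hI E).trans hE.1)
  rw [eq_top_iff]
  intro x _
  have hx : π x ∈ normalizer ((Z.map π : Subgroup (X ⧸ K)) : Set (X ⧸ K)) := by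
    rw [Subgroup.normalizer_eq_top]
    exact Subgroup.mem_top _
  obtain ⟨g, hg, hgx⟩ :=
    Cfsg.Agent.Helper54.exists_mem_normalizer_map_eq π (by rw [hker]; exact hKc) Z hZp x hx
  have h1 : x * g⁻¹ ∈ K := by
    rw [← hker, MonoidHom.mem_ker, map_mul, map_inv, hgx, mul_inv_cancel]
  have h2 : x = (x * g⁻¹) * g := by group
  rw [h2]
  exact Subgroup.mul_mem_sup h1 hg

end factor

section control

/-- A `p`-subgroup `B` has index `|K|` in `K B` when `K` is a normal `p'`-subgroup. -/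
theorem relIndex_sup_of_coprime {X : Type*} [Group X] [Finite X] {p : ℕ} [Fact p.Prime]
    (K B : Subgroup X) [K.Normal] (hKc : (Nat.card K).Coprime p) (hB : IsPGroup p B) :
    B.relIndex (K ⊔ B) = Nat.card K := by
  have hdisj : K ⊓ B = ⊥ := by
    apply (Subgroup.disjoint_of_coprime_natCard _).eq_bot
    obtain ⟨n, hn⟩ := IsPGroup.iff_card.1 hB
    rw [hn]
    exact Nat.Coprime.pow_right n hKc
  have e1 := Subgroup.relIndex_mul_relIndex ⊥ B (K ⊔ B) bot_le le_sup_right
  have e2 := Subgroup.relIndex_mul_relIndex ⊥ K (K ⊔ B) bot_le le_sup_left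
  rw [Subgroup.relIndex_bot_left, Subgroup.relIndex_bot_left] at e1 e2
  have e3 : K.relIndex (K ⊔ B) = Nat.card B := by
    rw [Subgroup.relIndex_sup_left, ← Subgroup.inf_relIndex_right, hdisj, Subgroup.relIndex_bot_left]
  rw [e3, ← e1] at e2
  have hpos : 0 < Nat.card B := Nat.card_pos
  have : Nat.card B * Nat.card K = Nat.card B * B.relIndex (K ⊔ B) := by rw [← e2, mul_comm]
  exact (Nat.eq_of_mul_eq_mul_left hpos this).symm

/-- If `X = K N` with `K` a normal `p'`-subgroup, then `N` controls strong `X`-fusion of the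
`p`-subgroups of `N`. -/
theorem exists_mem_conj_eq_of_sup_eq_top {X : Type*} [Group X] [Finite X] {p : ℕ} [hp : Fact p.Prime]
    (K N : Subgroup X) [hKn : K.Normal] (hKc : (Nat.card K).Coprime p) (hKN : K ⊔ N = ⊤)
    (B : Subgroup X) (hB : IsPGroup p B) (hBN : B ≤ N) (h : X) (hh : ∀ b ∈ B, h * b * h⁻¹ ∈ N) :
    ∃ x ∈ N, ∀ b ∈ B, x * b * x⁻¹ = h * b * h⁻¹ := by
  have hdisj : B ⊓ K = ⊥ := by
    apply (Subgroup.disjoint_of_coprime_natCard _).eq_bot
    obtain ⟨n, hn⟩ := IsPGroup.iff_card.1 hB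
    rw [hn]
    exact (Nat.Coprime.pow_right n hKc).symm
  have hh' : h ∈ (N ⊔ K : Subgroup X) := by rw [sup_comm, hKN]; exact Subgroup.mem_top _
  rw [← SetLike.mem_coe, Subgroup.mul_normal, Set.mem_mul] at hh'
  obtain ⟨n, hn, k, hk, rfl⟩ := hh'
  -- the conjugate `B₁ = k B k⁻¹`
  set B₁ : Subgroup X := B.map (MulAut.conj k).toMonoidHom with hB₁
  have hB₁p : IsPGroup p B₁ := hB.map _
  set L : Subgroup X := (K ⊔ B) ⊓ N with hL
  have hBL : B ≤ L := le_inf le_sup_right hBN
  have hB₁L : B₁ ≤ L := by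
    rintro _ ⟨b, hb, rfl⟩
    show k * b * k⁻¹ ∈ L
    refine ⟨?_, ?_⟩
    · have h1 : k * b * k⁻¹ = (k * (b * k⁻¹ * b⁻¹)) * b := by group
      rw [h1]
      exact Subgroup.mul_mem_sup (K.mul_mem hk (hKn.conj_mem _ (K.inv_mem hk) b)) hb
    · have h1 : k * b * k⁻¹ = n⁻¹ * (n * k * b * (n * k)⁻¹) * n := by group
      rw [h1]
      exact N.mul_mem (N.mul_mem (N.inv_mem hn) (hh b hb)) hn
  have hidx : ¬ p ∣ B.relIndex L := by
    intro hdvd
    have h1 := Subgroup.relIndex_mul_relIndex B L (K ⊔ B) hBL inf_le_left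
    rw [relIndex_sup_of_coprime K B hKc hB] at h1
    have h2 : p ∣ Nat.card K := (hdvd.trans (Dvd.intro _ rfl)).trans (dvd_of_eq h1)
    exact (Nat.Prime.coprime_iff_not_dvd hp.out).1 hKc.symm h2
  obtain ⟨m, hmL, hmB₁⟩ :=
    Cfsg.Agent.Helper33.exists_conj_le_of_not_dvd_relIndex hBL hB hidx hB₁L hB₁p
  have hm' : m ∈ (B ⊔ K : Subgroup X) := by rw [sup_comm]; exact hmL.1
  rw [← SetLike.mem_coe, Subgroup.mul_normal, Set.mem_mul] at hm'
  obtain ⟨b', hb', k', hk', hmeq⟩ := hm'
  have hk'N : k' ∈ N := by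
    have : k' = b'⁻¹ * m := by rw [← hmeq]; group
    rw [this]
    exact N.mul_mem (N.inv_mem (hBN hb')) hmL.2
  -- `k' * k` normalizes, hence centralizes, `B`
  have hcent : ∀ b ∈ B, (k' * k) * b * (k' * k)⁻¹ = b := by
    intro b hb
    have h1 : m * (k * b * k⁻¹) * m⁻¹ ∈ B := hmB₁ _ ⟨b, hb, rfl⟩
    have h2 : (k' * k) * b * (k' * k)⁻¹ ∈ B := by
      have : (k' * k) * b * (k' * k)⁻¹ = b'⁻¹ * (m * (k * b * k⁻¹) * m⁻¹) * b' := by
        rw [← hmeq]; group
      rw [this]
      exact B.mul_mem (B.mul_mem (B.inv_mem hb') h1) hb'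
    have hkk : k' * k ∈ K := K.mul_mem hk' hk
    have h3 : (k' * k) * b * (k' * k)⁻¹ * b⁻¹ ∈ B ⊓ K := by
      refine ⟨B.mul_mem h2 (B.inv_mem hb), ?_⟩
      have : (k' * k) * b * (k' * k)⁻¹ * b⁻¹ = (k' * k) * (b * (k' * k)⁻¹ * b⁻¹) := by group
      rw [this]
      exact K.mul_mem hkk (hKn.conj_mem _ (K.inv_mem hkk) b)
    rw [hdisj, Subgroup.mem_bot] at h3
    exact mul_inv_eq_one.1 h3
  refine ⟨n * k'⁻¹, N.mul_mem hn (N.inv_mem hk'N), fun b hb => ?_⟩
  have h1 := hcent b hb
  calc n * k'⁻¹ * b * (n * k'⁻¹)⁻¹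
      = n * k'⁻¹ * ((k' * k) * b * (k' * k)⁻¹) * (n * k'⁻¹)⁻¹ := by rw [h1]
    _ = n * k * b * (n * k)⁻¹ := by group

end control

end Cfsg.Agent.Helper48
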