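import Mathlib

set_option autoImplicit false

/-!
# Extraspecial 2-groups via the sign pairing

`ES2 E z`: abstract setting of a group `E` in which `z` is a central involution, every commutator
lies in `{1, z}` and the centre is `{1, z}`.  We build the sign pairing `sgn q a = ±1` according as
`q`, `a` commute or not, prove it is bimultiplicative and deduce, by a double character sum,
`|C_E(B)| * |B| = |E| * |B ⊓ Z(E)|` for every subgroup `B`.
-/

namespace Cfsg.Agent.Helper48

/-- Abstract setting of an extraspecial `2`-group with central involution `z`. -/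
structure ES2 (E : Type*) [Group E] (z : E) : Prop where
  central : ∀ x, z * x = x * z
  ne_one : z ≠ 1
  sq : z * z = 1
  comm : ∀ q a : E, q * a = a * q ∨ q * a = z * (a * q)
  center : ∀ q : E, (∀ a, q * a = a * q) → q = 1 ∨ q = z

namespace ES2

variable {E : Type*} [Group E] {z : E} (h : ES2 E z)

include h in
theorem eq_of_not_comm {q a : E} (hqa : q * a ≠ a * q) : q * a = z * (a * q) :=
  (h.comm q a).resolve_left hqa

include h in
theorem comm_mul_of_not_comm {q a b : E} (ha : q * a ≠ a * q) (hb : q * b ≠ b * q) :
    q * (a * b) = (a * b) * q := by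
  have h1 := h.eq_of_not_comm ha
  have h2 := h.eq_of_not_comm hb
  calc q * (a * b) = (q * a) * b := by group
    _ = z * (a * q) * b := by rw [h1]
    _ = z * a * (q * b) := by group
    _ = z * a * (z * (b * q)) := by rw [h2]
    _ = a * (z * z) * (b * q) := by
        rw [h.central a]; group
    _ = a * b * q := by rw [h.sq]; group

open Classical in
/-- The sign pairing: `sgn q a = 1` if `q` and `a` commute and `-1` otherwise. -/
noncomputable def sgn (q : E) : E →* ℤˣ where
  toFun a := if q * a = a * q then 1 else -1
  map_one' := by simp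
  map_mul' a b := by
    by_cases ha : q * a = a * q <;> by_cases hb : q * b = b * q
    · have : q * (a * b) = a * b * q := by
        rw [← mul_assoc, ha, mul_assoc, hb, mul_assoc]
      simp [ha, hb, this]
    · have : q * (a * b) ≠ a * b * q := by
        intro hab
        apply hb
        rw [← mul_assoc, ha, mul_assoc, mul_assoc] at hab
        exact mul_left_cancel hab
      simp [ha, hb, this]
    · have : q * (a * b) ≠ a * b * q := by
        intro hab
        apply ha
        rw [← mul_assoc, mul_assoc a b q, ← hb, ← mul_assoc a q b] at hab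
        exact mul_right_cancel hab
      simp [ha, hb, this]
    · have := h.comm_mul_of_not_comm ha hb
      simp [ha, hb, this]

theorem sgn_apply (q a : E) [Decidable (q * a = a * q)] :
    h.sgn q a = if q * a = a * q then 1 else -1 := by
  unfold sgn
  simp only [MonoidHom.coe_mk, OneHom.coe_mk]
  congr

theorem sgn_eq_one_iff (q a : E) : h.sgn q a = 1 ↔ q * a = a * q := by
  classical
  rw [h.sgn_apply]
  by_cases hqa : q * a = a * q
  · simp [hqa]
  · simp only [hqa, if_false, iff_false]
    decide

theorem sgn_symm (q a : E) : h.sgn q a = h.sgn a q := by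
  classical
  rw [h.sgn_apply, h.sgn_apply]
  by_cases hqa : q * a = a * q
  · rw [if_pos hqa, if_pos hqa.symm]
  · rw [if_neg hqa, if_neg (fun h' => hqa h'.symm)]

theorem sgn_coe (q a : E) [Decidable (q * a = a * q)] :
    ((h.sgn q a : ℤˣ) : ℤ) = if q * a = a * q then 1 else -1 := by
  rw [h.sgn_apply]
  split_ifs <;> rfl

/-- Summing the sign pairing over a subgroup. -/
theorem sum_sgn_subgroup [Finite E] (B : Subgroup E) [Fintype B] (q : E)
    [Decidable (q ∈ Subgroup.centralizer (B : Set E))] :
    ∑ b : B, ((h.sgn q b : ℤˣ) : ℤ) =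
      if q ∈ Subgroup.centralizer (B : Set E) then (Fintype.card B : ℤ) else 0 := by
  classical
  let f : B →* ℤ := (Units.coeHom ℤ).comp ((h.sgn q).comp B.subtype)
  have hf : ∀ b : B, f b = ((h.sgn q b : ℤˣ) : ℤ) := fun b => rfl
  simp_rw [← hf]
  by_cases hq : q ∈ Subgroup.centralizer (B : Set E)
  · rw [if_pos hq]
    have : ∀ b : B, f b = 1 := by
      intro b
      rw [hf]
      have : h.sgn q b = 1 := by
        rw [h.sgn_eq_one_iff]
        exact (Subgroup.mem_centralizer_iff.mp hq b b.2).symm
      rw [this]; rfl
    simp [this]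
  · rw [if_neg hq]
    apply sum_hom_units_eq_zero
    intro hf1
    apply hq
    rw [Subgroup.mem_centralizer_iff]
    intro b hb
    have h1 : f ⟨b, hb⟩ = 1 := by rw [hf1]; rfl
    rw [hf] at h1
    have h2 : h.sgn q b = 1 := Units.ext h1
    exact ((h.sgn_eq_one_iff q b).mp h2).symm

/-- Summing the sign pairing over the whole group. -/
theorem sum_sgn_univ [Fintype E] (b : E) [Decidable (b ∈ Subgroup.center E)] :
    ∑ q : E, ((h.sgn q b : ℤˣ) : ℤ) =
      if b ∈ Subgroup.center E then (Fintype.card E : ℤ) else 0 := by
  classical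
  simp_rw [h.sgn_symm _ b]
  let f : E →* ℤ := (Units.coeHom ℤ).comp (h.sgn b)
  have hf : ∀ q : E, f q = ((h.sgn b q : ℤˣ) : ℤ) := fun q => rfl
  simp_rw [← hf]
  by_cases hb : b ∈ Subgroup.center E
  · rw [if_pos hb]
    have : ∀ q : E, f q = 1 := by
      intro q
      rw [hf]
      have : h.sgn b q = 1 := by
        rw [h.sgn_eq_one_iff]
        exact (Subgroup.mem_center_iff.mp hb q).symm
      rw [this]; rfl
    simp [this]
  · rw [if_neg hb]
    apply sum_hom_units_eq_zero
    intro hf1
    apply hb
    rw [Subgroup.mem_center_iff]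
    intro q
    have h1 : f q = 1 := by rw [hf1]; rfl
    rw [hf] at h1
    have h2 : h.sgn b q = 1 := Units.ext h1
    exact ((h.sgn_eq_one_iff b q).mp h2).symm

include h in
/-- The fundamental counting identity `|C_E(B)| * |B| = |E| * |B ⊓ Z(E)|`. -/
theorem card_centralizer_mul_card [Finite E] (B : Subgroup E) :
    Nat.card (Subgroup.centralizer (B : Set E)) * Nat.card B =
      Nat.card E * Nat.card (B ⊓ Subgroup.center E : Subgroup E) := by
  classical
  have := Fintype.ofFinite E
  have key : ∑ q : E, ∑ b : B, ((h.sgn q b : ℤˣ) : ℤ) = ∑ b : B, ∑ q : E, ((h.sgn q b : ℤˣ) : ℤ) :=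
    Finset.sum_comm
  simp_rw [h.sum_sgn_subgroup B, h.sum_sgn_univ] at key
  rw [Finset.sum_ite, Finset.sum_ite, Finset.sum_const_zero, Finset.sum_const_zero, add_zero,
    add_zero, Finset.sum_const, Finset.sum_const, nsmul_eq_mul, nsmul_eq_mul] at key
  have e1 : (Finset.univ.filter (fun q : E => q ∈ Subgroup.centralizer (B : Set E))).card =
      Nat.card (Subgroup.centralizer (B : Set E)) := by
    rw [Nat.card_eq_fintype_card, Fintype.card_subtype]
  have e2 : (Finset.univ.filter (fun b : B => (b : E) ∈ Subgroup.center E)).card =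
      Nat.card (B ⊓ Subgroup.center E : Subgroup E) := by
    rw [← Fintype.card_subtype, ← Nat.card_eq_fintype_card]
    apply Nat.card_congr
    exact {
      toFun := fun b => ⟨b.1.1, b.1.2, b.2⟩
      invFun := fun b => ⟨⟨b.1, b.2.1⟩, b.2.2⟩
      left_inv := fun b => rfl
      right_inv := fun b => rfl }
  rw [e1, e2, ← Nat.card_eq_fintype_card, ← Nat.card_eq_fintype_card] at key
  have key' : ((Nat.card (Subgroup.centralizer (B : Set E)) * Nat.card B : ℕ) : ℤ) =
      ((Nat.card E * Nat.card (B ⊓ Subgroup.center E : Subgroup E) : ℕ) : ℤ) := by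
    push_cast
    rw [key]; ring
  exact_mod_cast key'

include h in
/-- Squares are central: `x * x ∈ {1, z}`. -/
theorem mul_self_eq (x : E) : x * x = 1 ∨ x * x = z := by
  apply h.center
  intro y
  rcases h.comm x y with hxy | hxy
  · calc x * x * y = x * (x * y) := by group
      _ = x * (y * x) := by rw [hxy]
      _ = (x * y) * x := by group
      _ = y * x * x := by rw [hxy]
      _ = y * (x * x) := by group
  · calc x * x * y = x * (x * y) := by group
      _ = x * (z * (y * x)) := by rw [hxy]
      _ = z * ((x * y) * x) := by rw [← mul_assoc x z, ← h.central x]; group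
      _ = z * (z * (y * x) * x) := by rw [hxy]
      _ = (z * z) * (y * (x * x)) := by group
      _ = y * (x * x) := by rw [h.sq, one_mul]

include h in
theorem orderOf_eq_four_iff (x : E) : orderOf x = 4 ↔ x * x ≠ 1 := by
  constructor
  · intro h4 hx
    have : orderOf x ∣ 2 := orderOf_dvd_of_pow_eq_one (by rw [pow_two]; exact hx)
    rw [h4] at this
    omega
  · intro hx
    have hz : x * x = z := (h.mul_self_eq x).resolve_left hx
    have h1 : ¬ x ^ 2 ^ 1 = 1 := by rw [pow_one, pow_two]; exact hx
    have h2 : x ^ 2 ^ (1 + 1) = 1 := by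
      have : x ^ 2 ^ (1 + 1) = (x * x) * (x * x) := by
        show x ^ 4 = (x * x) * (x * x)
        rw [show (4 : ℕ) = 2 + 2 from rfl, pow_add, pow_two]
      rw [this, hz, h.sq]
    have := orderOf_eq_prime_pow h1 h2
    simpa using this

open Classical in
/-- `sqSign x = 1` if `x * x = 1` and `-1` otherwise. -/
noncomputable def sqSign (x : E) : ℤ := if x * x = 1 then 1 else -1

include h in
theorem sqSign_mul (x a : E) (ha : a * a = 1) :
    sqSign (x * a) = sqSign x * ((h.sgn x a : ℤˣ) : ℤ) := by
  classical
  rw [h.sgn_coe]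
  unfold sqSign
  by_cases hxa : x * a = a * x
  · have : (x * a) * (x * a) = x * x := by
      calc (x * a) * (x * a) = x * (a * x) * a := by group
        _ = x * (x * a) * a := by rw [hxa]
        _ = x * x * (a * a) := by group
        _ = x * x := by rw [ha, mul_one]
    rw [this, if_pos hxa, mul_one]
  · have h1 := h.eq_of_not_comm hxa
    have h2 : a * x = z * (x * a) := by
      rw [h1, ← mul_assoc, h.sq, one_mul]
    have : (x * a) * (x * a) = z * (x * x) := by
      calc (x * a) * (x * a) = x * (a * x) * a := by group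
        _ = x * (z * (x * a)) * a := by rw [h2]
        _ = (x * z) * (x * x⁻¹) * (x * (a * a)) := by group
        _ = z * (x * x) := by rw [ha, ← h.central x]; group
    rw [this, if_neg hxa]
    rcases h.mul_self_eq x with hx | hx
    · rw [hx, mul_one, if_neg h.ne_one, if_pos rfl]; ring
    · rw [hx, h.sq, if_pos rfl, if_neg h.ne_one]; ring

include h in
/-- If `A` is an elementary abelian self-centralizing subgroup then the squaring signs sum to
`|A|`. -/
theorem sum_sqSign [Fintype E] (A : Subgroup E) (hexp : ∀ a ∈ A, a * a = 1)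
    (hC : Subgroup.centralizer (A : Set E) = A) :
    ∑ x : E, sqSign x = (Nat.card A : ℤ) := by
  classical
  have := Fintype.ofFinite A
  have h1 : ∑ _a : A, ∑ x : E, sqSign x = ∑ a : A, ∑ x : E, sqSign (x * (a : E)) := by
    apply Finset.sum_congr rfl
    intro a _
    exact (Equiv.sum_comp (Equiv.mulRight (a : E)) sqSign).symm
  have h2 : ∑ a : A, ∑ x : E, sqSign (x * (a : E)) =
      ∑ x : E, sqSign x * ∑ a : A, ((h.sgn x a : ℤˣ) : ℤ) := by
    rw [Finset.sum_comm]
    apply Finset.sum_congr rfl
    intro x _
    rw [Finset.mul_sum]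
    apply Finset.sum_congr rfl
    intro a _
    exact h.sqSign_mul x a (hexp a a.2)
  have h3 : ∀ x : E, sqSign x * ∑ a : A, ((h.sgn x a : ℤˣ) : ℤ) =
      if x ∈ A then (Fintype.card A : ℤ) else 0 := by
    intro x
    rw [h.sum_sgn_subgroup A x]
    by_cases hx : x ∈ A
    · have hx' : x ∈ Subgroup.centralizer (A : Set E) := by rw [hC]; exact hx
      rw [if_pos hx', if_pos hx]
      unfold sqSign
      rw [if_pos (hexp x hx), one_mul]
    · have hx' : x ∉ Subgroup.centralizer (A : Set E) := by rw [hC]; exact hx
      rw [if_neg hx', if_neg hx, mul_zero]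
  rw [h2] at h1
  simp_rw [h3] at h1
  rw [Finset.sum_const, Finset.sum_ite, Finset.sum_const_zero, add_zero, Finset.sum_const,
    nsmul_eq_mul, nsmul_eq_mul] at h1
  have e1 : (Finset.univ.filter (fun x : E => x ∈ A)).card = Fintype.card A := by
    rw [Fintype.card_subtype]
  rw [e1, Finset.card_univ] at h1
  have hpos : (Fintype.card A : ℤ) ≠ 0 := by
    have : 0 < Fintype.card A := Fintype.card_pos
    exact_mod_cast this.ne'
  rw [Nat.card_eq_fintype_card]
  exact mul_left_cancel₀ hpos h1

include h in
/-- Counting the elements of order four of an extraspecial `2`-group of plus type. -/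
theorem two_mul_card_orderOf_four [Finite E] (A : Subgroup E) (hexp : ∀ a ∈ A, a * a = 1)
    (hC : Subgroup.centralizer (A : Set E) = A) :
    2 * Nat.card {x : E // orderOf x = 4} + Nat.card A = Nat.card E := by
  classical
  have := Fintype.ofFinite E
  have h1 := h.sum_sqSign A hexp hC
  unfold sqSign at h1
  rw [Finset.sum_ite, Finset.sum_const, Finset.sum_const, nsmul_eq_mul, nsmul_eq_mul] at h1
  have e1 : Nat.card {x : E // orderOf x = 4} =
      (Finset.univ.filter (fun x : E => ¬ x * x = 1)).card := by
    rw [Nat.card_eq_fintype_card, ← Fintype.card_subtype]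
    apply Fintype.card_congr
    exact Equiv.subtypeEquivRight (fun x => h.orderOf_eq_four_iff x)
  have e2 : (Finset.univ.filter (fun x : E => x * x = 1)).card +
      (Finset.univ.filter (fun x : E => ¬ x * x = 1)).card = Fintype.card E := by
    rw [Finset.card_filter_add_card_filter_not, Finset.card_univ]
  rw [e1, Nat.card_eq_fintype_card (α := E)]
  have : ((2 * (Finset.univ.filter (fun x : E => ¬ x * x = 1)).card + Nat.card A : ℕ) : ℤ) =
      (Fintype.card E : ℤ) := by
    rw [← e2]
    push_cast
    linarith
  exact_mod_cast this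

end ES2

end Cfsg.Agent.Helper48
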