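import Cfsg.Agent.Helper16.DT.Defs
import Cfsg.Agent.Helper16.SecondMainKappa

set_option autoImplicit false
set_option linter.unusedSectionVars false
set_option linter.unusedVariables false

/-!
# DT farm (helper16, #13881), piece (INa) `trace_indep_pRegular`: the core

`INa_core` is the statement with the two inputs (DEN) `density` and (TRP) `trace_mul_of_pPower` as
hypotheses.
-/

namespace Cfsg.Agent.Helper48.DT

open Cfsg Cfsg.Agent.Helper16 Cfsg.Agent.Helper16.DT Polynomial Matrix

universe u v w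

section FieldK

variable {K : Type v} [Field K] {G : Type u} [Group G]

/-- (INa) with the density theorem and the `p`-power trace lemma as hypotheses -/
theorem INa_core {p : ℕ} [Fact p.Prime] [Fintype G] {r : ℕ}
    (d : Fin r → ℕ) (ρ : ∀ i, G →* Matrix (Fin (d i)) (Fin (d i)) K)
    (hirr : ∀ i, IsIrredMat (ρ i))
    (hDEN : ∀ A : ∀ i, Matrix (Fin (d i)) (Fin (d i)) K, ∃ x : G → K, ∀ i, gaAct (ρ i) x = A i)
    (hTRP : ∀ i (u s : G), Commute u s → ∀ k : ℕ, u ^ (p ^ k) = 1 →
      (ρ i (u * s)).trace = (ρ i s).trace)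
    (c : Fin r → K) (hc : ∀ g : G, IsPRegular p g → ∑ i, c i * (ρ i g).trace = 0) : c = 0 := by
  classical
  -- the relation holds at every element
  have hall : ∀ g : G, ∑ i, c i * (ρ i g).trace = 0 := by
    intro g
    obtain ⟨u, s, hus, hcomm, ⟨k, hk⟩, hs⟩ := exists_isPPart p (Fact.out : p.Prime) g
    have hu : u ^ (p ^ k) = 1 := by rw [← hk]; exact pow_orderOf_eq_one u
    rw [← hus]
    have : ∀ i, c i * (ρ i (u * s)).trace = c i * (ρ i s).trace := by
      intro i
      rw [hTRP i u s hcomm k hu]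
    rw [Finset.sum_congr rfl (fun i _ => this i)]
    exact hc s hs
  funext j
  have hj : Nonempty (Fin (d j)) := (hirr j).1
  obtain ⟨a⟩ := hj
  -- a group algebra element acting as a matrix of trace one on `ρ j` and as zero on the others
  obtain ⟨x, hx⟩ := hDEN (fun i => if h : i = j then h ▸ Matrix.single a a (1 : K) else 0)
  have htr : ∀ i, (gaAct (ρ i) x).trace = if i = j then 1 else 0 := by
    intro i
    rw [hx i]
    by_cases h : i = j
    · subst h
      simp
    · rw [dif_neg h, if_neg h, Matrix.trace_zero]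
  have h0 : ∑ g, x g * ∑ i, c i * (ρ i g).trace = 0 := by
    apply Finset.sum_eq_zero
    intro g _
    rw [hall g, mul_zero]
  have h1 : ∑ g, x g * ∑ i, c i * (ρ i g).trace = ∑ i, c i * (gaAct (ρ i) x).trace := by
    simp only [Finset.mul_sum]
    rw [Finset.sum_comm]
    apply Finset.sum_congr rfl
    intro i _
    unfold gaAct
    rw [Matrix.trace_sum, Finset.mul_sum]
    apply Finset.sum_congr rfl
    intro g _
    rw [Matrix.trace_smul, smul_eq_mul]
    ring
  rw [h1] at h0
  simp only [htr, mul_ite, mul_one, mul_zero, Finset.sum_ite_eq', Finset.mem_univ, if_true] at h0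
  exact h0

/-- (TRP), own copy: in characteristic `p` the trace does not see commuting factors of `p`-power
order -/
theorem INa_trace_mul_of_pPower {p : ℕ} [Fact p.Prime] [CharP K p] {ι : Type w} [Fintype ι]
    [DecidableEq ι] (ρ : G →* Matrix ι ι K) (u s : G) (hc : Commute u s) (k : ℕ)
    (hu : u ^ (p ^ k) = 1) : (ρ (u * s)).trace = (ρ s).trace := by
  rcases isEmpty_or_nonempty ι with hι | hι
  · simp [Matrix.trace]
  have hcomm : Commute (ρ u) (ρ s) := by
    show ρ u * ρ s = ρ s * ρ u
    rw [← map_mul, ← map_mul, hc.eq]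
  have hN : (ρ u - 1) ^ (p ^ k) = 0 := by
    rw [sub_pow_char_pow_of_commute p k (Commute.one_right _), ← map_pow, hu, map_one, one_pow, sub_self]
  have hcomm' : Commute (ρ u - 1) (ρ s) := hcomm.sub_left (Commute.one_left _)
  have hnil : IsNilpotent ((ρ u - 1) * ρ s) := by
    refine ⟨p ^ k, ?_⟩
    rw [hcomm'.mul_pow, hN, zero_mul]
  have htr : ((ρ u - 1) * ρ s).trace = 0 :=
    (Matrix.isNilpotent_trace_of_isNilpotent hnil).eq_zero
  have e : ρ (u * s) = ρ s + (ρ u - 1) * ρ s := by
    rw [map_mul, sub_mul, one_mul]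
    abel
  rw [e, Matrix.trace_add, htr, add_zero]

/-- (INa) with only the density theorem as a hypothesis -/
theorem INa_of_density {p : ℕ} [Fact p.Prime] [CharP K p] [Fintype G] {r : ℕ}
    (d : Fin r → ℕ) (ρ : ∀ i, G →* Matrix (Fin (d i)) (Fin (d i)) K)
    (hirr : ∀ i, IsIrredMat (ρ i))
    (hDEN : ∀ A : ∀ i, Matrix (Fin (d i)) (Fin (d i)) K, ∃ x : G → K, ∀ i, gaAct (ρ i) x = A i)
    (c : Fin r → K) (hc : ∀ g : G, IsPRegular p g → ∑ i, c i * (ρ i g).trace = 0) : c = 0 :=
  INa_core d ρ hirr hDEN (fun i u s h k hu => INa_trace_mul_of_pPower (ρ i) u s h k hu) c hc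

end FieldK

end Cfsg.Agent.Helper48.DT
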