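import Cfsg.Agent.Helper6.SUrep3

/-!
# (A0) geometry pieces for helper6's Landazuri–Seitz bounds for `SU_n(q)` (S2334/S2335)
-/

set_option autoImplicit false

namespace Cfsg.Agent.Helper48.SUrep

open Matrix Cfsg.Agent.Helper13 Module
open Cfsg.Agent.Helper6.SUrep

variable {F : Type*} [Field F] [Fintype F] {q n : ℕ}

local notation "⟪" x ", " y "⟫" => Cfsg.hermForm n F q x y

/-- (A0a) -/
theorem finrank_hypCompl (hF : Fintype.card F = q ^ 2) (W : Submodule F (Fin n → F))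
    (u u' : Fin n → F) (huW : u ∈ W) (hu'W : u' ∈ W) (huu : ⟪u, u⟫ = 0) (hu'u' : ⟪u', u'⟫ = 0)
    (huu' : ⟪u, u'⟫ = 1) : finrank F (hypCompl q W u u') + 2 = finrank F W := by
  have h1 := finrank_hypCompl_add_two_le hF W huW hu'W huu huu'
  have h2 := finrank_le_hypCompl_add_two hF W huW hu'W huu hu'u' huu'
  omega

/-- (A0b) -/
theorem exists_isotropic_ne_zero_in (hF : Fintype.card F = q ^ 2) {W : Submodule F (Fin n → F)}
    (hW : NonDeg q W) (hk : 2 ≤ finrank F W) : ∃ v ∈ W, v ≠ 0 ∧ ⟪v, v⟫ = 0 :=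
  exists_isotropic_in hF hW hk

/-- (A0c) -/
theorem exists_suW_map (hF : Fintype.card F = q ^ 2) {W : Submodule F (Fin n → F)}
    (hW : NonDeg q W) (hk : 3 ≤ finrank F W) {u p : Fin n → F} (huW : u ∈ W) (hpW : p ∈ W)
    (hu0 : u ≠ 0) (hp0 : p ≠ 0) (huu : ⟪u, u⟫ = 0) (hpp : ⟪p, p⟫ = 0) :
    ∃ g : suW q W, suMat (g : Cfsg.SU n F q) *ᵥ u = p := by
  obtain ⟨t, ht, h⟩ := exists_T_map hF W hW hk huW hpW hu0 hp0 huu hpp
  obtain ⟨A, hA⟩ := exists_SU_of_inTW hF (ht.mono le_top)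
  have hfix : FixPerp q W (suMat A) := by
    rw [hA]
    exact ht.fixPerp
  refine ⟨⟨A, hfix⟩, ?_⟩
  show suMat A *ᵥ u = p
  rw [hA, h]

/-- (A0e) -/
theorem eiW_comm_tvW (hF : Fintype.card F = q ^ 2) (W : Submodule F (Fin n → F))
    (u y : Fin n → F) (c : F) (huW : u ∈ W) (hyW : y ∈ W) (huu : ⟪u, u⟫ = 0) (hyu : ⟪y, u⟫ = 0)
    (hc : c + c ^ q + ⟪y, y⟫ = 0) (s : skewS hF) :
    eiW hF W u y c huW hyW huu hyu hc * tvW hF W u huW huu s =
      tvW hF W u huW huu s * eiW hF W u y c huW hyW huu hyu hc := by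
  apply suW_ext
  show suMat (eiW hF W u y c huW hyW huu hyu hc : Cfsg.SU n F q) *
      suMat (tvW hF W u huW huu s : Cfsg.SU n F q) =
    suMat (tvW hF W u huW huu s : Cfsg.SU n F q) *
      suMat (eiW hF W u y c huW hyW huu hyu hc : Cfsg.SU n F q)
  rw [suMat_eiW, suMat_tvW]
  apply mat_ext_mulVec
  intro x
  rw [← Matrix.mulVec_mulVec, ← Matrix.mulVec_mulVec, eichler_mulVec, eichler_mulVec,
    unitaryTransvection_mulVec, unitaryTransvection_mulVec]
  simp only [hermForm_add_left, hermForm_sub_left, hermForm_smul_left, huu, hyu, mul_zero,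
    add_zero, sub_zero]
  have huy : ⟪u, y⟫ = 0 := hermForm_eq_zero_symm hF hyu
  simp only [huy, mul_zero, zero_smul, add_zero]
  abel

end Cfsg.Agent.Helper48.SUrep
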