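import Mathlib
import Cfsg.Agent.Helper13.Sp4O.Defs

/-!
# (XCOMM) `MeS 1 0 0` commutes with `UWS c` (piece for S2281 n = 2, q odd; helper13)
-/

set_option autoImplicit false

namespace Cfsg.Agent.Helper48.Sp4O

open Matrix Cfsg.Agent.Helper13.Sp4O

variable {F : Type*} [Field F]

/-- (XCOMM) -/
theorem X_comm_UW (c : F) : MeS 1 0 0 * UWS c = UWS c * MeS (1 : F) 0 0 := by
  apply Subtype.ext
  show Me (1 : F) 0 0 * UW c = UW c * Me (1 : F) 0 0
  have key : ∀ x : V4 F, (Me (1 : F) 0 0 * UW c) *ᵥ x = (UW c * Me (1 : F) 0 0) *ᵥ x := by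
    intro x
    rw [← Matrix.mulVec_mulVec, ← Matrix.mulVec_mulVec, UW_mulVec, Me_mulVec, Me_mulVec, UW_mulVec]
    apply vec_ext <;> simp <;> ring
  exact mat_ext4 (key _) (key _) (key _) (key _)

end Cfsg.Agent.Helper48.Sp4O
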