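import Mathlib
import Cfsg.Agent.Helper5.OmBN.Defs

/-!
# (MEMSG): the Siegel elements `E_{e,w}` are isometries (piece for S2549, helper5)
-/

set_option autoImplicit false

namespace Cfsg.Agent.Helper48.OmBN

open Matrix Cfsg.Agent.Helper5.OmBN

variable {F : Type*} [Field F] {m : ℕ} {α β : F}

/-- the action of a Siegel element on a vector -/
theorem sgMat_mulVec (e : Fin (2 * m + 2)) (w1 w2 : F) (v : Fin (2 * m + 2) → F)
    (x : Fin (2 * m + 2)) :
    (sgMat α β e w1 w2 *ᵥ v) x = v x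
      + (if e = x then (2 * w1 + α * w2) * v c1 + (α * w1 + 2 * β * w2) * v c2
          - Nf α β w1 w2 * v (Fin.rev e) else 0)
      - (if c1 = x then w1 * v (Fin.rev e) else 0)
      - (if c2 = x then w2 * v (Fin.rev e) else 0) := by
  unfold sgMat
  simp only [Matrix.add_mulVec, Matrix.sub_mulVec, Matrix.smul_mulVec, Matrix.one_mulVec,
    Matrix.single_mulVec, Pi.add_apply, Pi.sub_apply, Pi.smul_apply, Function.update_apply,
    Pi.zero_apply, smul_eq_mul, one_mul]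
  have h1 : (e = x) ↔ (x = e) := eq_comm
  have h2 : (c1 = x) ↔ (x = c1) := eq_comm
  have h3 : (c2 = x) ↔ (x = c2) := eq_comm
  simp only [h1, h2, h3]
  split_ifs <;> ring

/-- a Siegel element with `e = lo k` preserves the quadratic form -/
theorem Qm_sgMat_lo (k : Fin m) (w1 w2 : F) (v : Fin (2 * m + 2) → F) :
    Qm α β (sgMat α β (lo k) w1 w2 *ᵥ v) = Qm α β v := by
  classical
  unfold Qm
  have hlo : ∀ i : Fin m, (sgMat α β (lo k) w1 w2 *ᵥ v) (lo i) = v (lo i) +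
      (if k = i then (2 * w1 + α * w2) * v c1 + (α * w1 + 2 * β * w2) * v c2
          - Nf α β w1 w2 * v (hi k) else 0) := by
    intro i
    rw [sgMat_mulVec, if_neg (lo_ne_c1 i).symm, if_neg (lo_ne_c2 i).symm, rev_lo, sub_zero, sub_zero]
    congr 1
    by_cases h : k = i
    · rw [if_pos h, if_pos (by rw [h])]
    · rw [if_neg h, if_neg (fun h' => h (lo_injective h'))]
  have hhi : ∀ i : Fin m, (sgMat α β (lo k) w1 w2 *ᵥ v) (hi i) = v (hi i) := by
    intro i
    rw [sgMat_mulVec, if_neg (lo_ne_hi k i), if_neg (hi_ne_c1 i).symm, if_neg (hi_ne_c2 i).symm,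
      add_zero, sub_zero, sub_zero]
  have hc1 : (sgMat α β (lo k) w1 w2 *ᵥ v) c1 = v c1 - w1 * v (hi k) := by
    rw [sgMat_mulVec, if_neg (lo_ne_c1 k), if_pos rfl, if_neg c1_ne_c2.symm, rev_lo, add_zero,
      sub_zero]
  have hc2 : (sgMat α β (lo k) w1 w2 *ᵥ v) c2 = v c2 - w2 * v (hi k) := by
    rw [sgMat_mulVec, if_neg (lo_ne_c2 k), if_neg c1_ne_c2, if_pos rfl, rev_lo, add_zero,
      sub_zero]
  simp_rw [hlo, hhi, hc1, hc2, add_mul, ite_mul, zero_mul]
  rw [Finset.sum_add_distrib, Finset.sum_ite_eq Finset.univ k, if_pos (Finset.mem_univ k)]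
  unfold Nf
  ring

/-- a Siegel element with `e = hi k` preserves the quadratic form -/
theorem Qm_sgMat_hi (k : Fin m) (w1 w2 : F) (v : Fin (2 * m + 2) → F) :
    Qm α β (sgMat α β (hi k) w1 w2 *ᵥ v) = Qm α β v := by
  classical
  unfold Qm
  have hhi : ∀ i : Fin m, (sgMat α β (hi k) w1 w2 *ᵥ v) (hi i) = v (hi i) +
      (if k = i then (2 * w1 + α * w2) * v c1 + (α * w1 + 2 * β * w2) * v c2
          - Nf α β w1 w2 * v (lo k) else 0) := by
    intro i
    rw [sgMat_mulVec, if_neg (hi_ne_c1 i).symm, if_neg (hi_ne_c2 i).symm, rev_hi, sub_zero, sub_zero]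
    congr 1
    by_cases h : k = i
    · rw [if_pos h, if_pos (by rw [h])]
    · rw [if_neg h, if_neg (fun h' => h (hi_injective h'))]
  have hlo : ∀ i : Fin m, (sgMat α β (hi k) w1 w2 *ᵥ v) (lo i) = v (lo i) := by
    intro i
    rw [sgMat_mulVec, if_neg (lo_ne_hi i k).symm, if_neg (lo_ne_c1 i).symm,
      if_neg (lo_ne_c2 i).symm, add_zero, sub_zero, sub_zero]
  have hc1 : (sgMat α β (hi k) w1 w2 *ᵥ v) c1 = v c1 - w1 * v (lo k) := by
    rw [sgMat_mulVec, if_neg (hi_ne_c1 k), if_pos rfl, if_neg c1_ne_c2.symm, rev_hi, add_zero,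
      sub_zero]
  have hc2 : (sgMat α β (hi k) w1 w2 *ᵥ v) c2 = v c2 - w2 * v (lo k) := by
    rw [sgMat_mulVec, if_neg (hi_ne_c2 k), if_neg c1_ne_c2, if_pos rfl, rev_hi, add_zero,
      sub_zero]
  simp_rw [hlo, hhi, hc1, hc2, mul_add, mul_ite, mul_zero]
  rw [Finset.sum_add_distrib, Finset.sum_ite_eq Finset.univ k, if_pos (Finset.mem_univ k)]
  unfold Nf
  ring

/-- (MEMSG) the Siegel elements are isometries -/
theorem sgMat_isO (e : Fin (2 * m + 2)) (he1 : e ≠ c1) (he2 : e ≠ c2) (w1 w2 : F) :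
    IsO α β (sgMat α β e w1 w2) := by
  have hQ : ∀ v : Fin (2 * m + 2) → F, Qm α β (sgMat α β e w1 w2 *ᵥ v) = Qm α β v := by
    intro v
    rcases pos_cases e with ⟨k, rfl⟩ | ⟨k, rfl⟩ | h | h
    · exact Qm_sgMat_lo k w1 w2 v
    · exact Qm_sgMat_hi k w1 w2 v
    · exact absurd h he1
    · exact absurd h he2
  have hB : ∀ u v : Fin (2 * m + 2) → F,
      Bm α β (sgMat α β e w1 w2 *ᵥ u) (sgMat α β e w1 w2 *ᵥ v) = Bm α β u v := by
    intro u v
    have h := hQ (u + v)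
    rw [Matrix.mulVec_add, Qm_add, Qm_add, hQ, hQ] at h
    exact add_left_cancel h
  rw [isO_iff]
  refine ⟨fun s => ?_, fun r s => ?_⟩
  · rw [← Cfsg.Agent.Helper5.OmBN.mulVec_single_one, hQ, Qm_single]
  · rw [← Cfsg.Agent.Helper5.OmBN.mulVec_single_one, ← Cfsg.Agent.Helper5.OmBN.mulVec_single_one,
      hB, Bm_single_single]

end Cfsg.Agent.Helper48.OmBN
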