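import Mathlib
import Cfsg.Agent.Helper5.OmBN.Defs

/-!
# (SGMUL), (SGZERO): the Siegel elements `E_{e,w}` multiply like the vectors `w` add
(pieces for S2549, helper5)
-/

set_option autoImplicit false

namespace Cfsg.Agent.Helper48.OmBN

open Matrix Cfsg.Agent.Helper5.OmBN

variable {F : Type*} [Field F] {m : ℕ} {α β : F}

theorem rev_ne_self' (e : Fin (2 * m + 2)) : Fin.rev e ≠ e := by
  intro h
  have := congrArg Fin.val h
  rw [Fin.val_rev] at this
  omega

/-- (SGMUL) the Siegel elements `E_{e,w}`, `e` fixed, multiply like the vectors `w` add -/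
theorem sgMat_mul (e : Fin (2 * m + 2)) (he1 : e ≠ c1) (he2 : e ≠ c2) (w1 w2 v1 v2 : F) :
    sgMat α β e w1 w2 * sgMat α β e v1 v2 = sgMat α β e (w1 + v1) (w2 + v2) := by
  have h1 : (c1 : Fin (2 * m + 2)) ≠ e := fun h => he1 h.symm
  have h2 : (c2 : Fin (2 * m + 2)) ≠ e := fun h => he2 h.symm
  have h12 : (c1 : Fin (2 * m + 2)) ≠ c2 := c1_ne_c2
  have h21 : (c2 : Fin (2 * m + 2)) ≠ c1 := fun h => c1_ne_c2 h.symm
  have hr : Fin.rev e ≠ e := rev_ne_self' e
  have hr1 : Fin.rev e ≠ c1 := fun h => he2 (by rw [← Fin.rev_rev e, h, rev_c1])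
  have hr2 : Fin.rev e ≠ c2 := fun h => he1 (by rw [← Fin.rev_rev e, h, rev_c2])
  have z : ∀ (i j k l : Fin (2 * m + 2)) (c d : F), j ≠ k →
      Matrix.single i j c * Matrix.single k l d = (0 : Matrix (Fin (2 * m + 2)) (Fin (2 * m + 2)) F) :=
    fun i j k l c d h => Matrix.single_mul_single_of_ne c i j k h d
  unfold sgMat
  simp only [add_mul, mul_add, sub_mul, mul_sub, Matrix.smul_mul, Matrix.mul_smul, one_mul, mul_one,
    Matrix.single_mul_single_same, z _ _ _ _ _ _ h1,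
    z _ _ _ _ _ _ h2, z _ _ _ _ _ _ h12,
    z _ _ _ _ _ _ h21, z _ _ _ _ _ _ hr,
    z _ _ _ _ _ _ hr1, z _ _ _ _ _ _ hr2,
    smul_zero, sub_zero, add_zero]
  unfold Nf
  module

/-- (SGZERO) -/
theorem sgMat_zero (e : Fin (2 * m + 2)) : sgMat α β e 0 0 = 1 := by
  unfold sgMat Nf
  simp

end Cfsg.Agent.Helper48.OmBN
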