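import Mathlib

/-!
# (FLD) for S5965 (helper13's subfield route): three small facts on finite fields
-/

set_option autoImplicit false
set_option linter.style.haveILetI false

namespace Cfsg.Agent.Helper48.SubOdd

open Polynomial

variable {F : Type*} [Field F]

/-- (MEM) -/
theorem mem_iff_pow_eq [Finite F] (F₀ : Subfield F) (q₀ : ℕ) (hF₀ : Nat.card ↥F₀ = q₀) (a : F) :
    a ∈ F₀ ↔ a ^ q₀ = a := by
  classical
  letI : Fintype F := Fintype.ofFinite F
  letI : Fintype ↥F₀ := Fintype.ofFinite ↥F₀
  have hcard : Fintype.card ↥F₀ = q₀ := by rw [← Nat.card_eq_fintype_card, hF₀]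
  have hq1 : 1 < q₀ := by rw [← hcard]; exact Fintype.one_lt_card
  constructor
  · intro ha
    have h1 := FiniteField.pow_card (⟨a, ha⟩ : ↥F₀)
    rw [hcard] at h1
    have h2 := congrArg (Subtype.val) h1
    simpa using h2
  · intro ha
    -- the roots of `X ^ q₀ - X`
    set f : F[X] := X ^ q₀ - X with hf
    have hf0 : f ≠ 0 := FiniteField.X_pow_card_sub_X_ne_zero F hq1
    have hdeg : f.natDegree = q₀ := FiniteField.X_pow_card_sub_X_natDegree_eq F hq1
    set S : Finset F := f.roots.toFinset with hS
    have hScard : S.card ≤ q₀ := by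
      calc S.card ≤ Multiset.card f.roots := Multiset.toFinset_card_le _
        _ ≤ f.natDegree := Polynomial.card_roots' f
        _ = q₀ := hdeg
    set T : Finset F := Finset.univ.image (fun x : ↥F₀ => (x : F)) with hT
    have hTcard : T.card = q₀ := by
      rw [hT, Finset.card_image_of_injective _ Subtype.val_injective, Finset.card_univ, hcard]
    have hTS : T ⊆ S := by
      intro x hx
      rw [hT, Finset.mem_image] at hx
      obtain ⟨y, -, rfl⟩ := hx
      rw [hS, Multiset.mem_toFinset, Polynomial.mem_roots hf0, hf, Polynomial.IsRoot.def]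
      have h1 := FiniteField.pow_card y
      rw [hcard] at h1
      have h2 := congrArg (Subtype.val) h1
      simp only [SubmonoidClass.coe_pow] at h2
      simp [h2]
    have hEq : T = S := Finset.eq_of_subset_of_card_le hTS (by rw [hTcard]; exact hScard)
    have haS : a ∈ S := by
      rw [hS, Multiset.mem_toFinset, Polynomial.mem_roots hf0, hf, Polynomial.IsRoot.def]
      simp [ha]
    rw [← hEq, hT, Finset.mem_image] at haS
    obtain ⟨y, -, rfl⟩ := haS
    exact y.2

/-- (CARD) -/
theorem card_subfield_eq_pow [Finite F] (p : ℕ) [Fact p.Prime] [CharP F p] (F₀ : Subfield F) :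
    ∃ a : ℕ, 0 < a ∧ Nat.card ↥F₀ = p ^ a := by
  letI : Fintype ↥F₀ := Fintype.ofFinite ↥F₀
  have : CharP ↥F₀ p := RingHom.charP F₀.subtype Subtype.val_injective p
  obtain ⟨n, -, hn⟩ := FiniteField.card ↥F₀ p
  exact ⟨n, n.pos, by rw [Nat.card_eq_fintype_card, hn]⟩

/-- (ZETA) -/
theorem exists_orderOf_eq [Fintype F] (r : ℕ) [Fact r.Prime] (h : r ∣ Fintype.card F - 1) :
    ∃ ζ : F, orderOf ζ = r := by
  classical
  have h1 : r ∣ Fintype.card Fˣ := by rw [Fintype.card_units]; exact h
  obtain ⟨x, hx⟩ := exists_prime_orderOf_dvd_card r h1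
  exact ⟨(x : F), by rw [orderOf_units, hx]⟩

end Cfsg.Agent.Helper48.SubOdd
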