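import Mathlib
import Cfsg.Agent.Helper13.SubOddDefs
import Cfsg.Agent.Helper48.SubOddFLD

/-!
# (K3) for S5965 (helper13's subfield route): if `charpoly (lam⁻¹ A)` is `F₀`-rational then the
multiplicity function of `A` is invariant under an affine map `j ↦ q₀ j + c` of `ZMod r`.
-/

set_option autoImplicit false

namespace Cfsg.Agent.Helper48.SubOddK3

open Matrix Polynomial
open Cfsg.Agent.Helper43.PGLPrime (zp mult)

variable {F : Type*} [Field F] {n : ℕ}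

theorem zp_natCast_mul {ζ : F} {r : ℕ} [NeZero r] (hζ : ζ ^ r = 1) (m : ℕ) (j : ZMod r) :
    zp ζ r ((m : ZMod r) * j) = zp ζ r j ^ m := by
  induction m with
  | zero => rw [Nat.cast_zero, zero_mul, Cfsg.Agent.Helper43.PGLPrime.zp_zero, pow_zero]
  | succ m ih =>
    rw [Nat.cast_succ, add_mul, one_mul, Cfsg.Agent.Helper43.PGLPrime.zp_add hζ, ih, pow_succ]

/-- (K3) -/
theorem mult_affine_of_rational [Fintype F] (F₀ : Subfield F) (q₀ : ℕ) (hF₀ : Nat.card ↥F₀ = q₀)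
    (hn : 0 < n) (r : ℕ) [Fact r.Prime] (hrF : (r : F) ≠ 0) (ζ : F) (hζ : orderOf ζ = r)
    (A : Matrix (Fin n) (Fin n) F) (hA : A ^ r = 1) (lam : F) (hlam : lam ≠ 0)
    (h : ∀ i, (lam⁻¹ • A).charpoly.coeff i ∈ F₀) :
    ∃ c : ZMod r, ∀ j : ZMod r, mult ζ r A ((q₀ : ZMod r) * j + c) = mult ζ r A j := by
  classical
  have hr : r.Prime := Fact.out
  have : NeZero r := ⟨hr.ne_zero⟩
  have hζr : ζ ^ r = 1 := by rw [← hζ]; exact pow_orderOf_eq_one ζ
  obtain ⟨p, hp⟩ := CharP.exists F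
  have : CharP F p := hp
  have : Fact p.Prime := ⟨CharP.char_is_prime F p⟩
  obtain ⟨a, -, ha⟩ := Cfsg.Agent.Helper48.SubOdd.card_subfield_eq_pow p F₀
  rw [hF₀] at ha
  -- the Frobenius of `F₀`
  set σ : F →+* F := iterateFrobenius F p a with hσ
  have hσapp : ∀ x : F, σ x = x ^ q₀ := by
    intro x
    rw [hσ, iterateFrobenius_def, ha]
  have hσinj : Function.Injective σ := σ.injective
  have hσfix : ∀ x ∈ F₀, σ x = x := by
    intro x hx
    rw [hσapp]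
    exact (Cfsg.Agent.Helper48.SubOdd.mem_iff_pow_eq F₀ q₀ hF₀ x).1 hx
  set ψ : F[X] := (lam⁻¹ • A).charpoly with hψ
  have hψmap : ψ.map σ = ψ := by
    ext i
    rw [Polynomial.coeff_map, hσfix _ (h i)]
  have hmultσ : ∀ t : F, ψ.rootMultiplicity (σ t) = ψ.rootMultiplicity t := by
    intro t
    have h1 := Polynomial.eq_rootMultiplicity_map (p := ψ) hσinj t
    rw [hψmap] at h1
    exact h1.symm
  have hlam' : lam⁻¹ ≠ 0 := inv_ne_zero hlam
  have hψscale : ψ = A.charpoly.scaleRoots lam⁻¹ :=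
    Cfsg.Agent.Helper43.PGLPrime.charpoly_smul A lam⁻¹ hlam'
  have hroot : ∀ t : F, ψ.rootMultiplicity (lam⁻¹ * t) = A.charpoly.rootMultiplicity t := by
    intro t
    rw [hψscale, rootMultiplicity_scaleRoots _ (IsRegular.of_ne_zero hlam').left]
  have hmult : ∀ j : ZMod r, ψ.rootMultiplicity (lam⁻¹ * zp ζ r j) = mult ζ r A j :=
    fun j => hroot _
  have hσzp : ∀ j : ZMod r, σ (zp ζ r j) = zp ζ r ((q₀ : ZMod r) * j) := by
    intro j
    rw [hσapp, zp_natCast_mul hζr]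
  -- a root
  obtain ⟨hprod, hsum⟩ := Cfsg.Agent.Helper43.PGLPrime.charpoly_eq_prod hr hζ hrF A hA
  obtain ⟨j0, hj0⟩ : ∃ j0 : ZMod r, 0 < mult ζ r A j0 := by
    by_contra hcon
    push Not at hcon
    have : ∑ j : ZMod r, mult ζ r A j = 0 :=
      Finset.sum_eq_zero fun j _ => Nat.le_zero.1 (hcon j)
    omega
  set μ : F := σ lam⁻¹ * lam with hμ
  have hσlam : σ lam⁻¹ = lam⁻¹ * μ := by
    rw [hμ, mul_comm (σ lam⁻¹) lam, ← mul_assoc, inv_mul_cancel₀ hlam, one_mul]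
  have hσt : ∀ j : ZMod r, σ (lam⁻¹ * zp ζ r j) = lam⁻¹ * (μ * zp ζ r ((q₀ : ZMod r) * j)) := by
    intro j
    rw [map_mul, hσzp, hσlam, mul_assoc]
  have hch0 : A.charpoly ≠ 0 := (Matrix.charpoly_monic A).ne_zero
  have hpos : 0 < A.charpoly.rootMultiplicity (μ * zp ζ r ((q₀ : ZMod r) * j0)) := by
    rw [← hroot, ← hσt, hmultσ, hmult]
    exact hj0
  have hisroot : A.charpoly.IsRoot (μ * zp ζ r ((q₀ : ZMod r) * j0)) :=
    (Polynomial.rootMultiplicity_pos hch0).1 hpos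
  have hsf : Squarefree (X ^ r - 1 : F[X]) :=
    ((X_pow_sub_one_separable_iff).mpr hrF).squarefree
  have hAh : aeval A (X ^ r - 1 : F[X]) = 0 := by
    rw [map_sub, map_pow, aeval_X, map_one, hA, sub_self]
  have h1 := Cfsg.Agent.Helper43.PGLPrime.isRoot_of_isRoot_charpoly A _ hsf hAh _ hisroot
  rw [IsRoot.def, eval_sub, eval_pow, eval_X, eval_one, sub_eq_zero] at h1
  obtain ⟨j1, hj1⟩ := Cfsg.Agent.Helper43.PGLPrime.eq_zp_of_pow_eq_one hζ _ h1
  -- `μ = zp c`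
  set c : ZMod r := j1 - (q₀ : ZMod r) * j0 with hc
  have hμc : μ = zp ζ r c := by
    have h2 : zp ζ r c * zp ζ r ((q₀ : ZMod r) * j0) = zp ζ r j1 := by
      rw [← Cfsg.Agent.Helper43.PGLPrime.zp_add hζr, hc, sub_add_cancel]
    have h3 : zp ζ r ((q₀ : ZMod r) * j0) ≠ 0 :=
      Cfsg.Agent.Helper43.PGLPrime.zp_ne_zero hr.ne_zero hζr _
    exact mul_right_cancel₀ h3 (by rw [hj1, h2])
  refine ⟨c, fun j => ?_⟩
  have h4 : lam⁻¹ * zp ζ r ((q₀ : ZMod r) * j + c) = σ (lam⁻¹ * zp ζ r j) := by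
    rw [hσt, hμc, ← Cfsg.Agent.Helper43.PGLPrime.zp_add hζr, add_comm]
  rw [← hmult, h4, hmultσ, hmult]

end Cfsg.Agent.Helper48.SubOddK3
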