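import Mathlib

/-!
# (LTE) for S5965 (helper13's subfield route): two lifting-the-exponent computations
-/

set_option autoImplicit false

namespace Cfsg.Agent.Helper48.SubOdd

/-- (LTEA) -/
theorem padicValNat_pow_sub_one_eq (r k q₀ : ℕ) [Fact r.Prime] (hr2 : r ≠ 2) (hk : k.Prime)
    (hrk : r ≠ k) (hq₀ : 1 < q₀)
    (hA : ∀ j, 0 < j → r ∣ (q₀ ^ k) ^ j - 1 → r ∣ q₀ ^ j - 1) (j : ℕ) (hj : 0 < j) :
    padicValNat r ((q₀ ^ k) ^ j - 1) = padicValNat r (q₀ ^ j - 1) := by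
  have hr : r.Prime := Fact.out
  have hrodd : Odd r := hr.odd_of_ne_two hr2
  have hswap : (q₀ ^ k) ^ j = (q₀ ^ j) ^ k := by rw [← pow_mul, ← pow_mul, mul_comm]
  have hx1 : 1 < q₀ ^ j := Nat.one_lt_pow hj.ne' hq₀
  by_cases hdvd : r ∣ (q₀ ^ k) ^ j - 1
  · have h1 : r ∣ q₀ ^ j - 1 := hA j hj hdvd
    have hx : ¬ r ∣ q₀ ^ j := by
      intro h2
      have h3 : r ∣ q₀ ^ j - (q₀ ^ j - 1) := Nat.dvd_sub h2 h1
      have h4 : q₀ ^ j - (q₀ ^ j - 1) = 1 := by omega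
      rw [h4] at h3
      exact hr.one_lt.ne' (Nat.dvd_one.1 h3)
    have : Fact k.Prime := ⟨hk⟩
    have h5 := padicValNat.pow_sub_pow hrodd hx1 h1 hx hk.ne_zero
    rw [one_pow] at h5
    rw [hswap, h5, padicValNat_primes hrk, add_zero]
  · have h1 : ¬ r ∣ q₀ ^ j - 1 := by
      intro h2
      apply hdvd
      rw [hswap]
      have h3 : q₀ ^ j - 1 ∣ (q₀ ^ j) ^ k - 1 := by
        simpa using Nat.sub_dvd_pow_sub_pow (q₀ ^ j) 1 k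
      exact h2.trans h3
    rw [padicValNat.eq_zero_of_not_dvd hdvd, padicValNat.eq_zero_of_not_dvd h1]

/-- (LTE2) -/
theorem padicValNat_sq_sub_one_eq (r q₀ : ℕ) [Fact r.Prime] (hr2 : r ≠ 2) (hq₀ : 1 < q₀)
    (h : r ∣ q₀ + 1) :
    padicValNat r ((q₀ ^ 2) ^ 2 - 1) = padicValNat r (q₀ ^ 2 - 1) := by
  have hr : r.Prime := Fact.out
  have hsq : 1 < q₀ ^ 2 := Nat.one_lt_pow two_ne_zero hq₀
  have hfac : (q₀ ^ 2) ^ 2 - 1 = (q₀ ^ 2 - 1) * (q₀ ^ 2 + 1) := by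
    have h1 : (q₀ ^ 2 - 1) * (q₀ ^ 2 + 1) + 1 = (q₀ ^ 2) ^ 2 := by
      obtain ⟨m, hm⟩ : ∃ m, q₀ ^ 2 = m + 1 := ⟨q₀ ^ 2 - 1, by omega⟩
      rw [hm]
      simp only [Nat.add_sub_cancel]
      ring
    omega
  have hnd : ¬ r ∣ q₀ ^ 2 + 1 := by
    intro h1
    -- q₀^2 + 1 = (q₀ + 1) * (q₀ - 1) + 2
    have h2 : q₀ ^ 2 + 1 = (q₀ + 1) * (q₀ - 1) + 2 := by
      obtain ⟨m, hm⟩ : ∃ m, q₀ = m + 1 := ⟨q₀ - 1, by omega⟩
      rw [hm]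
      simp only [Nat.add_sub_cancel]
      ring
    have h3 : r ∣ (q₀ + 1) * (q₀ - 1) := Dvd.dvd.mul_right h _
    have h4 : r ∣ 2 := by
      have := (Nat.dvd_add_right h3).1 (h2 ▸ h1)
      exact this
    exact hr2 ((Nat.prime_dvd_prime_iff_eq hr Nat.prime_two).1 h4)
  rw [hfac, padicValNat.mul (by omega) (by omega), padicValNat.eq_zero_of_not_dvd hnd, add_zero]

end Cfsg.Agent.Helper48.SubOdd
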