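import Mathlib

/-!
# (ROOT) for S5965 (helper13's subfield route): `n`-th roots in the cyclic group `Fˣ`
-/

set_option autoImplicit false

namespace Cfsg.Agent.Helper48.SubOdd

variable {F : Type*} [Field F] {n : ℕ}

/-- if `v_r(n) < v_r(N)` then `r * gcd n N ∣ N` -/
theorem mul_gcd_dvd_of_padicValNat_lt (r : ℕ) [Fact r.Prime] {n N : ℕ} (hn : 0 < n) (hN : 0 < N)
    (hv : padicValNat r n < padicValNat r N) : r * Nat.gcd n N ∣ N := by
  set g := Nat.gcd n N with hg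
  have hgpos : 0 < g := Nat.gcd_pos_of_pos_left N hn
  obtain ⟨N₁, hN₁⟩ : g ∣ N := Nat.gcd_dvd_right n N
  obtain ⟨n₁, hn₁⟩ : g ∣ n := Nat.gcd_dvd_left n N
  have hN₁0 : N₁ ≠ 0 := by rintro rfl; rw [mul_zero] at hN₁; omega
  have hn₁0 : n₁ ≠ 0 := by rintro rfl; rw [mul_zero] at hn₁; omega
  have hrN₁ : r ∣ N₁ := by
    by_contra hnd
    have h1 : padicValNat r N = padicValNat r g := by
      rw [hN₁, padicValNat.mul hgpos.ne' hN₁0, padicValNat.eq_zero_of_not_dvd hnd, add_zero]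
    have h2 : padicValNat r n = padicValNat r g + padicValNat r n₁ := by
      rw [hn₁, padicValNat.mul hgpos.ne' hn₁0]
    omega
  obtain ⟨m, hm⟩ := hrN₁
  exact ⟨m, by rw [hN₁, hm]; ring⟩

/-- (ROOT1) `ζ⁻¹` is an `n`-th power when `(n)_r < (q-1)_r` -/
theorem exists_pow_mul_eq_one [Fintype F] (hn : 0 < n) (r : ℕ) [Fact r.Prime] (ζ : F)
    (hζ : orderOf ζ = r)
    (hv : padicValNat r n < padicValNat r (Fintype.card F - 1)) :
    ∃ lam : F, lam ≠ 0 ∧ lam ^ n * ζ = 1 := by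
  classical
  have hr : r.Prime := Fact.out
  set N := Fintype.card F - 1 with hNdef
  have hcardU : Fintype.card Fˣ = N := Fintype.card_units F
  have hNpos : 0 < N := by rw [← hcardU]; exact Fintype.card_pos
  have hζ0 : ζ ≠ 0 := by
    rintro rfl
    rw [orderOf_zero] at hζ
    exact hr.ne_zero hζ.symm
  -- the unit
  set ζu : Fˣ := Units.mk0 ζ hζ0 with hζu
  have hζur : ζu ^ r = 1 := by
    apply Units.ext
    rw [Units.val_pow_eq_pow_val, Units.val_mk0, Units.val_one, ← hζ, pow_orderOf_eq_one]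
  obtain ⟨ω, hω⟩ := IsCyclic.exists_generator (α := Fˣ)
  have hordω : orderOf ω = N := by
    rw [orderOf_eq_card_of_forall_mem_zpowers hω, Nat.card_eq_fintype_card, hcardU]
  obtain ⟨k, hk⟩ := Subgroup.mem_zpowers_iff.1 (hω ζu⁻¹)
  -- `N ∣ k * r`
  have hNkr : (N : ℤ) ∣ k * r := by
    rw [← hordω, orderOf_dvd_iff_zpow_eq_one, zpow_mul, hk, zpow_natCast, inv_pow, hζur, inv_one]
  have hrg := mul_gcd_dvd_of_padicValNat_lt r hn hNpos hv
  set g := Nat.gcd n N with hg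
  -- `g ∣ k`
  have hgk : (g : ℤ) ∣ k := by
    have h1 : ((r * g : ℕ) : ℤ) ∣ k * r := (Int.natCast_dvd_natCast.2 hrg).trans hNkr
    have h2 : (r : ℤ) * g ∣ (r : ℤ) * k := by
      rw [mul_comm (r : ℤ) k]
      exact_mod_cast h1
    exact (mul_dvd_mul_iff_left (by exact_mod_cast hr.ne_zero)).1 h2
  obtain ⟨k₁, hk₁⟩ := hgk
  -- Bezout
  have hgpos : 0 < g := Nat.gcd_pos_of_pos_left N hn
  have hbez : (g : ℤ) = n * Nat.gcdA n N + N * Nat.gcdB n N := Nat.gcd_eq_gcd_ab n N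
  set x : ℤ := Nat.gcdA n N * k₁ with hx
  have hnx : (n : ℤ) * x = k - N * (Nat.gcdB n N * k₁) := by
    rw [hx, hk₁]
    have : (n : ℤ) * Nat.gcdA n N = g - N * Nat.gcdB n N := by linarith
    calc (n : ℤ) * (Nat.gcdA n N * k₁) = ((n : ℤ) * Nat.gcdA n N) * k₁ := by ring
      _ = (g - N * Nat.gcdB n N) * k₁ := by rw [this]
      _ = g * k₁ - N * (Nat.gcdB n N * k₁) := by ring
  have hωN : ω ^ (N : ℤ) = 1 := by rw [zpow_natCast, ← hordω, pow_orderOf_eq_one]
  have hpow : (ω ^ x) ^ n = ζu⁻¹ := by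
    rw [← zpow_natCast, ← zpow_mul, mul_comm x n, hnx, zpow_sub, zpow_mul, hωN, one_zpow,
      hk]
    simp
  refine ⟨((ω ^ x : Fˣ) : F), Units.ne_zero _, ?_⟩
  have h1 : ((ω ^ x) ^ n * ζu : Fˣ) = 1 := by rw [hpow, inv_mul_cancel]
  have h2 := congrArg (fun u : Fˣ => (u : F)) h1
  simpa [hζu] using h2

/-- (ROOT2) an `r`-th root of unity which is an `r`-th power is trivial when `(q-1)_r = r` -/
theorem eq_one_of_pow_of_val_one [Fintype F] (r : ℕ) [Fact r.Prime]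
    (hv : padicValNat r (Fintype.card F - 1) = 1) (t lam : F) (ht : t ^ r = 1) (hlam : lam ≠ 0)
    (h : t = lam ^ r) : t = 1 := by
  have hr : r.Prime := Fact.out
  set N := Fintype.card F - 1 with hNdef
  have hN0 : N ≠ 0 := by
    rintro h0
    rw [h0] at hv
    simp at hv
  have hrN : r ∣ N := by
    have := (padicValNat_dvd_iff_le (p := r) (n := 1) hN0).2 (by omega)
    simpa using this
  obtain ⟨M, hM⟩ := hrN
  have hrM : ¬ r ∣ M := by
    rintro ⟨M', hM'⟩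
    have h2 : r ^ 2 ∣ N := ⟨M', by rw [hM, hM']; ring⟩
    have := (padicValNat_dvd_iff_le (p := r) (n := 2) hN0).1 h2
    omega
  have htM : t ^ M = 1 := by
    rw [h, ← pow_mul, ← hM]
    exact FiniteField.pow_card_sub_one_eq_one lam hlam
  have hcop : Nat.gcd r M = 1 := (Nat.Prime.coprime_iff_not_dvd hr).2 hrM
  have := (pow_gcd_eq_one (a := t) (m := r) (n := M)).2 ⟨ht, htM⟩
  rwa [hcop, pow_one] at this

end Cfsg.Agent.Helper48.SubOdd
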