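import Mathlib
import Cfsg.Agent.Helper59.ElusiveDet
import Cfsg.Agent.Helper48.SubOddROOT

/-!
# (T2) for S5965 (helper13's subfield route): the scalar `x ^ r` of an element of `SL_n(F)` is an
`r`-th power when `(n)_r ≤ (q-1)_r`.
-/

set_option autoImplicit false

namespace Cfsg.Agent.Helper48.SubOddT2

open Matrix Polynomial

variable {F : Type*} [Field F] {n : ℕ}

/-- in the cyclic group `Fˣ` of order `N`, an element `z` with `z ^ g = 1` and `r * g ∣ N` is an
`r`-th power -/
theorem exists_pow_eq_of_pow_eq_one [Fintype F] (r g : ℕ) (_hr : 0 < r)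
    (hrg : r * g ∣ Fintype.card F - 1) (z : F) (hz0 : z ≠ 0) (hzg : z ^ g = 1) :
    ∃ lam : F, lam ≠ 0 ∧ lam ^ r = z := by
  classical
  set N := Fintype.card F - 1 with hNdef
  have hcardU : Fintype.card Fˣ = N := Fintype.card_units F
  have hNpos : 0 < N := by rw [← hcardU]; exact Fintype.card_pos
  obtain ⟨m, hm⟩ := hrg
  have hgpos : 0 < g := by
    rcases Nat.eq_zero_or_pos g with h | h
    · rw [h, mul_zero, zero_mul] at hm; omega
    · exact h
  set zu : Fˣ := Units.mk0 z hz0 with hzu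
  have hzug : zu ^ g = 1 := by
    apply Units.ext
    rw [Units.val_pow_eq_pow_val, Units.val_mk0, Units.val_one, hzg]
  obtain ⟨ω, hω⟩ := IsCyclic.exists_generator (α := Fˣ)
  have hordω : orderOf ω = N := by
    rw [orderOf_eq_card_of_forall_mem_zpowers hω, Nat.card_eq_fintype_card, hcardU]
  obtain ⟨k, hk⟩ := Subgroup.mem_zpowers_iff.1 (hω zu)
  have hNkg : (N : ℤ) ∣ k * g := by
    rw [← hordω, orderOf_dvd_iff_zpow_eq_one, _root_.zpow_mul, hk, zpow_natCast, hzug]
  -- `r * m ∣ k`
  have hrmk : ((r * m : ℕ) : ℤ) ∣ k := by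
    have h1 : ((r * m : ℕ) : ℤ) * g ∣ k * g := by
      have : ((r * m : ℕ) : ℤ) * g = N := by
        rw [hm]; push_cast; ring
      rw [this]; exact hNkg
    exact (mul_dvd_mul_iff_right (by exact_mod_cast hgpos.ne')).1 h1
  obtain ⟨k₁, hk₁⟩ := hrmk
  refine ⟨((ω ^ ((m : ℤ) * k₁) : Fˣ) : F), Units.ne_zero _, ?_⟩
  have h1 : (ω ^ ((m : ℤ) * k₁)) ^ r = zu := by
    rw [← zpow_natCast, ← _root_.zpow_mul, ← hk, hk₁]
    congr 1
    push_cast
    ring
  have h2 := congrArg (fun u : Fˣ => (u : F)) h1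
  simpa [hzu] using h2

/-- (T2) -/
theorem exists_pow_eq_of_val_le [Fintype F] (hn : 0 < n) (r : ℕ) [Fact r.Prime] (hr2 : r ≠ 2)
    (hv : r ∣ Fintype.card F - 1 → padicValNat r n ≤ padicValNat r (Fintype.card F - 1))
    (x : Matrix.SpecialLinearGroup (Fin n) F) (z : F)
    (hx : ((x ^ r : Matrix.SpecialLinearGroup (Fin n) F) : Matrix (Fin n) (Fin n) F) =
      z • (1 : Matrix (Fin n) (Fin n) F)) :
    ∃ lam : F, lam ≠ 0 ∧ lam ^ r = z := by
  classical
  have hr : r.Prime := Fact.out
  have hrodd : Odd r := hr.odd_of_ne_two hr2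
  set N := Fintype.card F - 1 with hNdef
  have hcardU : Fintype.card Fˣ = N := Fintype.card_units F
  have hNpos : 0 < N := by rw [← hcardU]; exact Fintype.card_pos
  -- `z ^ n = 1`
  have hzn : z ^ n = 1 := by
    have h1 := congrArg Matrix.det hx
    rw [(x ^ r).2, Matrix.det_smul, Matrix.det_one, mul_one, Fintype.card_fin] at h1
    exact h1.symm
  have hz0 : z ≠ 0 := by
    rintro rfl
    rw [zero_pow hn.ne'] at hzn
    exact zero_ne_one hzn
  by_cases hrN : r ∣ N
  · by_contra hno
    have hroots : ∀ b : F, b ^ r ≠ z := by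
      intro b hb
      apply hno
      refine ⟨b, ?_, hb⟩
      rintro rfl
      rw [zero_pow hr.ne_zero] at hb
      exact hz0 hb.symm
    have hirr : Irreducible (X ^ r - C z : F[X]) := X_pow_sub_C_irreducible_of_prime hr hroots
    set X' : Matrix (Fin n) (Fin n) F := (x : Matrix (Fin n) (Fin n) F) with hX'
    have hXr : X' ^ r = z • (1 : Matrix (Fin n) (Fin n) F) := by
      rw [← hx, Matrix.SpecialLinearGroup.coe_pow]
    set f : (Fin n → F) →ₗ[F] (Fin n → F) := Matrix.toLinAlgEquiv' X' with hf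
    have hfr : f ^ r = z • (1 : (Fin n → F) →ₗ[F] (Fin n → F)) := by
      rw [hf, ← map_pow, hXr, map_smul, map_one]
    obtain ⟨d, hd, hdet⟩ := Cfsg.Agent.Helper59.Elusive.det_of_pow_eq r hr.pos z hirr f hfr
    rw [Module.finrank_fin_fun] at hd
    have hdetf : LinearMap.det f = 1 := by
      have : f = Matrix.toLin' X' := rfl
      rw [this, LinearMap.det_toLin']
      exact x.2
    have hsign : ((-1 : F)) ^ (r + 1) = 1 := by
      obtain ⟨t, ht⟩ := hrodd
      have : r + 1 = 2 * (t + 1) := by omega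
      rw [this, pow_mul, neg_one_sq, one_pow]
    rw [hdetf, hsign, one_mul] at hdet
    have hzd : z ^ d = 1 := hdet.symm
    have hdpos : 0 < d := by
      rcases Nat.eq_zero_or_pos d with h | h
      · rw [h, zero_mul] at hd; omega
      · exact h
    -- valuations
    have hvn : padicValNat r n = padicValNat r d + 1 := by
      rw [hd, padicValNat.mul hdpos.ne' hr.ne_zero, padicValNat_self]
    have hlt : padicValNat r d < padicValNat r N := by
      have := hv hrN
      omega
    have hrg := Cfsg.Agent.Helper48.SubOdd.mul_gcd_dvd_of_padicValNat_lt r hdpos hNpos hlt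
    have hzN : z ^ N = 1 := FiniteField.pow_card_sub_one_eq_one z hz0
    have hzg : z ^ (Nat.gcd d N) = 1 := (pow_gcd_eq_one (a := z) (m := d) (n := N)).2 ⟨hzd, hzN⟩
    obtain ⟨lam, hlam0, hlam⟩ := exists_pow_eq_of_pow_eq_one r (Nat.gcd d N) hr.pos hrg z hz0 hzg
    exact hroots lam hlam
  · -- the `r`-th power map is bijective on `Fˣ`
    have hcop : (Nat.card Fˣ).Coprime r := by
      rw [Nat.card_eq_fintype_card, hcardU, Nat.coprime_comm]
      exact (Nat.Prime.coprime_iff_not_dvd hr).2 hrN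
    obtain ⟨u, hu⟩ := (powCoprime hcop).surjective (Units.mk0 z hz0)
    refine ⟨(u : F), Units.ne_zero _, ?_⟩
    have h2 := congrArg (fun u : Fˣ => (u : F)) hu
    simpa using h2

end Cfsg.Agent.Helper48.SubOddT2
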