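import Cfsg.Agent.Helper57.BH.Defs

/-!
# (AC) for S4503 (helper57's Brauer `(p-1)/2` route): orbits of non-canonical characters are
regular; degrees along an orbit and of the canonical character.
-/

set_option autoImplicit false
set_option linter.unusedSectionVars false

namespace Cfsg.Agent.Helper48.BH

open Cfsg Cfsg.Agent.Helper16 Cfsg.Agent.Helper16.DefOne Cfsg.Agent.Helper82.DefOne
  Cfsg.Agent.Helper77.DefOne Cfsg.Agent.Helper57.BH
open scoped ComplexConjugate

universe u

variable {G : Type u} [Group G] [Fintype G] {p : ℕ} [Fact p.Prime] (P : Sylow p G)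

/-- the stabilizer in `N` of a non-canonical character is `C` -/
theorem stabilizer_eq_of_not_isCanon (hP : Nat.card P = p) (φ₀ : IrrCharacter (cen P))
    (h2 : ¬ IsCanon P φ₀) :
    MulAction.stabilizer (nor P) φ₀ = (cen P).subgroupOf (nor P) := by
  ext n
  rw [MulAction.mem_stabilizer_iff, Subgroup.mem_subgroupOf]
  exact ⟨fun h => mem_cen_of_smul_eq P hP n φ₀ h2 h, fun h => smul_eq_of_mem_cen P n φ₀ h⟩

/-- (A-card) the orbit of a non-canonical character is regular -/
theorem card_orbit_of_not_isCanon (hP : Nat.card P = p) (φ₀ : IrrCharacter (cen P))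
    (h2 : ¬ IsCanon P φ₀) :
    Nat.card (MulAction.orbit (nor P) φ₀) = (cen P).relIndex (nor P) := by
  rw [Nat.card_coe_set_eq, ← MulAction.index_stabilizer, stabilizer_eq_of_not_isCanon P hP φ₀ h2]
  rfl

/-- (A-deg) degrees along an orbit -/
theorem charDegree_of_mem_orbit (φ₀ φ : IrrCharacter (cen P))
    (h : φ ∈ MulAction.orbit (nor P) φ₀) :
    charDegree (φ : cen P → ℂ) = charDegree (φ₀ : cen P → ℂ) := by
  obtain ⟨n, rfl⟩ := h
  have h1 : ((n • φ₀ : IrrCharacter (cen P)) : cen P → ℂ) 1 = (φ₀ : cen P → ℂ) 1 := by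
    rw [smul_irr_apply, map_one]
  unfold charDegree
  rw [h1]

/-- (A-deg) the degree of the canonical character -/
theorem charDegree_can (hP : Nat.card P = p) (φ : IrrCharacter (cen P)) :
    charDegree (can P φ : cen P → ℂ) = charDegree (φ : cen P → ℂ) := by
  have hp : p.Prime := Fact.out
  have h1 : (φ : cen P → ℂ) 1 = (can P φ : cen P → ℂ) 1 :=
    can_apply_regular P hP φ 1 (by rw [orderOf_one]; exact hp.not_dvd_one)
  unfold charDegree
  rw [h1]

end Cfsg.Agent.Helper48.BH
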