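import Cfsg.Agent.Helper57.BH.Defs

/-!
# (AR) for S4503 (helper57's Brauer `(p-1)/2` route): all the rows of an exceptional character
-/

set_option autoImplicit false
set_option linter.unusedSectionVars false

namespace Cfsg.Agent.Helper48.BH

open Cfsg Cfsg.Agent.Helper16 Cfsg.Agent.Helper16.DefOne Cfsg.Agent.Helper82.DefOne
  Cfsg.Agent.Helper77.DefOne Cfsg.Agent.Helper57.BH
open scoped ComplexConjugate

universe u

variable {G : Type u} [Group G] [Fintype G] {p : ℕ} [Fact p.Prime] (P : Sylow p G)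

/-- non-canonicity is invariant under the action of `N` -/
theorem not_isCanon_smul (hP : Nat.card P = p) (n : nor P) (φ : IrrCharacter (cen P))
    (h : ¬ IsCanon P φ) : ¬ IsCanon P (n • φ) := by
  intro hc
  apply h
  have := isCanon_smul P hP n⁻¹ (n • φ) hc
  rwa [inv_smul_smul] at this

open Classical in
/-- (A-rows) all the rows of an exceptional character -/
theorem rowZ_eq_of_mem_Y (hP : Nat.card P = p) [((P : Subgroup G).subgroupOf (nor P)).Normal]
    (hmod : ModCount p P) (θ : IrrCharacter (cen P)) (hθ : IsCanon P θ)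
    {X Y : Set (IrrCharacter G)} {ε : IrrCharacter G → ℤ} {δ : ℤ} (D : IsRData P θ X Y ε δ)
    (ψ : IrrCharacter G) (hψ : ψ ∈ Y) (φ₀ : IrrCharacter (cen P)) (h1 : can P φ₀ = θ)
    (h2 : ¬ IsCanon P φ₀)
    (hrow : ∀ φ : IrrCharacter (cen P), can P φ = θ → ¬ IsCanon P φ →
      rowZ P ψ φ = if ∃ n : nor P, n • φ = φ₀ then δ else 0)
    (φ : IrrCharacter (cen P)) :
    rowZ P ψ φ = if φ ∈ MulAction.orbit (nor P) φ₀ then δ else 0 := by
  by_cases hc : IsCanon P φ
  · -- canonical: the row vanishes, and `φ` is not in the orbit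
    have h3 : rowZ P ψ φ = 0 := by
      unfold rowZ
      rw [can_eq_self P hP φ hc, sub_self]
    have h4 : φ ∉ MulAction.orbit (nor P) φ₀ := by
      rintro ⟨n, rfl⟩
      exact not_isCanon_smul P hP n φ₀ h2 hc
    rw [h3, if_neg h4]
  · by_cases horb : ∃ n : nor P, n • θ = can P φ
    · obtain ⟨n, hn⟩ := horb
      -- move `φ` over `θ`
      have h3 : can P (n⁻¹ • φ) = θ := by
        rw [can_smul P hP, ← hn, inv_smul_smul]
      have h4 : ¬ IsCanon P (n⁻¹ • φ) := not_isCanon_smul P hP n⁻¹ φ hc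
      have h5 : rowZ P ψ φ = rowZ P ψ (n⁻¹ • φ) := (rowZ_smul P hP ψ n⁻¹ φ).symm
      rw [h5, hrow (n⁻¹ • φ) h3 h4]
      have hiff : (∃ m : nor P, m • (n⁻¹ • φ) = φ₀) ↔ φ ∈ MulAction.orbit (nor P) φ₀ := by
        constructor
        · rintro ⟨m, hm⟩
          refine ⟨(m * n⁻¹)⁻¹, ?_⟩
          show (m * n⁻¹)⁻¹ • φ₀ = φ
          rw [← hm, ← mul_smul m, inv_smul_smul]
        · rintro ⟨m, hm⟩
          refine ⟨m⁻¹ * n, ?_⟩
          have hm' : m • φ₀ = φ := hm
          rw [← hm', mul_smul, smul_inv_smul, inv_smul_smul]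
      by_cases hmem : φ ∈ MulAction.orbit (nor P) φ₀
      · rw [if_pos hmem, if_pos (hiff.2 hmem)]
      · rw [if_neg hmem, if_neg (fun h => hmem (hiff.1 h))]
    · -- another orbit of canonical characters: disjointness
      have h3 : rowZ P ψ φ = 0 := by
        by_contra hne
        have h4 : ψ ∈ Rset P (can P φ) := ⟨φ, rfl, hne⟩
        have h5 : ψ ∈ Rset P θ := by rw [D.union]; exact Or.inr hψ
        exact Set.disjoint_left.mp
          (Rset_disjoint P hP hmod θ (can P φ) hθ (isCanon_can P hP φ) horb) h5 h4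
      have h4 : φ ∉ MulAction.orbit (nor P) φ₀ := by
        rintro ⟨m, hm⟩
        apply horb
        refine ⟨m, ?_⟩
        have hm' : m • φ₀ = φ := hm
        rw [← hm', can_smul P hP, h1]
      rw [h3, if_neg h4]

end Cfsg.Agent.Helper48.BH
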