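import Cfsg.Prelude.Def_Transfer
import Cfsg.Agent.Helper48.Extraspecial2

set_option autoImplicit false

/-!
# From `Cfsg.IsExtraspecial 2 E` to the abstract setting `ES2 E z`
-/

namespace Cfsg.Agent.Helper48

theorem exists_ES2 {E : Type*} [Group E] (hE : Cfsg.IsExtraspecial 2 E) :
    ∃ z : E, ES2 E z ∧ ∀ x, x ∈ Subgroup.center E ↔ x = 1 ∨ x = z := by
  obtain ⟨⟨-, -, hcomm⟩, hcard⟩ := hE
  obtain ⟨z, hz, hzu⟩ := (Nat.card_eq_two_iff' (1 : Subgroup.center E)).mp hcard
  have hmem : ∀ x, x ∈ Subgroup.center E → x = 1 ∨ x = (z : E) := by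
    intro x hx
    by_cases h1 : (⟨x, hx⟩ : Subgroup.center E) = 1
    · left; exact congrArg Subtype.val h1
    · right; exact congrArg Subtype.val (hzu _ h1)
  have hz1 : (z : E) ≠ 1 := fun h => hz (Subtype.ext h)
  have hcen : ∀ x, (z : E) * x = x * z := fun x => (Subgroup.mem_center_iff.mp z.2 x).symm
  have hsq : (z : E) * z = 1 := by
    rcases hmem _ (Subgroup.mul_mem _ z.2 z.2) with h | h
    · exact h
    · exfalso; apply hz1
      calc (z : E) = (z : E)⁻¹ * (z * z) := by group
        _ = (z : E)⁻¹ * z := by rw [h]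
        _ = 1 := by group
  refine ⟨z, ⟨hcen, hz1, hsq, ?_, ?_⟩, ?_⟩
  · intro q a
    have hc : q * a * q⁻¹ * a⁻¹ ∈ Subgroup.center E := by
      rw [← hcomm, commutator_def]
      exact Subgroup.commutator_mem_commutator (Subgroup.mem_top q) (Subgroup.mem_top a)
    rcases hmem _ hc with h | h
    · left
      calc q * a = (q * a * q⁻¹ * a⁻¹) * (a * q) := by group
        _ = a * q := by rw [h, one_mul]
    · right
      calc q * a = (q * a * q⁻¹ * a⁻¹) * (a * q) := by group
        _ = z * (a * q) := by rw [h]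
  · intro q hq
    apply hmem
    rw [Subgroup.mem_center_iff]
    intro a
    exact (hq a).symm
  · intro x
    constructor
    · exact hmem x
    · rintro (h | h)
      · rw [h]; exact Subgroup.one_mem _
      · rw [h]; exact z.2

/-- In an extraspecial `2`-group of order `2 ^ (2 m + 1)`, an elementary abelian subgroup of
order `2 ^ (m + 1)` is self-centralizing. -/
theorem centralizer_eq_of_card {E : Type*} [Group E] [Finite E] {z : E} (h : ES2 E z)
    (hcen : ∀ x, x ∈ Subgroup.center E ↔ x = 1 ∨ x = z) (m : ℕ)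
    (hcard : Nat.card E = 2 ^ (2 * m + 1)) (A : Subgroup E)
    (hab : ∀ a ∈ A, ∀ b ∈ A, a * b = b * a) (hA : Nat.card A = 2 ^ (m + 1)) :
    Subgroup.centralizer (A : Set E) = A := by
  symm
  apply Subgroup.eq_of_le_of_card_ge
  · intro a ha
    rw [Subgroup.mem_centralizer_iff]
    intro b hb
    exact hab b hb a ha
  · have h1 := h.card_centralizer_mul_card A
    have h2 : Nat.card (A ⊓ Subgroup.center E : Subgroup E) ≤ 2 := by
      have h3 : Nat.card (Subgroup.center E) = 2 := by
        rw [Nat.card_eq_two_iff]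
        refine ⟨⟨1, Subgroup.one_mem _⟩, ⟨z, (hcen z).mpr (Or.inr rfl)⟩, ?_, ?_⟩
        · intro h'
          exact h.ne_one (congrArg Subtype.val h').symm
        · ext x
          simp only [Set.mem_univ, Set.mem_insert_iff, Set.mem_singleton_iff, iff_true]
          rcases (hcen x.1).mp x.2 with hx | hx
          · left; exact Subtype.ext hx
          · right; exact Subtype.ext hx
      rw [← h3]
      exact Subgroup.card_le_of_le inf_le_right
    rw [hA, hcard] at h1
    rw [hA]
    have h4 : Nat.card (Subgroup.centralizer (A : Set E)) * 2 ^ (m + 1) ≤ 2 ^ (m + 1) * 2 ^ (m + 1) := by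
      rw [h1]
      calc 2 ^ (2 * m + 1) * Nat.card (A ⊓ Subgroup.center E : Subgroup E)
          ≤ 2 ^ (2 * m + 1) * 2 := Nat.mul_le_mul_left _ h2
        _ = 2 ^ (m + 1) * 2 ^ (m + 1) := by ring
    exact Nat.le_of_mul_le_mul_right h4 (by positivity)

end Cfsg.Agent.Helper48
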