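import Cfsg.Agent.Helper19.FH.Defs

/-!
# (MI) of board #5717 (helper19, S1142 Feit–Higman): the two-dimensional model inside `V`
(helper48)
-/

set_option autoImplicit false

open Cfsg.Agent.Helper19.FH Matrix

namespace Cfsg.Agent.Helper48.FH

/-- intertwining is inherited by alternating words -/
theorem alt_intertwine {ι κ : Type*} [Fintype ι] [Fintype κ] [DecidableEq ι] [DecidableEq κ]
    (T₁ T₂ : Matrix ι ι ℝ) (m₁ m₂ : Matrix κ κ ℝ) (P : Matrix ι κ ℝ)
    (h₁ : T₁ * P = P * m₁) (h₂ : T₂ * P = P * m₂) (k : ℕ) :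
    alt T₁ T₂ k * P = P * alt m₁ m₂ k ∧ alt T₂ T₁ k * P = P * alt m₂ m₁ k := by
  induction k with
  | zero => simp
  | succ k ih =>
    obtain ⟨i1, i2⟩ := ih
    constructor
    · rw [alt_succ, alt_succ, Matrix.mul_assoc, i2, ← Matrix.mul_assoc, h₁, Matrix.mul_assoc]
    · rw [alt_succ, alt_succ, Matrix.mul_assoc, i1, ← Matrix.mul_assoc, h₂, Matrix.mul_assoc]

theorem mod₁_eq (a lam : ℝ) : mod₁ a lam = (a + 1) • E₁ lam - 1 := by
  ext i j
  fin_cases i <;> fin_cases j <;> simp [mod₁, E₁]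

theorem mod₂_eq (b : ℝ) : mod₂ b = (b + 1) • E₂ - 1 := by
  ext i j
  fin_cases i <;> fin_cases j <;> simp [mod₂, E₂]

/-- **(MI)** -/
theorem braid_model {X : Type*} [Fintype X] [DecidableEq X] (n : ℕ) (a b lam : ℝ)
    (e₁ e₂ : Matrix X X ℝ) (he₁ : e₁ * e₁ = e₁) (he₂ : e₂ * e₂ = e₂)
    (u : X → ℝ) (hu : u ≠ 0) (hCu : (e₁ * e₂ * e₁).mulVec u = lam • u)
    (h0 : lam ≠ 0) (h1 : lam ≠ 1)
    (hbraid : alt ((a + 1) • e₁ - 1) ((b + 1) • e₂ - 1) n =
      alt ((b + 1) • e₂ - 1) ((a + 1) • e₁ - 1) n) :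
    alt (mod₁ a lam) (mod₂ b) n = alt (mod₂ b) (mod₁ a lam) n := by
  -- `e₁ u = u`
  have hu1 : e₁.mulVec u = u := by
    have h : e₁.mulVec ((e₁ * e₂ * e₁).mulVec u) = (e₁ * e₂ * e₁).mulVec u := by
      rw [Matrix.mulVec_mulVec, ← Matrix.mul_assoc, ← Matrix.mul_assoc, he₁]
    rw [hCu, Matrix.mulVec_smul] at h
    exact smul_right_injective (X → ℝ) h0 h
  set v : X → ℝ := e₂.mulVec u with hv
  have hv1 : e₁.mulVec v = lam • u := by
    rw [hv, Matrix.mulVec_mulVec]
    conv_lhs => rw [← hu1]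
    rw [Matrix.mulVec_mulVec, hCu]
  have hv2 : e₂.mulVec v = v := by
    rw [hv, Matrix.mulVec_mulVec, he₂]
  have hv0 : v ≠ 0 := by
    intro h
    rw [h, Matrix.mulVec_zero] at hv1
    exact hu ((smul_eq_zero.1 hv1.symm).resolve_left h0)
  -- the matrix with columns `u`, `v`
  let P : Matrix X (Fin 2) ℝ := Matrix.of fun x j => ![u x, v x] j
  have hP : ∀ z : Fin 2 → ℝ, P.mulVec z = z 0 • u + z 1 • v := by
    intro z
    funext x
    simp [P, Matrix.mulVec, dotProduct, Fin.sum_univ_two, mul_comm]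
  have hcol : ∀ (A : Matrix X X ℝ) (M : Matrix (Fin 2) (Fin 2) ℝ),
      (∀ z : Fin 2 → ℝ, A.mulVec (P.mulVec z) = P.mulVec (M.mulVec z)) → A * P = P * M := by
    intro A M h
    ext x j
    have := congrFun (h (Pi.single j 1)) x
    rw [Matrix.mulVec_mulVec, Matrix.mulVec_mulVec, Matrix.mulVec_single_one,
      Matrix.mulVec_single_one] at this
    exact this
  have hE1 : e₁ * P = P * E₁ lam := by
    apply hcol
    intro z
    rw [hP, hP, Matrix.mulVec_add, Matrix.mulVec_smul, Matrix.mulVec_smul, hu1, hv1]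
    have e0 : (E₁ lam).mulVec z 0 = z 0 + lam * z 1 := by
      simp [E₁, Matrix.mulVec, dotProduct, Fin.sum_univ_two]
    have e1 : (E₁ lam).mulVec z 1 = 0 := by
      simp [E₁, Matrix.mulVec, dotProduct, Fin.sum_univ_two]
    rw [e0, e1, zero_smul, add_zero, smul_smul, ← add_smul, mul_comm]
  have hE2 : e₂ * P = P * E₂ := by
    apply hcol
    intro z
    rw [hP, hP, Matrix.mulVec_add, Matrix.mulVec_smul, Matrix.mulVec_smul, hv2, ← hv]
    have e0 : E₂.mulVec z 0 = 0 := by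
      simp [E₂, Matrix.mulVec, dotProduct, Fin.sum_univ_two]
    have e1 : E₂.mulVec z 1 = z 0 + z 1 := by
      simp [E₂, Matrix.mulVec, dotProduct, Fin.sum_univ_two]
    rw [e0, e1, zero_smul, zero_add, ← add_smul]
  have hT1 : ((a + 1) • e₁ - 1) * P = P * mod₁ a lam := by
    rw [mod₁_eq, Matrix.sub_mul, Matrix.mul_sub, Matrix.smul_mul, Matrix.mul_smul, hE1,
      Matrix.one_mul, Matrix.mul_one]
  have hT2 : ((b + 1) • e₂ - 1) * P = P * mod₂ b := by
    rw [mod₂_eq, Matrix.sub_mul, Matrix.mul_sub, Matrix.smul_mul, Matrix.mul_smul, hE2,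
      Matrix.one_mul, Matrix.mul_one]
  obtain ⟨k1, k2⟩ := alt_intertwine _ _ _ _ P hT1 hT2 n
  have hPeq : P * alt (mod₁ a lam) (mod₂ b) n = P * alt (mod₂ b) (mod₁ a lam) n := by
    rw [← k1, ← k2, hbraid]
  -- injectivity of `P`
  have hinj : ∀ z : Fin 2 → ℝ, P.mulVec z = 0 → z = 0 := by
    intro z hz
    rw [hP] at hz
    have g1 : (z 0 + z 1 * lam) • u = 0 := by
      have := congrArg e₁.mulVec hz
      rw [Matrix.mulVec_add, Matrix.mulVec_smul, Matrix.mulVec_smul, hu1, hv1, Matrix.mulVec_zero,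
        smul_smul, ← add_smul] at this
      exact this
    have g2 : (z 0 + z 1) • v = 0 := by
      have := congrArg e₂.mulVec hz
      rw [Matrix.mulVec_add, Matrix.mulVec_smul, Matrix.mulVec_smul, hv2, ← hv, Matrix.mulVec_zero,
        ← add_smul] at this
      exact this
    have g1' := (smul_eq_zero.1 g1).resolve_right hu
    have g2' := (smul_eq_zero.1 g2).resolve_right hv0
    have hz1 : z 1 = 0 := by
      have : z 1 * (lam - 1) = 0 := by linear_combination g1' - g2'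
      exact (mul_eq_zero.1 this).resolve_right (sub_ne_zero.2 h1)
    have hz0 : z 0 = 0 := by rw [hz1, add_zero] at g2'; exact g2'
    funext i
    fin_cases i
    · exact hz0
    · exact hz1
  have hsub : alt (mod₁ a lam) (mod₂ b) n - alt (mod₂ b) (mod₁ a lam) n = 0 := by
    ext i j
    have hz : P.mulVec ((alt (mod₁ a lam) (mod₂ b) n - alt (mod₂ b) (mod₁ a lam) n).mulVec
        (Pi.single j 1)) = 0 := by
      rw [Matrix.mulVec_mulVec, Matrix.mul_sub, hPeq, sub_self, Matrix.zero_mulVec]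
    have := congrFun (hinj _ hz) i
    rw [Matrix.mulVec_single_one] at this
    exact this
  exact sub_eq_zero.1 hsub

end Cfsg.Agent.Helper48.FH
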