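import Mathlib
import Cfsg.Agent.Helper2.CS2Defs
import Cfsg.Agent.Helper2.CS2Defs2
import Cfsg.Agent.Helper2.CS2Basic

/-!
# (ST2) of board #6088 (helper2, S4284 class sizes `{1, m, mn}`): in Case B every `pi`-primary
element of `C(x)`, `x` good, centralizes all conjugates of `x` (helper48)
-/

set_option autoImplicit false
set_option linter.unusedVariables false
set_option linter.unusedSectionVars false

namespace Cfsg.Agent.Helper48.CS2
open Cfsg.Agent.Helper2.CS2 Subgroup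

variable {G : Type*} [Group G] [Finite G] {m n : ℕ}

/-- the intersection of the centralizers of all conjugates of `x` -/
def Kx (x : G) : Subgroup G := ⨅ γ : G, Cn (γ * x * γ⁻¹)

theorem mem_Kx {x g : G} : g ∈ Kx x ↔ ∀ γ : G, g ∈ Cn (γ * x * γ⁻¹) := by
  unfold Kx
  exact Subgroup.mem_iInf

instance Kx_normal (x : G) : (Kx x).Normal := by
  refine ⟨fun k hk g => ?_⟩
  rw [mem_Kx] at hk ⊢
  intro γ
  rw [mem_Cn_conj]
  have h1 := hk (g⁻¹ * γ)
  rw [mem_Cn_conj] at h1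
  have e : (g⁻¹ * γ)⁻¹ * k * (g⁻¹ * γ) = γ⁻¹ * (g * k * g⁻¹) * γ := by group
  rwa [e] at h1

theorem Kx_le (x : G) : Kx x ≤ Cn x := by
  intro g hg
  have := mem_Kx.1 hg 1
  simpa using this

/-- **(ST2)** every pi-primary element of C(x), x good, centralizes all conjugates of x. -/
theorem struct_c (h : Hyp G m n) (hB : CaseB G m)
    (hsq : ∀ t : ℕ, t.Prime → t ∣ m → m.factorization t = 1) {r : ℕ} {x : G} (hx : Good m r x)
    (hW : ∃ (t₀ : ℕ) (y : G), t₀.Prime ∧ t₀ ∣ m ∧ IsPElt t₀ y ∧ y ∉ center G ∧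
      ∀ γ : G, Cn y ≤ Cn (γ * x * γ⁻¹))
    {t : ℕ} (ht : t.Prime) (htm : t ∣ m) {τ : G} (hτ : IsPElt t τ) (hc : Commute τ x) (γ : G) :
    Commute τ (γ * x * γ⁻¹) := by
  obtain ⟨t₀, y, ht₀, ht₀m, hyt, hyZ, hWle⟩ := hW
  have hidy : idx y = m * n :=
    (h.idx_of_not_mem_center hyZ).resolve_left (hB t₀ y ht₀ ht₀m hyt)
  have hidx : idx x = m := hx.2.2.2
  have hyK : Cn y ≤ Kx x := by
    intro g hg
    exact mem_Kx.2 fun γ => hWle γ hg
  have hyx : Cn y ≤ Cn x := hyK.trans (Kx_le x)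
  -- `|C(x) : C(y)| = n`
  have hrel : (Cn y).relIndex (Cn x) = n := by
    have h1 : (Cn y).relIndex (Cn x) * idx x = idx y := relIndex_mul_index hyx
    rw [hidx, hidy, mul_comm m n] at h1
    exact Nat.eq_of_mul_eq_mul_right h.m_pos h1
  have hdvd : (Kx x).relIndex (Cn x) ∣ n := by
    rw [← hrel]
    exact relIndex_dvd_of_le_left (Cn x) hyK
  -- `τ ^ j ∈ K`
  have hτx : τ ∈ Cn x := mem_Cn_iff'.2 hc
  have hpow : τ ^ (Kx x).relIndex (Cn x) ∈ Kx x := Subgroup.pow_relIndex_mem (Kx x) hτx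
  obtain ⟨k, hk⟩ := hτ
  have hcop : ((Kx x).relIndex (Cn x)).Coprime (orderOf τ) := by
    rw [hk]
    apply Nat.Coprime.pow_right
    have h1 : n.Coprime t := (Nat.Coprime.coprime_dvd_left htm h.cop).symm
    exact Nat.Coprime.coprime_dvd_left hdvd h1
  obtain ⟨j, hj⟩ := exists_pow_eq_self_of_coprime hcop
  have hτK : τ ∈ Kx x := by
    rw [← hj]
    exact pow_mem hpow j
  exact mem_Cn_iff'.1 (mem_Kx.1 hτK γ)

end Cfsg.Agent.Helper48.CS2
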