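import Mathlib
import Cfsg.Agent.Helper21.A6Defs

/-!
# (K2d) for S3341 (helper21's A6 route): the `C₂` case is contradictory
-/

set_option autoImplicit false
open Cfsg Finset

namespace Cfsg.Agent.Helper48.A6

open Cfsg.Agent.Helper21.A6

variable {ι : Type*} [Fintype ι]

/-- a sum over a `Fintype` of a function supported on a duplicate-free list -/
theorem sum_eq_list_sum {M : Type*} [AddCommMonoid M] (l : List ι) (hl : l.Nodup) (f : ι → M)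
    (h0 : ∀ i, i ∉ l → f i = 0) : ∑ i, f i = (l.map f).sum := by
  classical
  rw [← List.sum_toFinset f hl]
  symm
  apply Finset.sum_subset (Finset.subset_univ _)
  intro i _ hi
  exact h0 i (by simpa using hi)

/-- (K2d) -/
theorem core2_of (hS : Struct2Stmt ι) (hN : Numeric2Stmt)
    (o : ι) (d : ι → ℕ) (X₁ X₂ X₃ X₄ : ι → ℤ)
    (hd : ∀ i, 0 < d i) (hdo : d o = 1) (hlin : ∀ i, d i = 1 → i = o)
    (h1o : X₁ o = 1) (h2o : X₂ o = 1) (h3o : X₃ o = 1) (h4o : X₄ o = 1)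
    (hm1 : ∀ i, ∃ m : ℤ, X₁ i = d i - 3 * m) (hm2 : ∀ i, ∃ m : ℤ, X₂ i = d i - 3 * m)
    (hm3 : ∀ i, ∃ m : ℤ, X₃ i = d i - 3 * m) (hm4 : ∀ i, ∃ m : ℤ, X₄ i = d i - 3 * m)
    (h11 : ∑ i, X₁ i ^ 2 = 9) (h22 : ∑ i, X₂ i ^ 2 = 9) (h33 : ∑ i, X₃ i ^ 2 = 9)
    (h44 : ∑ i, X₄ i ^ 2 = 9)
    (h12 : ∑ i, X₁ i * X₂ i = 0) (h13 : ∑ i, X₁ i * X₃ i = 0) (h14 : ∑ i, X₁ i * X₄ i = 0)
    (h23 : ∑ i, X₂ i * X₃ i = 0) (h24 : ∑ i, X₂ i * X₄ i = 0) (h34 : ∑ i, X₃ i * X₄ i = 0)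
    (hd1 : ∑ i, (d i : ℤ) * X₁ i = 0) (hd2 : ∑ i, (d i : ℤ) * X₂ i = 0)
    (hd3 : ∑ i, (d i : ℤ) * X₃ i = 0) (hd4 : ∑ i, (d i : ℤ) * X₄ i = 0)
    (hE : ∑ i, ((X₁ i : ℚ) * (X₂ i : ℚ) * (X₁ i : ℚ)) / (d i : ℚ) = 0) : False := by
  obtain ⟨φ, θ₁, θ₂, θ₃, θ₄, e, η, hnd, he, hη, hd2', hd3', hd4', h1φ, h2φ, -, -,
    h1θ₁, h2θ₁, -, -, h1θ₂, h2θ₂, -, -, h1θ₃, h2θ₃, -, -, h1θ₄, h2θ₄, -, -, hrest⟩ :=
    hS o d X₁ X₂ X₃ X₄ hd h1o h2o h3o h4o hm1 hm2 hm3 hm4 h11 h22 h33 h44 h12 h13 h14 h23 h24 h34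
      hd1 hd2 hd3 hd4
  have hnotmem : ∀ i, i ∉ [o, φ, θ₁, θ₂, θ₃, θ₄] → X₁ i = 0 ∧ X₂ i = 0 := by
    intro i hi
    simp only [List.mem_cons, List.not_mem_nil, or_false, not_or] at hi
    obtain ⟨a1, a2, a3, a4, a5, a6⟩ := hi
    exact ⟨(hrest i a1 a2 a3 a4 a5 a6).1, (hrest i a1 a2 a3 a4 a5 a6).2.1⟩
  have hφo : φ ≠ o := by
    intro h
    rw [h] at hnd
    simp at hnd
  have hdφ : 1 < d φ := by
    have h1 := hd φ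
    have h2 : d φ ≠ 1 := fun h => hφo (hlin φ h)
    omega
  -- the degree relation
  have hrel1 : 1 + e * (d φ : ℤ) - η * (d θ₁ : ℤ) = 0 := by
    have h := sum_eq_list_sum [o, φ, θ₁, θ₂, θ₃, θ₄] hnd (fun i => (d i : ℤ) * X₁ i)
      (fun i hi => by show (d i : ℤ) * X₁ i = 0; rw [(hnotmem i hi).1, mul_zero])
    rw [hd1] at h
    simp only [List.map_cons, List.map_nil, List.sum_cons, List.sum_nil] at h
    rw [hdo, h1o, h1φ, h1θ₁, h1θ₂, h1θ₃, h1θ₄, hd2', hd3', hd4'] at h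
    push_cast at h
    linarith
  -- the third-moment relation
  have hrel2 : (1 : ℚ) + (e : ℚ) / (d φ : ℚ) - 4 * (η : ℚ) / (d θ₁ : ℚ) = 0 := by
    have h := sum_eq_list_sum [o, φ, θ₁, θ₂, θ₃, θ₄] hnd
      (fun i => ((X₁ i : ℚ) * (X₂ i : ℚ) * (X₁ i : ℚ)) / (d i : ℚ))
      (fun i hi => by
        show ((X₁ i : ℚ) * (X₂ i : ℚ) * (X₁ i : ℚ)) / (d i : ℚ) = 0
        rw [(hnotmem i hi).1]; simp)
    rw [hE] at h
    simp only [List.map_cons, List.map_nil, List.sum_cons, List.sum_nil] at h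
    rw [hdo, h1o, h2o, h1φ, h2φ, h1θ₁, h2θ₁, h1θ₂, h2θ₂, h1θ₃, h2θ₃, h1θ₄, h2θ₄, hd2', hd3',
      hd4'] at h
    rcases he with rfl | rfl <;> rcases hη with rfl | rfl <;> push_cast at h ⊢ <;>
      simp only [div_eq_mul_inv] at h ⊢ <;> linarith
  exact hN (d θ₁) (d φ) e η he hη (hd θ₁) hdφ hrel1 hrel2

end Cfsg.Agent.Helper48.A6
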