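import Mathlib
import Cfsg.Agent.Helper21.A6Defs
import Cfsg.Agent.Helper48.A6_K2d

/-!
# (K2b) for S3341 (helper21's A6 route): the character-table fragment in the `C₂` case
-/

set_option autoImplicit false
open Cfsg Finset

namespace Cfsg.Agent.Helper48.A6

open Cfsg.Agent.Helper21.A6

variable {ι : Type*} [Fintype ι]

/-- an integer vector of norm 1 is `± e_φ` -/
theorem shape1 (f : ι → ℤ) (h : ∑ i, f i ^ 2 = 1) :
    ∃ φ, (f φ = 1 ∨ f φ = -1) ∧ ∀ l, l ≠ φ → f l = 0 := by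
  classical
  obtain ⟨φ, hφ⟩ : ∃ φ, f φ ≠ 0 := by
    by_contra hcon
    push Not at hcon
    have : ∑ i, f i ^ 2 = 0 := Finset.sum_eq_zero fun i _ => by rw [hcon i]; norm_num
    omega
  have hsplit : ∑ i, f i ^ 2 = f φ ^ 2 + ∑ i ∈ Finset.univ.erase φ, f i ^ 2 :=
    (Finset.add_sum_erase _ _ (Finset.mem_univ φ)).symm
  have hnn : 0 ≤ ∑ i ∈ Finset.univ.erase φ, f i ^ 2 := Finset.sum_nonneg fun _ _ => sq_nonneg _
  have h1 : 1 ≤ f φ ^ 2 := by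
    have : 0 < f φ ^ 2 := by positivity
    omega
  have h2 : f φ ^ 2 = 1 := by omega
  have h3 : ∑ i ∈ Finset.univ.erase φ, f i ^ 2 = 0 := by omega
  refine ⟨φ, ?_, ?_⟩
  · have : (f φ - 1) * (f φ + 1) = 0 := by nlinarith
    rcases mul_eq_zero.1 this with h | h
    · left; omega
    · right; omega
  · intro l hl
    have := (Finset.sum_eq_zero_iff_of_nonneg (fun _ _ => sq_nonneg _)).1 h3 l
      (Finset.mem_erase.2 ⟨hl, Finset.mem_univ l⟩)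
    exact pow_eq_zero_iff (two_ne_zero) |>.1 this

/-- splitting a sum along a duplicate-free list -/
theorem sum_split_list (l : List ι) (hl : l.Nodup) (g : ι → ℤ) [DecidablePred (· ∈ l)] :
    ∑ i, g i = (l.map g).sum + ∑ i, (if i ∈ l then 0 else g i) := by
  have h1 : ∑ i, g i = ∑ i, (if i ∈ l then g i else 0) + ∑ i, (if i ∈ l then 0 else g i) := by
    rw [← Finset.sum_add_distrib]
    refine Finset.sum_congr rfl fun i _ => ?_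
    split_ifs <;> simp
  have h2 : ∑ i, (if i ∈ l then g i else 0) = (l.map g).sum := by
    rw [sum_eq_list_sum l hl (fun i => if i ∈ l then g i else 0) (fun i hi => if_neg hi)]
    congr 1
    exact List.map_congr_left fun i hi => if_pos hi
  rw [h1, h2]

theorem alpha_eq (α ε R : ℤ) (hε : ε = 1 ∨ ε = -1) (hR : 0 ≤ R)
    (h : α ^ 2 + 3 * (α + 3 * ε) ^ 2 + R = 8) : α = -2 * ε ∧ R = 1 := by
  rcases hε with rfl | rfl
  · have h1 : -3 < α := by nlinarith [sq_nonneg (α + 3)]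
    have h2 : α < -1 := by nlinarith [sq_nonneg (α + 1)]
    have h3 : α = -2 := by omega
    subst h3
    constructor <;> linarith
  · have h1 : 1 < α := by nlinarith [sq_nonneg (α - 1)]
    have h2 : α < 3 := by nlinarith [sq_nonneg (α - 3)]
    have h3 : α = 2 := by omega
    subst h3
    constructor <;> linarith

set_option maxHeartbeats 1000000 in
/-- (K2b) -/
theorem struct2_of (hS : StarStmt ι) : Struct2Stmt ι := by
  classical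
  intro o d X₁ X₂ X₃ X₄ hd h1o h2o h3o h4o hm1 hm2 hm3 hm4 h11 h22 h33 h44 h12 h13 h14 h23 h24
    h34 hd1 hd2 hd3 hd4
  -- the difference vectors
  have hdiv : ∀ X : ι → ℤ, (∀ i, ∃ m : ℤ, X i = d i - 3 * m) →
      ∃ u : ι → ℤ, ∀ i, X i - X₄ i = 3 * u i := by
    intro X hX
    choose m hm using hX
    choose m4 hm4' using hm4
    exact ⟨fun i => m4 i - m i, fun i => by rw [hm i, hm4' i]; ring⟩
  obtain ⟨u₁, hu₁⟩ := hdiv X₁ hm1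
  obtain ⟨u₂, hu₂⟩ := hdiv X₂ hm2
  obtain ⟨u₃, hu₃⟩ := hdiv X₃ hm3
  have hip : ∀ X Y u v : ι → ℤ, (∀ i, X i - X₄ i = 3 * u i) → (∀ i, Y i - X₄ i = 3 * v i) →
      9 * ∑ i, u i * v i =
        ∑ i, X i * Y i - ∑ i, X i * X₄ i - ∑ i, X₄ i * Y i + ∑ i, X₄ i ^ 2 := by
    intro X Y u v hu hv
    rw [Finset.mul_sum, ← Finset.sum_sub_distrib, ← Finset.sum_sub_distrib,
      ← Finset.sum_add_distrib]
    refine Finset.sum_congr rfl fun i _ => ?_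
    have h1 := hu i
    have h2 := hv i
    have h3 : 9 * (u i * v i) = (3 * u i) * (3 * v i) := by ring
    rw [h3, ← h1, ← h2]; ring
  have hsq : ∀ X : ι → ℤ, ∑ i, X i * X i = ∑ i, X i ^ 2 :=
    fun X => Finset.sum_congr rfl fun i _ => (pow_two _).symm
  have hcomm : ∀ X Y : ι → ℤ, ∑ i, X i * Y i = ∑ i, Y i * X i :=
    fun X Y => Finset.sum_congr rfl fun i _ => mul_comm _ _
  have h41 : ∑ i, X₄ i * X₁ i = 0 := by rw [hcomm]; exact h14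
  have h42 : ∑ i, X₄ i * X₂ i = 0 := by rw [hcomm]; exact h24
  have h43 : ∑ i, X₄ i * X₃ i = 0 := by rw [hcomm]; exact h34
  have hn1 : ∑ i, u₁ i ^ 2 = 2 := by
    have := hip X₁ X₁ u₁ u₁ hu₁ hu₁
    rw [hsq, hsq, h11, h14, h41, h44] at this
    omega
  have hn2 : ∑ i, u₂ i ^ 2 = 2 := by
    have := hip X₂ X₂ u₂ u₂ hu₂ hu₂
    rw [hsq, hsq, h22, h24, h42, h44] at this
    omega
  have hn3 : ∑ i, u₃ i ^ 2 = 2 := by
    have := hip X₃ X₃ u₃ u₃ hu₃ hu₃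
    rw [hsq, hsq, h33, h34, h43, h44] at this
    omega
  have hi12 : ∑ i, u₁ i * u₂ i = 1 := by
    have := hip X₁ X₂ u₁ u₂ hu₁ hu₂
    rw [h12, h14, h42, h44] at this
    omega
  have hi13 : ∑ i, u₁ i * u₃ i = 1 := by
    have := hip X₁ X₃ u₁ u₃ hu₁ hu₃
    rw [h13, h14, h43, h44] at this
    omega
  have hi23 : ∑ i, u₂ i * u₃ i = 1 := by
    have := hip X₂ X₃ u₂ u₃ hu₂ hu₃
    rw [h23, h24, h43, h44] at this
    omega
  have hdu : ∀ X u : ι → ℤ, (∀ i, X i - X₄ i = 3 * u i) → ∑ i, (d i : ℤ) * X i = 0 →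
      ∑ i, (d i : ℤ) * u i = 0 := by
    intro X u hu hX
    have h1 : 3 * ∑ i, (d i : ℤ) * u i = ∑ i, (d i : ℤ) * X i - ∑ i, (d i : ℤ) * X₄ i := by
      rw [Finset.mul_sum, ← Finset.sum_sub_distrib]
      refine Finset.sum_congr rfl fun i _ => ?_
      have := hu i
      have h3 : 3 * ((d i : ℤ) * u i) = (d i : ℤ) * (3 * u i) := by ring
      rw [h3, ← this]; ring
    rw [hX, hd4] at h1
    omega
  obtain ⟨a, b₁, b₂, b₃, ε, hnd, hε, hdb₁, hdb₂, hdb₃, hu₁a, hu₁b, hu₁0, hu₂a, hu₂b, hu₂0,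
    hu₃a, hu₃b, hu₃0⟩ := hS d u₁ u₂ u₃ hd hn1 hn2 hn3 hi12 hi13 hi23 (hdu X₁ u₁ hu₁ hd1)
      (hdu X₂ u₂ hu₂ hd2) (hdu X₃ u₃ hu₃ hd3)
  have hε0 : ε ≠ 0 := by rcases hε with h | h <;> rw [h] <;> norm_num
  -- distinctness
  have hne : a ≠ b₁ ∧ a ≠ b₂ ∧ a ≠ b₃ ∧ b₁ ≠ b₂ ∧ b₁ ≠ b₃ ∧ b₂ ≠ b₃ := by
    simp only [List.nodup_cons, List.mem_cons, List.not_mem_nil, or_false, not_or,
      List.nodup_nil, and_true, not_false_eq_true] at hnd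
    obtain ⟨⟨h1, h2, h3⟩, ⟨h4, h5⟩, h6⟩ := hnd
    exact ⟨h1, h2, h3, h4, h5, h6⟩
  obtain ⟨hab₁, hab₂, hab₃, hb₁₂, hb₁₃, hb₂₃⟩ := hne
  -- `o` is none of the four points
  have huo : ∀ X u : ι → ℤ, (∀ i, X i - X₄ i = 3 * u i) → X o = 1 → u o = 0 := by
    intro X u hu hX
    have := hu o
    rw [hX, h4o] at this
    omega
  have hoa : o ≠ a := by
    intro h
    have := huo X₁ u₁ hu₁ h1o
    rw [h, hu₁a] at this
    exact hε0 this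
  have hob₁ : o ≠ b₁ := by
    intro h
    have := huo X₁ u₁ hu₁ h1o
    rw [h, hu₁b] at this
    exact hε0 (neg_eq_zero.1 this)
  have hob₂ : o ≠ b₂ := by
    intro h
    have := huo X₂ u₂ hu₂ h2o
    rw [h, hu₂b] at this
    exact hε0 (neg_eq_zero.1 this)
  have hob₃ : o ≠ b₃ := by
    intro h
    have := huo X₃ u₃ hu₃ h3o
    rw [h, hu₃b] at this
    exact hε0 (neg_eq_zero.1 this)
  -- the values of `X₄` on the `b`s
  set α : ℤ := X₄ a with hα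
  have hX4u : ∀ (X u : ι → ℤ) (b : ι), (∀ i, X i - X₄ i = 3 * u i) → ∑ i, X₄ i * X i = 0 →
      a ≠ b → u a = ε → u b = -ε → (∀ l, l ≠ a → l ≠ b → u l = 0) → X₄ b = α + 3 * ε := by
    intro X u b hu hX hab hua hub hu0
    have h1 : 3 * ∑ i, X₄ i * u i = ∑ i, X₄ i * X i - ∑ i, X₄ i ^ 2 := by
      rw [Finset.mul_sum, ← Finset.sum_sub_distrib]
      refine Finset.sum_congr rfl fun i _ => ?_
      have := hu i
      have h3 : 3 * (X₄ i * u i) = X₄ i * (3 * u i) := by ring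
      rw [h3, ← this]; ring
    rw [hX, h44] at h1
    have h2 : ∑ i, X₄ i * u i = X₄ a * ε + (X₄ b * (-ε) + 0) := by
      have := sum_eq_list_sum [a, b] (by simp [hab]) (fun i => X₄ i * u i) (fun i hi => by
        simp only [List.mem_cons, List.not_mem_nil, or_false, not_or] at hi
        show X₄ i * u i = 0
        rw [hu0 i hi.1 hi.2, mul_zero])
      simpa [hua, hub] using this
    rw [h2] at h1
    rcases hε with h | h <;> rw [h] at h1 ⊢ <;> linarith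
  have h4b₁ : X₄ b₁ = α + 3 * ε := hX4u X₁ u₁ b₁ hu₁ h41 hab₁ hu₁a hu₁b hu₁0
  have h4b₂ : X₄ b₂ = α + 3 * ε := hX4u X₂ u₂ b₂ hu₂ h42 hab₂ hu₂a hu₂b hu₂0
  have h4b₃ : X₄ b₃ = α + 3 * ε := hX4u X₃ u₃ b₃ hu₃ h43 hab₃ hu₃a hu₃b hu₃0
  -- the norm of `X₄`
  have hSnd : [o, a, b₁, b₂, b₃].Nodup := by
    simp only [List.nodup_cons, List.mem_cons, List.not_mem_nil, or_false, not_or,
      List.nodup_nil, and_true, not_false_eq_true]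
    exact ⟨⟨hoa, hob₁, hob₂, hob₃⟩, ⟨hab₁, hab₂, hab₃⟩, ⟨hb₁₂, hb₁₃⟩, hb₂₃⟩
  set f : ι → ℤ := fun l => if l ∈ [o, a, b₁, b₂, b₃] then 0 else X₄ l with hf
  have hfsq : ∀ l, (if l ∈ [o, a, b₁, b₂, b₃] then 0 else X₄ l ^ 2) = f l ^ 2 := by
    intro l
    rw [hf]
    by_cases hl : l ∈ [o, a, b₁, b₂, b₃]
    · simp only [if_pos hl]; norm_num
    · simp only [if_neg hl]
  have hnorm := sum_split_list [o, a, b₁, b₂, b₃] hSnd (fun l => X₄ l ^ 2)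
  rw [h44] at hnorm
  simp only [List.map_cons, List.map_nil, List.sum_cons, List.sum_nil] at hnorm
  rw [Finset.sum_congr rfl (fun l _ => hfsq l), h4o, ← hα, h4b₁, h4b₂, h4b₃] at hnorm
  have hfnn : 0 ≤ ∑ l, f l ^ 2 := Finset.sum_nonneg fun _ _ => sq_nonneg _
  -- `α = -2 ε`
  have hkey : α ^ 2 + 3 * (α + 3 * ε) ^ 2 + ∑ l, f l ^ 2 = 8 := by
    have h1 : (1 : ℤ) ^ 2 = 1 := by norm_num
    rw [h1] at hnorm
    linarith
  obtain ⟨hαε, hf1⟩ := alpha_eq α ε (∑ l, f l ^ 2) hε hfnn hkey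
  obtain ⟨φ, he, hφ0⟩ := shape1 f hf1
  have hφS : φ ∉ [o, a, b₁, b₂, b₃] := by
    intro hmem
    have : f φ = 0 := by rw [hf]; simp only [if_pos hmem]
    rcases he with h | h <;> rw [h] at this <;> norm_num at this
  have hfφ : f φ = X₄ φ := by rw [hf]; simp only [if_neg hφS]
  have hφne : φ ≠ o ∧ φ ≠ a ∧ φ ≠ b₁ ∧ φ ≠ b₂ ∧ φ ≠ b₃ := by
    simp only [List.mem_cons, List.not_mem_nil, or_false, not_or] at hφS
    exact hφS
  obtain ⟨hφo, hφa, hφb₁, hφb₂, hφb₃⟩ := hφne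
  -- transfer from `X₄` to the other columns
  have hXu : ∀ (X u : ι → ℤ), (∀ i, X i - X₄ i = 3 * u i) → ∀ l, X l = X₄ l + 3 * u l := by
    intro X u hu l
    have := hu l
    linarith
  set η : ℤ := -ε with hη
  have hηpm : η = 1 ∨ η = -1 := by
    rcases hε with h | h
    · right; rw [hη, h]
    · left; rw [hη, h]; norm_num
  have hα2 : α = 2 * η := by rw [hαε, hη]; ring
  have hα3 : α + 3 * ε = -η := by rw [hαε, hη]; ring
  refine ⟨φ, b₁, b₂, b₃, a, f φ, η, ?_, he, hηpm, ?_, ?_, ?_, ?_, ?_, ?_, ?_, ?_, ?_, ?_, ?_,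
    ?_, ?_, ?_, ?_, ?_, ?_, ?_, ?_, ?_, ?_, ?_, ?_, ?_⟩
  · simp only [List.nodup_cons, List.mem_cons, List.not_mem_nil, or_false, not_or,
      List.nodup_nil, and_true, not_false_eq_true]
    exact ⟨⟨hφo.symm, hob₁, hob₂, hob₃, hoa⟩, ⟨hφb₁, hφb₂, hφb₃, hφa⟩,
      ⟨hb₁₂, hb₁₃, hab₁.symm⟩, ⟨hb₂₃, hab₂.symm⟩, hab₃.symm⟩
  · rw [hdb₂, hdb₁]
  · rw [hdb₃, hdb₁]
  · rw [hdb₁]
  · rw [hXu X₁ u₁ hu₁ φ, hu₁0 φ hφa hφb₁, hfφ]; ring
  · rw [hXu X₂ u₂ hu₂ φ, hu₂0 φ hφa hφb₂, hfφ]; ring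
  · rw [hXu X₃ u₃ hu₃ φ, hu₃0 φ hφa hφb₃, hfφ]; ring
  · exact hfφ.symm
  -- row `b₁`
  · rw [hXu X₁ u₁ hu₁ b₁, hu₁b, h4b₁, ← hα2]; ring
  · rw [hXu X₂ u₂ hu₂ b₁, hu₂0 b₁ hab₁.symm hb₁₂, h4b₁, ← hα3]; ring
  · rw [hXu X₃ u₃ hu₃ b₁, hu₃0 b₁ hab₁.symm hb₁₃, h4b₁, ← hα3]; ring
  · rw [h4b₁, hα3]
  -- row `b₂`
  · rw [hXu X₁ u₁ hu₁ b₂, hu₁0 b₂ hab₂.symm hb₁₂.symm, h4b₂, ← hα3]; ring
  · rw [hXu X₂ u₂ hu₂ b₂, hu₂b, h4b₂, ← hα2]; ring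
  · rw [hXu X₃ u₃ hu₃ b₂, hu₃0 b₂ hab₂.symm hb₂₃, h4b₂, ← hα3]; ring
  · rw [h4b₂, hα3]
  -- row `b₃`
  · rw [hXu X₁ u₁ hu₁ b₃, hu₁0 b₃ hab₃.symm hb₁₃.symm, h4b₃, ← hα3]; ring
  · rw [hXu X₂ u₂ hu₂ b₃, hu₂0 b₃ hab₃.symm hb₂₃.symm, h4b₃, ← hα3]; ring
  · rw [hXu X₃ u₃ hu₃ b₃, hu₃b, h4b₃, ← hα2]; ring
  · rw [h4b₃, hα3]
  -- row `a`
  · rw [hXu X₁ u₁ hu₁ a, hu₁a, ← hα, ← hα3]
  · rw [hXu X₂ u₂ hu₂ a, hu₂a, ← hα, ← hα3]
  · rw [hXu X₃ u₃ hu₃ a, hu₃a, ← hα, ← hα3]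
  · rw [← hα, hα2]
  -- the other rows
  · intro l hlo hlφ hlb₁ hlb₂ hlb₃ hla
    have hlS : l ∉ [o, a, b₁, b₂, b₃] := by
      simp only [List.mem_cons, List.not_mem_nil, or_false, not_or]
      exact ⟨hlo, hla, hlb₁, hlb₂, hlb₃⟩
    have h4l : X₄ l = 0 := by
      have h1 := hφ0 l hlφ
      rw [hf] at h1
      simpa only [if_neg hlS] using h1
    refine ⟨?_, ?_, ?_, h4l⟩
    · rw [hXu X₁ u₁ hu₁ l, hu₁0 l hla hlb₁, h4l]; ring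
    · rw [hXu X₂ u₂ hu₂ l, hu₂0 l hla hlb₂, h4l]; ring
    · rw [hXu X₃ u₃ hu₃ l, hu₃0 l hla hlb₃, h4l]; ring

end Cfsg.Agent.Helper48.A6
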