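import Mathlib
import Cfsg.Agent.Helper21.A6Defs
import Cfsg.Agent.Helper48.A6_K2d

/-!
# (K4d) for S3341 (helper21's A6 route): the `C₄` case gives `n = 10`
-/

set_option autoImplicit false
open Cfsg Finset

namespace Cfsg.Agent.Helper48.A6

open Cfsg.Agent.Helper21.A6

variable {ι : Type*} [Fintype ι]

/-- (K4d) -/
theorem core4_of (hS : Struct4Stmt ι) (hN : Numeric4Stmt)
    (o : ι) (d : ι → ℕ) (X Z : ι → ℤ) (g n : ℕ)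
    (hd : ∀ i, 0 < d i) (hdo : d o = 1) (hlin : ∀ i, d i = 1 → i = o)
    (hXo : X o = 1) (hZo : Z o = 1)
    (hmX : ∀ i, ∃ m : ℤ, X i = d i - 3 * m) (hmZ : ∀ i, ∃ m : ℤ, Z i = d i - 3 * m)
    (h9 : ∀ i, ∃ k : ℤ, (d i : ℤ) + 4 * X i + 4 * Z i = 9 * k)
    (hXX : ∑ i, X i ^ 2 = 9) (hZZ : ∑ i, Z i ^ 2 = 9) (hXZ : ∑ i, X i * Z i = 0)
    (hdX : ∑ i, (d i : ℤ) * X i = 0) (hdZ : ∑ i, (d i : ℤ) * Z i = 0)
    (hE : ∑ i, ((X i : ℚ) * (Z i : ℚ) * (X i : ℚ)) / (d i : ℚ) = 162 / (g : ℚ))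
    (hg : g = 36 * n) (hn : n % 9 = 1) : n = 10 := by
  obtain ⟨i, j, k₁, k₂, k₃, σ, hnd, hσ, hdj, hXZi, hXZj, hcube, hX1, hZ1, hX2, hZ2, hX3, hZ3,
    hrest⟩ := hS o d X Z hd hXo hZo hmX hmZ hXX hZZ hXZ hdX hdZ
  have hnotmem : ∀ l, l ∉ [o, i, j, k₁, k₂, k₃] → X l = 0 ∧ Z l = 0 := by
    intro l hl
    simp only [List.mem_cons, List.not_mem_nil, or_false, not_or] at hl
    obtain ⟨a1, a2, a3, a4, a5, a6⟩ := hl
    exact hrest l a1 a2 a3 a4 a5 a6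
  have hne : k₁ ≠ o ∧ k₂ ≠ o ∧ k₃ ≠ o := by
    refine ⟨?_, ?_, ?_⟩ <;> intro h <;> rw [h] at hnd <;> simp at hnd
  have hdk : ∀ k, k ≠ o → 1 < d k := by
    intro k hk
    have h1 := hd k
    have h2 : d k ≠ 1 := fun h => hk (hlin k h)
    omega
  -- congruences
  have hc0 : ∃ k : ℤ, (d i : ℤ) - 4 * σ = 9 * k := by
    obtain ⟨k, hk⟩ := h9 i
    exact ⟨k, by rw [← hk]; linarith⟩
  have hck : ∀ k, Z k = X k → ∃ k' : ℤ, (d k : ℤ) + 8 * X k = 9 * k' := by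
    intro k hZk
    obtain ⟨k', hk'⟩ := h9 k
    exact ⟨k', by rw [← hk', hZk]; ring⟩
  -- the third-moment relation
  have hrel : (1 : ℚ) + 2 * (σ : ℚ) / (d i : ℚ) + (X k₁ : ℚ) / (d k₁ : ℚ) +
      (X k₂ : ℚ) / (d k₂ : ℚ) + (X k₃ : ℚ) / (d k₃ : ℚ) = 162 / (36 * (n : ℚ)) := by
    have h := sum_eq_list_sum [o, i, j, k₁, k₂, k₃] hnd
      (fun l => ((X l : ℚ) * (Z l : ℚ) * (X l : ℚ)) / (d l : ℚ))
      (fun l hl => by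
        show ((X l : ℚ) * (Z l : ℚ) * (X l : ℚ)) / (d l : ℚ) = 0
        rw [(hnotmem l hl).1]; simp)
    rw [hE] at h
    simp only [List.map_cons, List.map_nil, List.sum_cons, List.sum_nil] at h
    rw [hdo, hXo, hZo, hZ1, hZ2, hZ3, hdj] at h
    have hcubeQ : (X i : ℚ) * (Z i : ℚ) * (X i : ℚ) + (X j : ℚ) * (Z j : ℚ) * (X j : ℚ) =
        2 * (σ : ℚ) := by exact_mod_cast hcube
    have hcu : ∀ k, (X k = 1 ∨ X k = -1) → (X k : ℚ) * (X k : ℚ) * (X k : ℚ) = (X k : ℚ) := by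
      intro k hk
      rcases hk with h | h <;> rw [h] <;> norm_num
    rw [hcu k₁ hX1, hcu k₂ hX2, hcu k₃ hX3] at h
    have hgQ : (g : ℚ) = 36 * (n : ℚ) := by rw [hg]; push_cast; ring
    rw [← hgQ, h]
    have h2 : 2 * (σ : ℚ) / (d i : ℚ) =
        (X i : ℚ) * (Z i : ℚ) * (X i : ℚ) / (d i : ℚ) + (X j : ℚ) * (Z j : ℚ) * (X j : ℚ) / (d i : ℚ) := by
      rw [← add_div, hcubeQ]
    rw [h2]
    simp only [Nat.cast_one, div_one]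
    ring
  exact hN (d i) (d k₁) (d k₂) (d k₃) n σ (X k₁) (X k₂) (X k₃) hσ hX1 hX2 hX3 (hd i)
    (hdk k₁ hne.1) (hdk k₂ hne.2.1) (hdk k₃ hne.2.2) hc0 (hck k₁ hZ1) (hck k₂ hZ2) (hck k₃ hZ3)
    hn hrel

end Cfsg.Agent.Helper48.A6
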