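import Mathlib

/-!
# (G5d) of board #5796 (helper3, S3805): counting pairs of conjugates with prescribed values
(helper48)
-/

set_option autoImplicit false

namespace Cfsg.Agent.Helper48.S3S3

universe u

variable {G : Type u} [Group G]

theorem conj_eq_conj_iff (p g g₀ : G) :
    g * p * g⁻¹ = g₀ * p * g₀⁻¹ ↔ g₀⁻¹ * g ∈ Subgroup.centralizer ({p} : Set G) := by
  rw [Subgroup.mem_centralizer_singleton_iff]
  constructor
  · intro h
    have : g₀⁻¹ * (g * p * g⁻¹) * g = g₀⁻¹ * (g₀ * p * g₀⁻¹) * g := by rw [h]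
    simpa [mul_assoc] using this
  · intro h
    have : g₀ * (g₀⁻¹ * g * p) * g⁻¹ = g₀ * (p * (g₀⁻¹ * g)) * g⁻¹ := by rw [h]
    simpa [mul_assoc] using this

/-- **(G5d)** counting pairs of conjugates with prescribed values. -/
theorem card_conj_pair [Fintype G] [DecidableEq G] (p q g₀ h₀ : G) :
    (Finset.univ.filter (fun gh : G × G =>
      gh.1 * p * gh.1⁻¹ = g₀ * p * g₀⁻¹ ∧ gh.2 * q * gh.2⁻¹ = h₀ * q * h₀⁻¹)).card =
      Nat.card (Subgroup.centralizer ({p} : Set G)) *
        Nat.card (Subgroup.centralizer ({q} : Set G)) := by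
  classical
  rw [← Nat.card_prod, ← Fintype.card_subtype, ← Nat.card_eq_fintype_card]
  refine Nat.card_congr
    { toFun := fun gh => (⟨g₀⁻¹ * gh.1.1, (conj_eq_conj_iff p _ g₀).1 gh.2.1⟩,
        ⟨h₀⁻¹ * gh.1.2, (conj_eq_conj_iff q _ h₀).1 gh.2.2⟩)
      invFun := fun cd => ⟨(g₀ * cd.1.1, h₀ * cd.2.1), by
        refine ⟨(conj_eq_conj_iff p _ g₀).2 ?_, (conj_eq_conj_iff q _ h₀).2 ?_⟩
        · rw [inv_mul_cancel_left]; exact cd.1.2
        · rw [inv_mul_cancel_left]; exact cd.2.2⟩
      left_inv := fun gh => by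
        apply Subtype.ext
        apply Prod.ext
        · simp
        · simp
      right_inv := fun cd => by
        apply Prod.ext
        · apply Subtype.ext; simp
        · apply Subtype.ext; simp }

end Cfsg.Agent.Helper48.S3S3
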