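import Mathlib

set_option autoImplicit false
set_option linter.unusedSectionVars false
set_option linter.unusedVariables false
set_option linter.style.haveILetI false

/-!
# Pure group theory behind B-G Theorem 14.2 (statement S1434; helper48)

* `card_classSupport`: if `T ⊆ Z`, `Z` centralizes `T` elementwise and `g z g⁻¹ ∈ T` with `z ∈ T`
  forces `g ∈ Z`, then the union of the conjugates of `T` has `|G : Z| · |T|` elements.
* `PairCtx`: two commuting subgroups `K`, `Ks` of coprime orders with the normalizer and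
  trivial-intersection properties of a "`κ`-pair"; all the centralizer statements and the count
  of `S1434` are derived from it.
-/

namespace Cfsg.Agent.Helper48.BG142

open scoped Pointwise

variable {G : Type*} [Group G]

/-! ### the class support of a TI-like subset -/

/-- the set of conjugates of elements of `T` -/
def classSupport (T : Set G) : Set G := {a : G | ∃ g : G, ∃ z ∈ T, a = g * z * g⁻¹}

theorem card_classSupport [Finite G] (Z : Subgroup G) (T : Set G)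
    (hcent : ∀ h ∈ Z, ∀ z ∈ T, h * z * h⁻¹ = z)
    (hTI : ∀ g : G, ∀ z ∈ T, g * z * g⁻¹ ∈ T → g ∈ Z) :
    Set.ncard (classSupport T) = Z.index * Set.ncard T := by
  classical
  rw [← Nat.card_coe_set_eq, ← Nat.card_coe_set_eq, Subgroup.index_eq_card,
    ← Nat.card_prod]
  symm
  refine Nat.card_congr (Equiv.ofBijective
    (fun x : (G ⧸ Z) × T => (⟨x.1.out * (x.2 : G) * x.1.out⁻¹, x.1.out, x.2, x.2.2, rfl⟩ :
      classSupport T)) ⟨?_, ?_⟩)
  · rintro ⟨q, ⟨z, hz⟩⟩ ⟨q', ⟨z', hz'⟩⟩ h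
    have h1 : q.out * z * q.out⁻¹ = q'.out * z' * q'.out⁻¹ := congrArg Subtype.val h
    have h2 : (q'.out⁻¹ * q.out) * z * (q'.out⁻¹ * q.out)⁻¹ = z' := by
      have : (q'.out⁻¹ * q.out) * z * (q'.out⁻¹ * q.out)⁻¹
          = q'.out⁻¹ * (q.out * z * q.out⁻¹) * q'.out := by group
      rw [this, h1]; group
    have h3 : q'.out⁻¹ * q.out ∈ Z := hTI _ z hz (by rw [h2]; exact hz')
    have h4 : z' = z := by rw [← h2]; exact hcent _ h3 z hz
    have h5 : q' = q := by
      rw [← QuotientGroup.out_eq' q', ← QuotientGroup.out_eq' q]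
      exact QuotientGroup.eq.2 h3
    subst h4; subst h5; rfl
  · rintro ⟨a, g, z, hz, rfl⟩
    obtain ⟨h, hh⟩ := QuotientGroup.mk_out_eq_mul Z g
    refine ⟨((g : G ⧸ Z), ⟨z, hz⟩), ?_⟩
    apply Subtype.ext
    show (g : G ⧸ Z).out * z * (g : G ⧸ Z).out⁻¹ = g * z * g⁻¹
    rw [hh]
    have h6 := hcent (h : G) h.2 z hz
    calc g * (h : G) * z * (g * (h : G))⁻¹ = g * ((h : G) * z * (h : G)⁻¹) * g⁻¹ := by group
      _ = g * z * g⁻¹ := by rw [h6]


/-! ### small lemmas on powers and centralizers -/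

theorem pow_card_eq_one_of_mem {A : Subgroup G} {x : G} (hx : x ∈ A) : x ^ Nat.card A = 1 := by
  have h : (⟨x, hx⟩ : A) ^ Nat.card A = 1 := pow_card_eq_one'
  exact congrArg Subtype.val h

theorem pow_card_ne_one [Finite G] {A B : Subgroup G}
    (hcop : (Nat.card A).Coprime (Nat.card B)) {y : G} (hy : y ∈ B) (hy1 : y ≠ 1) :
    y ^ Nat.card A ≠ 1 := by
  intro h
  have h1 : orderOf y ∣ Nat.card A := orderOf_dvd_of_pow_eq_one h
  have h2 : orderOf y ∣ Nat.card B := Subgroup.orderOf_dvd_natCard B hy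
  exact hy1 (orderOf_eq_one_iff.1 (Nat.eq_one_of_dvd_coprimes hcop h1 h2))

/-- a non-identity element has a power generating a subgroup of prime order -/
theorem exists_pow_prime_card [Finite G] {x : G} (hx1 : x ≠ 1) :
    ∃ n : ℕ, (Nat.card (Subgroup.zpowers (x ^ n))).Prime := by
  have hox : orderOf x ≠ 1 := fun h => hx1 (orderOf_eq_one_iff.1 h)
  obtain ⟨p, hp, hpd⟩ := Nat.exists_prime_and_dvd hox
  refine ⟨orderOf x / p, ?_⟩
  rw [Nat.card_zpowers, orderOf_pow_orderOf_div (orderOf_pos x).ne' hpd]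
  exact hp

theorem mem_normalizer_zpowers_pow {c x : G} (h : c * x = x * c) (n : ℕ) :
    c ∈ Subgroup.normalizer ((Subgroup.zpowers (x ^ n) : Subgroup G) : Set G) := by
  apply Subgroup.centralizer_le_normalizer
  rw [Subgroup.mem_centralizer_iff]
  intro h' hh
  obtain ⟨k, rfl⟩ := Subgroup.mem_zpowers_iff.1 hh
  have h1 : Commute c x := h
  exact ((h1.pow_right n).zpow_right k).symm

/-- if the normalizer in `H` of every subgroup of prime order of the abelian group `A` is `A B`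
(with `B` centralizing `A`), then so is the centralizer in `H` of every non-identity element of `A` -/
theorem inf_centralizer_singleton_eq [Finite G] {H A B : Subgroup G} (hAH : A ≤ H) (hBH : B ≤ H)
    (hA : ∀ a ∈ A, ∀ b ∈ A, a * b = b * a) (hAB : ∀ a ∈ A, ∀ b ∈ B, a * b = b * a)
    (hnorm : ∀ X : Subgroup G, X ≤ A → (Nat.card X).Prime →
      H ⊓ Subgroup.normalizer (X : Set G) = A ⊔ B)
    {x : G} (hx : x ∈ A) (hx1 : x ≠ 1) :
    H ⊓ Subgroup.centralizer ({x} : Set G) = A ⊔ B := by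
  apply le_antisymm
  · rintro c ⟨hcH, hc⟩
    obtain ⟨n, hn⟩ := exists_pow_prime_card hx1
    have hcx : c * x = x * c := (Subgroup.mem_centralizer_iff.1 hc x rfl).symm
    rw [← hnorm (Subgroup.zpowers (x ^ n))
      (by rw [Subgroup.zpowers_le]; exact A.pow_mem hx n) hn]
    exact ⟨hcH, mem_normalizer_zpowers_pow hcx n⟩
  · apply sup_le
    · intro a ha
      refine Subgroup.mem_inf.2 ⟨hAH ha, ?_⟩
      rw [Subgroup.mem_centralizer_iff]
      intro h hh
      rw [Set.mem_singleton_iff.1 hh]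
      exact hA x hx a ha
    · intro b hb
      refine Subgroup.mem_inf.2 ⟨hBH hb, ?_⟩
      rw [Subgroup.mem_centralizer_iff]
      intro h hh
      rw [Set.mem_singleton_iff.1 hh]
      exact hAB x hx b hb

/-- if `H` and `K` commute elementwise then every element of `H ⊔ K` is a product -/
theorem exists_mul_of_mem_sup {H K : Subgroup G}
    (hc : ∀ a ∈ H, ∀ b ∈ K, a * b = b * a) {g : G} (hg : g ∈ H ⊔ K) :
    ∃ a ∈ H, ∃ b ∈ K, g = a * b := by
  let S : Subgroup G :=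
    { carrier := {g | ∃ a ∈ H, ∃ b ∈ K, g = a * b}
      one_mem' := ⟨1, H.one_mem, 1, K.one_mem, by simp⟩
      mul_mem' := by
        rintro _ _ ⟨a, ha, b, hb, rfl⟩ ⟨a', ha', b', hb', rfl⟩
        refine ⟨a * a', H.mul_mem ha ha', b * b', K.mul_mem hb hb', ?_⟩
        have := hc a' ha' b hb
        calc a * b * (a' * b') = a * (b * a') * b' := by group
          _ = a * (a' * b) * b' := by rw [this]
          _ = a * a' * (b * b') := by group
      inv_mem' := by
        rintro _ ⟨a, ha, b, hb, rfl⟩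
        refine ⟨a⁻¹, H.inv_mem ha, b⁻¹, K.inv_mem hb, ?_⟩
        have := hc a⁻¹ (H.inv_mem ha) b⁻¹ (K.inv_mem hb)
        rw [mul_inv_rev, this] }
  have hle : H ⊔ K ≤ S := by
    apply sup_le
    · intro a ha
      exact ⟨a, ha, 1, K.one_mem, by simp⟩
    · intro b hb
      exact ⟨1, H.one_mem, b, hb, by simp⟩
  exact hle hg


/-- the order of the product of two commuting subgroups meeting trivially -/
theorem card_sup_of_commute [Finite G] {H K : Subgroup G}
    (hc : ∀ a ∈ H, ∀ b ∈ K, a * b = b * a) (hinf : H ⊓ K = ⊥) :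
    Nat.card ↥(H ⊔ K) = Nat.card H * Nat.card K := by
  rw [← Nat.card_prod]
  symm
  refine Nat.card_congr (Equiv.ofBijective
    (fun x : H × K => (⟨x.1 * x.2, (H ⊔ K).mul_mem ((le_sup_left : H ≤ H ⊔ K) x.1.2)
      ((le_sup_right : K ≤ H ⊔ K) x.2.2)⟩ : ↥(H ⊔ K))) ⟨?_, ?_⟩)
  · rintro ⟨⟨a, ha⟩, ⟨b, hb⟩⟩ ⟨⟨a', ha'⟩, ⟨b', hb'⟩⟩ hab
    have hab' : a * b = a' * b' := congrArg Subtype.val hab
    have h1 : a'⁻¹ * a = b' * b⁻¹ := by
      rw [eq_mul_inv_iff_mul_eq, mul_assoc, hab', inv_mul_cancel_left]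
    have h2 : a'⁻¹ * a ∈ H ⊓ K :=
      ⟨H.mul_mem (H.inv_mem ha') ha, by rw [h1]; exact K.mul_mem hb' (K.inv_mem hb)⟩
    rw [hinf, Subgroup.mem_bot, inv_mul_eq_one] at h2
    subst h2
    have h3 : b = b' := mul_left_cancel hab'
    subst h3
    rfl
  · rintro ⟨m, hm⟩
    obtain ⟨a, ha, b, hb, rfl⟩ := exists_mul_of_mem_sup hc hm
    exact ⟨(⟨a, ha⟩, ⟨b, hb⟩), rfl⟩

theorem inf_eq_bot_of_coprime [Finite G] {H K : Subgroup G}
    (hcop : (Nat.card H).Coprime (Nat.card K)) : H ⊓ K = ⊥ := by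
  rw [eq_bot_iff]
  rintro y ⟨hy1, hy2⟩
  rw [Subgroup.mem_bot]
  exact orderOf_eq_one_iff.1 (Nat.eq_one_of_dvd_coprimes hcop
    (Subgroup.orderOf_dvd_natCard _ hy1) (Subgroup.orderOf_dvd_natCard _ hy2))

theorem mem_map_conj_iff {g x : G} {H : Subgroup G} :
    x ∈ H.map (MulAut.conj g).toMonoidHom ↔ g⁻¹ * x * g ∈ H := by
  constructor
  · rintro ⟨y, hy, rfl⟩
    have : g⁻¹ * ((MulAut.conj g).toMonoidHom y) * g = y := by
      simp [MulAut.conj_apply, mul_assoc]
    rw [this]; exact hy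
  · intro h
    refine ⟨g⁻¹ * x * g, h, ?_⟩
    simp [MulAut.conj_apply, mul_assoc]

/-! ### the abstract `κ`-pair -/

/-- the set `Ẑ` of elements of `K K*` outside `K ∪ K*` -/
abbrev zhat (K Ks : Subgroup G) : Set G := (↑(K ⊔ Ks) : Set G) \ ((K : Set G) ∪ ↑Ks)

/-- two commuting abelian subgroups `K`, `Ks` of coprime orders in `M ∩ Ms` with the normalizer
and trivial-intersection properties of B-G Section 14 -/
structure PairCtx (M Ms K Ks : Subgroup G) : Prop where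
  K_ne : K ≠ ⊥
  Ks_ne : Ks ≠ ⊥
  K_le : K ≤ M
  Ks_le : Ks ≤ M
  K_le' : K ≤ Ms
  Ks_le' : Ks ≤ Ms
  comm : ∀ a ∈ K, ∀ b ∈ Ks, a * b = b * a
  K_comm : ∀ a ∈ K, ∀ b ∈ K, a * b = b * a
  Ks_comm : ∀ a ∈ Ks, ∀ b ∈ Ks, a * b = b * a
  coprime : (Nat.card K).Coprime (Nat.card Ks)
  normX : ∀ X : Subgroup G, X ≤ K → (Nat.card X).Prime →
    M ⊓ Subgroup.normalizer (X : Set G) = K ⊔ Ks
  normY : ∀ Y : Subgroup G, Y ≤ Ks → (Nat.card Y).Prime →
    Ms ⊓ Subgroup.normalizer (Y : Set G) = K ⊔ Ks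
  ti1 : ∀ g : G, g ∉ M → Ks ⊓ M.map (MulAut.conj g).toMonoidHom = ⊥
  ti2 : ∀ g ∈ M, g ∉ K ⊔ Ks → K ⊓ K.map (MulAut.conj g).toMonoidHom = ⊥

namespace PairCtx

variable [Finite G] {M Ms K Ks : Subgroup G}

theorem cent_x (h : PairCtx M Ms K Ks) {x : G} (hx : x ∈ K) (hx1 : x ≠ 1) :
    M ⊓ Subgroup.centralizer ({x} : Set G) = K ⊔ Ks :=
  inf_centralizer_singleton_eq h.K_le h.Ks_le h.K_comm h.comm h.normX hx hx1

theorem cent_y (h : PairCtx M Ms K Ks) {y : G} (hy : y ∈ Ks) (hy1 : y ≠ 1) :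
    Ms ⊓ Subgroup.centralizer ({y} : Set G) = K ⊔ Ks := by
  rw [sup_comm]
  exact inf_centralizer_singleton_eq h.Ks_le' h.K_le' h.Ks_comm
    (fun a ha b hb => (h.comm b hb a ha).symm)
    (fun Y hY hYp => by rw [sup_comm]; exact h.normY Y hY hYp) hy hy1

/-- a conjugating element moving a non-identity element of `Ks` into `gMg⁻¹` lies in `M` -/
theorem mem_of_mem_map_conj (h : PairCtx M Ms K Ks) {g y : G} (hy : y ∈ Ks) (hy1 : y ≠ 1)
    (hyg : y ∈ M.map (MulAut.conj g).toMonoidHom) : g ∈ M := by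
  by_contra hg
  have h1 : y ∈ Ks ⊓ M.map (MulAut.conj g).toMonoidHom := ⟨hy, hyg⟩
  rw [h.ti1 g hg, Subgroup.mem_bot] at h1
  exact hy1 h1

theorem mul_pow_card_K (h : PairCtx M Ms K Ks) {x y : G} (hx : x ∈ K) (hy : y ∈ Ks) :
    (x * y) ^ Nat.card K = y ^ Nat.card K := by
  have hc : Commute x y := h.comm x hx y hy
  rw [hc.mul_pow, pow_card_eq_one_of_mem hx, one_mul]

theorem mul_pow_card_Ks (h : PairCtx M Ms K Ks) {x y : G} (hx : x ∈ K) (hy : y ∈ Ks) :
    (x * y) ^ Nat.card Ks = x ^ Nat.card Ks := by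
  have hc : Commute x y := h.comm x hx y hy
  rw [hc.mul_pow, pow_card_eq_one_of_mem hy, mul_one]

theorem cent_xy (h : PairCtx M Ms K Ks) {x y : G} (hx : x ∈ K) (hx1 : x ≠ 1)
    (hy : y ∈ Ks) (hy1 : y ≠ 1) :
    Subgroup.centralizer ({x * y} : Set G) = K ⊔ Ks := by
  apply le_antisymm
  · intro c hc
    have hcz : Commute c (x * y) := (Subgroup.mem_centralizer_iff.1 hc (x * y) rfl).symm
    -- `c` commutes with `y ^ |K| ∈ Ks#`
    have hy' : y ^ Nat.card K ∈ Ks := Ks.pow_mem hy _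
    have hy'1 : y ^ Nat.card K ≠ 1 := pow_card_ne_one h.coprime hy hy1
    have hcy : Commute c (y ^ Nat.card K) := by
      rw [← h.mul_pow_card_K hx hy]; exact hcz.pow_right _
    have hcM : c ∈ M := by
      apply h.mem_of_mem_map_conj hy' hy'1
      rw [mem_map_conj_iff]
      have : c⁻¹ * y ^ Nat.card K * c = y ^ Nat.card K := by
        rw [mul_assoc, ← hcy.eq, inv_mul_cancel_left]
      rw [this]; exact h.Ks_le hy'
    have hx' : x ^ Nat.card Ks ∈ K := K.pow_mem hx _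
    have hx'1 : x ^ Nat.card Ks ≠ 1 := pow_card_ne_one h.coprime.symm hx hx1
    have hcx : Commute c (x ^ Nat.card Ks) := by
      rw [← h.mul_pow_card_Ks hx hy]; exact hcz.pow_right _
    rw [← h.cent_x hx' hx'1]
    refine Subgroup.mem_inf.2 ⟨hcM, ?_⟩
    rw [Subgroup.mem_centralizer_iff]
    intro z hz
    rw [Set.mem_singleton_iff.1 hz]
    exact hcx.eq.symm
  · apply sup_le
    · intro a ha
      rw [Subgroup.mem_centralizer_iff]
      intro z hz
      rw [Set.mem_singleton_iff.1 hz]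
      have h1 : Commute (x * y) a :=
        Commute.mul_left (h.K_comm x hx a ha) (h.comm a ha y hy).symm
      exact h1.eq
    · intro b hb
      rw [Subgroup.mem_centralizer_iff]
      intro z hz
      rw [Set.mem_singleton_iff.1 hz]
      have h1 : Commute (x * y) b :=
        Commute.mul_left (h.comm x hx b hb) (h.Ks_comm y hy b hb)
      exact h1.eq

/-- the elements of `Ẑ` are the products `x y` with `x ∈ K#`, `y ∈ Ks#` -/
theorem exists_of_mem_zhat (h : PairCtx M Ms K Ks) {z : G} (hz : z ∈ zhat K Ks) :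
    ∃ x ∈ K, x ≠ 1 ∧ ∃ y ∈ Ks, y ≠ 1 ∧ z = x * y := by
  obtain ⟨hz1, hz2⟩ := hz
  obtain ⟨x, hx, y, hy, rfl⟩ := exists_mul_of_mem_sup h.comm hz1
  refine ⟨x, hx, ?_, y, hy, ?_, rfl⟩
  · rintro rfl
    exact hz2 (Or.inr (by simpa using hy))
  · rintro rfl
    exact hz2 (Or.inl (by simpa using hx))

/-- `Ẑ` misses every conjugate `gMg⁻¹` with `g ∉ M` -/
theorem not_mem_map_conj (h : PairCtx M Ms K Ks) {g : G} (hg : g ∉ M) {z : G}
    (hz : z ∈ zhat K Ks) : z ∉ M.map (MulAut.conj g).toMonoidHom := by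
  intro hzg
  obtain ⟨x, hx, hx1, y, hy, hy1, rfl⟩ := h.exists_of_mem_zhat hz
  apply hg
  apply h.mem_of_mem_map_conj (Ks.pow_mem hy (Nat.card K)) (pow_card_ne_one h.coprime hy hy1)
  rw [← h.mul_pow_card_K hx hy]
  exact Subgroup.pow_mem _ hzg _

/-- `Z = K Ks` centralizes `Ẑ` elementwise -/
theorem conj_eq_of_mem (h : PairCtx M Ms K Ks) {c : G} (hc : c ∈ K ⊔ Ks) {z : G}
    (hz : z ∈ zhat K Ks) : c * z * c⁻¹ = z := by
  obtain ⟨x, hx, hx1, y, hy, hy1, rfl⟩ := h.exists_of_mem_zhat hz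
  rw [← h.cent_xy hx hx1 hy hy1] at hc
  have := Subgroup.mem_centralizer_iff.1 hc (x * y) rfl
  rw [← this]; group

/-- `Ẑ` is a TI-set with normalizer (even "conjugator") `Z = K Ks` -/
theorem mem_of_conj_mem_zhat (h : PairCtx M Ms K Ks) {g z : G} (hz : z ∈ zhat K Ks)
    (hgz : g * z * g⁻¹ ∈ zhat K Ks) : g ∈ K ⊔ Ks := by
  obtain ⟨x, hx, hx1, y, hy, hy1, rfl⟩ := h.exists_of_mem_zhat hz
  obtain ⟨x', hx', hx'1, y', hy', hy'1, he⟩ := h.exists_of_mem_zhat hgz
  -- `|K|`-th powers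
  have e1 : g * y ^ Nat.card K * g⁻¹ = y' ^ Nat.card K := by
    rw [← h.mul_pow_card_K hx hy, ← h.mul_pow_card_K hx' hy', ← he, conj_pow]
  have hgM : g ∈ M := by
    apply h.mem_of_mem_map_conj (Ks.pow_mem hy' (Nat.card K))
      (pow_card_ne_one h.coprime hy' hy'1)
    rw [mem_map_conj_iff, ← e1]
    have : g⁻¹ * (g * y ^ Nat.card K * g⁻¹) * g = y ^ Nat.card K := by group
    rw [this]
    exact h.Ks_le (Ks.pow_mem hy _)
  -- `|Ks|`-th powers
  have e2 : g * x ^ Nat.card Ks * g⁻¹ = x' ^ Nat.card Ks := by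
    rw [← h.mul_pow_card_Ks hx hy, ← h.mul_pow_card_Ks hx' hy', ← he, conj_pow]
  by_contra hgZ
  have h1 : x' ^ Nat.card Ks ∈ K ⊓ K.map (MulAut.conj g).toMonoidHom := by
    refine Subgroup.mem_inf.2 ⟨K.pow_mem hx' _, ?_⟩
    rw [mem_map_conj_iff, ← e2]
    have : g⁻¹ * (g * x ^ Nat.card Ks * g⁻¹) * g = x ^ Nat.card Ks := by group
    rw [this]
    exact K.pow_mem hx _
  rw [h.ti2 g hgM hgZ, Subgroup.mem_bot] at h1
  exact pow_card_ne_one h.coprime.symm hx' hx'1 h1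

theorem inf_eq_bot (h : PairCtx M Ms K Ks) : K ⊓ Ks = ⊥ := inf_eq_bot_of_coprime h.coprime

theorem card_sup (h : PairCtx M Ms K Ks) : Nat.card ↥(K ⊔ Ks) = Nat.card K * Nat.card Ks :=
  card_sup_of_commute h.comm h.inf_eq_bot

theorem one_lt_card_K (h : PairCtx M Ms K Ks) : 1 < Nat.card K :=
  (Subgroup.one_lt_card_iff_ne_bot K).2 h.K_ne

theorem one_lt_card_Ks (h : PairCtx M Ms K Ks) : 1 < Nat.card Ks :=
  (Subgroup.one_lt_card_iff_ne_bot Ks).2 h.Ks_ne

/-- `|Ẑ| + |K| + |Ks| = |K| |Ks| + 1` -/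
theorem ncard_zhat (h : PairCtx M Ms K Ks) :
    Set.ncard (zhat K Ks) + Nat.card K + Nat.card Ks = Nat.card K * Nat.card Ks + 1 := by
  have hsub : ((K : Set G) ∪ ↑Ks) ⊆ (↑(K ⊔ Ks) : Set G) := by
    intro a ha
    rcases ha with ha | ha
    · exact (le_sup_left : K ≤ K ⊔ Ks) ha
    · exact (le_sup_right : Ks ≤ K ⊔ Ks) ha
  have h1 : Set.ncard (zhat K Ks) + Set.ncard ((K : Set G) ∪ ↑Ks) =
      Set.ncard (↑(K ⊔ Ks) : Set G) :=
    Set.ncard_sdiff_add_ncard_of_subset hsub (Set.toFinite _)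
  have h2 : Set.ncard ((K : Set G) ∪ ↑Ks) + Set.ncard ((K : Set G) ∩ ↑Ks) =
      Set.ncard (K : Set G) + Set.ncard (Ks : Set G) :=
    Set.ncard_union_add_ncard_inter _ _ (Set.toFinite _) (Set.toFinite _)
  have h3 : (K : Set G) ∩ ↑Ks = {1} := by
    rw [← Subgroup.coe_inf, h.inf_eq_bot, Subgroup.coe_bot]
  rw [h3, Set.ncard_singleton] at h2
  have h4 : Set.ncard (↑(K ⊔ Ks) : Set G) = Nat.card K * Nat.card Ks := by
    rw [← h.card_sup]; rfl
  have h5 : Set.ncard (K : Set G) = Nat.card K := rfl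
  have h6 : Set.ncard (Ks : Set G) = Nat.card Ks := rfl
  rw [h4] at h1
  rw [h5, h6] at h2
  omega

/-- the number of elements of the union of the conjugates of `Ẑ` -/
theorem ncard_classSupport (h : PairCtx M Ms K Ks) :
    Set.ncard (classSupport (zhat K Ks)) = (K ⊔ Ks).index * Set.ncard (zhat K Ks) :=
  card_classSupport (K ⊔ Ks) (zhat K Ks) (fun c hc z hz => h.conj_eq_of_mem hc hz)
    (fun g z hz hgz => h.mem_of_conj_mem_zhat hz hgz)

theorem count (h : PairCtx M Ms K Ks) :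
    Nat.card K * Nat.card Ks * Set.ncard (classSupport (zhat K Ks)) =
      (Nat.card K * Nat.card Ks - Nat.card K - Nat.card Ks + 1) * Nat.card G := by
  have h1 := h.ncard_zhat
  have h2 := h.ncard_classSupport
  have h3 : (K ⊔ Ks).index * (Nat.card K * Nat.card Ks) = Nat.card G := by
    rw [← h.card_sup, mul_comm]; exact Subgroup.card_mul_index _
  have hk := h.one_lt_card_K
  have hks := h.one_lt_card_Ks
  have h4 : Nat.card K + Nat.card Ks ≤ Nat.card K * Nat.card Ks := by nlinarith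
  have h5 : Nat.card K * Nat.card Ks - Nat.card K - Nat.card Ks + 1 = Set.ncard (zhat K Ks) := by
    omega
  rw [h5, h2, ← h3]
  ring

theorem count_lt (h : PairCtx M Ms K Ks) (hodd : Odd (Nat.card G)) :
    Nat.card G < 2 * Set.ncard (classSupport (zhat K Ks)) := by
  have h1 := h.ncard_zhat
  have h2 := h.ncard_classSupport
  have h3 : (K ⊔ Ks).index * (Nat.card K * Nat.card Ks) = Nat.card G := by
    rw [← h.card_sup, mul_comm]; exact Subgroup.card_mul_index _
  have hk := h.one_lt_card_K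
  have hks := h.one_lt_card_Ks
  have hoK : Odd (Nat.card K) := hodd.of_dvd_nat (Subgroup.card_subgroup_dvd_card K)
  have hoKs : Odd (Nat.card Ks) := hodd.of_dvd_nat (Subgroup.card_subgroup_dvd_card Ks)
  have hne : Nat.card K ≠ Nat.card Ks := by
    intro he
    have := h.coprime
    rw [he, Nat.coprime_self] at this
    omega
  have hi : 0 < (K ⊔ Ks).index := Nat.pos_of_ne_zero (Subgroup.index_ne_zero_of_finite)
  obtain ⟨a, ha⟩ := hoK
  obtain ⟨b, hb⟩ := hoKs
  have ha1 : 1 ≤ a := by omega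
  have hb1 : 1 ≤ b := by omega
  have hab : a ≠ b := by omega
  -- `k ks + 2 > 2 k + 2 ks`
  have h6 : 2 * Nat.card K + 2 * Nat.card Ks < Nat.card K * Nat.card Ks + 2 := by
    rw [ha, hb]
    rcases Nat.lt_or_gt_of_ne hab with hlt | hlt
    · have : 2 ≤ b := by omega
      nlinarith
    · have : 2 ≤ a := by omega
      nlinarith
  have h7 : Nat.card K * Nat.card Ks < 2 * Set.ncard (zhat K Ks) := by omega
  rw [h2, ← h3]
  calc (K ⊔ Ks).index * (Nat.card K * Nat.card Ks)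
      < (K ⊔ Ks).index * (2 * Set.ncard (zhat K Ks)) := Nat.mul_lt_mul_of_pos_left h7 hi
    _ = 2 * ((K ⊔ Ks).index * Set.ncard (zhat K Ks)) := by ring

end PairCtx

end Cfsg.Agent.Helper48.BG142
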