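import Mathlib
import Cfsg.Prelude.Def_OddOrderLocal
import Cfsg.Agent.Helper71.BGHall
import Cfsg.Agent.Helper71.BG11Leaf
import Cfsg.Agent.Helper29.BG11A
import Cfsg.Agent.Helper22.Sup
import Cfsg.Agent.Helper48.BG142A

set_option autoImplicit false
set_option linter.unusedSectionVars false
set_option linter.unusedVariables false
set_option linter.style.haveILetI false

/-!
# B-G Theorem 14.2-type statement S1434 from statement-shaped hypotheses (helper48)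

Black boxes (all as hypotheses, in the shape of the frozen statements):
* `UniquenessThm G` (S1403),
* `H1430` (S1430, all clauses), `H1431` (S1431, all clauses),
* `H1351` (S1351: every Hall `κ(M)`-subgroup is cyclic),
* `HLemmaA` (B-G Lemma 13.1(a), case `p ∈ σ(H)`: for non-conjugate maximal subgroups `M`, `H`,
  `p ∉ σ(M)`, `p ∈ σ(H)`, every `p`-subgroup of `M ∩ H` centralizes `M_σ ∩ H`).
-/

namespace Cfsg.Agent.Helper48.BG142

open Cfsg Cfsg.Agent.Helper29.BG10 Cfsg.Agent.Helper29.BG11 Cfsg.Agent.Helper68.BG12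
  Cfsg.Agent.Helper71.BGHall Cfsg.Agent.Helper71.BG11
open scoped Pointwise commutatorElement

universe u

/-! ### the hypotheses, in the shape of the frozen statements -/

/-- S1430 -/
def H1430 (G : Type u) [Group G] : Prop :=
  ∀ (M : Subgroup G), IsCoatom M → ∀ K : Subgroup G, Cfsg.IsPiHallOf (Cfsg.kappa M) K M →
    K ≠ ⊥ →
    (∀ k ∈ K, k ≠ 1 → Cfsg.sigmaCore M ⊓ Subgroup.centralizer ({k} : Set G) = (Cfsg.sigmaCore M ⊓ Subgroup.centralizer (K : Set G))) ∧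
      (∃ U : Subgroup G, IsMulCommutative U ∧ Cfsg.IsPiHallOf {q | q.Prime ∧ q ∉ Cfsg.kappa M ∧ q ∉ Cfsg.sigma M} U M ∧
        K ≤ Subgroup.normalizer (U : Set G) ∧ ∀ k ∈ K, k ≠ 1 → U ⊓ Subgroup.centralizer ({k} : Set G) = ⊥) ∧
      ∀ X : Subgroup G, X ≤ K → (Nat.card X).Prime →
        M ⊓ Subgroup.normalizer (X : Set G) = K ⊔ (Cfsg.sigmaCore M ⊓ Subgroup.centralizer (K : Set G)) ∧ M ⊓ Subgroup.normalizer (K : Set G) = K ⊔ (Cfsg.sigmaCore M ⊓ Subgroup.centralizer (K : Set G)) ∧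
        ∀ Mstar : Subgroup G, IsCoatom Mstar → Subgroup.normalizer (X : Set G) ≤ Mstar → X ≤ Cfsg.sigmaCore Mstar

/-- S1431 -/
def H1431 (G : Type u) [Group G] : Prop :=
  ∀ (M : Subgroup G), IsCoatom M → ∀ K : Subgroup G, Cfsg.IsPiHallOf (Cfsg.kappa M) K M →
    K ≠ ⊥ →
    (∀ g : G, g ∉ M → (Cfsg.sigmaCore M ⊓ Subgroup.centralizer (K : Set G)) ⊓ M.map (MulAut.conj g).toMonoidHom = ⊥) ∧
      (∀ g ∈ M, g ∉ K ⊔ (Cfsg.sigmaCore M ⊓ Subgroup.centralizer (K : Set G)) → K ⊓ K.map (MulAut.conj g).toMonoidHom = ⊥) ∧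
      (∀ (p : ℕ), p.Prime → p ∣ Nat.card ↥(Cfsg.sigmaCore M ⊓ Subgroup.centralizer (K : Set G)) → ∀ S : Sylow p ↥(Cfsg.sigmaCore M),
        Cfsg.InUniqueMaximal ((S : Subgroup ↥(Cfsg.sigmaCore M)).map (Cfsg.sigmaCore M).subtype) ∧
        (S : Subgroup ↥(Cfsg.sigmaCore M)).map (Cfsg.sigmaCore M).subtype ≤ M ∧
        ¬ (S : Subgroup ↥(Cfsg.sigmaCore M)).map (Cfsg.sigmaCore M).subtype ≤ (Cfsg.sigmaCore M ⊓ Subgroup.centralizer (K : Set G))) ∧
      ∀ Y : Subgroup G, (∀ p : ℕ, p.Prime → p ∣ Nat.card Y → p ∈ Cfsg.sigma M) → Y ⊓ (Cfsg.sigmaCore M ⊓ Subgroup.centralizer (K : Set G)) ≠ ⊥ → Y ≤ Cfsg.sigmaCore M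

/-- S1351, second clause: every Hall `κ(M)`-subgroup of `M` is cyclic -/
def H1351 (G : Type u) [Group G] : Prop :=
  ∀ (M : Subgroup G), IsCoatom M → ∀ K : Subgroup G, Cfsg.IsPiHallOf (Cfsg.kappa M) K M →
    IsCyclic K

/-- B-G Lemma 13.1(a), case `p ∈ σ(H)` -/
def HLemmaA (G : Type u) [Group G] : Prop :=
  ∀ (M H : Subgroup G), IsCoatom M → IsCoatom H → (∀ g : G, cj g M ≠ H) →
    ∀ p : ℕ, p.Prime → p ∉ Cfsg.sigma M → p ∈ Cfsg.sigma H →
      ∀ P : Subgroup G, IsPGroup p P → P ≤ M ⊓ H →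
        Cfsg.sigmaCore M ⊓ H ≤ Subgroup.centralizer (P : Set G)

variable {G : Type u} [Group G] [Finite G]

/-! ### general lemmas -/

/-- cyclic Sylow `p`-subgroups force `p`-rank at most one -/
theorem pRankLE_one_of_cyclic_sylow {X : Type*} [Group X] [Finite X] {p : ℕ} [Fact p.Prime]
    (h : ∀ P : Sylow p X, IsCyclic (P : Subgroup X)) : Cfsg.PRankLE p 1 X := by
  intro A hAc hAp
  have hpg : IsPGroup p A := by
    intro a
    refine ⟨1, ?_⟩
    apply Subtype.ext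
    rw [pow_one]
    simpa using hAp a a.2
  obtain ⟨Q, hQ⟩ := hpg.exists_le_sylow
  haveI := h Q
  haveI : IsCyclic (A.subgroupOf (Q : Subgroup X)) := Subgroup.isCyclic _
  haveI : IsCyclic A := isCyclic_of_surjective (Subgroup.subgroupOfEquivOfLe hQ).toMonoidHom
    (Subgroup.subgroupOfEquivOfLe hQ).surjective
  obtain ⟨g, hg⟩ := IsCyclic.exists_generator (α := A)
  have hcard : Nat.card A = orderOf g := (orderOf_eq_card_of_forall_mem_zpowers hg).symm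
  have hgp : g ^ p = 1 := by
    apply Subtype.ext
    simpa using hAp g g.2
  rw [hcard, pow_one]
  exact Nat.le_of_dvd (Fact.out : p.Prime).pos (orderOf_dvd_of_pow_eq_one hgp)

theorem le_normalizer_sup' {X A B : Subgroup G} (hA : X ≤ Subgroup.normalizer (A : Set G))
    (hB : X ≤ Subgroup.normalizer (B : Set G)) :
    X ≤ Subgroup.normalizer ((A ⊔ B : Subgroup G) : Set G) := by
  intro x hx
  rw [Subgroup.mem_normalizer_iff_map_conj_eq, Subgroup.map_sup,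
    Subgroup.mem_normalizer_iff_map_conj_eq.mp (hA hx),
    Subgroup.mem_normalizer_iff_map_conj_eq.mp (hB hx)]

/-- if `N ≤ M` is normalized by `M` and `M = N K` with `K` abelian then `M' ≤ N` -/
theorem commutator_le_of_sup_commutative {M N K : Subgroup G} (hNM : N ≤ M) (hKM : K ≤ M)
    (hn : M ≤ Subgroup.normalizer (N : Set G)) (hsup : M ≤ N ⊔ K)
    (hK : ∀ a ∈ K, ∀ b ∈ K, a * b = b * a) : ⁅M, M⁆ ≤ N := by
  haveI : (N.subgroupOf M).Normal := Subgroup.normal_subgroupOf_of_le_normalizer hn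
  have htop : N.subgroupOf M ⊔ K.subgroupOf M = ⊤ := by
    rw [← Subgroup.subgroupOf_sup hNM hKM, Subgroup.subgroupOf_eq_top]
    exact hsup
  have hcomm : IsMulCommutative (K.subgroupOf M) := by
    refine ⟨⟨?_⟩⟩
    rintro ⟨a, ha⟩ ⟨b, hb⟩
    apply Subtype.ext
    apply Subtype.ext
    exact hK a ha b hb
  have h1 := Subgroup.Normal.commutator_le_of_self_sup_commutative_eq_top htop hcomm
  rw [Subgroup.commutator_le]
  intro a ha b hb
  have h2 : ⁅(⟨a, ha⟩ : M), ⟨b, hb⟩⁆ ∈ commutator ↥M := by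
    rw [commutator_def]
    exact Subgroup.commutator_mem_commutator (Subgroup.mem_top _) (Subgroup.mem_top _)
  have h3 := h1 h2
  rw [Subgroup.mem_subgroupOf] at h3
  have h4 : ((⁅(⟨a, ha⟩ : M), ⟨b, hb⟩⁆ : M) : G) = ⁅a, b⁆ := by
    simp [commutatorElement_def]
  rwa [h4] at h3

/-! ### `K* ≠ 1` -/

theorem kstar_ne_bot (hG : Cfsg.IsMinSimpleOddOrder G) (h30 : H1430 G)
    {M : Subgroup G} (hM : IsCoatom M) {K : Subgroup G}
    (hK : Cfsg.IsPiHallOf (Cfsg.kappa M) K M) (hK1 : K ≠ ⊥) :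
    Cfsg.sigmaCore M ⊓ Subgroup.centralizer (K : Set G) ≠ ⊥ := by
  classical
  haveI : Group.IsSolvable ↥M := hG.2.2.2 M hM.1
  have hc : Nat.card K ≠ 1 := fun h => hK1 (Subgroup.card_eq_one.1 h)
  obtain ⟨p, hp, hpd⟩ := Nat.exists_prime_and_dvd hc
  have hpκ : p ∈ Cfsg.kappa M := hK.2.1 p hp hpd
  haveI : Fact p.Prime := ⟨hp⟩
  obtain ⟨P⟩ : Nonempty (Sylow p ↥M) := inferInstance
  obtain ⟨-, x, hxP, hx1, y, hy, hy1, hxy⟩ := hpκ.2.2.2 P
  have hxM : (x : G) ∈ M := x.2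
  have hx1' : (x : G) ≠ 1 := fun h => hx1 (Subtype.ext h)
  obtain ⟨k, hk⟩ := (IsPGroup.iff_orderOf.1 P.2) ⟨x, hxP⟩
  have hox : orderOf (x : G) = p ^ k := by
    rw [← hk, Subgroup.orderOf_mk, Subgroup.orderOf_coe]
  obtain ⟨K', hK', hYK'⟩ := exists_isPiHallOf_ge (Cfsg.kappa M) M
    (Y := Subgroup.zpowers (x : G)) (by rw [Subgroup.zpowers_le]; exact hxM) (by
      intro q hq hd
      rw [Nat.card_zpowers, hox] at hd
      have : q = p := (Nat.prime_dvd_prime_iff_eq hq hp).1 (hq.dvd_of_dvd_pow hd)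
      rw [this]; exact hpκ)
  have hxK' : (x : G) ∈ K' := hYK' (Subgroup.mem_zpowers _)
  have hK'1 : K' ≠ ⊥ := by
    intro h
    rw [h, Subgroup.mem_bot] at hxK'
    exact hx1' hxK'
  obtain ⟨F1', -, -⟩ := h30 M hM K' hK' hK'1
  have hy' : y ∈ Cfsg.sigmaCore M ⊓ Subgroup.centralizer (K' : Set G) := by
    rw [← F1' x hxK' hx1']
    refine Subgroup.mem_inf.2 ⟨hy, ?_⟩
    rw [Subgroup.mem_centralizer_iff]
    intro h hh
    rw [Set.mem_singleton_iff.1 hh]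
    exact hxy
  obtain ⟨m, hm, hmK⟩ := Cfsg.Agent.Helper62.isPiHallOf_conj_of_solvable hK' hK
  intro hbot
  have hmem : m * y * m⁻¹ ∈ Cfsg.sigmaCore M ⊓ Subgroup.centralizer (K : Set G) := by
    refine Subgroup.mem_inf.2 ⟨conj_mem_sigmaCore hm hy'.1, ?_⟩
    rw [Subgroup.mem_centralizer_iff]
    intro a ha
    rw [← hmK] at ha
    obtain ⟨a', ha', rfl⟩ := (Subgroup.mem_smul_pointwise_iff_exists _ _ _).1 ha
    have h1 : a' * y = y * a' := Subgroup.mem_centralizer_iff.1 hy'.2 a' ha'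
    have h2 : MulAut.conj m • a' = m * a' * m⁻¹ := by
      rw [MulAut.smul_def, MulAut.conj_apply]
    rw [h2]
    calc m * a' * m⁻¹ * (m * y * m⁻¹) = m * (a' * y) * m⁻¹ := by group
      _ = m * (y * a') * m⁻¹ := by rw [h1]
      _ = m * y * m⁻¹ * (m * a' * m⁻¹) := by group
  rw [hbot, Subgroup.mem_bot] at hmem
  apply hy1
  have : y = m⁻¹ * (m * y * m⁻¹) * m := by group
  rw [this, hmem]; group

theorem coprime_card_K_Kstar (M K : Subgroup G) (hK : Cfsg.IsPiHallOf (Cfsg.kappa M) K M) :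
    (Nat.card K).Coprime
      (Nat.card ↥(Cfsg.sigmaCore M ⊓ Subgroup.centralizer (K : Set G))) :=
  Nat.coprime_of_dvd fun q hq h1 h2 => (hK.2.1 q hq h1).2.2.1
    (prime_mem_sigma_of_dvd_card_sigmaCore M hq
      (h2.trans (Subgroup.card_dvd_of_le inf_le_left)))


/-! ### `κ(M) = τ₁(M)` -/

theorem comm_of_isCyclic {K : Subgroup G} (hK : IsCyclic K) :
    ∀ a ∈ K, ∀ b ∈ K, a * b = b * a := by
  intro a ha b hb
  haveI := hK
  have h := (IsCyclic.isMulCommutative (α := K)).is_comm.comm ⟨a, ha⟩ ⟨b, hb⟩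
  exact congrArg Subtype.val h

theorem kappa_subset_tau1 {M K U : Subgroup G}
    (hKU : Cfsg.IsSigmaDecomposition M K U) {p : ℕ} (hp : p ∈ Cfsg.kappa M) :
    p ∈ Cfsg.tau1 M := by
  have hp' := hp
  obtain ⟨hpp, hpM, hpσ, hsyl⟩ := hp
  haveI : Fact p.Prime := ⟨hpp⟩
  refine ⟨hpp, hpσ, hpM, ?_, pRankLE_one_of_cyclic_sylow (fun P => (hsyl P).1)⟩
  obtain ⟨hUM, hKSM, hUKS, hprod⟩ := hKU.compl
  have hKM : K ≤ M := hKU.hall.1
  have hSM : Cfsg.sigmaCore M ≤ M := Cfsg.Agent.Helper68.BG12.sigmaCore_le M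
  have hNM : U ⊔ Cfsg.sigmaCore M ≤ M := sup_le hUM hSM
  have hKn : K ≤ Subgroup.normalizer ((U ⊔ Cfsg.sigmaCore M : Subgroup G) : Set G) :=
    le_normalizer_sup' hKU.normal (hKM.trans (le_normalizer_sigmaCore M))
  have hSn : Cfsg.sigmaCore M ≤
      Subgroup.normalizer ((U ⊔ Cfsg.sigmaCore M : Subgroup G) : Set G) :=
    (le_sup_right : _ ≤ U ⊔ Cfsg.sigmaCore M).trans Subgroup.le_normalizer
  have hUn : U ≤ Subgroup.normalizer ((U ⊔ Cfsg.sigmaCore M : Subgroup G) : Set G) :=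
    (le_sup_left : _ ≤ U ⊔ Cfsg.sigmaCore M).trans Subgroup.le_normalizer
  have hMn : M ≤ Subgroup.normalizer ((U ⊔ Cfsg.sigmaCore M : Subgroup G) : Set G) := by
    intro m hm
    obtain ⟨u, hu, b, hb, rfl⟩ := hprod m hm
    exact Subgroup.mul_mem _ (hUn hu) ((sup_le hKn hSn) hb)
  have hsup : M ≤ (U ⊔ Cfsg.sigmaCore M) ⊔ K := by
    intro m hm
    obtain ⟨u, hu, b, hb, rfl⟩ := hprod m hm
    refine Subgroup.mul_mem _ ((le_sup_left : U ≤ U ⊔ Cfsg.sigmaCore M).trans le_sup_left hu) ?_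
    exact (sup_le le_sup_right
      ((le_sup_right : Cfsg.sigmaCore M ≤ U ⊔ Cfsg.sigmaCore M).trans le_sup_left)) hb
  have hcomm := commutator_le_of_sup_commutative hNM hKM hMn hsup (comm_of_isCyclic hKU.cyclic)
  -- `p ∤ |U|`
  have hpU : ¬ p ∣ Nat.card U := by
    have h1 := card_mul_card_of_isComplIn hKU.compl
    have h2 := Cfsg.Agent.Helper62.isPiHallOf_card_mul_relIndex hKU.hall
    obtain ⟨t, ht⟩ : Nat.card K ∣ Nat.card ↥(K ⊔ Cfsg.sigmaCore M) :=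
      Subgroup.card_dvd_of_le le_sup_left
    have hk : 0 < Nat.card K := Nat.card_pos
    have h3 : Nat.card K * (Nat.card U * t) = Nat.card K * K.relIndex M := by
      rw [h2, ← h1, ht]; ring
    have h4 : Nat.card U * t = K.relIndex M := Nat.eq_of_mul_eq_mul_left hk h3
    intro hd
    exact hKU.hall.2.2 p hpp hp' (h4 ▸ Dvd.dvd.mul_right hd t)
  have hpS : ¬ p ∣ Nat.card (Cfsg.sigmaCore M) :=
    fun h => hpσ (prime_mem_sigma_of_dvd_card_sigmaCore M hpp h)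
  have hpN : ¬ p ∣ Nat.card ↥(U ⊔ Cfsg.sigmaCore M) :=
    Cfsg.Agent.Helper22.not_dvd_card_sup_of_le_normalizer p hpp U (Cfsg.sigmaCore M)
      (hUM.trans (le_normalizer_sigmaCore M)) hpU hpS
  intro hd
  exact hpN (hd.trans (Subgroup.card_dvd_of_le hcomm))

theorem tau1_subset_kappa (h30 : H1430 G) {M : Subgroup G} (hM : IsCoatom M) {K : Subgroup G}
    (hK : Cfsg.IsPiHallOf (Cfsg.kappa M) K M) (hK1 : K ≠ ⊥) {p : ℕ} (hp : p ∈ Cfsg.tau1 M) :
    p ∈ Cfsg.kappa M := by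
  obtain ⟨hpp, hpσ, hpM, hpc, hrk⟩ := hp
  by_contra hpκ
  obtain ⟨-, ⟨U₁, hU₁c, hU₁H, hKU₁, hreg⟩, -⟩ := h30 M hM K hK hK1
  have h1 := Cfsg.Agent.Helper62.isPiHallOf_card_mul_relIndex hU₁H
  have h2 : ¬ p ∣ U₁.relIndex M := hU₁H.2.2 p hpp ⟨hpp, hpκ, hpσ⟩
  have hpU : p ∣ Nat.card U₁ := by
    rw [← h1] at hpM
    exact ((Nat.Prime.dvd_mul hpp).1 hpM).resolve_right h2
  obtain ⟨k, hk, hk1⟩ : ∃ k ∈ K, k ≠ 1 := by
    by_contra hne
    push Not at hne
    exact hK1 ((Subgroup.eq_bot_iff_forall K).2 hne)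
  have hkM : k ∈ M := hK.1 hk
  have hkn := hKU₁ hk
  have hU₁M' : U₁ ≤ ⁅M, M⁆ := by
    have hmem : ∀ v : U₁, (v : G) * (k * (v : G)⁻¹ * k⁻¹) ∈ U₁ := by
      intro v
      exact U₁.mul_mem v.2 ((Subgroup.mem_normalizer_iff.1 hkn _).1 (U₁.inv_mem v.2))
    let φ : U₁ → U₁ := fun v => ⟨(v : G) * (k * (v : G)⁻¹ * k⁻¹), hmem v⟩
    have hinj : Function.Injective φ := by
      intro v w hvw
      have e : (v : G) * (k * (v : G)⁻¹ * k⁻¹) = (w : G) * (k * (w : G)⁻¹ * k⁻¹) :=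
        congrArg Subtype.val hvw
      have e2 : ((w : G)⁻¹ * (v : G)) * k = k * ((w : G)⁻¹ * (v : G)) := by
        have e3 : (v : G) * k * (v : G)⁻¹ = (w : G) * k * (w : G)⁻¹ := by
          have := congrArg (· * k) e
          simpa [mul_assoc] using this
        calc ((w : G)⁻¹ * (v : G)) * k = (w : G)⁻¹ * ((v : G) * k * (v : G)⁻¹) * (v : G) := by
              group
          _ = (w : G)⁻¹ * ((w : G) * k * (w : G)⁻¹) * (v : G) := by rw [e3]
          _ = k * ((w : G)⁻¹ * (v : G)) := by group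
      have hin : (w : G)⁻¹ * (v : G) ∈ U₁ ⊓ Subgroup.centralizer ({k} : Set G) := by
        refine Subgroup.mem_inf.2 ⟨U₁.mul_mem (U₁.inv_mem w.2) v.2, ?_⟩
        rw [Subgroup.mem_centralizer_iff]
        intro h hh
        rw [Set.mem_singleton_iff.1 hh]
        exact e2.symm
      rw [hreg k hk hk1, Subgroup.mem_bot, inv_mul_eq_one] at hin
      exact Subtype.ext hin.symm
    have hsurj : Function.Surjective φ := Finite.injective_iff_surjective.1 hinj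
    intro u hu
    obtain ⟨v, hv⟩ := hsurj ⟨u, hu⟩
    have e : u = ⁅(v : G), k⁆ := by
      have := congrArg Subtype.val hv
      rw [commutatorElement_def]
      simp only [φ] at this
      rw [← this]; group
    rw [e]
    exact Subgroup.commutator_mem_commutator (hU₁H.1 v.2) hkM
  exact hpc (hpU.trans (Subgroup.card_dvd_of_le hU₁M'))


/-! ### `K*` is a Hall `σ(M)`-subgroup of `M*` -/

theorem kstar_isPiHallOf (hG : Cfsg.IsMinSimpleOddOrder G) (h30 : H1430 G) (h31 : H1431 G)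
    (hA : HLemmaA G) {M : Subgroup G} (hM : IsCoatom M) {K : Subgroup G}
    (hK : Cfsg.IsPiHallOf (Cfsg.kappa M) K M) (hK1 : K ≠ ⊥) {Mstar : Subgroup G}
    (hMstar : IsCoatom Mstar) (hKle : K ≤ Cfsg.sigmaCore Mstar)
    (hKsle : Cfsg.sigmaCore M ⊓ Subgroup.centralizer (K : Set G) ≤ Mstar)
    (hKs1 : Cfsg.sigmaCore M ⊓ Subgroup.centralizer (K : Set G) ≠ ⊥) :
    Cfsg.IsPiHallOf (Cfsg.sigma M) (Cfsg.sigmaCore M ⊓ Subgroup.centralizer (K : Set G)) Mstar := by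
  classical
  haveI : Group.IsSolvable ↥Mstar := hG.2.2.2 Mstar hMstar.1
  have hprimes : ∀ p : ℕ, p.Prime →
      p ∣ Nat.card ↥(Cfsg.sigmaCore M ⊓ Subgroup.centralizer (K : Set G)) → p ∈ Cfsg.sigma M :=
    fun p hp hd => prime_mem_sigma_of_dvd_card_sigmaCore M hp
      (hd.trans (Subgroup.card_dvd_of_le inf_le_left))
  obtain ⟨F1, -, -⟩ := h30 M hM K hK hK1
  obtain ⟨-, -, -, G4⟩ := h31 M hM K hK hK1
  obtain ⟨Y', hY', hKsY'⟩ := exists_isPiHallOf_ge (Cfsg.sigma M) Mstar hKsle hprimes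
  have hY'σ : Y' ≤ Cfsg.sigmaCore M := by
    apply G4 Y' hY'.2.1
    rw [inf_eq_right.2 hKsY']
    exact hKs1
  -- a subgroup `X` of prime order of `K`
  obtain ⟨k, hk, hk1⟩ : ∃ k ∈ K, k ≠ 1 := by
    by_contra hne
    push Not at hne
    exact hK1 ((Subgroup.eq_bot_iff_forall K).2 hne)
  obtain ⟨n, hn⟩ := exists_pow_prime_card hk1
  set q := Nat.card (Subgroup.zpowers (k ^ n)) with hq
  have hknK : k ^ n ∈ K := K.pow_mem hk n
  have hXK : Subgroup.zpowers (k ^ n) ≤ K := by rw [Subgroup.zpowers_le]; exact hknK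
  have hkn1 : k ^ n ≠ 1 := by
    intro h
    rw [hq, h, Subgroup.zpowers_one_eq_bot, Subgroup.card_bot] at hn
    exact Nat.not_prime_one hn
  have hqK : q ∣ Nat.card K := Subgroup.card_dvd_of_le hXK
  have hqκ : q ∈ Cfsg.kappa M := hK.2.1 q hn hqK
  have hqσ : q ∉ Cfsg.sigma M := hqκ.2.2.1
  have hqσs : q ∈ Cfsg.sigma Mstar :=
    prime_mem_sigma_of_dvd_card_sigmaCore Mstar hn
      (Subgroup.card_dvd_of_le (hXK.trans hKle))
  haveI : Fact q.Prime := ⟨hn⟩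
  have hXp : IsPGroup q (Subgroup.zpowers (k ^ n)) := IsPGroup.of_card (n := 1) (by rw [pow_one])
  have hnc : ∀ g : G, cj g M ≠ Mstar := by
    intro g hg
    apply hqσ
    rw [← sigma_cj g M, hg]
    exact hqσs
  have hXle : Subgroup.zpowers (k ^ n) ≤ M ⊓ Mstar :=
    le_inf (hXK.trans hK.1) (hXK.trans (hKle.trans (Cfsg.Agent.Helper68.BG12.sigmaCore_le Mstar)))
  have hcent := hA M Mstar hM hMstar hnc q hn hqσ hqσs _ hXp hXle
  have hle : Cfsg.sigmaCore M ⊓ Mstar ≤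
      Cfsg.sigmaCore M ⊓ Subgroup.centralizer (K : Set G) := by
    intro d hd
    rw [← F1 (k ^ n) hknK hkn1]
    refine Subgroup.mem_inf.2 ⟨hd.1, ?_⟩
    rw [Subgroup.mem_centralizer_iff]
    intro h hh
    rw [Set.mem_singleton_iff.1 hh]
    exact Subgroup.mem_centralizer_iff.1 (hcent hd) (k ^ n) (Subgroup.mem_zpowers _)
  have hY'eq : Y' = Cfsg.sigmaCore M ⊓ Subgroup.centralizer (K : Set G) :=
    le_antisymm ((le_inf hY'σ hY'.1).trans hle) hKsY'
  rw [← hY'eq]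
  exact hY'

/-! ### the statement -/

/-- **S1434** from statement-shaped hypotheses -/
theorem core (hG : Cfsg.IsMinSimpleOddOrder G) (h30 : H1430 G) (h31 : H1431 G)
    (h51 : H1351 G) (hA : HLemmaA G)
    (M : Subgroup G) (hM : IsCoatom M) (K U : Subgroup G)
    (hKU : Cfsg.IsSigmaDecomposition M K U) (hK1 : K ≠ ⊥) (Mstar : Subgroup G)
    (hMstar : IsCoatom Mstar) (Ks : Subgroup G)
    (hKs : Ks = Cfsg.sigmaCore M ⊓ Subgroup.centralizer (K : Set G))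
    (hKst : K = Cfsg.sigmaCore Mstar ⊓ Subgroup.centralizer (Ks : Set G))
    (hKstH : Cfsg.IsPiHallOf (Cfsg.kappa Mstar) Ks Mstar) :
    Cfsg.kappa M = Cfsg.tau1 M ∧ Cfsg.IsPiHallOf (Cfsg.sigma M) Ks Mstar ∧
      (∀ x ∈ K, x ≠ 1 → ∀ y ∈ Ks, y ≠ 1 →
        M ⊓ Subgroup.centralizer ({x} : Set G) = K ⊔ Ks ∧
        Mstar ⊓ Subgroup.centralizer ({y} : Set G) = K ⊔ Ks ∧
        Subgroup.centralizer ({x * y} : Set G) = K ⊔ Ks) ∧
      (∀ g : G, g ∉ M → ∀ z ∈ ((↑(K ⊔ Ks) : Set G) \ ((K : Set G) ∪ ↑Ks)),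
        z ∉ M.map (MulAut.conj g).toMonoidHom) ∧
      Nat.card K * Nat.card ↥Ks * Set.ncard {a : G | ∃ g : G, ∃ z ∈ ((↑(K ⊔ Ks) : Set G) \ ((K : Set G) ∪ ↑Ks)), a = g * z * g⁻¹} =
        (Nat.card K * Nat.card ↥Ks - Nat.card K - Nat.card ↥Ks + 1) * Nat.card G ∧
      Nat.card G < 2 * Set.ncard {a : G | ∃ g : G, ∃ z ∈ ((↑(K ⊔ Ks) : Set G) \ ((K : Set G) ∪ ↑Ks)), a = g * z * g⁻¹} := by
  have hK := hKU.hall
  have hKs1 : Ks ≠ ⊥ := by rw [hKs]; exact kstar_ne_bot hG h30 hM hK hK1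
  obtain ⟨F1, -, F3⟩ := h30 M hM K hK hK1
  obtain ⟨G1, G2, -, -⟩ := h31 M hM K hK hK1
  obtain ⟨-, -, F3s⟩ := h30 Mstar hMstar Ks hKstH hKs1
  have hKle : K ≤ Cfsg.sigmaCore Mstar := by rw [hKst]; exact inf_le_left
  have hKsle : Ks ≤ Mstar := hKstH.1
  have hKsM : Ks ≤ M := by
    rw [hKs]; exact inf_le_left.trans (Cfsg.Agent.Helper68.BG12.sigmaCore_le M)
  have hctx : PairCtx M Mstar K Ks :=
    { K_ne := hK1
      Ks_ne := hKs1
      K_le := hK.1
      Ks_le := hKsM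
      K_le' := hKle.trans (Cfsg.Agent.Helper68.BG12.sigmaCore_le Mstar)
      Ks_le' := hKsle
      comm := by
        intro a ha b hb
        rw [hKs] at hb
        exact Subgroup.mem_centralizer_iff.1 hb.2 a ha
      K_comm := comm_of_isCyclic hKU.cyclic
      Ks_comm := comm_of_isCyclic (h51 Mstar hMstar Ks hKstH)
      coprime := by rw [hKs]; exact coprime_card_K_Kstar M K hK
      normX := by
        intro X hX hXp
        rw [hKs]; exact (F3 X hX hXp).1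
      normY := by
        intro Y hY hYp
        have := (F3s Y hY hYp).1
        rw [← hKst] at this
        rw [this, sup_comm]
      ti1 := by
        intro g hg
        rw [hKs]; exact G1 g hg
      ti2 := by
        intro g hg hgZ
        apply G2 g hg
        rw [← hKs]; exact hgZ }
  refine ⟨?_, ?_, ?_, ?_, hctx.count, hctx.count_lt hG.1⟩
  · ext p
    exact ⟨kappa_subset_tau1 hKU, tau1_subset_kappa h30 hM hK hK1⟩
  · rw [hKs]
    apply kstar_isPiHallOf hG h30 h31 hA hM hK hK1 hMstar hKle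
    · rw [← hKs]; exact hKsle
    · rw [← hKs]; exact hKs1
  · intro x hx hx1 y hy hy1
    exact ⟨hctx.cent_x hx hx1, hctx.cent_y hy hy1, hctx.cent_xy hx hx1 hy hy1⟩
  · intro g hg z hz
    exact hctx.not_mem_map_conj hg hz

end Cfsg.Agent.Helper48.BG142
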