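import Mathlib
import Cfsg.Prelude.Def_OddOrderLocal
import Cfsg.Agent.Helper71.BGHall
import Cfsg.Agent.Helper71.BG11Leaf
import Cfsg.Agent.Helper29.BG11A
import Cfsg.Agent.Helper22.Sup
import Cfsg.Agent.Helper48.BG142A
import Cfsg.Agent.Helper48.BG142B

set_option autoImplicit false
set_option linter.unusedSectionVars false
set_option linter.unusedVariables false
set_option linter.style.haveILetI false

/-!
# B-G Theorem 14.7, first step (helper48): the second maximal subgroup over `N_G(X)`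

For a maximal subgroup `M` with a Hall `κ(M)`-subgroup `K ≠ 1`, `K* = C_{M_σ}(K)`, a subgroup
`X ≤ K` of prime order and a maximal subgroup `H ≥ N_G(X)` we construct a Hall `κ(H)`-subgroup
`K₁ ≥ K*` of `H` with `K₁* ≤ K` and `K ⊔ K* = K₁ ⊔ K₁*` (`HC4`).

Black boxes, as hypotheses in the shape of the frozen statements: `H1430`, `H1431` (from
`Helper48/BG142B.lean`), `H1432` (below), `UniquenessThm G` (S1403).  Neither the σ-partition nor the
cyclicity of `K` is used.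
-/

namespace Cfsg.Agent.Helper48.BG147

open Cfsg Cfsg.Agent.Helper29.BG10 Cfsg.Agent.Helper29.BG11 Cfsg.Agent.Helper68.BG12
  Cfsg.Agent.Helper71.BGHall Cfsg.Agent.Helper71.BG11 Cfsg.Agent.Helper48.BG142
open scoped Pointwise commutatorElement

universe u

/-- S1432 -/
def H1432 (G : Type u) [Group G] : Prop :=
  ∀ (M : Subgroup G), IsCoatom M → ∀ x : G, x ∈ Cfsg.sigmaCore M → x ≠ 1 →
    ∀ x' : G, x' ∈ M ⊓ Subgroup.centralizer ({x} : Set G) → x' ≠ 1 →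
    (∀ p : ℕ, p.Prime → p ∣ orderOf x' → p ∉ Cfsg.sigma M) →
    ((∀ p : ℕ, p.Prime → p ∣ orderOf x' → p ∈ Cfsg.kappa M) ∧ Subgroup.centralizer ({x} : Set G) ≤ M) ∨
      ((∀ p : ℕ, p.Prime → p ∣ orderOf x' → p ∈ Cfsg.tau2 M) ∧
        (∃ L : Subgroup G, IsCoatom L ∧ ∀ p : ℕ, p.Prime → p ∣ orderOf x' → p ∈ Cfsg.sigma L) ∧
        (Subgroup.centralizer ({x'} : Set G) ≤ M ∧ ∀ L : Subgroup G, IsCoatom L → Subgroup.centralizer ({x'} : Set G) ≤ L → L = M))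

/-- the statement (C4) requested by helper32 (#3264) -/
def HC4 (G : Type u) [Group G] : Prop :=
  ∀ M K X H : Subgroup G, IsCoatom M → Cfsg.IsPiHallOf (Cfsg.kappa M) K M → X ≤ K →
    (Nat.card X).Prime → IsCoatom H → Subgroup.normalizer (X : Set G) ≤ H →
    ∃ K₁ : Subgroup G, Cfsg.IsPiHallOf (Cfsg.kappa H) K₁ H ∧
      K ⊔ (Cfsg.sigmaCore M ⊓ Subgroup.centralizer (K : Set G)) =
        K₁ ⊔ (Cfsg.sigmaCore H ⊓ Subgroup.centralizer (K₁ : Set G))

variable {G : Type u} [Group G] [Finite G]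

/-! ### consequences of S1431 -/

/-- `C_G(y) ≤ M` for `y ∈ K*#` -/
theorem centralizer_le_of_mem_kstar (h31 : H1431 G) {M : Subgroup G} (hM : IsCoatom M)
    {K : Subgroup G} (hK : Cfsg.IsPiHallOf (Cfsg.kappa M) K M) (hK1 : K ≠ ⊥) {y : G}
    (hy : y ∈ Cfsg.sigmaCore M ⊓ Subgroup.centralizer (K : Set G)) (hy1 : y ≠ 1) :
    Subgroup.centralizer ({y} : Set G) ≤ M := by
  intro g hg
  by_contra hgM
  have h := (h31 M hM K hK hK1).1 g hgM
  have hmem : y ∈ (Cfsg.sigmaCore M ⊓ Subgroup.centralizer (K : Set G)) ⊓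
      M.map (MulAut.conj g).toMonoidHom := by
    refine Subgroup.mem_inf.2 ⟨hy, ?_⟩
    refine ⟨y, (Cfsg.Agent.Helper29.BG11.sigmaCore_le M) hy.1, ?_⟩
    have hc : g * y = y * g := (Subgroup.mem_centralizer_iff.1 hg y rfl).symm
    simp only [MulEquiv.coe_toMonoidHom, MulAut.conj_apply]
    rw [hc]; group
  rw [h, Subgroup.mem_bot] at hmem
  exact hy1 hmem

/-- `N_G(Y) ≤ M` for `1 ≠ Y ≤ K*` -/
theorem normalizer_le_of_le_kstar (h31 : H1431 G) {M : Subgroup G} (hM : IsCoatom M)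
    {K : Subgroup G} (hK : Cfsg.IsPiHallOf (Cfsg.kappa M) K M) (hK1 : K ≠ ⊥) {Y : Subgroup G}
    (hY : Y ≤ Cfsg.sigmaCore M ⊓ Subgroup.centralizer (K : Set G)) (hY1 : Y ≠ ⊥) :
    Subgroup.normalizer (Y : Set G) ≤ M := by
  intro g hg
  by_contra hgM
  have h := (h31 M hM K hK hK1).1 g hgM
  obtain ⟨y, hy1⟩ := (Subgroup.ne_bot_iff_exists_ne_one).1 hY1
  have hyY' : (y : G) ∈ Y := y.2
  apply hy1
  have hmem : (y : G) ∈ (Cfsg.sigmaCore M ⊓ Subgroup.centralizer (K : Set G)) ⊓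
      M.map (MulAut.conj g).toMonoidHom := by
    refine Subgroup.mem_inf.2 ⟨hY hyY', ?_⟩
    have h2 : g⁻¹ * (y : G) * g ∈ Y := by
      have := (Subgroup.mem_normalizer_iff''.1 hg (y : G)).1 hyY'
      exact this
    refine ⟨g⁻¹ * (y : G) * g, (Cfsg.Agent.Helper29.BG11.sigmaCore_le M) (hY h2).1, ?_⟩
    simp only [MulEquiv.coe_toMonoidHom, MulAut.conj_apply]
    group
  rw [h, Subgroup.mem_bot] at hmem
  exact Subtype.ext hmem

/-- **(C3)**: a prime `q` of `|K*|` lies in `σ(L)` only for the conjugates `L` of `M`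
(from S1431(3): a Sylow `q`-subgroup of `M_σ` is a Sylow subgroup of `G` lying in `M` only). -/
theorem exists_cj_eq_of_dvd_card_kstar (hG : Cfsg.IsMinSimpleOddOrder G) (hU : UniquenessThm G)
    (h31 : H1431 G) {M : Subgroup G} (hM : IsCoatom M)
    {K : Subgroup G} (hK : Cfsg.IsPiHallOf (Cfsg.kappa M) K M) (hK1 : K ≠ ⊥) {q : ℕ}
    (hq : q.Prime)
    (hd : q ∣ Nat.card ↥(Cfsg.sigmaCore M ⊓ Subgroup.centralizer (K : Set G)))
    {L : Subgroup G} (hL : IsCoatom L) (hqL : q ∈ Cfsg.sigma L) : ∃ n : G, cj n L = M := by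
  haveI : Fact q.Prime := ⟨hq⟩
  have hqM : q ∈ Cfsg.sigma M :=
    primes_sigmaCore M q hq (hd.trans (Subgroup.card_dvd_of_le inf_le_left))
  obtain ⟨S⟩ : Nonempty (Sylow q ↥(Cfsg.sigmaCore M)) := inferInstance
  obtain ⟨huniq, hSM, -⟩ := (h31 M hM K hK hK1).2.2.1 q hq hd S
  have hS1 := isSylowIn_map_sylow S
  obtain ⟨-, hHall, -⟩ := thm_10_2_sigma hG hU M hM
  have hStop : IsSylowIn q ((S : Subgroup ↥(Cfsg.sigmaCore M)).map (Cfsg.sigmaCore M).subtype) ⊤ := by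
    refine ⟨le_top, hS1.2.1, ?_⟩
    rw [Subgroup.relIndex_top_right, ← Subgroup.relIndex_mul_index hS1.1]
    intro hdv
    rcases (Nat.Prime.dvd_mul hq).1 hdv with h | h
    · exact hS1.2.2 h
    · exact hHall.2 q hq hqM h
  obtain ⟨Q', hQ'L, -, hQ'top, -⟩ := exists_sylow_of_mem_sigma hqL
  obtain ⟨n, -, hn⟩ := hStop.exists_cj_eq hQ'top
  refine ⟨n, ?_⟩
  obtain ⟨M', -, hM'⟩ := huniq
  have e1 : M = M' := hM' M ⟨hM, hSM⟩
  have e2 : cj n L = M' := hM' (cj n L) ⟨Cfsg.Agent.Helper29.BG11.isCoatom_cj hL n, by rw [← hn]; exact cj_mono hQ'L.1⟩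
  rw [e1, e2]

/-- `K* = C_{M_σ}(K)` -/
abbrev kst (M K : Subgroup G) : Subgroup G :=
  Cfsg.sigmaCore M ⊓ Subgroup.centralizer (K : Set G)

/-- the data produced by the first step of B-G 14.7 -/
structure Second (M K X H K₁ : Subgroup G) : Prop where
  hall : Cfsg.IsPiHallOf (Cfsg.kappa H) K₁ H
  ne_bot : K₁ ≠ ⊥
  nconj : ∀ g : G, cj g M ≠ H
  kst_le : kst M K ≤ K₁
  kst1_le : kst H K₁ ≤ K
  X_le : X ≤ kst H K₁
  Z_eq : K ⊔ kst M K = K₁ ⊔ kst H K₁
  Z_le : K ⊔ kst M K ≤ H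
  Z_le' : K ⊔ kst M K ≤ M

theorem ne_bot_of_prime_card {X : Subgroup G} (h : (Nat.card X).Prime) : X ≠ ⊥ := by
  intro hb
  rw [hb, Subgroup.card_bot] at h
  exact Nat.not_prime_one h

theorem exists_mem_ne_one {X : Subgroup G} (h : X ≠ ⊥) : ∃ x ∈ X, x ≠ 1 := by
  obtain ⟨x, hx⟩ := (Subgroup.ne_bot_iff_exists_ne_one).1 h
  exact ⟨x, x.2, fun h => hx (Subtype.ext h)⟩

/-- a subgroup of prime order in a nontrivial subgroup -/
theorem exists_prime_card_le {Y : Subgroup G} (h : Y ≠ ⊥) :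
    ∃ y ∈ Y, y ≠ 1 ∧ (orderOf y).Prime ∧ orderOf y ∣ Nat.card Y := by
  have hc : Nat.card Y ≠ 1 := fun hc => h (Subgroup.card_eq_one.1 hc)
  obtain ⟨q, hq, hqd⟩ := Nat.exists_prime_and_dvd hc
  haveI : Fact q.Prime := ⟨hq⟩
  obtain ⟨y, hy⟩ := exists_prime_orderOf_dvd_card' q hqd
  refine ⟨(y : G), y.2, ?_, ?_, ?_⟩
  · intro h1
    have : y = 1 := Subtype.ext h1
    rw [this, orderOf_one] at hy
    exact hq.ne_one hy.symm
  · rw [Subgroup.orderOf_coe, hy]; exact hq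
  · rw [Subgroup.orderOf_coe, hy]; exact hqd

theorem le_centralizer_kst (M K : Subgroup G) :
    K ≤ Subgroup.centralizer ((kst M K : Subgroup G) : Set G) :=
  Subgroup.le_centralizer_iff.1 inf_le_right

/-- **B-G 14.7, first step.** -/
theorem exists_second (hG : Cfsg.IsMinSimpleOddOrder G) (hU : UniquenessThm G)
    (h30 : H1430 G) (h31 : H1431 G) (h32 : H1432 G) {M K X H : Subgroup G}
    (hM : IsCoatom M) (hK : Cfsg.IsPiHallOf (Cfsg.kappa M) K M) (hXK : X ≤ K)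
    (hXp : (Nat.card X).Prime) (hH : IsCoatom H)
    (hNX : Subgroup.normalizer (X : Set G) ≤ H) : ∃ K₁ : Subgroup G, Second M K X H K₁ := by
  classical
  haveI : Group.IsSolvable ↥M := hG.2.2.2 M hM.1
  haveI : Group.IsSolvable ↥H := hG.2.2.2 H hH.1
  have hX1 : X ≠ ⊥ := ne_bot_of_prime_card hXp
  have hK1 : K ≠ ⊥ := fun h => hX1 (le_bot_iff.1 (h ▸ hXK))
  obtain ⟨F1, -, F2⟩ := h30 M hM K hK hK1
  obtain ⟨F2a, F2b, F2c⟩ := F2 X hXK hXp
  obtain ⟨F3, F4, F5, F6⟩ := h31 M hM K hK hK1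
  have hXH : X ≤ Cfsg.sigmaCore H := F2c H hH hNX
  have hpσH : Nat.card X ∈ Cfsg.sigma H :=
    primes_sigmaCore H _ hXp (Subgroup.card_dvd_of_le hXH)
  have hpκ : Nat.card X ∈ Cfsg.kappa M := hK.2.1 _ hXp (Subgroup.card_dvd_of_le hXK)
  have hpσM : Nat.card X ∉ Cfsg.sigma M := hpκ.2.2.1
  have hnc : ∀ g : G, cj g M ≠ H := by
    intro g hg
    rw [← hg, sigma_cj] at hpσH
    exact hpσM hpσH
  have hZH : K ⊔ kst M K ≤ H := by
    show K ⊔ (Cfsg.sigmaCore M ⊓ Subgroup.centralizer (K : Set G)) ≤ H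
    rw [← F2a]; exact inf_le_right.trans hNX
  have hZM : K ⊔ kst M K ≤ M := by
    show K ⊔ (Cfsg.sigmaCore M ⊓ Subgroup.centralizer (K : Set G)) ≤ M
    rw [← F2a]; exact inf_le_left
  have hKs1 : kst M K ≠ ⊥ := kstar_ne_bot hG h30 hM hK hK1
  -- (C3)
  have hC3 : ∀ q : ℕ, q.Prime → q ∣ Nat.card ↥(kst M K) → q ∉ Cfsg.sigma H := by
    intro q hq hd hqH
    obtain ⟨n, hn⟩ := exists_cj_eq_of_dvd_card_kstar hG hU h31 hM hK hK1 hq hd hH hqH
    apply hnc n⁻¹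
    rw [← hn, cj_inv_cj]
  obtain ⟨x, hxX, hx1⟩ := exists_mem_ne_one hX1
  -- (C4)
  have hC4 : ∀ y ∈ kst M K, y ≠ 1 → ∀ q : ℕ, q.Prime → q ∣ orderOf y → q ∈ Cfsg.kappa H := by
    intro y hy hy1 q hq hqd
    have hyH : y ∈ H ⊓ Subgroup.centralizer ({x} : Set G) := by
      refine Subgroup.mem_inf.2 ⟨hZH (Subgroup.mem_sup_right hy), ?_⟩
      rw [Subgroup.mem_centralizer_iff]
      intro a ha
      rw [Set.mem_singleton_iff.1 ha]
      exact Subgroup.mem_centralizer_iff.1 hy.2 x (hXK hxX)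
    rcases h32 H hH x (hXH hxX) hx1 y hyH hy1
      (fun r hr hrd => hC3 r hr (hrd.trans (Subgroup.orderOf_dvd_natCard _ hy))) with h | h
    · exact h.1 q hq hqd
    · exfalso
      have := h.2.2.2 M hM (centralizer_le_of_mem_kstar h31 hM hK hK1 hy hy1)
      exact hnc 1 (by rw [cj_one]; exact this)
  have hKsκ : ∀ q : ℕ, q.Prime → q ∣ Nat.card ↥(kst M K) → q ∈ Cfsg.kappa H := by
    intro q hq hd
    haveI : Fact q.Prime := ⟨hq⟩
    obtain ⟨y, hy⟩ := exists_prime_orderOf_dvd_card' q hd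
    have hy1 : (y : G) ≠ 1 := by
      intro h1
      have : y = 1 := Subtype.ext h1
      rw [this, orderOf_one] at hy
      exact hq.ne_one hy.symm
    exact hC4 y y.2 hy1 q hq (by rw [Subgroup.orderOf_coe, hy])
  obtain ⟨K₁, hK₁, hKsK₁⟩ := exists_isPiHallOf_ge (Cfsg.kappa H) H (Y := kst M K)
    (le_sup_right.trans hZH) hKsκ
  have hK₁1 : K₁ ≠ ⊥ := fun h => hKs1 (le_bot_iff.1 (h ▸ hKsK₁))
  obtain ⟨F1', -, F2'⟩ := h30 H hH K₁ hK₁ hK₁1
  obtain ⟨F3', F4', F5', F6'⟩ := h31 H hH K₁ hK₁ hK₁1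
  obtain ⟨y, hyKs, hy1, hyp, hyd⟩ := exists_prime_card_le hKs1
  have hK1s_eq : kst H K₁ = Cfsg.sigmaCore H ⊓ Subgroup.centralizer ({y} : Set G) :=
    (F1' y (hKsK₁ hyKs) hy1).symm
  have hXK1s : X ≤ kst H K₁ := by
    rw [hK1s_eq]
    refine le_inf hXH ?_
    intro a ha
    rw [Subgroup.mem_centralizer_iff]
    intro b hb
    rw [Set.mem_singleton_iff.1 hb]
    exact (Subgroup.mem_centralizer_iff.1 hyKs.2 a (hXK ha)).symm
  have hCy : Subgroup.centralizer ({y} : Set G) ≤ M :=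
    centralizer_le_of_mem_kstar h31 hM hK hK1 hyKs hy1
  have hK1sM : kst H K₁ ≤ M := by rw [hK1s_eq]; exact inf_le_right.trans hCy
  have hYKs : Subgroup.zpowers y ≤ kst M K := by rw [Subgroup.zpowers_le]; exact hyKs
  have hYcard : (Nat.card (Subgroup.zpowers y)).Prime := by rw [Nat.card_zpowers]; exact hyp
  have hY1 : Subgroup.zpowers y ≠ ⊥ := ne_bot_of_prime_card hYcard
  have hNY : Subgroup.normalizer ((Subgroup.zpowers y : Subgroup G) : Set G) ≤ M :=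
    normalizer_le_of_le_kstar h31 hM hK hK1 hYKs hY1
  obtain ⟨F2a', F2b', F2c'⟩ := F2' (Subgroup.zpowers y) (hYKs.trans hKsK₁) hYcard
  have hKNY : K ≤ Subgroup.normalizer ((Subgroup.zpowers y : Subgroup G) : Set G) :=
    ((le_centralizer_kst M K).trans (Subgroup.centralizer_le hYKs)).trans
      (Subgroup.centralizer_le_normalizer _)
  have hKZ1 : K ≤ K₁ ⊔ kst H K₁ := by
    show K ≤ K₁ ⊔ (Cfsg.sigmaCore H ⊓ Subgroup.centralizer (K₁ : Set G))
    rw [← F2a']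
    exact le_inf (le_sup_left.trans hZH) hKNY
  have hK₁M : K₁ ≤ M := by
    have : K₁ ≤ H ⊓ Subgroup.normalizer ((Subgroup.zpowers y : Subgroup G) : Set G) := by
      rw [F2a']; exact le_sup_left
    exact (this.trans inf_le_right).trans hNY
  -- (C3')
  have hC3' : ∀ q : ℕ, q.Prime → q ∣ Nat.card ↥(kst H K₁) → q ∉ Cfsg.sigma M := by
    intro q hq hd hqM
    obtain ⟨n, hn⟩ := exists_cj_eq_of_dvd_card_kstar hG hU h31 hH hK₁ hK₁1 hq hd hM hqM
    exact hnc n hn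
  -- (C4')
  have hC4' : ∀ q : ℕ, q.Prime → q ∣ Nat.card ↥(kst H K₁) → q ∈ Cfsg.kappa M := by
    intro q hq hd
    haveI : Fact q.Prime := ⟨hq⟩
    obtain ⟨w, hw⟩ := exists_prime_orderOf_dvd_card' q hd
    have hw1 : (w : G) ≠ 1 := by
      intro h1
      have : w = 1 := Subtype.ext h1
      rw [this, orderOf_one] at hw
      exact hq.ne_one hw.symm
    have hwK1s : (w : G) ∈ kst H K₁ := w.2
    have hwM : (w : G) ∈ M ⊓ Subgroup.centralizer ({y} : Set G) := by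
      refine Subgroup.mem_inf.2 ⟨hK1sM hwK1s, ?_⟩
      exact (hK1s_eq.le hwK1s).2
    rcases h32 M hM y hyKs.1 hy1 (w : G) hwM hw1
      (fun r hr hrd => hC3' r hr (hrd.trans (Subgroup.orderOf_dvd_natCard _ hwK1s))) with h | h
    · exact h.1 q hq (by rw [Subgroup.orderOf_coe, hw])
    · exfalso
      have := h.2.2.2 H hH (centralizer_le_of_mem_kstar h31 hH hK₁ hK₁1 hwK1s hw1)
      exact hnc 1 (by rw [cj_one]; exact this.symm)
  -- Hall conjugacy in `M`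
  obtain ⟨K', hK', hK1sK'⟩ := exists_isPiHallOf_ge (Cfsg.kappa M) M (Y := kst H K₁) hK1sM hC4'
  obtain ⟨m, hm, hmK⟩ := Cfsg.Agent.Helper62.isPiHallOf_conj_of_solvable hK hK'
  have hmK' : cj m K = K' := hmK
  have hmZ : m ∈ K ⊔ kst M K := by
    by_contra hmZ
    have h := F4 m hm hmZ
    have hx : x ∈ K ⊓ K.map (MulAut.conj m).toMonoidHom := by
      refine Subgroup.mem_inf.2 ⟨hXK hxX, ?_⟩
      have : x ∈ cj m K := by rw [hmK']; exact hK1sK' (hXK1s hxX)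
      exact this
    rw [h, Subgroup.mem_bot] at hx
    exact hx1 hx
  have hmNK : cj m K = K := by
    have h1 : m ∈ M ⊓ Subgroup.normalizer (K : Set G) := by rw [F2b]; exact hmZ
    exact cj_eq_of_mem_normalizer h1.2
  have hK1sK : kst H K₁ ≤ K := by
    rw [← hmNK, hmK']; exact hK1sK'
  -- `Z₁ ≤ Z`
  have hK₁NX : K₁ ≤ Subgroup.normalizer (X : Set G) :=
    ((le_centralizer_kst H K₁).trans (Subgroup.centralizer_le hXK1s)).trans
      (Subgroup.centralizer_le_normalizer _)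
  have hK₁Z : K₁ ≤ K ⊔ kst M K := by
    show K₁ ≤ K ⊔ (Cfsg.sigmaCore M ⊓ Subgroup.centralizer (K : Set G))
    rw [← F2a]
    exact le_inf hK₁M hK₁NX
  refine ⟨K₁, hK₁, hK₁1, hnc, hKsK₁, hK1sK, hXK1s, ?_, hZH, hZM⟩
  apply le_antisymm
  · exact sup_le hKZ1 (hKsK₁.trans le_sup_left)
  · exact sup_le hK₁Z (hK1sK.trans le_sup_left)

/-- (C4) of #3264 -/
theorem hC4_of (hG : Cfsg.IsMinSimpleOddOrder G) (hU : UniquenessThm G)
    (h30 : H1430 G) (h31 : H1431 G) (h32 : H1432 G) : HC4 G := by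
  intro M K X H hM hK hXK hXp hH hNX
  obtain ⟨K₁, h⟩ := exists_second hG hU h30 h31 h32 hM hK hXK hXp hH hNX
  exact ⟨K₁, h.hall, h.Z_eq⟩

end Cfsg.Agent.Helper48.BG147
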