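import Mathlib
import Cfsg.Agent.Helper48.BG142A

set_option autoImplicit false
set_option linter.unusedSectionVars false
set_option linter.unusedVariables false
set_option linter.style.haveILetI false

/-!
# The abstract counting argument behind B-G Theorem 14.7 (helper48)

`Polygon Z M K S`: a family `(M i, K i, S i)` of subgroups with `Z = K i × S i` for every `i`
(coprime orders, commuting), `Z ≤ M i`, the two TI-conditions of S1431 for `(M i, K i, S i)`, and
every prime of `|Z|` dividing some `|S i|`.  `Polygon.hat` is the set of elements of `Z` lying in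
no `S i`; it is a TI-set with "conjugator" `Z`, and together with sets `T i` of cardinality
`(m i - 1) |G : M i|` (`|M i| = m i |K i|`, `m i ≥ 2 |S i|`) it overfills `G`.
-/

namespace Cfsg.Agent.Helper48.BG147

open Cfsg.Agent.Helper48.BG142
open scoped Pointwise

variable {G : Type*} [Group G]

/-- class support of a `Z`-invariant TI-like subset -/
theorem card_classSupport' [Finite G] (Z : Subgroup G) (T : Set G)
    (hinv : ∀ h ∈ Z, ∀ z ∈ T, h * z * h⁻¹ ∈ T)
    (hTI : ∀ g : G, ∀ z ∈ T, g * z * g⁻¹ ∈ T → g ∈ Z) :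
    Set.ncard (classSupport T) = Z.index * Set.ncard T := by
  classical
  rw [← Nat.card_coe_set_eq, ← Nat.card_coe_set_eq, Subgroup.index_eq_card,
    ← Nat.card_prod]
  symm
  refine Nat.card_congr (Equiv.ofBijective
    (fun x : (G ⧸ Z) × T => (⟨x.1.out * (x.2 : G) * x.1.out⁻¹, x.1.out, x.2, x.2.2, rfl⟩ :
      classSupport T)) ⟨?_, ?_⟩)
  · rintro ⟨q, ⟨z, hz⟩⟩ ⟨q', ⟨z', hz'⟩⟩ h
    have h1 : q.out * z * q.out⁻¹ = q'.out * z' * q'.out⁻¹ := congrArg Subtype.val h
    have h2 : (q'.out⁻¹ * q.out) * z * (q'.out⁻¹ * q.out)⁻¹ = z' := by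
      have : (q'.out⁻¹ * q.out) * z * (q'.out⁻¹ * q.out)⁻¹
          = q'.out⁻¹ * (q.out * z * q.out⁻¹) * q'.out := by group
      rw [this, h1]; group
    have h3 : q'.out⁻¹ * q.out ∈ Z := hTI _ z hz (by rw [h2]; exact hz')
    have h5 : q' = q := by
      rw [← QuotientGroup.out_eq' q', ← QuotientGroup.out_eq' q]
      exact QuotientGroup.eq.2 h3
    subst h5
    have h4 : z = z' := by
      have := h1
      exact mul_left_cancel (mul_right_cancel this)
    subst h4; rfl
  · rintro ⟨a, g, z, hz, rfl⟩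
    obtain ⟨h, hh⟩ := QuotientGroup.mk_out_eq_mul Z g
    refine ⟨((g : G ⧸ Z), ⟨(h : G)⁻¹ * z * ((h : G)⁻¹)⁻¹,
      hinv _ (Z.inv_mem h.2) z hz⟩), ?_⟩
    apply Subtype.ext
    show (g : G ⧸ Z).out * ((h : G)⁻¹ * z * ((h : G)⁻¹)⁻¹) * (g : G ⧸ Z).out⁻¹ = g * z * g⁻¹
    rw [hh]
    group

/-- the polygon configuration -/
structure Polygon {ι : Type*} (Z : Subgroup G) (M K S : ι → Subgroup G) : Prop where
  sup_eq : ∀ i, K i ⊔ S i = Z
  comm : ∀ i, ∀ a ∈ K i, ∀ b ∈ S i, a * b = b * a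
  coprime : ∀ i, (Nat.card (K i)).Coprime (Nat.card (S i))
  le : ∀ i, Z ≤ M i
  ti1 : ∀ i, ∀ g : G, g ∉ M i → S i ⊓ (M i).map (MulAut.conj g).toMonoidHom = ⊥
  ti2 : ∀ i, ∀ g ∈ M i, g ∉ Z → K i ⊓ (K i).map (MulAut.conj g).toMonoidHom = ⊥
  complete : ∀ p : ℕ, p.Prime → p ∣ Nat.card Z → ∃ i, p ∣ Nat.card (S i)

/-- the elements of `Z` lying in no `S i` -/
def polyHat {ι : Type*} (Z : Subgroup G) (S : ι → Subgroup G) : Set G :=
  {z | z ∈ Z ∧ ∀ i, z ∉ S i}

namespace Polygon

variable [Finite G] {ι : Type*} {Z : Subgroup G} {M K S : ι → Subgroup G}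

theorem K_le (h : Polygon Z M K S) (i : ι) : K i ≤ Z := by rw [← h.sup_eq i]; exact le_sup_left

theorem S_le (h : Polygon Z M K S) (i : ι) : S i ≤ Z := by rw [← h.sup_eq i]; exact le_sup_right

theorem exists_mul (h : Polygon Z M K S) (i : ι) {z : G} (hz : z ∈ Z) :
    ∃ x ∈ K i, ∃ y ∈ S i, z = x * y := by
  rw [← h.sup_eq i] at hz
  exact exists_mul_of_mem_sup (h.comm i) hz

theorem mul_pow_card_K (h : Polygon Z M K S) (i : ι) {x y : G} (hx : x ∈ K i) (hy : y ∈ S i) :
    (x * y) ^ Nat.card (K i) = y ^ Nat.card (K i) := by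
  have hc : Commute x y := h.comm i x hx y hy
  rw [hc.mul_pow, pow_card_eq_one_of_mem hx, one_mul]

theorem mul_pow_card_S (h : Polygon Z M K S) (i : ι) {x y : G} (hx : x ∈ K i) (hy : y ∈ S i) :
    (x * y) ^ Nat.card (S i) = x ^ Nat.card (S i) := by
  have hc : Commute x y := h.comm i x hx y hy
  rw [hc.mul_pow, pow_card_eq_one_of_mem hy, mul_one]

/-- an element of the hat has two non-trivial components with respect to a suitable `i` -/
theorem exists_index [Nonempty ι] (h : Polygon Z M K S) {z : G} (hz : z ∈ polyHat Z S) :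
    ∃ i, ∃ x ∈ K i, x ≠ 1 ∧ ∃ y ∈ S i, y ≠ 1 ∧ z = x * y := by
  obtain ⟨hzZ, hzS⟩ := hz
  have hz1 : z ≠ 1 := by
    rintro rfl
    obtain ⟨i⟩ := ‹Nonempty ι›
    exact hzS i (S i).one_mem
  have ho : orderOf z ≠ 1 := fun ho => hz1 (orderOf_eq_one_iff.1 ho)
  obtain ⟨p, hp, hpd⟩ := Nat.exists_prime_and_dvd ho
  obtain ⟨i, hi⟩ := h.complete p hp (hpd.trans (Subgroup.orderOf_dvd_natCard _ hzZ))
  obtain ⟨x, hx, y, hy, rfl⟩ := h.exists_mul i hzZ
  refine ⟨i, x, hx, ?_, y, hy, ?_, rfl⟩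
  · rintro rfl
    apply hzS i
    simpa using hy
  · rintro rfl
    rw [mul_one] at hpd
    have h1 : p ∣ Nat.card (K i) := hpd.trans (Subgroup.orderOf_dvd_natCard _ hx)
    have := Nat.eq_one_of_dvd_coprimes (h.coprime i) h1 hi
    exact hp.ne_one this

/-- `Z` normalizes every `S i` -/
theorem conj_mem_S (h : Polygon Z M K S) (i : ι) {c s : G} (hc : c ∈ Z) (hs : s ∈ S i) :
    c * s * c⁻¹ ∈ S i := by
  obtain ⟨k, hk, t, ht, rfl⟩ := h.exists_mul i hc
  have h1 : t * s * t⁻¹ ∈ S i := (S i).mul_mem ((S i).mul_mem ht hs) ((S i).inv_mem ht)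
  have h2 : k * (t * s * t⁻¹) = (t * s * t⁻¹) * k := h.comm i k hk _ h1
  have : k * t * s * (k * t)⁻¹ = t * s * t⁻¹ := by
    calc k * t * s * (k * t)⁻¹ = k * (t * s * t⁻¹) * k⁻¹ := by group
      _ = (t * s * t⁻¹) * k * k⁻¹ := by rw [h2]
      _ = t * s * t⁻¹ := by group
  rw [this]; exact h1

/-- the hat is `Z`-invariant -/
theorem conj_mem_hat (h : Polygon Z M K S) {c z : G} (hc : c ∈ Z) (hz : z ∈ polyHat Z S) :
    c * z * c⁻¹ ∈ polyHat Z S := by
  refine ⟨Z.mul_mem (Z.mul_mem hc hz.1) (Z.inv_mem hc), ?_⟩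
  intro i hi
  apply hz.2 i
  have := h.conj_mem_S i (Z.inv_mem hc) hi
  have e : c⁻¹ * (c * z * c⁻¹) * c⁻¹⁻¹ = z := by group
  rwa [e] at this

/-- the hat is a TI-set with conjugator `Z` -/
theorem mem_of_conj_mem [Nonempty ι] (h : Polygon Z M K S) {g z : G} (hz : z ∈ polyHat Z S)
    (hgz : g * z * g⁻¹ ∈ Z) : g ∈ Z := by
  obtain ⟨i, x, hx, hx1, y, hy, hy1, rfl⟩ := h.exists_index hz
  obtain ⟨x', hx', y', hy', he⟩ := h.exists_mul i hgz
  have e1 : g * y ^ Nat.card (K i) * g⁻¹ = y' ^ Nat.card (K i) := by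
    rw [← h.mul_pow_card_K i hx hy, ← h.mul_pow_card_K i hx' hy', ← he, conj_pow]
  have hyK1 : y ^ Nat.card (K i) ≠ 1 := pow_card_ne_one (h.coprime i) hy hy1
  have hy'1 : y' ^ Nat.card (K i) ≠ 1 := by
    rw [← e1]
    intro h0
    apply hyK1
    have : y ^ Nat.card (K i) = g⁻¹ * (g * y ^ Nat.card (K i) * g⁻¹) * g := by group
    rw [this, h0]; group
  have hgM : g ∈ M i := by
    by_contra hg
    have h1 : y' ^ Nat.card (K i) ∈ S i ⊓ (M i).map (MulAut.conj g).toMonoidHom := by
      refine Subgroup.mem_inf.2 ⟨(S i).pow_mem hy' _, ?_⟩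
      rw [mem_map_conj_iff, ← e1]
      have : g⁻¹ * (g * y ^ Nat.card (K i) * g⁻¹) * g = y ^ Nat.card (K i) := by group
      rw [this]
      exact h.le i (h.S_le i ((S i).pow_mem hy _))
    rw [h.ti1 i g hg, Subgroup.mem_bot] at h1
    exact hy'1 h1
  have e2 : g * x ^ Nat.card (S i) * g⁻¹ = x' ^ Nat.card (S i) := by
    rw [← h.mul_pow_card_S i hx hy, ← h.mul_pow_card_S i hx' hy', ← he, conj_pow]
  have hxS1 : x ^ Nat.card (S i) ≠ 1 := pow_card_ne_one (h.coprime i).symm hx hx1
  by_contra hgZ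
  have h1 : x' ^ Nat.card (S i) ∈ K i ⊓ (K i).map (MulAut.conj g).toMonoidHom := by
    refine Subgroup.mem_inf.2 ⟨(K i).pow_mem hx' _, ?_⟩
    rw [mem_map_conj_iff, ← e2]
    have : g⁻¹ * (g * x ^ Nat.card (S i) * g⁻¹) * g = x ^ Nat.card (S i) := by group
    rw [this]
    exact (K i).pow_mem hx _
  rw [h.ti2 i g hgM hgZ, Subgroup.mem_bot] at h1
  apply hxS1
  have : x ^ Nat.card (S i) = g⁻¹ * (g * x ^ Nat.card (S i) * g⁻¹) * g := by group
  rw [this, e2, h1]; group

theorem ncard_classSupport_hat [Nonempty ι] (h : Polygon Z M K S) :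
    Set.ncard (classSupport (polyHat Z S)) = Z.index * Set.ncard (polyHat Z S) :=
  card_classSupport' Z _ (fun c hc z hz => h.conj_mem_hat hc hz)
    (fun g z hz hgz => h.mem_of_conj_mem hz hgz.1)

end Polygon

theorem ncard_biUnion_le' {α ι : Type*} [Finite α] (s : Finset ι) (A : ι → Set α) :
    (⋃ i ∈ s, A i).ncard ≤ ∑ i ∈ s, (A i).ncard := by
  classical
  induction s using Finset.induction_on with
  | empty => simp
  | insert a s ha ih =>
    rw [Finset.set_biUnion_insert, Finset.sum_insert ha]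
    exact (Set.ncard_union_le _ _).trans (Nat.add_le_add_left ih _)

namespace Polygon

variable [Finite G] {ι : Type*} {Z : Subgroup G} {M K S : ι → Subgroup G}

/-- lower bound for the size of the hat -/
theorem card_le [Fintype ι] (h : Polygon Z M K S) :
    Nat.card Z ≤ Set.ncard (polyHat Z S) + 1 + ∑ i, (Nat.card (S i) - 1) := by
  classical
  have hsub : (Z : Set G) ⊆ polyHat Z S ∪ {1} ∪ ⋃ i ∈ (Finset.univ : Finset ι),
      ((S i : Set G) \ {1}) := by
    intro z hz
    by_cases h1 : z = 1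
    · left; right; exact h1
    · by_cases h2 : ∀ i, z ∉ S i
      · left; left; exact ⟨hz, h2⟩
      · right
        push_neg at h2
        obtain ⟨i, hi⟩ := h2
        simp only [Set.mem_iUnion]
        exact ⟨i, Finset.mem_univ i, hi, h1⟩
  have h3 : Nat.card Z = (Z : Set G).ncard := Nat.card_coe_set_eq _
  rw [h3]
  refine (Set.ncard_le_ncard hsub (Set.toFinite _)).trans ?_
  refine (Set.ncard_union_le _ _).trans ?_
  refine Nat.add_le_add ((Set.ncard_union_le _ _).trans ?_) ?_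
  · rw [Set.ncard_singleton]
  · refine (ncard_biUnion_le' _ _).trans ?_
    apply Finset.sum_le_sum
    intro i _
    rw [Set.ncard_diff_singleton_of_mem (S i).one_mem]
    have : (S i : Set G).ncard = Nat.card (S i) := (Nat.card_coe_set_eq _).symm
    rw [this]

end Polygon

/-- the arithmetic of the count -/
theorem count_arith {ι : Type*} [Fintype ι] (g z hat : ℚ) (s m k t : ι → ℚ)
    (hg : 0 < g) (hz : 0 < z) (hn : (2 : ℚ) ≤ Fintype.card ι)
    (hk : ∀ i, k i * s i = z) (hs : ∀ i, 0 < s i) (hm : ∀ i, 2 * s i ≤ m i)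
    (ht : ∀ i, t i * (m i * k i) = (m i - 1) * g)
    (hhat : z ≤ hat + 1 + ∑ i, (s i - 1))
    (htot : 1 + ∑ i, t i + (g / z) * hat ≤ g) : False := by
  have hk0 : ∀ i, 0 < k i := by
    intro i
    have := hk i
    have hs' := hs i
    by_contra hneg
    push_neg at hneg
    have : k i * s i ≤ 0 := mul_nonpos_of_nonpos_of_nonneg hneg hs'.le
    linarith
  have hm0 : ∀ i, 0 < m i := fun i => by have := hm i; have := hs i; linarith
  -- lower bound for `t i`
  have ht' : ∀ i, (g / z) * (s i - 1 / 2) ≤ t i := by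
    intro i
    have hmk : 0 < m i * k i := mul_pos (hm0 i) (hk0 i)
    have e1 : t i = (m i - 1) * g / (m i * k i) := by
      rw [eq_div_iff hmk.ne']; exact ht i
    rw [e1, div_mul_eq_mul_div, div_le_div_iff₀ hz hmk]
    have hzk : z = k i * s i := (hk i).symm
    rw [hzk]
    have h2 : 0 ≤ g * k i * (m i - 2 * s i) := by
      apply mul_nonneg (mul_nonneg hg.le (hk0 i).le)
      have := hm i; linarith
    nlinarith [h2]
  have hsum : (g / z) * ∑ i, (s i - 1 / 2) ≤ ∑ i, t i := by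
    rw [Finset.mul_sum]
    exact Finset.sum_le_sum (fun i _ => ht' i)
  have hgz : 0 < g / z := div_pos hg hz
  have e2 : ∑ i : ι, (s i - 1 / 2) = ∑ i, (s i - 1) + (Fintype.card ι : ℚ) / 2 := by
    have : ∀ i : ι, s i - 1 / 2 = (s i - 1) + 1 / 2 := fun i => by ring
    rw [Finset.sum_congr rfl (fun i _ => this i), Finset.sum_add_distrib]
    simp [Finset.sum_const, Finset.card_univ]
    ring
  have h3 : (g / z) * (z) ≤ (g / z) * (hat + 1 + ∑ i, (s i - 1)) :=
    mul_le_mul_of_nonneg_left hhat hgz.le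
  have h4 : g / z * z = g := div_mul_cancel₀ g hz.ne'
  rw [e2] at hsum
  have h5 : (g / z) * 1 ≤ (g / z) * ((Fintype.card ι : ℚ) / 2) :=
    mul_le_mul_of_nonneg_left (by linarith) hgz.le
  nlinarith [hsum, h3, h4, h5, htot]

/-- disjoint subsets of a finite type: the sum of the sizes is at most the size of the type -/
theorem sum_ncard_le {α ι : Type*} [Finite α] [Fintype ι] (A B : Set α) (T : ι → Set α)
    (hAB : Disjoint A B) (hAT : ∀ i, Disjoint A (T i)) (hBT : ∀ i, Disjoint B (T i))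
    (hT : ∀ i j, i ≠ j → Disjoint (T i) (T j)) :
    A.ncard + B.ncard + ∑ i, (T i).ncard ≤ Nat.card α := by
  classical
  haveI := Fintype.ofFinite α
  have key : ∀ a : α, (if a ∈ A then 1 else 0) + (if a ∈ B then 1 else 0) +
      ∑ i, (if a ∈ T i then 1 else 0) ≤ 1 := by
    intro a
    by_cases hA : a ∈ A
    · have hB : a ∉ B := fun hB => (Set.disjoint_left.1 hAB) hA hB
      have hTi : ∀ i, a ∉ T i := fun i hi => (Set.disjoint_left.1 (hAT i)) hA hi
      simp [hA, hB, hTi]
    · by_cases hB : a ∈ B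
      · have hTi : ∀ i, a ∉ T i := fun i hi => (Set.disjoint_left.1 (hBT i)) hB hi
        simp [hA, hB, hTi]
      · simp only [hA, hB, if_false, zero_add]
        by_cases hex : ∃ i, a ∈ T i
        · obtain ⟨i₀, hi₀⟩ := hex
          have : ∀ i, (if a ∈ T i then 1 else 0) = if i = i₀ then 1 else 0 := by
            intro i
            by_cases hii : i = i₀
            · subst hii; simp [hi₀]
            · have : a ∉ T i := fun hi => (Set.disjoint_left.1 (hT i i₀ hii)) hi hi₀
              simp [this, hii]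
          rw [Finset.sum_congr rfl (fun i _ => this i)]
          simp
        · push_neg at hex
          simp [hex]
  have hcount : ∀ X : Set α, X.ncard = ∑ a : α, (if a ∈ X then 1 else 0) := by
    intro X
    rw [Set.ncard_eq_toFinset_card', Finset.card_eq_sum_ones, ← Finset.sum_filter]
    congr 1
    ext a
    simp
  have h1 : A.ncard + B.ncard + ∑ i, (T i).ncard =
      ∑ a : α, ((if a ∈ A then 1 else 0) + (if a ∈ B then 1 else 0) +
        ∑ i, (if a ∈ T i then 1 else 0)) := by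
    rw [Finset.sum_add_distrib, Finset.sum_add_distrib, ← hcount A, ← hcount B,
      Finset.sum_comm]
    congr 1
    exact Finset.sum_congr rfl (fun i _ => hcount (T i))
  rw [h1]
  calc ∑ a : α, ((if a ∈ A then 1 else 0) + (if a ∈ B then 1 else 0) +
        ∑ i, (if a ∈ T i then 1 else 0)) ≤ ∑ a : α, 1 := Finset.sum_le_sum (fun a _ => key a)
    _ = Nat.card α := by simp [Nat.card_eq_fintype_card]

namespace Polygon

variable [Finite G] {ι : Type*} {Z : Subgroup G} {M K S : ι → Subgroup G}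

theorem one_not_mem_classSupport_hat [Nonempty ι] (h : Polygon Z M K S) :
    (1 : G) ∉ classSupport (polyHat Z S) := by
  rintro ⟨g, z, hz, he⟩
  have hz1 : z = 1 := by
    have : z = g⁻¹ * (g * z * g⁻¹) * g := by group
    rw [this, ← he]; group
  obtain ⟨i⟩ := ‹Nonempty ι›
  exact hz.2 i (hz1 ▸ (S i).one_mem)

/-- **the count**: a polygon with at least two vertices, all of "type P1", is impossible -/
theorem false_of_count [Fintype ι] (h : Polygon Z M K S) (hι : 2 ≤ Fintype.card ι)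
    (m : ι → ℕ) (T : ι → Set G)
    (hT1 : ∀ i, (1 : G) ∉ T i) (hTd : ∀ i j, i ≠ j → Disjoint (T i) (T j))
    (hTZ : ∀ i, Disjoint (classSupport (polyHat Z S)) (T i))
    (hTc : ∀ i, (T i).ncard = (m i - 1) * (M i).index)
    (hM : ∀ i, Nat.card (M i) = m i * Nat.card (K i))
    (hm : ∀ i, 2 * Nat.card (S i) ≤ m i) : False := by
  classical
  haveI : Nonempty ι := by
    rw [← Fintype.card_pos_iff]; omega
  have h1 := sum_ncard_le ({1} : Set G) (classSupport (polyHat Z S)) T
    (Set.disjoint_singleton_left.2 h.one_not_mem_classSupport_hat)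
    (fun i => Set.disjoint_singleton_left.2 (hT1 i)) hTZ hTd
  rw [Set.ncard_singleton, h.ncard_classSupport_hat] at h1
  have h2 := h.card_le
  have hcardZ : ∀ i, Nat.card (K i) * Nat.card (S i) = Nat.card Z := by
    intro i
    rw [← card_sup_of_commute (h.comm i) (inf_eq_bot_of_coprime (h.coprime i)), h.sup_eq i]
  have hZG : Z.index * Nat.card Z = Nat.card G := Z.index_mul_card
  have hMG : ∀ i, (M i).index * Nat.card (M i) = Nat.card G := fun i => (M i).index_mul_card
  have hgpos : (0 : ℚ) < Nat.card G := by exact_mod_cast Nat.card_pos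
  have hzpos : (0 : ℚ) < Nat.card Z := by exact_mod_cast Nat.card_pos
  have hspos : ∀ i, (0 : ℚ) < Nat.card (S i) := fun i => by exact_mod_cast Nat.card_pos
  have hm1 : ∀ i, 1 ≤ m i := by
    intro i
    have := hm i
    have : 0 < Nat.card (S i) := Nat.card_pos
    omega
  apply count_arith (ι := ι) (Nat.card G : ℚ) (Nat.card Z : ℚ) ((polyHat Z S).ncard : ℚ)
    (fun i => (Nat.card (S i) : ℚ)) (fun i => (m i : ℚ)) (fun i => (Nat.card (K i) : ℚ))
    (fun i => ((T i).ncard : ℚ)) hgpos hzpos (by exact_mod_cast hι)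
  · intro i; exact_mod_cast hcardZ i
  · exact hspos
  · intro i; exact_mod_cast hm i
  · intro i
    have e1 : ((T i).ncard : ℚ) = ((m i : ℚ) - 1) * ((M i).index : ℚ) := by
      rw [hTc i]; push_cast [Nat.cast_sub (hm1 i)]; ring
    have e2 : ((M i).index : ℚ) * ((m i : ℚ) * (Nat.card (K i) : ℚ)) = (Nat.card G : ℚ) := by
      have := hMG i
      rw [hM i] at this
      exact_mod_cast this
    rw [e1, mul_assoc, e2]
  · have : (Nat.card Z : ℚ) ≤ ((polyHat Z S).ncard : ℚ) + 1 +
        ((∑ i, (Nat.card (S i) - 1) : ℕ) : ℚ) := by exact_mod_cast h2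
    refine this.trans ?_
    refine add_le_add le_rfl ?_
    rw [Nat.cast_sum]
    apply Finset.sum_le_sum
    intro i _
    have : 1 ≤ Nat.card (S i) := Nat.card_pos
    rw [Nat.cast_sub this]; simp
  · have e3 : (Nat.card G : ℚ) / (Nat.card Z : ℚ) = (Z.index : ℚ) := by
      rw [div_eq_iff hzpos.ne']
      exact_mod_cast hZG.symm
    rw [e3]
    have : ((1 + Z.index * (polyHat Z S).ncard + ∑ i, (T i).ncard : ℕ) : ℚ) ≤ (Nat.card G : ℚ) := by
      exact_mod_cast h1
    push_cast at this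
    linarith

end Polygon

end Cfsg.Agent.Helper48.BG147
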