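import Mathlib
import Cfsg.Prelude.Def_OddOrderLocal
import Cfsg.Agent.Helper60.BGAsmD
import Cfsg.Agent.Helper48.BG147A
import Cfsg.Agent.Helper48.BG147B

set_option autoImplicit false
set_option linter.unusedSectionVars false
set_option linter.unusedVariables false
set_option linter.style.haveILetI false

/-!
# B-G Theorem 14.7: the system of maximal subgroups attached to `Z = K K*` (helper48)

`Wit Z N K`: `N` is a maximal subgroup, `K ≠ 1` a Hall `κ(N)`-subgroup of `N` and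
`K ⊔ C_{N_σ}(K) = Z`.  The maximal subgroups `N` admitting a witness form the vertices of a
`Polygon` (`Helper48/BG147B.lean`).
-/

namespace Cfsg.Agent.Helper48.BG147

open Cfsg Cfsg.Agent.Helper29.BG10 Cfsg.Agent.Helper29.BG11 Cfsg.Agent.Helper68.BG12
  Cfsg.Agent.Helper71.BGHall Cfsg.Agent.Helper71.BG11 Cfsg.Agent.Helper48.BG142
open scoped Pointwise commutatorElement

universe u

variable {G : Type u} [Group G] [Finite G]

/-- a witness that `N` is a vertex of the system of `Z` -/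
structure Wit (Z N K : Subgroup G) : Prop where
  coatom : IsCoatom N
  hall : Cfsg.IsPiHallOf (Cfsg.kappa N) K N
  ne_bot : K ≠ ⊥
  sup_eq : K ⊔ kst N K = Z

namespace Wit

variable {Z N K : Subgroup G}

theorem comm (h : Wit Z N K) : ∀ a ∈ K, ∀ b ∈ kst N K, a * b = b * a := by
  intro a ha b hb
  exact Subgroup.mem_centralizer_iff.1 hb.2 a ha

theorem coprime (h : Wit Z N K) : (Nat.card K).Coprime (Nat.card ↥(kst N K)) :=
  coprime_card_K_Kstar N K h.hall

theorem coprime_sigmaCore (h : Wit Z N K) :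
    (Nat.card K).Coprime (Nat.card ↥(Cfsg.sigmaCore N)) :=
  Nat.coprime_of_dvd fun q hq h1 h2 => (h.hall.2.1 q hq h1).2.2.1
    (prime_mem_sigma_of_dvd_card_sigmaCore N hq h2)

theorem K_le (h : Wit Z N K) : K ≤ Z := by rw [← h.sup_eq]; exact le_sup_left

theorem kst_le (h : Wit Z N K) : kst N K ≤ Z := by rw [← h.sup_eq]; exact le_sup_right

theorem Z_le (h : Wit Z N K) : Z ≤ N := by
  rw [← h.sup_eq]
  exact sup_le h.hall.1 (inf_le_left.trans (Cfsg.Agent.Helper29.BG11.sigmaCore_le N))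

/-- `K* = Z ∩ N_σ` -/
theorem kst_eq (h : Wit Z N K) : kst N K = Z ⊓ Cfsg.sigmaCore N := by
  apply le_antisymm
  · exact le_inf h.kst_le inf_le_left
  · rintro z ⟨hzZ, hzS⟩
    have hzZ' : z ∈ K ⊔ kst N K := by rw [h.sup_eq]; exact hzZ
    obtain ⟨k, hk, s, hs, rfl⟩ := exists_mul_of_mem_sup h.comm hzZ'
    have hkS : k ∈ K ⊓ Cfsg.sigmaCore N := by
      refine ⟨hk, ?_⟩
      have : k = (k * s) * s⁻¹ := by group
      rw [this]
      exact (Cfsg.sigmaCore N).mul_mem hzS ((Cfsg.sigmaCore N).inv_mem hs.1)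
    rw [inf_eq_bot_of_coprime h.coprime_sigmaCore, Subgroup.mem_bot] at hkS
    rw [hkS, one_mul]; exact hs

/-- the witness is unique -/
theorem K_eq {K' : Subgroup G} (h : Wit Z N K) (h' : Wit Z N K') : K' = K := by
  have key : ∀ {K₁ K₂ : Subgroup G}, Wit Z N K₁ → Wit Z N K₂ → K₂ ≤ K₁ := by
    intro K₁ K₂ h₁ h₂ z hz
    have hzZ' : z ∈ K₁ ⊔ kst N K₁ := by rw [h₁.sup_eq]; exact h₂.K_le hz
    obtain ⟨k, hk, s, hs, rfl⟩ := exists_mul_of_mem_sup h₁.comm hzZ'
    have hc : Commute k s := h₁.comm k hk s hs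
    -- `s ^ |K₁| ∈ K₂ ∩ N_σ = 1`
    have h1 : s ^ Nat.card K₁ ∈ K₂ ⊓ Cfsg.sigmaCore N := by
      refine ⟨?_, (Cfsg.sigmaCore N).pow_mem hs.1 _⟩
      have : s ^ Nat.card K₁ = (k * s) ^ Nat.card K₁ := by
        rw [hc.mul_pow, pow_card_eq_one_of_mem hk, one_mul]
      rw [this]
      exact K₂.pow_mem hz _
    rw [inf_eq_bot_of_coprime h₂.coprime_sigmaCore, Subgroup.mem_bot] at h1
    have h2 : s = 1 := by
      by_contra hs1
      exact pow_card_ne_one h₁.coprime hs hs1 h1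
    rw [h2, mul_one]; exact hk
  exact le_antisymm (key h h') (key h' h)

end Wit

/-- conjugate vertices are equal -/
theorem Wit.eq_of_cj (hG : Cfsg.IsMinSimpleOddOrder G) (hU : UniquenessThm G)
    (h30 : H1430 G) (h31 : H1431 G) {Z N K N' K' : Subgroup G} (h : Wit Z N K)
    (h' : Wit Z N' K') {g : G} (hg : cj g N = N') : N' = N := by
  have hks1 : kst N' K' ≠ ⊥ := kstar_ne_bot hG h30 h'.coatom h'.hall h'.ne_bot
  obtain ⟨y, hy, hy1, hyp, hyd⟩ := exists_prime_card_le hks1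
  haveI : Fact (orderOf y).Prime := ⟨hyp⟩
  have hqσ' : orderOf y ∈ Cfsg.sigma N' :=
    primes_sigmaCore N' _ hyp (hyd.trans (Subgroup.card_dvd_of_le inf_le_left))
  have hqσ : orderOf y ∈ Cfsg.sigma N := by rw [← hg, sigma_cj] at hqσ'; exact hqσ'
  have hyZ : y ∈ Z := h'.kst_le hy
  have hyN : y ∈ N := h.Z_le hyZ
  have hpg : IsPGroup (orderOf y) (Subgroup.zpowers y) := by
    apply IsPGroup.of_card (n := 1)
    rw [Nat.card_zpowers, pow_one]
  have hyS : y ∈ Cfsg.sigmaCore N :=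
    Cfsg.Agent.Helper29.BG11.le_sigmaCore_of_isPGroup hG hU h.coatom hqσ hpg
      (by rw [Subgroup.zpowers_le]; exact hyN) (Subgroup.mem_zpowers y)
  have hyk : y ∈ kst N K := by rw [h.kst_eq]; exact ⟨hyZ, hyS⟩
  have hgN : g ∈ N := by
    by_contra hgN
    have h3 := (h31 N h.coatom K h.hall h.ne_bot).1 g hgN
    have h4 : y ∈ kst N K ⊓ N.map (MulAut.conj g).toMonoidHom := by
      refine ⟨hyk, ?_⟩
      have : y ∈ cj g N := by rw [hg]; exact h'.Z_le hyZ
      exact this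
    rw [h3, Subgroup.mem_bot] at h4
    exact hy1 h4
  rw [← hg, cj_eq_self_of_mem hgN]

/-- the next vertex: for a prime `p` of `|K|` there is a vertex `H` with `p ∣ |K_H*|` -/
theorem Wit.exists_next (hG : Cfsg.IsMinSimpleOddOrder G) (hU : UniquenessThm G)
    (h30 : H1430 G) (h31 : H1431 G) (h32 : H1432 G) {Z N K : Subgroup G} (h : Wit Z N K)
    {p : ℕ} (hp : p.Prime) (hpd : p ∣ Nat.card K) :
    ∃ H K₁ : Subgroup G, Wit Z H K₁ ∧ p ∣ Nat.card ↥(kst H K₁) ∧ (∀ g : G, cj g N ≠ H) ∧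
      kst N K ≤ K₁ ∧ kst H K₁ ≤ K := by
  haveI : Fact p.Prime := ⟨hp⟩
  obtain ⟨x, hx⟩ := exists_prime_orderOf_dvd_card' (G := K) p hpd
  have hXK : Subgroup.zpowers (x : G) ≤ K := by rw [Subgroup.zpowers_le]; exact x.2
  have hXc : Nat.card (Subgroup.zpowers (x : G)) = p := by
    rw [Nat.card_zpowers, Subgroup.orderOf_coe, hx]
  have hXp : (Nat.card (Subgroup.zpowers (x : G))).Prime := by rw [hXc]; exact hp
  have hX1 : Subgroup.zpowers (x : G) ≠ ⊥ := ne_bot_of_prime_card hXp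
  have hX2 : Subgroup.zpowers (x : G) ≠ ⊤ := by
    intro htop
    have : N = ⊤ := top_le_iff.1 (by rw [← htop]; exact hXK.trans h.hall.1)
    exact h.coatom.1 this
  obtain ⟨H, hH, hNX⟩ := Cfsg.Agent.Helper60.BGAsm.exists_coatom_normalizer_le hG hX1 hX2
  obtain ⟨K₁, hs⟩ := exists_second hG hU h30 h31 h32 h.coatom h.hall hXK hXp hH hNX
  refine ⟨H, K₁, ⟨hH, hs.hall, hs.ne_bot, ?_⟩, ?_, hs.nconj, hs.kst_le, hs.kst1_le⟩
  · rw [← hs.Z_eq]; exact h.sup_eq
  · rw [← hXc]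
    exact Subgroup.card_dvd_of_le hs.X_le

end Cfsg.Agent.Helper48.BG147
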