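import Mathlib
import Cfsg.Prelude.Def_OddOrderLocal
import Cfsg.Agent.Helper55.BGThmBf
import Cfsg.Agent.Helper48.BG147C

set_option autoImplicit false
set_option linter.unusedSectionVars false
set_option linter.unusedVariables false
set_option linter.style.haveILetI false

/-!
# B-G Theorem 14.7: the count (helper48)

The vertices of the system of `Z` form a `Polygon`; with the tilde-sets `M̃` (S1377 for the size,
S1379(1) for the disjointness, S1374/S1375 for "`o(a)` and `o(r)` are coprime for `r ∈ R(a)`") the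
count of `Helper48/BG147B.lean` shows that some vertex is not "of type `𝒫₁`":
`|N| ≠ |N_σ| |K_N|`.
-/

namespace Cfsg.Agent.Helper48.BG147

open Cfsg Cfsg.Agent.Helper29.BG10 Cfsg.Agent.Helper29.BG11 Cfsg.Agent.Helper68.BG12
  Cfsg.Agent.Helper71.BGHall Cfsg.Agent.Helper71.BG11 Cfsg.Agent.Helper48.BG142
open scoped Pointwise commutatorElement

universe u

/-- S1377 -/
def H1377 (G : Type u) [Group G] : Prop :=
  ∀ M : Subgroup G, IsCoatom M →
    Set.ncard (Cfsg.tildeOf M ((Cfsg.sigmaCore M : Set G) \ {1})) =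
      (Nat.card (Cfsg.sigmaCore M) - 1) * M.index

/-- S1379, first clause -/
def HTdisj (G : Type u) [Group G] : Prop :=
  ∀ M N : Subgroup G, IsCoatom M → IsCoatom N →
    (∀ g : G, N ≠ M.map (MulAut.conj g).toMonoidHom) →
    Cfsg.tildeOf M ((Cfsg.sigmaCore M : Set G) \ {1}) ∩
      Cfsg.tildeOf N ((Cfsg.sigmaCore N : Set G) \ {1}) = ∅

/-- consequence of S1374 + S1375: `o(a)` and `o(r)` are coprime for `r ∈ R(a)` -/
def HRcop (G : Type u) [Group G] : Prop :=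
  ∀ N : Subgroup G, IsCoatom N → ∀ a ∈ Cfsg.sigmaCore N, a ≠ 1 → ∀ r ∈ Cfsg.supportR N a,
    (orderOf a).Coprime (orderOf r)

variable {G : Type u} [Group G] [Finite G]

theorem commute_of_mem_supportR {N : Subgroup G} {a r : G} (hr : r ∈ Cfsg.supportR N a) :
    a * r = r * a := by
  unfold Cfsg.supportR at hr
  split_ifs at hr with h
  · exact Subgroup.mem_centralizer_iff.1 hr.2 a rfl
  · rw [Subgroup.mem_bot] at hr
    rw [hr, mul_one, one_mul]

theorem supportR_eq_bot {N : Subgroup G} {a : G}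
    (h : Subgroup.centralizer ({a} : Set G) ≤ N) : Cfsg.supportR N a = ⊥ := by
  unfold Cfsg.supportR
  rw [dif_neg (fun hc => hc.1 h)]

/-- the vertices of the system of `Z` -/
def Vtx (Z : Subgroup G) : Type u := {N : Subgroup G // ∃ K : Subgroup G, Wit Z N K}

noncomputable instance (Z : Subgroup G) : Fintype (Vtx Z) := by
  unfold Vtx
  exact Fintype.ofFinite _

/-- the chosen Hall `κ`-subgroup of a vertex -/
noncomputable def kapOf {Z : Subgroup G} (i : Vtx Z) : Subgroup G := Classical.choose i.2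

theorem wit {Z : Subgroup G} (i : Vtx Z) : Wit Z i.1 (kapOf i) := Classical.choose_spec i.2

theorem kapOf_mk {Z N K : Subgroup G} (h : Wit Z N K) : kapOf (⟨N, K, h⟩ : Vtx Z) = K :=
  Wit.K_eq h (wit (⟨N, K, h⟩ : Vtx Z))

/-- the polygon of the system of `Z` -/
theorem polygon (hG : Cfsg.IsMinSimpleOddOrder G) (hU : UniquenessThm G)
    (h30 : H1430 G) (h31 : H1431 G) (h32 : H1432 G) {Z N₀ K₀ : Subgroup G} (h₀ : Wit Z N₀ K₀) :
    Polygon Z (fun i : Vtx Z => i.1) kapOf (fun i => kst i.1 (kapOf i)) := by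
  refine ⟨fun i => (wit i).sup_eq, fun i => (wit i).comm, fun i => (wit i).coprime,
    fun i => (wit i).Z_le, ?_, ?_, ?_⟩
  · intro i g hg
    exact (h31 i.1 (wit i).coatom (kapOf i) (wit i).hall (wit i).ne_bot).1 g hg
  · intro i g hg hgZ
    refine (h31 i.1 (wit i).coatom (kapOf i) (wit i).hall (wit i).ne_bot).2.1 g hg ?_
    intro hgZ'
    apply hgZ
    rw [← (wit i).sup_eq]; exact hgZ'
  · intro p hp hpd
    have hc : Nat.card K₀ * Nat.card ↥(kst N₀ K₀) = Nat.card Z := by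
      rw [← card_sup_of_commute h₀.comm (inf_eq_bot_of_coprime h₀.coprime), h₀.sup_eq]
    rw [← hc] at hpd
    rcases (Nat.Prime.dvd_mul hp).1 hpd with h | h
    · obtain ⟨H, K₁, hW, hpH, -⟩ := h₀.exists_next hG hU h30 h31 h32 hp h
      refine ⟨⟨H, K₁, hW⟩, ?_⟩
      show p ∣ Nat.card ↥(kst H (kapOf (⟨H, K₁, hW⟩ : Vtx Z)))
      rw [kapOf_mk hW]; exact hpH
    · refine ⟨⟨N₀, K₀, h₀⟩, ?_⟩
      show p ∣ Nat.card ↥(kst N₀ (kapOf (⟨N₀, K₀, h₀⟩ : Vtx Z)))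
      rw [kapOf_mk h₀]; exact h

theorem two_le_card_vtx (hG : Cfsg.IsMinSimpleOddOrder G) (hU : UniquenessThm G)
    (h30 : H1430 G) (h31 : H1431 G) (h32 : H1432 G) {Z N₀ K₀ : Subgroup G} (h₀ : Wit Z N₀ K₀) :
    2 ≤ Fintype.card (Vtx Z) := by
  have hc : Nat.card K₀ ≠ 1 := fun h => h₀.ne_bot (Subgroup.card_eq_one.1 h)
  obtain ⟨p, hp, hpd⟩ := Nat.exists_prime_and_dvd hc
  obtain ⟨H, K₁, hW, -, hnc, -⟩ := h₀.exists_next hG hU h30 h31 h32 hp hpd
  have hne : (⟨N₀, K₀, h₀⟩ : Vtx Z) ≠ ⟨H, K₁, hW⟩ := by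
    intro he
    have : N₀ = H := congrArg Subtype.val he
    exact hnc 1 (by rw [cj_one]; exact this)
  exact Fintype.one_lt_card_iff.2 ⟨_, _, hne⟩

/-- the tilde-set of a maximal subgroup -/
abbrev tilde (N : Subgroup G) : Set G := Cfsg.tildeOf N ((Cfsg.sigmaCore N : Set G) \ {1})

/-- `1 ∉ Ñ` -/
theorem one_not_mem_tilde (hR : HRcop G) {N : Subgroup G} (hN : IsCoatom N) :
    (1 : G) ∉ tilde N := by
  rintro ⟨a, ⟨haS, ha1⟩, r, hr, y, he⟩
  have ha1' : a ≠ 1 := fun h => ha1 (Set.mem_singleton_iff.2 h)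
  have h1 : a * r = 1 := by
    have : a * r = y⁻¹ * (y * (a * r) * y⁻¹) * y := by group
    rw [this, ← he]; group
  have hcop := hR N hN a haS ha1' r hr
  have h2 : r = a⁻¹ := eq_inv_of_mul_eq_one_right h1
  rw [h2, orderOf_inv] at hcop
  have : orderOf a = 1 := (Nat.coprime_self _).1 hcop
  exact ha1' (orderOf_eq_one_iff.1 this)

/-- the class support of the hat misses the tilde-sets of the vertices -/
theorem disjoint_classSupport_tilde (hG : Cfsg.IsMinSimpleOddOrder G) (hU : UniquenessThm G)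
    (h31 : H1431 G) (hR : HRcop G) {Z : Subgroup G} (i : Vtx Z) :
    Disjoint (classSupport (polyHat Z (fun j : Vtx Z => kst j.1 (kapOf j)))) (tilde i.1) := by
  rw [Set.disjoint_left]
  rintro w ⟨g, z, hz, rfl⟩ ⟨a, ⟨haS, ha1⟩, r, hr, y, he⟩
  have ha1' : a ≠ 1 := fun h => ha1 (Set.mem_singleton_iff.2 h)
  have hW := wit i
  have hz_eq : z = (g⁻¹ * y) * (a * r) * (g⁻¹ * y)⁻¹ := by
    have : z = g⁻¹ * (g * z * g⁻¹) * g := by group
    rw [this, he]; group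
  have hcomm : Commute a r := commute_of_mem_supportR hr
  have hcop := hR i.1 hW.coatom a haS ha1' r hr
  have ha₁ : (a * r) ^ orderOf r = a ^ orderOf r := by
    rw [hcomm.mul_pow, pow_orderOf_eq_one, mul_one]
  have ha₁1 : a ^ orderOf r ≠ 1 := by
    intro h0
    have h1 : orderOf a ∣ orderOf r := orderOf_dvd_of_pow_eq_one h0
    have h2 : orderOf a = 1 := Nat.eq_one_of_dvd_coprimes hcop dvd_rfl h1
    exact ha1' (orderOf_eq_one_iff.1 h2)
  have hz_pow : z ^ orderOf r = (g⁻¹ * y) * a ^ orderOf r * (g⁻¹ * y)⁻¹ := by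
    rw [hz_eq, conj_pow, ha₁]
  have h1Z : (g⁻¹ * y) * a ^ orderOf r * (g⁻¹ * y)⁻¹ ∈ Z := by
    rw [← hz_pow]; exact Z.pow_mem hz.1 _
  have h1N : (g⁻¹ * y) * a ^ orderOf r * (g⁻¹ * y)⁻¹ ∈ i.1 := hW.Z_le h1Z
  have h1S : (g⁻¹ * y) * a ^ orderOf r * (g⁻¹ * y)⁻¹ ∈ Cfsg.sigmaCore i.1 := by
    apply Cfsg.Agent.Helper55.BGThmB.mem_sigmaCore_of_pow_card hG hU hW.coatom h1N
    have e : (a ^ orderOf r) ^ Nat.card ↥(Cfsg.sigmaCore i.1) = 1 := by
      rw [← pow_mul, mul_comm, pow_mul, pow_card_eq_one_of_mem haS, one_pow]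
    rw [conj_pow, e]
    group
  have h1k : (g⁻¹ * y) * a ^ orderOf r * (g⁻¹ * y)⁻¹ ∈ kst i.1 (kapOf i) := by
    rw [hW.kst_eq]; exact ⟨h1Z, h1S⟩
  have h1ne : (g⁻¹ * y) * a ^ orderOf r * (g⁻¹ * y)⁻¹ ≠ 1 := by
    intro h0
    apply ha₁1
    have : a ^ orderOf r = (g⁻¹ * y)⁻¹ * ((g⁻¹ * y) * a ^ orderOf r * (g⁻¹ * y)⁻¹) * (g⁻¹ * y) := by
      group
    rw [this, h0]; group
  have hcN : g⁻¹ * y ∈ i.1 := by
    by_contra hc
    have h3 := (h31 i.1 hW.coatom (kapOf i) hW.hall hW.ne_bot).1 (g⁻¹ * y) hc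
    have h4 : (g⁻¹ * y) * a ^ orderOf r * (g⁻¹ * y)⁻¹ ∈
        kst i.1 (kapOf i) ⊓ (i.1).map (MulAut.conj (g⁻¹ * y)).toMonoidHom :=
      ⟨h1k, ⟨a ^ orderOf r,
        (i.1).pow_mem (Cfsg.Agent.Helper29.BG11.sigmaCore_le i.1 haS) _, by
          simp only [MulEquiv.coe_toMonoidHom, MulAut.conj_apply]⟩⟩
    rw [h3, Subgroup.mem_bot] at h4
    exact h1ne h4
  have hCa : Subgroup.centralizer ({a} : Set G) ≤ i.1 := by
    intro d hd
    have hd' : (g⁻¹ * y) * d * (g⁻¹ * y)⁻¹ ∈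
        Subgroup.centralizer ({(g⁻¹ * y) * a ^ orderOf r * (g⁻¹ * y)⁻¹} : Set G) := by
      rw [Subgroup.mem_centralizer_iff]
      intro x hx
      rw [Set.mem_singleton_iff.1 hx]
      have hda : Commute d a := (Subgroup.mem_centralizer_iff.1 hd a rfl).symm
      have := (hda.pow_right (orderOf r)).eq
      calc (g⁻¹ * y) * a ^ orderOf r * (g⁻¹ * y)⁻¹ * ((g⁻¹ * y) * d * (g⁻¹ * y)⁻¹)
          = (g⁻¹ * y) * (a ^ orderOf r * d) * (g⁻¹ * y)⁻¹ := by group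
        _ = (g⁻¹ * y) * (d * a ^ orderOf r) * (g⁻¹ * y)⁻¹ := by rw [this]
        _ = (g⁻¹ * y) * d * (g⁻¹ * y)⁻¹ * ((g⁻¹ * y) * a ^ orderOf r * (g⁻¹ * y)⁻¹) := by group
    have h5 := centralizer_le_of_mem_kstar h31 hW.coatom hW.hall hW.ne_bot h1k h1ne hd'
    have : d = (g⁻¹ * y)⁻¹ * ((g⁻¹ * y) * d * (g⁻¹ * y)⁻¹) * (g⁻¹ * y) := by group
    rw [this]
    exact (i.1).mul_mem ((i.1).mul_mem ((i.1).inv_mem hcN) h5) hcN
  have hr1 : r = 1 := by
    rw [supportR_eq_bot hCa, Subgroup.mem_bot] at hr; exact hr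
  apply hz.2 i
  show z ∈ kst i.1 (kapOf i)
  rw [hW.kst_eq]
  refine ⟨hz.1, ?_⟩
  rw [hz_eq, hr1, mul_one]
  exact conj_mem_sigmaCore hcN haS

/-- the tilde-sets of distinct vertices are disjoint -/
theorem disjoint_tilde (hG : Cfsg.IsMinSimpleOddOrder G) (hU : UniquenessThm G)
    (h30 : H1430 G) (h31 : H1431 G) (hTd : HTdisj G) {Z : Subgroup G} (i j : Vtx Z)
    (hij : i ≠ j) : Disjoint (tilde i.1) (tilde j.1) := by
  rw [Set.disjoint_iff_inter_eq_empty]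
  apply hTd i.1 j.1 (wit i).coatom (wit j).coatom
  intro g hg
  apply hij
  apply Subtype.ext
  exact (Wit.eq_of_cj hG hU h30 h31 (wit i) (wit j) hg.symm).symm

/-- `|N_σ| ≥ 2 |K*|` -/
theorem two_mul_card_kst_le (hG : Cfsg.IsMinSimpleOddOrder G) (h30 : H1430 G) (h31 : H1431 G)
    {Z N K : Subgroup G} (h : Wit Z N K) :
    2 * Nat.card ↥(kst N K) ≤ Nat.card ↥(Cfsg.sigmaCore N) := by
  have hks1 : kst N K ≠ ⊥ := kstar_ne_bot hG h30 h.coatom h.hall h.ne_bot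
  have hc : Nat.card ↥(kst N K) ≠ 1 := fun hc => hks1 (Subgroup.card_eq_one.1 hc)
  obtain ⟨q, hq, hqd⟩ := Nat.exists_prime_and_dvd hc
  haveI : Fact q.Prime := ⟨hq⟩
  obtain ⟨Q⟩ : Nonempty (Sylow q ↥(Cfsg.sigmaCore N)) := inferInstance
  obtain ⟨-, -, hQ⟩ := (h31 N h.coatom K h.hall h.ne_bot).2.2.1 q hq hqd Q
  have hle : kst N K ≤ Cfsg.sigmaCore N := inf_le_left
  have h1 := Cfsg.Agent.Helper60.BGAsm.card_mul_relIndex_of_le hle
  have h2 : (kst N K).relIndex (Cfsg.sigmaCore N) ≠ 1 := by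
    intro h2
    apply hQ
    exact (Subgroup.map_subtype_le _).trans (Subgroup.relIndex_eq_one.1 h2)
  have h3 : (kst N K).relIndex (Cfsg.sigmaCore N) ≠ 0 := by
    intro h0
    rw [h0, mul_zero] at h1
    exact (Nat.card_pos (α := ↥(Cfsg.sigmaCore N))).ne' h1.symm
  have h4 : 2 ≤ (kst N K).relIndex (Cfsg.sigmaCore N) := by omega
  calc 2 * Nat.card ↥(kst N K) = Nat.card ↥(kst N K) * 2 := by ring
    _ ≤ Nat.card ↥(kst N K) * (kst N K).relIndex (Cfsg.sigmaCore N) :=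
        Nat.mul_le_mul_left _ h4
    _ = Nat.card ↥(Cfsg.sigmaCore N) := h1

/-- **the count**: some vertex of the system of `Z` is not of type `𝒫₁` -/
theorem exists_not_P1 (hG : Cfsg.IsMinSimpleOddOrder G) (hU : UniquenessThm G)
    (h30 : H1430 G) (h31 : H1431 G) (h32 : H1432 G) (h77 : H1377 G) (hTd : HTdisj G)
    (hR : HRcop G) {Z N₀ K₀ : Subgroup G} (h₀ : Wit Z N₀ K₀) :
    ∃ N K : Subgroup G, Wit Z N K ∧
      Nat.card N ≠ Nat.card ↥(Cfsg.sigmaCore N) * Nat.card K := by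
  by_contra hall
  push_neg at hall
  have hP := polygon hG hU h30 h31 h32 h₀
  exact hP.false_of_count (two_le_card_vtx hG hU h30 h31 h32 h₀)
    (fun i => Nat.card ↥(Cfsg.sigmaCore i.1)) (fun i => tilde i.1)
    (fun i => one_not_mem_tilde hR (wit i).coatom)
    (fun i j hij => disjoint_tilde hG hU h30 h31 hTd i j hij)
    (fun i => disjoint_classSupport_tilde hG hU h31 hR i)
    (fun i => h77 i.1 (wit i).coatom)
    (fun i => hall i.1 (kapOf i) (wit i))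
    (fun i => two_mul_card_kst_le hG h30 h31 (wit i))

end Cfsg.Agent.Helper48.BG147
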