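import Mathlib
import Cfsg.Prelude.Def_OddOrderLocal
import Cfsg.Agent.S1446
import Cfsg.Agent.Helper10.Card
import Cfsg.Agent.Helper60.BGAsmB
import Cfsg.Agent.Helper48.BG147D

set_option autoImplicit false
set_option linter.unusedSectionVars false
set_option linter.unusedVariables false
set_option linter.style.haveILetI false

/-!
# B-G Theorem 14.7: existence of `M*` (helper48)

* `card_eq_of_forall_mem`: if every prime of `|N|` lies in `σ(N) ∪ κ(N)` then `|N| = |N_σ| |K|`.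
* `card_prime_of_not_P1` (B-G 14.7(f), local half): if `N` is not of type `𝒫₁` then `|K|` is prime
  (S1429 + S1430(2) + S1446).
* `exists_partner`: the maximal subgroup `M*` of B-G 14.7.
-/

namespace Cfsg.Agent.Helper48.BG147

open Cfsg Cfsg.Agent.Helper29.BG10 Cfsg.Agent.Helper29.BG11 Cfsg.Agent.Helper68.BG12
  Cfsg.Agent.Helper71.BGHall Cfsg.Agent.Helper71.BG11 Cfsg.Agent.Helper48.BG142
open scoped Pointwise commutatorElement

universe u

/-- S1429 -/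
def H1429 (G : Type u) [Group G] : Prop :=
  ∀ (M : Subgroup G), IsCoatom M →
    ¬ (∀ q : ℕ, q.Prime → q ∣ Nat.card M → q ∉ Cfsg.sigma M → q ∈ Cfsg.kappa M) →
    ∀ (p : ℕ) [Fact p.Prime], p ∣ Nat.card M → p ∉ Cfsg.sigma M ∪ Cfsg.kappa M → ∀ S : Sylow p M,
    Nat.card ↥(Subgroup.closure {x : G | x ∈ (S : Subgroup M).map M.subtype ∧ x ^ p = 1}) ≤ p ^ 2 ∧
      Cfsg.sigmaCore M ⊓ Subgroup.centralizer ((Subgroup.closure {x : G | x ∈ (S : Subgroup M).map M.subtype ∧ x ^ p = 1} : Subgroup G) : Set G) = ⊥ ∧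
      Group.IsNilpotent (Cfsg.sigmaCore M)

variable {G : Type u} [Group G] [Finite G]

/-- if every prime of `|N|` lies in `σ(N) ∪ κ(N)` then `|N| = |N_σ| |K|` -/
theorem card_eq_of_forall_mem (hG : Cfsg.IsMinSimpleOddOrder G) (hU : UniquenessThm G)
    {N K : Subgroup G} (hN : IsCoatom N) (hK : Cfsg.IsPiHallOf (Cfsg.kappa N) K N)
    (hall : ∀ q : ℕ, q.Prime → q ∣ Nat.card N → q ∉ Cfsg.sigma N → q ∈ Cfsg.kappa N) :
    Nat.card N = Nat.card ↥(Cfsg.sigmaCore N) * Nat.card K := by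
  obtain ⟨⟨hSN, hSpi, hSidx⟩, -, -⟩ := thm_10_2_sigma hG hU N hN
  have hKn : K ≤ Subgroup.normalizer ((Cfsg.sigmaCore N : Subgroup G) : Set G) :=
    hK.1.trans (Cfsg.Agent.Helper29.BG11.le_normalizer_sigmaCore N)
  have hcop : (Nat.card K).Coprime (Nat.card ↥(Cfsg.sigmaCore N)) :=
    Nat.coprime_of_dvd fun q hq h1 h2 => (hK.2.1 q hq h1).2.2.1
      (prime_mem_sigma_of_dvd_card_sigmaCore N hq h2)
  have h1 := Cfsg.Agent.Helper10.card_sup_mul_card_inf K (Cfsg.sigmaCore N) hKn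
  rw [inf_eq_bot_of_coprime hcop, Subgroup.card_bot, mul_one] at h1
  have hJN : K ⊔ Cfsg.sigmaCore N ≤ N := sup_le hK.1 hSN
  have hNJ : N ≤ K ⊔ Cfsg.sigmaCore N := by
    apply Cfsg.Agent.Helper60.BGAsm.le_sup_of_hall_cover
    intro q hq
    by_cases hqN : q ∣ Nat.card N
    · by_cases hqσ : q ∈ Cfsg.sigma N
      · exact ⟨_, le_sup_right, hSidx q hq hqσ⟩
      · exact ⟨_, le_sup_left, hK.2.2 q hq (hall q hq hqN hqσ)⟩
    · refine ⟨K, le_sup_left, fun hd => hqN (hd.trans ?_)⟩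
      exact Subgroup.relIndex_dvd_card _ _
  have hEq : K ⊔ Cfsg.sigmaCore N = N := le_antisymm hJN hNJ
  rw [hEq] at h1
  rw [h1, mul_comm]

/-- **B-G 14.7(f), local half**: a vertex which is not of type `𝒫₁` has `|K|` prime -/
theorem card_prime_of_not_P1 (hG : Cfsg.IsMinSimpleOddOrder G) (hU : UniquenessThm G)
    (h29 : H1429 G) (h30 : H1430 G) {N K : Subgroup G} (hN : IsCoatom N)
    (hK : Cfsg.IsPiHallOf (Cfsg.kappa N) K N) (hK1 : K ≠ ⊥)
    (hnP1 : Nat.card N ≠ Nat.card ↥(Cfsg.sigmaCore N) * Nat.card K) :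
    (Nat.card K).Prime ∧ Group.IsNilpotent ↥(Cfsg.sigmaCore N) := by
  classical
  haveI : Group.IsSolvable ↥N := hG.2.2.2 N hN.1
  have hnall : ¬ (∀ q : ℕ, q.Prime → q ∣ Nat.card N → q ∉ Cfsg.sigma N → q ∈ Cfsg.kappa N) :=
    fun hall => hnP1 (card_eq_of_forall_mem hG hU hN hK hall)
  have hnall' := hnall
  push_neg at hnall'
  obtain ⟨q, hq, hqN, hqσ, hqκ⟩ := hnall'
  haveI : Fact q.Prime := ⟨hq⟩
  obtain ⟨F1, ⟨U₁, hU₁c, hU₁H, hKU₁, hsemi⟩, -⟩ := h30 N hN K hK hK1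
  -- `q ∣ |U₁|`
  have hqU : q ∣ Nat.card U₁ := by
    have h1 := Cfsg.Agent.Helper62.isPiHallOf_card_mul_relIndex hU₁H
    have h2 : ¬ q ∣ U₁.relIndex N := hU₁H.2.2 q hq ⟨hq, hqκ, hqσ⟩
    rw [← h1] at hqN
    exact ((Nat.Prime.dvd_mul hq).1 hqN).resolve_right h2
  have hU₁1 : U₁ ≠ ⊥ := by
    intro hb
    rw [hb, Subgroup.card_bot] at hqU
    exact hq.one_lt.ne' (Nat.dvd_one.1 hqU)
  -- a Sylow `q`-subgroup of `N` inside `U₁`
  obtain ⟨S₀, -, hS₀⟩ := exists_isSylowIn_ge (p := q) (N := U₁) (Y := ⊥) bot_le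
    (IsPGroup.of_bot)
  have hS₀N : IsSylowIn q S₀ N := by
    refine ⟨hS₀.1.trans hU₁H.1, hS₀.2.1, ?_⟩
    rw [← Subgroup.relIndex_mul_relIndex S₀ U₁ N hS₀.1 hU₁H.1]
    intro hd
    rcases (Nat.Prime.dvd_mul hq).1 hd with h | h
    · exact hS₀.2.2 h
    · exact hU₁H.2.2 q hq ⟨hq, hqκ, hqσ⟩ h
  obtain ⟨S, hS⟩ := IsSylowIn.exists_sylow hS₀N
  obtain ⟨-, hCA, hnil⟩ := h29 N hN hnall q hqN (by
    rintro (h | h)
    · exact hqσ h
    · exact hqκ h) S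
  refine ⟨?_, hnil⟩
  -- `N_σ ∩ C(U₁) = 1`
  have hCU : Cfsg.sigmaCore N ⊓ Subgroup.centralizer (U₁ : Set G) = ⊥ := by
    rw [eq_bot_iff, ← hCA]
    refine inf_le_inf le_rfl (Subgroup.centralizer_le ?_)
    have : Subgroup.closure {x : G | x ∈ (S : Subgroup N).map N.subtype ∧ x ^ q = 1} ≤ U₁ := by
      rw [Subgroup.closure_le]
      rintro x ⟨hx, -⟩
      rw [hS] at hx
      exact hS₀.1 hx
    exact this
  have hKs1 : kst N K ≠ ⊥ := kstar_ne_bot hG h30 hN hK hK1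
  have hS1 : Cfsg.sigmaCore N ≠ ⊥ := fun hb => hKs1 (le_bot_iff.1 (hb ▸ inf_le_left))
  have hcopUK : (Nat.card U₁).Coprime (Nat.card K) :=
    Nat.coprime_of_dvd fun r hr h1 h2 => (hU₁H.2.1 r hr h1).2.1 (hK.2.1 r hr h2)
  have hUKN : U₁ ⊔ K ≤ N := sup_le hU₁H.1 hK.1
  have hcardUK : Nat.card ↥(K ⊔ U₁) = Nat.card K * Nat.card U₁ := by
    have h1 := Cfsg.Agent.Helper10.card_sup_mul_card_inf K U₁ hKU₁
    rw [inf_eq_bot_of_coprime hcopUK.symm, Subgroup.card_bot, mul_one] at h1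
    exact h1
  have hcopS : (Nat.card ↥(U₁ ⊔ K)).Coprime (Nat.card ↥(Cfsg.sigmaCore N)) := by
    rw [sup_comm, hcardUK]
    apply Nat.Coprime.mul_left
    · exact Nat.coprime_of_dvd fun r hr h1 h2 => (hK.2.1 r hr h1).2.2.1
        (prime_mem_sigma_of_dvd_card_sigmaCore N hr h2)
    · exact Nat.coprime_of_dvd fun r hr h1 h2 => (hU₁H.2.1 r hr h1).2.2
        (prime_mem_sigma_of_dvd_card_sigmaCore N hr h2)
  haveI : Group.IsSolvable ↥(U₁ ⊔ K) :=
    solvable_of_solvable_injective (Subgroup.inclusion_injective hUKN)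
  have hodd : Odd (Nat.card ↥(U₁ ⊔ K)) :=
    Odd.of_dvd_nat hG.1 (Subgroup.card_subgroup_dvd_card _)
  have hnorm := Cfsg.Agent.Helper29.BG11.le_normalizer_sigmaCore N
  exact (Cfsg.Agent.S1446.result U₁ K (Cfsg.sigmaCore N) hU₁1 hK1
    (inf_eq_bot_of_coprime hcopUK) hKU₁ hsemi inferInstance hodd hS1 hnil
    (hU₁H.1.trans hnorm) (hK.1.trans hnorm) hcopS hCU
    (fun x hx hx1 => F1 x hx hx1)).1

/-- a vertex is determined by any prime of its `K*` -/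
theorem Wit.eq_of_dvd (hG : Cfsg.IsMinSimpleOddOrder G) (hU : UniquenessThm G)
    (h30 : H1430 G) (h31 : H1431 G) {Z N K N' K' : Subgroup G} (h : Wit Z N K)
    (h' : Wit Z N' K') {q : ℕ} (hq : q.Prime) (hd : q ∣ Nat.card ↥(kst N K))
    (hd' : q ∣ Nat.card ↥(kst N' K')) : N' = N ∧ K' = K := by
  have hqσ' : q ∈ Cfsg.sigma N' :=
    primes_sigmaCore N' q hq (hd'.trans (Subgroup.card_dvd_of_le inf_le_left))
  obtain ⟨n, hn⟩ := exists_cj_eq_of_dvd_card_kstar hG hU h31 h.coatom h.hall h.ne_bot hq hd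
    h'.coatom hqσ'
  have e : N = N' := Wit.eq_of_cj hG hU h30 h31 h' h hn
  subst e
  exact ⟨rfl, Wit.K_eq h h'⟩

theorem Wit.card_Z {Z N K : Subgroup G} (h : Wit Z N K) :
    Nat.card K * Nat.card ↥(kst N K) = Nat.card Z := by
  rw [← card_sup_of_commute h.comm (inf_eq_bot_of_coprime h.coprime), h.sup_eq]

/-- a vertex with `|K|` prime and its partner form a genuine pair -/
theorem Wit.exists_pair (hG : Cfsg.IsMinSimpleOddOrder G) (hU : UniquenessThm G)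
    (h30 : H1430 G) (h31 : H1431 G) (h32 : H1432 G) {Z N K : Subgroup G} (h : Wit Z N K)
    (hp : (Nat.card K).Prime) :
    ∃ H K₁ : Subgroup G, Wit Z H K₁ ∧ K₁ = kst N K ∧ kst H K₁ = K ∧ ∀ g : G, cj g N ≠ H := by
  obtain ⟨H, K₁, hW, hpd, hnc, hle, hle'⟩ := h.exists_next hG hU h30 h31 h32 hp dvd_rfl
  have e1 : kst H K₁ = K := by
    apply Subgroup.eq_of_le_of_card_ge hle'
    exact Nat.le_of_dvd Nat.card_pos hpd
  have e2 : K₁ = kst N K := by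
    symm
    apply Subgroup.eq_of_le_of_card_ge hle
    have h1 := hW.card_Z
    have h2 := h.card_Z
    rw [e1] at h1
    have h3 : Nat.card K₁ * Nat.card K = Nat.card K * Nat.card ↥(kst N K) := by rw [h1, h2]
    have h4 : Nat.card K₁ = Nat.card ↥(kst N K) := by
      have hpos : 0 < Nat.card K := Nat.card_pos
      nlinarith [Nat.eq_of_mul_eq_mul_right hpos (by rw [h3]; ring : Nat.card K₁ * Nat.card K =
        Nat.card ↥(kst N K) * Nat.card K)]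
    exact h4.le
  exact ⟨H, K₁, hW, e2, e1, hnc⟩

/-- **B-G 14.7, existence of `M*`.** -/
theorem exists_partner (hG : Cfsg.IsMinSimpleOddOrder G) (hU : UniquenessThm G)
    (h29 : H1429 G) (h30 : H1430 G) (h31 : H1431 G) (h32 : H1432 G) (h77 : H1377 G)
    (hTd : HTdisj G) (hR : HRcop G) {M K : Subgroup G} (hM : IsCoatom M)
    (hK : Cfsg.IsPiHallOf (Cfsg.kappa M) K M) (hK1 : K ≠ ⊥) :
    ∃ Ms : Subgroup G, IsCoatom Ms ∧ K = kst Ms (kst M K) ∧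
      Cfsg.IsPiHallOf (Cfsg.kappa Ms) (kst M K) Ms ∧ ∀ g : G, cj g M ≠ Ms := by
  have h₀ : Wit (K ⊔ kst M K) M K := ⟨hM, hK, hK1, rfl⟩
  obtain ⟨N, K', hW, hnP1⟩ := exists_not_P1 hG hU h30 h31 h32 h77 hTd hR h₀
  obtain ⟨hp, -⟩ := card_prime_of_not_P1 hG hU h29 h30 hW.coatom hW.hall hW.ne_bot hnP1
  obtain ⟨H, K₁, hW₁, e2, e1, hnc⟩ := hW.exists_pair hG hU h30 h31 h32 hp
  have hKs1 : kst M K ≠ ⊥ := kstar_ne_bot hG h30 hM hK hK1
  have hc : Nat.card ↥(kst M K) ≠ 1 := fun hc => hKs1 (Subgroup.card_eq_one.1 hc)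
  obtain ⟨q, hq, hqd⟩ := Nat.exists_prime_and_dvd hc
  have hqZ : q ∣ Nat.card K' * Nat.card ↥(kst N K') := by
    rw [hW.card_Z]
    exact hqd.trans (Subgroup.card_dvd_of_le le_sup_right)
  rcases (Nat.Prime.dvd_mul hq).1 hqZ with hq1 | hq1
  · -- `M = H`
    rw [← e1] at hq1
    obtain ⟨eH, eK⟩ := Wit.eq_of_dvd hG hU h30 h31 h₀ hW₁ hq hqd hq1
    subst eH
    subst eK
    refine ⟨N, hW.coatom, ?_, ?_, ?_⟩
    · rw [e1]; exact e2
    · rw [e1]; exact hW.hall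
    · intro g hg
      apply hnc g⁻¹
      rw [← hg, cj_inv_cj]
  · -- `M = N`
    obtain ⟨eN, eK⟩ := Wit.eq_of_dvd hG hU h30 h31 h₀ hW hq hqd hq1
    subst eN
    subst eK
    refine ⟨H, hW₁.coatom, ?_, ?_, hnc⟩
    · rw [← e2]; exact e1.symm
    · rw [← e2]; exact hW₁.hall

end Cfsg.Agent.Helper48.BG147
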