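import Mathlib
import Cfsg.Prelude.Def_OddOrderLocal
import Cfsg.Agent.Helper48.BG147E

set_option autoImplicit false
set_option linter.unusedSectionVars false
set_option linter.unusedVariables false
set_option linter.style.haveILetI false

/-!
# B-G Theorem 14.7 (f), (g) (helper48)

* `not_both_P1`: `M` and `M*` are not both of type `𝒫₁`.
* `exists_cj_of_kappa_nonempty`: every maximal subgroup `H` with `κ(H) ≠ ∅` is conjugate to `M` or
  to `M*` (two class supports of size `> |G|/2` must meet).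
-/

namespace Cfsg.Agent.Helper48.BG147

open Cfsg Cfsg.Agent.Helper29.BG10 Cfsg.Agent.Helper29.BG11 Cfsg.Agent.Helper68.BG12
  Cfsg.Agent.Helper71.BGHall Cfsg.Agent.Helper71.BG11 Cfsg.Agent.Helper48.BG142
open scoped Pointwise commutatorElement

universe u

variable {G : Type u} [Group G] [Finite G]

/-- the hypotheses on `M*` in the frozen statements S1367, S1369, S1434 -/
structure Partner (M K Ms : Subgroup G) : Prop where
  coatomM : IsCoatom M
  hallK : Cfsg.IsPiHallOf (Cfsg.kappa M) K M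
  ne_bot : K ≠ ⊥
  coatom : IsCoatom Ms
  eq : K = kst Ms (kst M K)
  hall : Cfsg.IsPiHallOf (Cfsg.kappa Ms) (kst M K) Ms

namespace Partner

variable {M K Ms : Subgroup G}

theorem wit (h : Partner M K Ms) : Wit (K ⊔ kst M K) M K := ⟨h.coatomM, h.hallK, h.ne_bot, rfl⟩

theorem kst_ne_bot (hG : Cfsg.IsMinSimpleOddOrder G) (h30 : H1430 G) (h : Partner M K Ms) :
    kst M K ≠ ⊥ := kstar_ne_bot hG h30 h.coatomM h.hallK h.ne_bot

theorem wit' (hG : Cfsg.IsMinSimpleOddOrder G) (h30 : H1430 G) (h : Partner M K Ms) :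
    Wit (K ⊔ kst M K) Ms (kst M K) := by
  refine ⟨h.coatom, h.hall, h.kst_ne_bot hG h30, ?_⟩
  rw [← h.eq, sup_comm]

theorem nconj (h : Partner M K Ms) : ∀ g : G, cj g M ≠ Ms := by
  intro g hg
  have hc : Nat.card K ≠ 1 := fun hc => h.ne_bot (Subgroup.card_eq_one.1 hc)
  obtain ⟨r, hr, hrd⟩ := Nat.exists_prime_and_dvd hc
  have h1 : r ∈ Cfsg.sigma Ms := by
    apply primes_sigmaCore Ms r hr
    have : K ≤ Cfsg.sigmaCore Ms := by
      have := h.eq
      rw [this]; exact inf_le_left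
    exact hrd.trans (Subgroup.card_dvd_of_le this)
  rw [← hg, sigma_cj] at h1
  exact (h.hallK.2.1 r hr hrd).2.2.1 h1

end Partner

/-- **B-G 14.7(f), counting half**: `M` and `M*` are not both of type `𝒫₁` -/
theorem not_both_P1 (hG : Cfsg.IsMinSimpleOddOrder G) (hU : UniquenessThm G)
    (h30 : H1430 G) (h31 : H1431 G) (h32 : H1432 G) (h77 : H1377 G)
    (hTd : HTdisj G) (hR : HRcop G) {M K Ms : Subgroup G} (h : Partner M K Ms)
    (h1 : Nat.card M = Nat.card ↥(Cfsg.sigmaCore M) * Nat.card K)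
    (h2 : Nat.card Ms = Nat.card ↥(Cfsg.sigmaCore Ms) * Nat.card ↥(kst M K)) : False := by
  have h₀ := h.wit
  have h₁ := h.wit' hG h30
  obtain ⟨N, K', hW, hnP1⟩ := exists_not_P1 hG hU h30 h31 h32 h77 hTd hR h₀
  have hKs1 : kst N K' ≠ ⊥ := kstar_ne_bot hG h30 hW.coatom hW.hall hW.ne_bot
  have hc : Nat.card ↥(kst N K') ≠ 1 := fun hc => hKs1 (Subgroup.card_eq_one.1 hc)
  obtain ⟨q, hq, hqd⟩ := Nat.exists_prime_and_dvd hc
  have hqZ : q ∣ Nat.card K * Nat.card ↥(kst M K) := by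
    rw [h₀.card_Z]
    exact hqd.trans (Subgroup.card_dvd_of_le hW.kst_le)
  rcases (Nat.Prime.dvd_mul hq).1 hqZ with hq1 | hq1
  · have hq1' : q ∣ Nat.card ↥(kst Ms (kst M K)) := by rw [← h.eq]; exact hq1
    obtain ⟨eN, eK⟩ := Wit.eq_of_dvd hG hU h30 h31 h₁ hW hq hq1' hqd
    subst eN; subst eK
    exact hnP1 h2
  · obtain ⟨eN, eK⟩ := Wit.eq_of_dvd hG hU h30 h31 h₀ hW hq hq1 hqd
    subst eN; subst eK
    exact hnP1 h1

/-- the polygon with two vertices of a genuine pair -/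
theorem Partner.polygon (hG : Cfsg.IsMinSimpleOddOrder G) (h30 : H1430 G) (h31 : H1431 G)
    {M K Ms : Subgroup G} (h : Partner M K Ms) :
    Polygon (K ⊔ kst M K) (fun b : Bool => cond b M Ms) (fun b => cond b K (kst M K))
      (fun b => cond b (kst M K) K) := by
  have h₀ := h.wit
  have h₁ := h.wit' hG h30
  have e := h.eq
  refine ⟨?_, ?_, ?_, ?_, ?_, ?_, ?_⟩
  · rintro (_ | _)
    · show kst M K ⊔ K = K ⊔ kst M K
      exact sup_comm _ _
    · rfl
  · rintro (_ | _)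
    · intro a ha b hb
      exact (h₀.comm b hb a ha).symm
    · exact h₀.comm
  · rintro (_ | _)
    · exact h₀.coprime.symm
    · exact h₀.coprime
  · rintro (_ | _)
    · exact h₁.Z_le
    · exact h₀.Z_le
  · rintro (_ | _)
    · intro g hg
      have := (h31 Ms h.coatom (kst M K) h.hall h₁.ne_bot).1 g hg
      show K ⊓ _ = ⊥
      rw [e]; exact this
    · intro g hg
      exact (h31 M h.coatomM K h.hallK h.ne_bot).1 g hg
  · rintro (_ | _)
    · intro g hg hgZ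
      refine (h31 Ms h.coatom (kst M K) h.hall h₁.ne_bot).2.1 g hg ?_
      intro hgZ'
      apply hgZ
      have hgZ'' : g ∈ kst M K ⊔ kst Ms (kst M K) := hgZ'
      rw [← e, sup_comm] at hgZ''
      exact hgZ''
    · intro g hg hgZ
      exact (h31 M h.coatomM K h.hallK h.ne_bot).2.1 g hg hgZ
  · intro p hp hpd
    rw [← h₀.card_Z] at hpd
    rcases (Nat.Prime.dvd_mul hp).1 hpd with hp1 | hp1
    · exact ⟨false, hp1⟩
    · exact ⟨true, hp1⟩

/-- the set `Ẑ` of a genuine pair -/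
abbrev pairHat (M K : Subgroup G) : Set G :=
  polyHat (K ⊔ kst M K) (fun b : Bool => cond b (kst M K) K)

/-- `|𝒞_G(Ẑ)| > |G| / 2` -/
theorem Partner.card_lt (hG : Cfsg.IsMinSimpleOddOrder G) (h30 : H1430 G) (h31 : H1431 G)
    {M K Ms : Subgroup G} (h : Partner M K Ms) :
    Nat.card G < 2 * Set.ncard (classSupport (pairHat M K)) := by
  have hP := h.polygon hG h30 h31
  have h₀ := h.wit
  rw [pairHat, hP.ncard_classSupport_hat]
  have hle := hP.card_le
  rw [Fintype.sum_bool] at hle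
  simp only [cond_true, cond_false] at hle
  have hZ := h₀.card_Z
  have hodd : ∀ X : Subgroup G, Odd (Nat.card X) := fun X =>
    Odd.of_dvd_nat hG.1 (Subgroup.card_subgroup_dvd_card X)
  have hk1 : Nat.card K ≠ 1 := fun hc => h.ne_bot (Subgroup.card_eq_one.1 hc)
  have hs1 : Nat.card ↥(kst M K) ≠ 1 :=
    fun hc => h.kst_ne_bot hG h30 (Subgroup.card_eq_one.1 hc)
  have hne : Nat.card K ≠ Nat.card ↥(kst M K) := by
    intro he
    have := h₀.coprime
    rw [he, Nat.coprime_self] at this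
    exact hs1 this
  obtain ⟨a, ha⟩ := hodd K
  obtain ⟨b, hb⟩ := hodd (kst M K)
  have hZG : (K ⊔ kst M K).index * Nat.card ↥(K ⊔ kst M K) = Nat.card G :=
    (K ⊔ kst M K).index_mul_card
  have hipos : 0 < (K ⊔ kst M K).index := Nat.pos_of_ne_zero (Subgroup.index_ne_zero_of_finite)
  rw [← hZG, ← hZ]
  rw [← hZ] at hle
  set k := Nat.card K
  set s := Nat.card ↥(kst M K)
  set t := Set.ncard (polyHat (K ⊔ kst M K) (fun b : Bool => cond b (kst M K) K))
  have ha1 : 1 ≤ a := by omega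
  have hb1 : 1 ≤ b := by omega
  have hab : a ≠ b := by omega
  have key : k * s < 2 * t := by
    have h3 : k * s ≤ t + 1 + (s - 1 + (k - 1)) := hle
    have h4 : k * s + 1 ≤ t + k + s := by omega
    rw [ha, hb] at h4 ⊢
    rcases Nat.lt_or_gt_of_ne hab with hlt | hlt
    · nlinarith [Nat.mul_le_mul ha1 hb1]
    · nlinarith [Nat.mul_le_mul ha1 hb1]
  calc (K ⊔ kst M K).index * (k * s) < (K ⊔ kst M K).index * (2 * t) :=
        Nat.mul_lt_mul_of_pos_left key hipos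
    _ = 2 * ((K ⊔ kst M K).index * t) := by ring

theorem orderOf_conj'' (c r : G) : orderOf (c * r * c⁻¹) = orderOf r := by
  have h : SemiconjBy c r (c * r * c⁻¹) := by
    show c * r = c * r * c⁻¹ * c
    group
  exact (h.orderOf_eq c).symm

/-- an element of `Ẑ` is a product of non-identity elements of `K` and `K*` -/
theorem Partner.exists_of_mem_hat (hG : Cfsg.IsMinSimpleOddOrder G) (h30 : H1430 G)
    (h31 : H1431 G) {M K Ms : Subgroup G} (h : Partner M K Ms) {z : G} (hz : z ∈ pairHat M K) :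
    ∃ x ∈ K, x ≠ 1 ∧ ∃ y ∈ kst M K, y ≠ 1 ∧ z = x * y := by
  have h₀ := h.wit
  obtain ⟨x, hx, y, hy, rfl⟩ := exists_mul_of_mem_sup h₀.comm hz.1
  refine ⟨x, hx, ?_, y, hy, ?_, rfl⟩
  · rintro rfl
    apply hz.2 true
    simpa using hy
  · rintro rfl
    apply hz.2 false
    simpa using hx

/-- **B-G 14.7(g)**: a maximal subgroup `H` with `κ(H) ≠ ∅` is conjugate to `M` or to `M*` -/
theorem exists_cj_of_kappa_nonempty (hG : Cfsg.IsMinSimpleOddOrder G) (hU : UniquenessThm G)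
    (h29 : H1429 G) (h30 : H1430 G) (h31 : H1431 G) (h32 : H1432 G) (h77 : H1377 G)
    (hTd : HTdisj G) (hR : HRcop G) {M K Ms : Subgroup G} (h : Partner M K Ms)
    {H : Subgroup G} (hH : IsCoatom H) (hκ : (Cfsg.kappa H).Nonempty) :
    ∃ g : G, H = cj g M ∨ H = cj g Ms := by
  classical
  haveI : Group.IsSolvable ↥H := hG.2.2.2 H hH.1
  obtain ⟨p, hp⟩ := hκ
  obtain ⟨KH, hKH, -⟩ := exists_isPiHallOf_ge (Cfsg.kappa H) H (Y := ⊥) bot_le (by
    intro q hq hd
    rw [Subgroup.card_bot] at hd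
    exact absurd (Nat.dvd_one.1 hd) hq.ne_one)
  have hKH1 : KH ≠ ⊥ := by
    intro hb
    have h1 := Cfsg.Agent.Helper62.isPiHallOf_card_mul_relIndex hKH
    rw [hb, Subgroup.card_bot, one_mul] at h1
    have h2 : ¬ p ∣ KH.relIndex H := hKH.2.2 p hp.1 hp
    rw [hb] at h2
    rw [h1] at h2
    exact h2 hp.2.1
  obtain ⟨Hs, hHs, hHeq, hHhall, -⟩ :=
    exists_partner hG hU h29 h30 h31 h32 h77 hTd hR hH hKH hKH1
  have hP' : Partner H KH Hs := ⟨hH, hKH, hKH1, hHs, hHeq, hHhall⟩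
  -- the two class supports meet
  have hlt := h.card_lt hG h30 h31
  have hlt' := hP'.card_lt hG h30 h31
  have hmeet : ¬ Disjoint (classSupport (pairHat M K)) (classSupport (pairHat H KH)) := by
    intro hd
    have h1 := Set.ncard_union_eq hd (Set.toFinite _) (Set.toFinite _)
    have h2 : (classSupport (pairHat M K) ∪ classSupport (pairHat H KH)).ncard ≤ Nat.card G := by
      rw [← Set.ncard_univ]
      exact Set.ncard_le_ncard (Set.subset_univ _) (Set.toFinite _)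
    omega
  rw [Set.not_disjoint_iff] at hmeet
  obtain ⟨w, ⟨g, z, hz, rfl⟩, ⟨g', z', hz', he⟩⟩ := hmeet
  obtain ⟨x, hx, hx1, y, hy, hy1, rfl⟩ := h.exists_of_mem_hat hG h30 h31 hz
  have h₀ := h.wit
  have h₁ := h.wit' hG h30
  have h₀' := hP'.wit
  have h₁' := hP'.wit' hG h30
  -- `c (x y) c⁻¹ = z' ∈ Z_H`
  have hc : (g'⁻¹ * g) * (x * y) * (g'⁻¹ * g)⁻¹ = z' := by
    have : z' = g'⁻¹ * (g' * z' * g'⁻¹) * g' := by group
    rw [this, ← he]; group
  have hcomm : Commute x y := h₀.comm x hx y hy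
  -- the `K*`-component
  have hy' : y ^ Nat.card K ≠ 1 := pow_card_ne_one h₀.coprime hy hy1
  have hyZ : (g'⁻¹ * g) * y ^ Nat.card K * (g'⁻¹ * g)⁻¹ ∈ KH ⊔ kst H KH := by
    have : (g'⁻¹ * g) * y ^ Nat.card K * (g'⁻¹ * g)⁻¹ = z' ^ Nat.card K := by
      rw [← hc, conj_pow, hcomm.mul_pow, pow_card_eq_one_of_mem hx, one_mul]
    rw [this]
    exact Subgroup.pow_mem _ hz'.1 _
  -- the `K`-component
  have hx' : x ^ Nat.card ↥(kst M K) ≠ 1 := pow_card_ne_one h₀.coprime.symm hx hx1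
  have hxZ : (g'⁻¹ * g) * x ^ Nat.card ↥(kst M K) * (g'⁻¹ * g)⁻¹ ∈ KH ⊔ kst H KH := by
    have : (g'⁻¹ * g) * x ^ Nat.card ↥(kst M K) * (g'⁻¹ * g)⁻¹ = z' ^ Nat.card ↥(kst M K) := by
      rw [← hc, conj_pow, hcomm.mul_pow, pow_card_eq_one_of_mem hy, mul_one]
    rw [this]
    exact Subgroup.pow_mem _ hz'.1 _
  -- primes
  have ho1 : orderOf (y ^ Nat.card K) ≠ 1 := fun ho => hy' (orderOf_eq_one_iff.1 ho)
  obtain ⟨q, hq, hqd⟩ := Nat.exists_prime_and_dvd ho1
  have hqKs : q ∣ Nat.card ↥(kst M K) :=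
    hqd.trans (Subgroup.orderOf_dvd_natCard _ ((kst M K).pow_mem hy _))
  have hqZH : q ∣ Nat.card KH * Nat.card ↥(kst H KH) := by
    rw [h₀'.card_Z]
    refine hqd.trans ?_
    have := Subgroup.orderOf_dvd_natCard _ hyZ
    rwa [orderOf_conj''] at this
  have ho2 : orderOf (x ^ Nat.card ↥(kst M K)) ≠ 1 := fun ho => hx' (orderOf_eq_one_iff.1 ho)
  obtain ⟨r, hr, hrd⟩ := Nat.exists_prime_and_dvd ho2
  have hrK : r ∣ Nat.card ↥(kst Ms (kst M K)) := by
    rw [← h.eq]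
    exact hrd.trans (Subgroup.orderOf_dvd_natCard _ (K.pow_mem hx _))
  have hrZH : r ∣ Nat.card KH * Nat.card ↥(kst H KH) := by
    rw [h₀'.card_Z]
    refine hrd.trans ?_
    have := Subgroup.orderOf_dvd_natCard _ hxZ
    rwa [orderOf_conj''] at this
  have hσ : ∀ {N KN : Subgroup G} {t : ℕ}, t.Prime → t ∣ Nat.card ↥(kst N KN) →
      t ∈ Cfsg.sigma N := fun ht hd =>
    primes_sigmaCore _ _ ht (hd.trans (Subgroup.card_dvd_of_le inf_le_left))
  rcases (Nat.Prime.dvd_mul hq).1 hqZH with hq1 | hq1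
  · rcases (Nat.Prime.dvd_mul hr).1 hrZH with hr1 | hr1
    · -- both primes in `σ(Hs)`: `M` and `Ms` conjugate
      exfalso
      rw [hHeq] at hq1 hr1
      obtain ⟨n, hn⟩ := exists_cj_eq_of_dvd_card_kstar hG hU h31 h.coatomM h.hallK h.ne_bot hq
        hqKs hHs (hσ hq hq1)
      obtain ⟨n', hn'⟩ := exists_cj_eq_of_dvd_card_kstar hG hU h31 h.coatom h.hall
        h₁.ne_bot hr hrK hHs (hσ hr hr1)
      apply h.nconj (n' * n⁻¹)
      rw [cj_mul, ← hn, cj_inv_cj, hn']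
    · obtain ⟨n', hn'⟩ := exists_cj_eq_of_dvd_card_kstar hG hU h31 h.coatom h.hall
        h₁.ne_bot hr hrK hH (hσ hr hr1)
      refine ⟨n'⁻¹, Or.inr ?_⟩
      rw [← hn', cj_inv_cj]
  · obtain ⟨n, hn⟩ := exists_cj_eq_of_dvd_card_kstar hG hU h31 h.coatomM h.hallK h.ne_bot hq
      hqKs hH (hσ hq hq1)
    refine ⟨n⁻¹, Or.inl ?_⟩
    rw [← hn, cj_inv_cj]

end Cfsg.Agent.Helper48.BG147
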