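import Mathlib
import Cfsg.Prelude.Def_OddOrderLocal
import Cfsg.Agent.S1415
import Cfsg.Agent.Helper60.BGAsmD
import Cfsg.Agent.Helper67.CyclicSub
import Cfsg.Agent.Helper48.BG147F

set_option autoImplicit false
set_option linter.unusedSectionVars false
set_option linter.unusedVariables false
set_option linter.style.haveILetI false

/-!
# Every Hall `κ(M)`-subgroup is cyclic (statement S1351) (helper48)

* `isCyclic_of_not_P1` (A1): if `M` is not of type `𝒫₁` then `K` is cyclic (S1415 + S1430(2)).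
* `isZGroup_kappa_hall`: a `κ(M)`-subgroup of `M` has cyclic Sylow subgroups.
* `isCyclic_kappa_hall`: S1351, from the count.
-/

namespace Cfsg.Agent.Helper48.BG147

open Cfsg Cfsg.Agent.Helper29.BG10 Cfsg.Agent.Helper29.BG11 Cfsg.Agent.Helper68.BG12
  Cfsg.Agent.Helper71.BGHall Cfsg.Agent.Helper71.BG11 Cfsg.Agent.Helper48.BG142
open scoped Pointwise commutatorElement

universe u

variable {G : Type u} [Group G] [Finite G]

/-- a `κ(M)`-subgroup of `M` has cyclic Sylow subgroups -/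
theorem isZGroup_of_kappa {M K : Subgroup G} (hKM : K ≤ M)
    (hKκ : ∀ p : ℕ, p.Prime → p ∣ Nat.card K → p ∈ Cfsg.kappa M) : IsZGroup K := by
  refine ⟨fun p hp P => ?_⟩
  haveI : Fact p.Prime := ⟨hp⟩
  by_cases hd : p ∣ Nat.card K
  · have hpκ := hKκ p hp hd
    -- the image of `P` in `M` lies in a Sylow `p`-subgroup of `M`, which is cyclic
    let f : ↥K →* ↥M := Subgroup.inclusion hKM
    have hf : Function.Injective f := Subgroup.inclusion_injective hKM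
    have hPp : IsPGroup p ((P : Subgroup K).map f) := P.isPGroup'.map f
    obtain ⟨Q, hQ⟩ := hPp.exists_le_sylow
    haveI : IsCyclic (Q : Subgroup M) := (hpκ.2.2.2 Q).1
    haveI : IsCyclic ((P : Subgroup K).map f) :=
      isCyclic_of_injective (Subgroup.inclusion hQ) (Subgroup.inclusion_injective hQ)
    exact isCyclic_of_injective ((P : Subgroup K).equivMapOfInjective f hf).toMonoidHom
      ((P : Subgroup K).equivMapOfInjective f hf).injective
  · have h1 : Nat.card (P : Subgroup K) = 1 := by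
      obtain ⟨n, hn⟩ := IsPGroup.iff_card.1 P.isPGroup'
      rcases Nat.eq_zero_or_pos n with h0 | h0
      · rw [hn, h0, pow_zero]
      · exfalso
        apply hd
        have : p ∣ Nat.card (P : Subgroup K) := by rw [hn]; exact dvd_pow_self p h0.ne'
        exact this.trans (Subgroup.card_subgroup_dvd_card _)
    haveI : Subsingleton (P : Subgroup K) := (Nat.card_eq_one_iff_unique.1 h1).1
    exact isCyclic_of_subsingleton

/-- `κ(M) ⊆ τ₁(M) ∪ τ₃(M)` -/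
theorem kappa_subset_tau13 {M : Subgroup G} {p : ℕ} (hp : p ∈ Cfsg.kappa M) :
    p ∈ Cfsg.tau1 M ∨ p ∈ Cfsg.tau3 M := by
  haveI : Fact p.Prime := ⟨hp.1⟩
  have hrk : Cfsg.PRankLE p 1 ↥M := pRankLE_one_of_cyclic_sylow (fun P => (hp.2.2.2 P).1)
  by_cases hd : p ∣ Nat.card ↥⁅M, M⁆
  · exact Or.inr ⟨hp.1, hp.2.2.1, hd, hrk⟩
  · exact Or.inl ⟨hp.1, hp.2.2.1, hp.2.1, hd, hrk⟩

/-- **(A1)**: if `M` is not of type `𝒫₁` then every Hall `κ(M)`-subgroup is cyclic -/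
theorem isCyclic_of_not_P1 (hG : Cfsg.IsMinSimpleOddOrder G) (hU : UniquenessThm G)
    (h30 : H1430 G) {N K : Subgroup G} (hN : IsCoatom N)
    (hK : Cfsg.IsPiHallOf (Cfsg.kappa N) K N) (hK1 : K ≠ ⊥)
    (hnP1 : Nat.card N ≠ Nat.card ↥(Cfsg.sigmaCore N) * Nat.card K) : IsCyclic K := by
  classical
  haveI : Group.IsSolvable ↥N := hG.2.2.2 N hN.1
  have hnall : ¬ (∀ q : ℕ, q.Prime → q ∣ Nat.card N → q ∉ Cfsg.sigma N → q ∈ Cfsg.kappa N) :=
    fun hall => hnP1 (card_eq_of_forall_mem hG hU hN hK hall)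
  push_neg at hnall
  obtain ⟨q, hq, hqN, hqσ, hqκ⟩ := hnall
  obtain ⟨-, ⟨U₁, hU₁c, hU₁H, hKU₁, hsemi⟩, -⟩ := h30 N hN K hK hK1
  have hqU : q ∣ Nat.card U₁ := by
    have h1 := Cfsg.Agent.Helper62.isPiHallOf_card_mul_relIndex hU₁H
    have h2 : ¬ q ∣ U₁.relIndex N := hU₁H.2.2 q hq ⟨hq, hqκ, hqσ⟩
    rw [← h1] at hqN
    exact ((Nat.Prime.dvd_mul hq).1 hqN).resolve_right h2
  have hU₁1 : U₁ ≠ ⊥ := by
    intro hb
    rw [hb, Subgroup.card_bot] at hqU
    exact hq.one_lt.ne' (Nat.dvd_one.1 hqU)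
  obtain ⟨⟨hSN, hSpi, hSidx⟩, -, -⟩ := thm_10_2_sigma hG hU N hN
  have hnorm := Cfsg.Agent.Helper29.BG11.le_normalizer_sigmaCore N
  have hcopUK : (Nat.card U₁).Coprime (Nat.card K) :=
    Nat.coprime_of_dvd fun r hr h1 h2 => (hU₁H.2.1 r hr h1).2.1 (hK.2.1 r hr h2)
  have hEN : K ⊔ U₁ ≤ N := sup_le hK.1 hU₁H.1
  have hcardE : Nat.card ↥(K ⊔ U₁) = Nat.card K * Nat.card U₁ := by
    have h1 := Cfsg.Agent.Helper10.card_sup_mul_card_inf K U₁ hKU₁
    rw [inf_eq_bot_of_coprime hcopUK.symm, Subgroup.card_bot, mul_one] at h1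
    exact h1
  have hcopS : (Nat.card ↥(K ⊔ U₁)).Coprime (Nat.card ↥(Cfsg.sigmaCore N)) := by
    rw [hcardE]
    apply Nat.Coprime.mul_left
    · exact Nat.coprime_of_dvd fun r hr h1 h2 => (hK.2.1 r hr h1).2.2.1
        (prime_mem_sigma_of_dvd_card_sigmaCore N hr h2)
    · exact Nat.coprime_of_dvd fun r hr h1 h2 => (hU₁H.2.1 r hr h1).2.2
        (prime_mem_sigma_of_dvd_card_sigmaCore N hr h2)
  -- `E = K U₁` is a complement of `N_σ`
  have hE : Cfsg.IsComplIn (K ⊔ U₁) (Cfsg.sigmaCore N) N := by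
    refine ⟨hEN, hSN, inf_eq_bot_of_coprime hcopS, ?_⟩
    have hNle : N ≤ (K ⊔ U₁) ⊔ Cfsg.sigmaCore N := by
      apply Cfsg.Agent.Helper60.BGAsm.le_sup_of_hall_cover
      intro r hr
      by_cases hrN : r ∣ Nat.card N
      · by_cases hrσ : r ∈ Cfsg.sigma N
        · exact ⟨_, le_sup_right, hSidx r hr hrσ⟩
        · by_cases hrκ : r ∈ Cfsg.kappa N
          · exact ⟨K, le_sup_left.trans le_sup_left, hK.2.2 r hr hrκ⟩
          · exact ⟨U₁, le_sup_right.trans le_sup_left, hU₁H.2.2 r hr ⟨hr, hrκ, hrσ⟩⟩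
      · refine ⟨K, le_sup_left.trans le_sup_left, fun hd => hrN (hd.trans ?_)⟩
        exact Subgroup.relIndex_dvd_card _ _
    intro m hm
    have hm' := hNle hm
    have hEn : K ⊔ U₁ ≤ Subgroup.normalizer ((Cfsg.sigmaCore N : Subgroup G) : Set G) :=
      hEN.trans hnorm
    rw [← SetLike.mem_coe, Subgroup.coe_mul_of_left_le_normalizer_right _ _ hEn] at hm'
    obtain ⟨e, he, s, hs, rfl⟩ := hm'
    exact ⟨e, he, s, hs, rfl⟩
  haveI : Group.IsSolvable ↥(K ⊔ U₁) :=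
    solvable_of_solvable_injective (Subgroup.inclusion_injective hEN)
  obtain ⟨-, hE1, hE3⟩ := Cfsg.Agent.S1415.result hG N hN (K ⊔ U₁) hE
  -- a Hall `τ₃`-subgroup of `E`
  obtain ⟨E₃, hE₃, -⟩ := exists_isPiHallOf_ge (Cfsg.tau3 N) (K ⊔ U₁) (Y := ⊥) bot_le (by
    intro r hr hd
    rw [Subgroup.card_bot] at hd
    exact absurd (Nat.dvd_one.1 hd) hr.ne_one)
  obtain ⟨hE₃c, -, hE₃n⟩ := hE3 E₃ hE₃
  -- `K ∩ E₃ = 1`
  have hK₃ : K ⊓ E₃ = ⊥ := by
    by_contra hne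
    -- `E` normalizes `K ∩ E₃` (a subgroup of the cyclic normal subgroup `E₃`)
    have hnormK₃ : K ⊔ U₁ ≤ Subgroup.normalizer ((K ⊓ E₃ : Subgroup G) : Set G) := by
      intro e he
      have h1 : cj e (K ⊓ E₃) ≤ E₃ := by
        have : cj e E₃ = E₃ := cj_eq_of_mem_normalizer (hE₃n he)
        exact (cj_mono (inf_le_right : K ⊓ E₃ ≤ E₃)).trans (le_of_eq this)
      haveI := hE₃c
      have h2 : cj e (K ⊓ E₃) = K ⊓ E₃ :=
        Cfsg.Agent.Helper67.eq_of_card_eq_of_le_cyclic E₃ _ _ h1 inf_le_right (card_cj e _)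
      rw [Subgroup.mem_normalizer_iff_map_conj_eq]
      exact h2
    -- `U₁` and `K ∩ E₃` commute elementwise
    obtain ⟨k, hk, hk1⟩ := exists_mem_ne_one hne
    have hcomm : ∀ u ∈ U₁, u * k = k * u := by
      intro u hu
      have h1 : u * k * u⁻¹ ∈ K ⊓ E₃ :=
        (Subgroup.mem_normalizer_iff.1 (hnormK₃ (Subgroup.mem_sup_right hu)) k).1 hk
      have h2 : k * u⁻¹ * k⁻¹ ∈ U₁ := by
        have := (Subgroup.mem_normalizer_iff.1 (hKU₁ hk.1) u⁻¹).1 (U₁.inv_mem hu)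
        exact this
      have h3 : u * k * u⁻¹ * k⁻¹ ∈ (K ⊓ E₃) ⊓ U₁ := by
        refine ⟨(K ⊓ E₃).mul_mem h1 ((K ⊓ E₃).inv_mem hk), ?_⟩
        have : u * k * u⁻¹ * k⁻¹ = u * (k * u⁻¹ * k⁻¹) := by group
        rw [this]
        exact U₁.mul_mem hu h2
      have h4 : (K ⊓ E₃) ⊓ U₁ = ⊥ := by
        rw [eq_bot_iff]
        have := inf_eq_bot_of_coprime hcopUK.symm
        rw [← this]
        exact inf_le_inf inf_le_left le_rfl
      rw [h4, Subgroup.mem_bot] at h3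
      have : u * k = (u * k * u⁻¹ * k⁻¹) * (k * u) := by group
      rw [this, h3, one_mul]
    have h5 : U₁ ≤ U₁ ⊓ Subgroup.centralizer ({k} : Set G) := by
      refine le_inf le_rfl ?_
      intro u hu
      rw [Subgroup.mem_centralizer_iff]
      intro x hx
      rw [Set.mem_singleton_iff.1 hx]
      exact (hcomm u hu).symm
    rw [hsemi k hk.1 hk1] at h5
    exact hU₁1 (le_bot_iff.1 h5)
  -- every prime of `|K|` is in `τ₁(N)`
  have hKτ1 : ∀ r : ℕ, r.Prime → r ∣ Nat.card K → r ∈ Cfsg.tau1 N := by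
    intro r hr hrd
    rcases kappa_subset_tau13 (hK.2.1 r hr hrd) with h | h
    · exact h
    · exfalso
      haveI : Fact r.Prime := ⟨hr⟩
      obtain ⟨k, hk⟩ := exists_prime_orderOf_dvd_card' (G := K) r hrd
      have hk1 : (k : G) ≠ 1 := by
        intro h1
        have : k = 1 := Subtype.ext h1
        rw [this, orderOf_one] at hk
        exact hr.ne_one hk.symm
      have hle : Subgroup.zpowers (k : G) ≤ E₃ := by
        apply Cfsg.Agent.Helper60.BGAsm.le_of_coprime_relIndex hE₃n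
          (by rw [Subgroup.zpowers_le]; exact Subgroup.mem_sup_left k.2)
        rw [Nat.card_zpowers, Subgroup.orderOf_coe, hk]
        exact (Nat.Prime.coprime_iff_not_dvd hr).2 (hE₃.2.2 r hr h)
      have : (k : G) ∈ K ⊓ E₃ := ⟨k.2, hle (Subgroup.mem_zpowers _)⟩
      rw [hK₃, Subgroup.mem_bot] at this
      exact hk1 this
  obtain ⟨E₁, hE₁, hKE₁⟩ := exists_isPiHallOf_ge (Cfsg.tau1 N) (K ⊔ U₁) (Y := K) le_sup_left hKτ1
  haveI := hE1 E₁ hE₁
  exact isCyclic_of_injective (Subgroup.inclusion hKE₁) (Subgroup.inclusion_injective hKE₁)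

/-- **S1351**: every Hall `κ(M)`-subgroup of a maximal subgroup `M` is cyclic -/
theorem isCyclic_kappa_hall (hG : Cfsg.IsMinSimpleOddOrder G) (hU : UniquenessThm G)
    (h29 : H1429 G) (h30 : H1430 G) (h31 : H1431 G) (h32 : H1432 G) (h77 : H1377 G)
    (hTd : HTdisj G) (hR : HRcop G) {M K : Subgroup G} (hM : IsCoatom M)
    (hK : Cfsg.IsPiHallOf (Cfsg.kappa M) K M) : IsCyclic K := by
  by_cases hK1 : K = ⊥
  · rw [hK1]; exact inferInstance
  by_contra hnc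
  -- `M` is of type `𝒫₁`
  have hP1 : Nat.card M = Nat.card ↥(Cfsg.sigmaCore M) * Nat.card K := by
    by_contra hne
    exact hnc (isCyclic_of_not_P1 hG hU h30 hM hK hK1 hne)
  have h₀ : Wit (K ⊔ kst M K) M K := ⟨hM, hK, hK1, rfl⟩
  obtain ⟨N, K', hW, hnP1⟩ := exists_not_P1 hG hU h30 h31 h32 h77 hTd hR h₀
  obtain ⟨hp, hnil⟩ := card_prime_of_not_P1 hG hU h29 h30 hW.coatom hW.hall hW.ne_bot hnP1
  obtain ⟨H, K₁, hW₁, e2, e1, hnconj⟩ := hW.exists_pair hG hU h30 h31 h32 hp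
  have hKs1 : kst M K ≠ ⊥ := kstar_ne_bot hG h30 hM hK hK1
  have hc : Nat.card ↥(kst M K) ≠ 1 := fun hc => hKs1 (Subgroup.card_eq_one.1 hc)
  obtain ⟨q, hq, hqd⟩ := Nat.exists_prime_and_dvd hc
  have hqZ : q ∣ Nat.card K' * Nat.card ↥(kst N K') := by
    rw [hW.card_Z]
    exact hqd.trans (Subgroup.card_dvd_of_le le_sup_right)
  rcases (Nat.Prime.dvd_mul hq).1 hqZ with hq1 | hq1
  · -- `M = H`, `K = K₁ = C_{N_σ}(K')` is nilpotent with cyclic Sylow subgroups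
    rw [← e1] at hq1
    obtain ⟨eH, eK⟩ := Wit.eq_of_dvd hG hU h30 h31 h₀ hW₁ hq hqd hq1
    subst eH
    subst eK
    apply hnc
    have hle : K₁ ≤ Cfsg.sigmaCore N := by rw [e2]; exact inf_le_left
    haveI : Group.IsNilpotent ↥(Cfsg.sigmaCore N) := hnil
    haveI : Group.IsNilpotent ↥K₁ :=
      Subgroup.isNilpotent_of_ker_le_center (Subgroup.inclusion hle)
        (by rw [(MonoidHom.ker_eq_bot_iff _).2 (Subgroup.inclusion_injective hle)]; exact bot_le)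
    haveI : IsZGroup ↥K₁ := isZGroup_of_kappa hK.1 hK.2.1
    exact inferInstance
  · -- `M = N`: but `N` is not of type `𝒫₁`
    obtain ⟨eN, eK⟩ := Wit.eq_of_dvd hG hU h30 h31 h₀ hW hq hqd hq1
    subst eN
    subst eK
    exact hnP1 hP1

end Cfsg.Agent.Helper48.BG147
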