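import Mathlib
import Cfsg.Prelude.Def_OddOrderLocal
import Cfsg.Agent.S1417
import Cfsg.Agent.S1419
import Cfsg.Agent.Helper52.NormalRankTwo
import Cfsg.Agent.Helper23.Conn
import Cfsg.Agent.Helper23.RankTwo
import Cfsg.Agent.Helper29.BG10F
import Cfsg.Agent.Helper29.BG11C
import Cfsg.Agent.Helper67.CyclicSub
import Cfsg.Agent.Helper71.BGHall
import Cfsg.Agent.Helper48.BG147A

/-!
# Bender-Glauberman Theorem 14.7(a) (helper48), "Lemma U"

For a maximal subgroup `M` with a nontrivial Hall `κ(M)`-subgroup `K` and a subgroup `X` of prime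
order of `K* = C_{M_σ}(K)`, `M` is the only maximal subgroup containing `C_G(X)`.
-/

set_option autoImplicit false

namespace Cfsg.Agent.Helper48.BG147

open Cfsg Cfsg.Agent.Helper29.BG10 Cfsg.Agent.Helper29.BG11 Cfsg.Agent.Helper48.BG142

universe u

variable {G : Type u} [Group G] [Finite G]

/-- a subgroup of prime order is contained in its centralizer -/
theorem le_centralizer_self_of_prime_card {X : Subgroup G} (hXp : (Nat.card X).Prime) :
    X ≤ Subgroup.centralizer (X : Set G) := by
  haveI : Fact (Nat.card X).Prime := ⟨hXp⟩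
  haveI : IsCyclic X := isCyclic_of_prime_card rfl
  intro x hx
  rw [Subgroup.mem_centralizer_iff]
  intro y hy
  have h := (IsCyclic.isMulCommutative (α := X)).is_comm.comm ⟨y, hy⟩ ⟨x, hx⟩
  exact congrArg Subtype.val h

/-- a non-cyclic... : in a `q`-group `R` (`q` odd) with a subgroup `X` of order `q` not central in `R`,
the centralizer `C_R(X)` is not cyclic -/
theorem not_isCyclic_centralizer_of_not_le {q : ℕ} [Fact q.Prime] {R X : Subgroup G}
    (hR : IsPGroup q R) (hXR : X ≤ R) (hXc : Nat.card X = q)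
    (hnc : ¬ R ≤ Subgroup.centralizer (X : Set G)) :
    ¬ IsCyclic ↥(R ⊓ Subgroup.centralizer (X : Set G)) := by
  intro hcyc
  have hq : q.Prime := Fact.out
  have hXp : (Nat.card X).Prime := by rw [hXc]; exact hq
  have hX1 : X ≠ ⊥ := ne_bot_of_prime_card hXp
  haveI : Nontrivial ↥R := by
    obtain ⟨x, hx, hx1⟩ := exists_mem_ne_one hX1
    exact ⟨⟨⟨x, hXR hx⟩, 1, fun h => hx1 (congrArg Subtype.val h)⟩⟩
  haveI := hR.center_nontrivial
  have hZq : IsPGroup q ↥(Subgroup.center ↥R) := hR.to_subgroup _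
  have hd : q ∣ Nat.card ↥(Subgroup.center ↥R) := by
    obtain ⟨n, hn⟩ := hZq.exists_card_eq
    rw [hn]
    rcases n with _ | n
    · exfalso
      rw [pow_zero] at hn
      have := (Subgroup.card_eq_one.1 hn)
      exact (Subgroup.nontrivial_iff_ne_bot _).1 inferInstance this
    · exact dvd_pow_self q (Nat.succ_ne_zero n)
  obtain ⟨z, hz⟩ := exists_prime_orderOf_dvd_card' (G := ↥(Subgroup.center ↥R)) q hd
  set z' : G := ((z : ↥R) : G) with hz'
  have hzo : orderOf z' = q := by
    rw [hz', Subgroup.orderOf_coe, Subgroup.orderOf_coe, hz]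
  have hzR : z' ∈ R := (z : ↥R).2
  have hzc : ∀ r ∈ R, r * z' = z' * r := by
    intro r hr
    have h := (Subgroup.mem_center_iff.1 z.2) ⟨r, hr⟩
    exact congrArg Subtype.val h
  have hzC : Subgroup.zpowers z' ≤ R ⊓ Subgroup.centralizer (X : Set G) := by
    rw [Subgroup.zpowers_le]
    refine Subgroup.mem_inf.2 ⟨hzR, ?_⟩
    rw [Subgroup.mem_centralizer_iff]
    intro x hx
    exact hzc x (hXR hx)
  have hXC : X ≤ R ⊓ Subgroup.centralizer (X : Set G) :=
    le_inf hXR (le_centralizer_self_of_prime_card hXp)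
  have heq : Subgroup.zpowers z' = X :=
    Cfsg.Agent.Helper67.eq_of_card_eq_of_le_cyclic (R ⊓ Subgroup.centralizer (X : Set G))
      _ _ hzC hXC (by rw [Nat.card_zpowers, hzo, hXc])
  apply hnc
  intro r hr
  rw [Subgroup.mem_centralizer_iff]
  intro x hx
  have hx' : x ∈ Subgroup.zpowers z' := by rw [heq]; exact hx
  obtain ⟨k, rfl⟩ := Subgroup.mem_zpowers_iff.1 hx'
  have hc : Commute r z' := hzc r hr
  exact (hc.zpow_right k).eq.symm

/-- **Lemma U** (B-G 14.7(a)): for `X ≤ K*` of prime order, `M` is the only maximal subgroup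
containing `C_G(X)`. -/
theorem lemmaU (hG : Cfsg.IsMinSimpleOddOrder G) (hU : UniquenessThm G) (h31 : H1431 G)
    {M K : Subgroup G} (hM : IsCoatom M) (hK : Cfsg.IsPiHallOf (Cfsg.kappa M) K M) (hK1 : K ≠ ⊥)
    {X : Subgroup G} (hX : X ≤ kst M K) (hXp : (Nat.card X).Prime) :
    Subgroup.centralizer (X : Set G) ≤ M ∧
      ∀ L : Subgroup G, IsCoatom L → Subgroup.centralizer (X : Set G) ≤ L → L = M := by
  classical
  have hX1 : X ≠ ⊥ := ne_bot_of_prime_card hXp
  obtain ⟨x, hxX, hx1⟩ := exists_mem_ne_one hX1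
  have hCM : Subgroup.centralizer (X : Set G) ≤ M := by
    refine le_trans ?_ (centralizer_le_of_mem_kstar h31 hM hK hK1 (hX hxX) hx1)
    exact Subgroup.centralizer_le (by
      intro y hy
      rw [Set.mem_singleton_iff] at hy
      rw [hy]; exact hxX)
  refine ⟨hCM, ?_⟩
  intro L hL hCL
  set q := Nat.card X with hq
  haveI : Fact q.Prime := ⟨hXp⟩
  have hqp : q.Prime := hXp
  have hXq : IsPGroup q X := IsPGroup.of_card (n := 1) (by rw [pow_one])
  have hqd : q ∣ Nat.card ↥(kst M K) := Subgroup.card_dvd_of_le hX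
  have hXX : X ≤ Subgroup.centralizer (X : Set G) := le_centralizer_self_of_prime_card hXp
  have hXL : X ≤ L := hXX.trans hCL
  by_cases hqL : q ∈ Cfsg.sigma L
  · -- `L` is conjugate to `M`
    obtain ⟨n, hn⟩ := exists_cj_eq_of_dvd_card_kstar hG hU h31 hM hK hK1 hqp hqd hL hqL
    have hL' : L = cj n⁻¹ M := by rw [← hn, ← cj_mul, inv_mul_cancel, cj_one]
    have hnM : n⁻¹ ∈ M := by
      by_contra hnM
      have h3 := (h31 M hM K hK hK1).1 n⁻¹ hnM
      have : x ∈ kst M K ⊓ M.map (MulAut.conj n⁻¹).toMonoidHom := by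
        refine ⟨hX hxX, ?_⟩
        have : x ∈ cj n⁻¹ M := by rw [← hL']; exact hXL hxX
        exact this
      rw [h3, Subgroup.mem_bot] at this
      exact hx1 this
    rw [hL', cj_eq_self_of_mem hnM]
  · -- `q ∉ σ(L)`
    have hXσ : X ≤ Cfsg.sigmaCore M := hX.trans inf_le_left
    have hX'q : IsPGroup q (X.subgroupOf (Cfsg.sigmaCore M)) :=
      hXq.comap_of_injective _ (Subgroup.subtype_injective _)
    obtain ⟨S, hS⟩ := hX'q.exists_le_sylow
    set R : Subgroup G := (S : Subgroup ↥(Cfsg.sigmaCore M)).map (Cfsg.sigmaCore M).subtype with hR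
    obtain ⟨hRU, hRM, -⟩ := (h31 M hM K hK hK1).2.2.1 q hqp hqd S
    have hRq : IsPGroup q R := S.isPGroup'.map _
    have hXR : X ≤ R := by
      intro y hy
      exact ⟨⟨y, hXσ hy⟩, hS (Subgroup.mem_subgroupOf.2 hy), rfl⟩
    obtain ⟨M', ⟨hM'c, hRM'⟩, huniq⟩ := hRU
    have hMM' : M = M' := huniq M ⟨hM, hRM⟩
    by_cases hRc : R ≤ Subgroup.centralizer (X : Set G)
    · have : L = M' := huniq L ⟨hL, hRc.trans hCL⟩
      rw [this, hMM']
    · exfalso
      have hLM : M ≠ L := by
        intro h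
        apply hqL
        rw [← h]
        exact primes_sigmaCore M q hqp (hqd.trans (Subgroup.card_dvd_of_le inf_le_left))
      have hq2 : q ≠ 2 := by
        intro h2
        have hodd : Odd (Nat.card G) := hG.1
        have : q ∣ Nat.card G := (Subgroup.card_subgroup_dvd_card X)
        rw [h2] at this
        exact (Nat.not_even_iff_odd.2 hodd) (even_iff_two_dvd.2 this)
      set C : Subgroup G := R ⊓ Subgroup.centralizer (X : Set G) with hC
      have hCq : IsPGroup q C := hRq.to_le inf_le_left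
      have hCnc : ¬ IsCyclic ↥C := not_isCyclic_centralizer_of_not_le hRq hXR rfl hRc
      have hCL' : C ≤ L := inf_le_right.trans hCL
      have hCM' : C ≤ M := inf_le_left.trans hRM
      have hXC : X ≤ C := le_inf hXR hXX
      -- an elementary abelian subgroup of order `q ^ 2` of `C`
      have hTnc : ¬ IsCyclic ↥(⊤ : Subgroup ↥C) := by
        intro h
        exact hCnc (isCyclic_of_surjective (Subgroup.topEquiv (G := ↥C)).toMonoidHom
          (Subgroup.topEquiv (G := ↥C)).surjective)
      have hCq' : IsPGroup q ↥C := hCq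
      obtain ⟨A', -, -, hA'e, hA'c⟩ :=
        Cfsg.Agent.Helper52.exists_normal_elementaryAbelian_sq hq2 hCq' (⊤ : Subgroup ↥C) hTnc
      set A : Subgroup G := A'.map C.subtype with hA
      have hAe : Cfsg.IsElementaryAbelian q A :=
        Cfsg.Agent.Helper23.isElementaryAbelian_map _ hA'e
      have hAc : Nat.card A = q ^ 2 := by
        rw [hA, Subgroup.card_map_of_injective C.subtype_injective, hA'c]
      have hAC : A ≤ C := Subgroup.map_subtype_le _
      -- `q ∈ τ₂(L)`
      have hr1 : ¬ Cfsg.PRankLE q 1 ↥L := by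
        rw [Cfsg.Agent.Helper23.not_pRankLE_subgroup_iff]
        refine ⟨A, hAC.trans hCL', hAe, ?_⟩
        rw [hAc, pow_one]
        nlinarith [hqp.two_le]
      have hr2 : Cfsg.PRankLE q 2 ↥L := by
        by_contra hr2
        exact hqL (alpha_subset_sigma hG hU hL ⟨hqp, hr2⟩)
      have hτ2 : q ∈ Cfsg.tau2 L := ⟨hqp, hqL, hr2, hr1⟩
      -- a complement of `L_σ` in `L` containing `C`
      obtain ⟨E, hE, hCE⟩ := Cfsg.Agent.Helper71.BGHall.exists_isComplIn_sigmaCore_ge hG hU hL
        (Y := C) hCL' (by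
          intro r hr hrd
          obtain ⟨n, hn⟩ := hCq.exists_card_eq
          rw [hn] at hrd
          have : r = q := (Nat.prime_dvd_prime_iff_eq hr hqp).1 (hr.dvd_of_dvd_pow hrd)
          rw [this]; exact hqL)
      -- the Sylow `q`-subgroups of `G` are nonabelian
      have hSyl : ∀ P : Sylow q G, ¬ IsMulCommutative (P : Subgroup G) := by
        intro P hP
        obtain ⟨Q, hQ⟩ := hRq.exists_le_sylow
        have e : ↥(Q : Subgroup G) ≃* ↥(P : Subgroup G) := Sylow.equiv Q P
        apply hRc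
        intro r hr
        rw [Subgroup.mem_centralizer_iff]
        intro y hy
        have h1 := hP.is_comm.comm (e ⟨y, hQ (hXR hy)⟩) (e ⟨r, hQ hr⟩)
        rw [← map_mul, ← map_mul] at h1
        exact congrArg Subtype.val (e.injective h1)
      have h19 := Cfsg.Agent.S1419.result hG L hL E hE q hτ2 hSyl A ⟨hAC.trans hCE, hAe, hAc⟩
      have h17 := Cfsg.Agent.S1417.result hG L hL q hτ2 A ⟨hAC.trans hCL', hAe, hAc⟩
      by_cases hne : X = A ⊓ Subgroup.centralizer (Cfsg.sigmaCore L : Set G)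
      · have hXcent : X ≤ Subgroup.centralizer (Cfsg.sigmaCore L : Set G) := by
          rw [hne]; exact inf_le_right
        have hσC : Cfsg.sigmaCore L ≤ Subgroup.centralizer (X : Set G) :=
          Subgroup.le_centralizer_iff.1 hXcent
        have hbot := h17.2.2.2.2.1 M hM hLM (hAC.trans hCM')
        have : Cfsg.sigmaCore L ≤ ⊥ := by
          rw [← hbot]
          exact le_inf le_rfl (hσC.trans hCM)
        exact sigmaCore_ne_bot hG hU hL (le_bot_iff.1 this)
      · exact (h19.2.2 X (hXC.trans hCE) rfl hne).2 hCL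

end Cfsg.Agent.Helper48.BG147
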