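import Mathlib
import Cfsg.Prelude.Def_OddOrderLocal
import Cfsg.Agent.Helper48.BG147G
import Cfsg.Agent.Helper48.BG147H

/-!
# Bender-Glauberman Theorem 14.7 (helper48): the four statements S1351, S1366, S1367, S1369,
from the statement-shaped hypotheses `H1429 … HRcop`.
-/

set_option autoImplicit false

namespace Cfsg.Agent.Helper48.BG147

open Cfsg Cfsg.Agent.Helper29.BG10 Cfsg.Agent.Helper29.BG11 Cfsg.Agent.Helper48.BG142
  Cfsg.Agent.Helper71.BGHall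

universe u

variable {G : Type u} [Group G] [Finite G]

/-- **S1351** -/
theorem core_1351 (hG : Cfsg.IsMinSimpleOddOrder G) (hU : UniquenessThm G)
    (h29 : H1429 G) (h30 : H1430 G) (h31 : H1431 G) (h32 : H1432 G) (h77 : H1377 G)
    (hTd : HTdisj G) (hR : HRcop G) (M : Subgroup G) (hM : IsCoatom M) :
    (∃ K : Subgroup G, Cfsg.IsPiHallOf (Cfsg.kappa M) K M) ∧
      ∀ K : Subgroup G, Cfsg.IsPiHallOf (Cfsg.kappa M) K M → IsCyclic K := by
  haveI : Group.IsSolvable ↥M := hG.2.2.2 M hM.1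
  refine ⟨?_, fun K hK => isCyclic_kappa_hall hG hU h29 h30 h31 h32 h77 hTd hR hM hK⟩
  obtain ⟨K, hK, -⟩ := exists_isPiHallOf_ge (Cfsg.kappa M) M (Y := ⊥) bot_le (by
    intro q hq hd
    rw [Subgroup.card_bot] at hd
    exact absurd (Nat.dvd_one.1 hd) hq.one_lt.ne')
  exact ⟨K, hK⟩

/-- a subgroup of prime order in a nontrivial subgroup -/
theorem exists_le_prime_card {Y : Subgroup G} (h : Y ≠ ⊥) :
    ∃ X : Subgroup G, X ≤ Y ∧ (Nat.card X).Prime := by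
  obtain ⟨y, hy, -, hyp, -⟩ := exists_prime_card_le h
  refine ⟨Subgroup.zpowers y, by rw [Subgroup.zpowers_le]; exact hy, ?_⟩
  rw [Nat.card_zpowers]; exact hyp

/-- **S1366** -/
theorem core_1366 (hG : Cfsg.IsMinSimpleOddOrder G) (hU : UniquenessThm G)
    (h29 : H1429 G) (h30 : H1430 G) (h31 : H1431 G) (h32 : H1432 G) (h77 : H1377 G)
    (hTd : HTdisj G) (hR : HRcop G) (M : Subgroup G) (hM : IsCoatom M) (K : Subgroup G)
    (hK : Cfsg.IsPiHallOf (Cfsg.kappa M) K M) (hK1 : K ≠ ⊥) :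
    ∃! Mstar : Subgroup G, IsCoatom Mstar ∧
      K = Cfsg.sigmaCore Mstar ⊓ Subgroup.centralizer
        ((Cfsg.sigmaCore M ⊓ Subgroup.centralizer (K : Set G)) : Set G) ∧
      Cfsg.IsPiHallOf (Cfsg.kappa Mstar)
        (Cfsg.sigmaCore M ⊓ Subgroup.centralizer (K : Set G)) Mstar := by
  obtain ⟨Ms, hMs, hKe, hHall, -⟩ :=
    exists_partner hG hU h29 h30 h31 h32 h77 hTd hR hM hK hK1
  refine ⟨Ms, ⟨hMs, hKe, hHall⟩, ?_⟩
  rintro M₂ ⟨hM₂, hKe₂, hHall₂⟩
  have hKs1 : kst M K ≠ ⊥ := kstar_ne_bot hG h30 hM hK hK1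
  obtain ⟨X, hXK, hXp⟩ := exists_le_prime_card hK1
  have hX1 : X ≤ kst Ms (kst M K) := by rw [← hKe]; exact hXK
  have hX2 : X ≤ kst M₂ (kst M K) := by
    have : K = kst M₂ (kst M K) := hKe₂
    rw [← this]; exact hXK
  have hU1 := lemmaU hG hU h31 hMs hHall hKs1 hX1 hXp
  have hU2 := lemmaU hG hU h31 hM₂ hHall₂ hKs1 hX2 hXp
  exact hU1.2 M₂ hM₂ hU2.1

/-- **S1367** -/
theorem core_1367 (hG : Cfsg.IsMinSimpleOddOrder G) (hU : UniquenessThm G)
    (h30 : H1430 G) (h31 : H1431 G) (M : Subgroup G) (hM : IsCoatom M) (K : Subgroup G)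
    (hK : Cfsg.IsPiHallOf (Cfsg.kappa M) K M) (hK1 : K ≠ ⊥)
    (Mstar : Subgroup G) (hMstar : IsCoatom Mstar)
    (hKst : K = Cfsg.sigmaCore Mstar ⊓ Subgroup.centralizer
      ((Cfsg.sigmaCore M ⊓ Subgroup.centralizer (K : Set G)) : Set G))
    (hKstH : Cfsg.IsPiHallOf (Cfsg.kappa Mstar)
      (Cfsg.sigmaCore M ⊓ Subgroup.centralizer (K : Set G)) Mstar) :
    (∀ X : Subgroup G, X ≤ (Cfsg.sigmaCore M ⊓ Subgroup.centralizer (K : Set G)) →
        (Nat.card X).Prime →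
        Subgroup.centralizer (X : Set G) ≤ M ∧ ∀ L : Subgroup G, IsCoatom L →
          Subgroup.centralizer (X : Set G) ≤ L → L = M) ∧
      (∀ Y : Subgroup G, Y ≤ K → (Nat.card Y).Prime →
        Subgroup.centralizer (Y : Set G) ≤ Mstar ∧ ∀ L : Subgroup G, IsCoatom L →
          Subgroup.centralizer (Y : Set G) ≤ L → L = Mstar) := by
  have hKs1 : kst M K ≠ ⊥ := kstar_ne_bot hG h30 hM hK hK1
  refine ⟨fun X hX hXp => lemmaU hG hU h31 hM hK hK1 hX hXp, fun Y hY hYp => ?_⟩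
  have hY' : Y ≤ kst Mstar (kst M K) := by
    have : K = kst Mstar (kst M K) := hKst
    rw [← this]; exact hY
  exact lemmaU hG hU h31 hMstar hKstH hKs1 hY' hYp

/-- if `U = 1` in the standard factorisation then `|N| = |N_σ| |K|` -/
theorem card_eq_of_compl_bot (hG : Cfsg.IsMinSimpleOddOrder G) (hU : UniquenessThm G)
    {N K : Subgroup G} (hN : IsCoatom N) (hK : Cfsg.IsPiHallOf (Cfsg.kappa N) K N)
    (hc : Cfsg.IsComplIn ⊥ (K ⊔ Cfsg.sigmaCore N) N) :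
    Nat.card N = Nat.card ↥(Cfsg.sigmaCore N) * Nat.card K := by
  have hKn : K ≤ Subgroup.normalizer ((Cfsg.sigmaCore N : Subgroup G) : Set G) :=
    hK.1.trans (Cfsg.Agent.Helper29.BG11.le_normalizer_sigmaCore N)
  have hcop : (Nat.card K).Coprime (Nat.card ↥(Cfsg.sigmaCore N)) :=
    Nat.coprime_of_dvd fun q hq h1 h2 => (hK.2.1 q hq h1).2.2.1
      (primes_sigmaCore N q hq h2)
  have h1 := Cfsg.Agent.Helper10.card_sup_mul_card_inf K (Cfsg.sigmaCore N) hKn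
  rw [inf_eq_bot_of_coprime hcop, Subgroup.card_bot, mul_one] at h1
  have hJ : K ⊔ Cfsg.sigmaCore N = N := by
    apply le_antisymm hc.2.1
    intro m hm
    obtain ⟨a, ha, b, hb, rfl⟩ := hc.2.2.2 m hm
    rw [Subgroup.mem_bot] at ha
    rw [ha, one_mul]; exact hb
  rw [hJ] at h1
  rw [h1, mul_comm]

/-- **S1369** -/
theorem core_1369 (hG : Cfsg.IsMinSimpleOddOrder G) (hU : UniquenessThm G)
    (h29 : H1429 G) (h30 : H1430 G) (h31 : H1431 G) (h32 : H1432 G) (h77 : H1377 G)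
    (hTd : HTdisj G) (hR : HRcop G) (M : Subgroup G) (hM : IsCoatom M) (K U : Subgroup G)
    (hKU : Cfsg.IsSigmaDecomposition M K U) (hK1 : K ≠ ⊥)
    (Mstar : Subgroup G) (hMstar : IsCoatom Mstar)
    (hKst : K = Cfsg.sigmaCore Mstar ⊓ Subgroup.centralizer
      ((Cfsg.sigmaCore M ⊓ Subgroup.centralizer (K : Set G)) : Set G))
    (hKstH : Cfsg.IsPiHallOf (Cfsg.kappa Mstar)
      (Cfsg.sigmaCore M ⊓ Subgroup.centralizer (K : Set G)) Mstar) :
    (U ≠ ⊥ ∨ ∀ Ustar : Subgroup G, Cfsg.IsSigmaDecomposition Mstar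
        (Cfsg.sigmaCore M ⊓ Subgroup.centralizer (K : Set G)) Ustar → Ustar ≠ ⊥) ∧
      ∀ H : Subgroup G, IsCoatom H → (Cfsg.kappa H).Nonempty →
        ∃ g : G, H = M.map (MulAut.conj g).toMonoidHom ∨
          H = Mstar.map (MulAut.conj g).toMonoidHom := by
  have hP : Partner M K Mstar := ⟨hM, hKU.hall, hK1, hMstar, hKst, hKstH⟩
  refine ⟨?_, fun H hH hκ => ?_⟩
  · by_contra hcon
    push Not at hcon
    obtain ⟨hU1, Ustar, hdec, hUs1⟩ := hcon
    have hc1 := hKU.compl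
    rw [hU1] at hc1
    have hc2 := hdec.compl
    rw [hUs1] at hc2
    exact not_both_P1 hG hU h30 h31 h32 h77 hTd hR hP
      (card_eq_of_compl_bot hG hU hM hKU.hall hc1)
      (card_eq_of_compl_bot hG hU hMstar hKstH hc2)
  · obtain ⟨g, hg⟩ := exists_cj_of_kappa_nonempty hG hU h29 h30 h31 h32 h77 hTd hR hP hH hκ
    exact ⟨g, hg⟩

end Cfsg.Agent.Helper48.BG147
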