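import Mathlib
import Cfsg.Prelude.Def_OddOrderLocal
import Cfsg.Agent.S1403
import Cfsg.Agent.S1429
import Cfsg.Agent.S1432
import Cfsg.Agent.S1374
import Cfsg.Agent.S1375
import Cfsg.Agent.S1377
import Cfsg.Agent.S1378
import Cfsg.Agent.S1433
import Cfsg.Agent.Helper22.BG146a
import Cfsg.Agent.Helper48.BG147I

/-!
# Bender-Glauberman Theorem 14.7 (helper48): discharging the hypotheses that are landed
statements (S1403, S1429, S1432, S1374, S1375, S1377, S1378, S1433); only S1430 and S1431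
remain as hypotheses.
-/

set_option autoImplicit false

namespace Cfsg.Agent.Helper48.BG147

open Cfsg Cfsg.Agent.Helper29.BG10 Cfsg.Agent.Helper29.BG11 Cfsg.Agent.Helper48.BG142

universe u

variable {G : Type u} [Group G] [Finite G]

theorem hU_of (hG : Cfsg.IsMinSimpleOddOrder G) : UniquenessThm G :=
  fun K hK hK2 hK3 => Cfsg.Agent.S1403.result hG K hK hK2 hK3

theorem h29_of (hG : Cfsg.IsMinSimpleOddOrder G) : H1429 G :=
  fun M hM hP1 p _ hpM hp S => Cfsg.Agent.S1429.result hG M hM hP1 p hpM hp S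

theorem h32_of (hG : Cfsg.IsMinSimpleOddOrder G) : H1432 G :=
  fun M hM x hx hx1 x' hx' hx'1 hσ => Cfsg.Agent.S1432.result hG M hM x hx hx1 x' hx' hx'1 hσ

theorem h77_of (hG : Cfsg.IsMinSimpleOddOrder G) : H1377 G :=
  fun M hM => Cfsg.Agent.S1377.result hG M hM

theorem h75_of (hG : Cfsg.IsMinSimpleOddOrder G) : Cfsg.Agent.Helper22.BG146.H1375 G := by
  intro M hM x hx hx1 hC
  obtain ⟨N, h1, h2, h3, h4, h5, -, -⟩ := Cfsg.Agent.S1375.result hG M hM x hx hx1 hC
  exact ⟨N, h1, h2, h3, h4, h5⟩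

theorem hTd_of (hG : Cfsg.IsMinSimpleOddOrder G) : HTdisj G := by
  intro M N hM hN hnc
  exact Cfsg.Agent.Helper22.BG146.tilde_disjoint hG (hU_of hG) (h75_of hG)
    (fun M N hM hN x y hx hy hx1 hy1 hxy =>
      Cfsg.Agent.S1433.result hG M N hM hN x y hx hy hx1 hy1 hxy)
    (Cfsg.Agent.S1378.result hG).2 hM hN hnc

theorem hR_of (hG : Cfsg.IsMinSimpleOddOrder G) : HRcop G := by
  intro N hN a ha ha1 r hr
  by_cases hC : Subgroup.centralizer ({a} : Set G) ≤ N
  · rw [Cfsg.Agent.Helper22.BG146.supportR_eq_bot hC, Subgroup.mem_bot] at hr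
    rw [hr, orderOf_one]
    exact Nat.coprime_one_right _
  · obtain ⟨N₁, ⟨hN₁, hCN₁⟩, -, -, -, hcompl⟩ := h75_of hG N hN a ha ha1 hC
    rw [Cfsg.Agent.Helper22.BG146.supportR_eq_sigmaCore (h75_of hG) hN ha ha1 hC hN₁ hCN₁] at hr
    have hcop := (Cfsg.Agent.S1374.result hG N hN a ha ha1).1
    have h1 := Cfsg.Agent.Helper31.BG144Core.card_mul_card_of_isComplIn hcompl
    have h2 := Cfsg.Agent.Helper31.relIndex_mul_card'
      (inf_le_right : N ⊓ Subgroup.centralizer ({a} : Set G) ≤ Subgroup.centralizer ({a} : Set G))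
    have hpos : 0 < Nat.card ↥(N ⊓ Subgroup.centralizer ({a} : Set G)) := Nat.card_pos
    have h3 : Nat.card ↥(Cfsg.sigmaCore N₁ ⊓ Subgroup.centralizer ({a} : Set G)) =
        (N ⊓ Subgroup.centralizer ({a} : Set G)).relIndex (Subgroup.centralizer ({a} : Set G)) := by
      apply Nat.eq_of_mul_eq_mul_left hpos
      rw [h1, mul_comm, h2]
    rw [← h3] at hcop
    have haA : a ∈ N ⊓ Subgroup.centralizer ({a} : Set G) := by
      refine Subgroup.mem_inf.2 ⟨Cfsg.Agent.Helper29.BG11.sigmaCore_le N ha, ?_⟩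
      rw [Subgroup.mem_centralizer_iff]
      intro y hy
      rw [Set.mem_singleton_iff] at hy
      rw [hy]
    have hd1 : orderOf a ∣ Nat.card ↥(N ⊓ Subgroup.centralizer ({a} : Set G)) := by
      have := Subgroup.orderOf_dvd_natCard _ haA
      exact this
    have hd2 : orderOf r ∣ Nat.card ↥(Cfsg.sigmaCore N₁ ⊓ Subgroup.centralizer ({a} : Set G)) :=
      Subgroup.orderOf_dvd_natCard _ hr
    exact Nat.Coprime.coprime_dvd_left hd1 (Nat.Coprime.coprime_dvd_right hd2 hcop)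

end Cfsg.Agent.Helper48.BG147
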