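import Cfsg.Agent.Helper36.TorD.Defs

/-!
Helper48 for helper36 (TorD farm, S2372/S2375): piece (TFROB) `sigma_torusHom`, statement verbatim from
`tools/helper36_tordata/Skel.lean.txt`.
-/

set_option autoImplicit false

namespace Cfsg.Agent.Helper48.TorD

open Cfsg Cfsg.Lie Cfsg.Agent.Helper18 Cfsg.Agent.Helper19.Cox Cfsg.Agent.Helper19.Poinc
  Cfsg.Agent.Helper80.Tor Cfsg.Agent.Helper36.TorD

section Fields

variable {F K : Type*} [Field F] [Fintype F] [Field K] [Fintype K] [Algebra F K]

variable (D : ChevalleyDatum)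
  (hD : D ∈ [chevG2, chevB2, chevD4, chevF4, chevE6, chevE7, chevE8])
include hD

/-- (TFROB) -/
theorem sigma_torusHom (c : Fin D.rank → Kˣ) :
    sigmaGL D.Idx F K (torusHom D K c) = torusHom D K (c ^ Fintype.card F) := by
  apply Units.ext
  rw [torusHom_val]
  show (((torusHom D K c : GL D.Idx K) : Matrix D.Idx D.Idx K)).map (frobK F K) = _
  rw [torusHom_val, Matrix.diagonal_map (map_zero _)]
  congr 1
  funext j
  rw [frobK_apply, map_pow, Pi.pow_apply, Units.val_pow_eq_pow_val]

end Fields

end Cfsg.Agent.Helper48.TorD
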