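import Mathlib
import Cfsg.Agent.Helper44.CliffDefs

/-!
# (C4) completeness relation for the Pauli operators over `ZMod 3` (piece for S3084, helper44)
-/

set_option autoImplicit false
open scoped MatrixGroups

namespace Cfsg.Agent.Helper48.Cliff

open Matrix Cfsg.Agent.Helper44.Cliff

variable {n : ℕ}

/-- character sum on `(ZMod 2)^n` (summation over the left argument) -/
theorem sum_sg_dot_left (c : X n) :
    ∑ a : X n, sg (a ⬝ᵥ c) = if c = 0 then (2 : ZMod 3) ^ n else 0 := by
  by_cases hc : c = 0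
  · subst hc
    rw [if_pos rfl]
    simp [sg_zero]
  · rw [if_neg hc]
    obtain ⟨i, hi⟩ : ∃ i, c i ≠ 0 := by
      by_contra h
      push Not at h
      exact hc (funext h)
    have hci : c i = 1 := (zmod2_cases (c i)).resolve_left hi
    have hflip : ∀ a : X n, sg ((a + Pi.single i 1) ⬝ᵥ c) = - sg (a ⬝ᵥ c) := by
      intro a
      rw [add_dotProduct, single_dotProduct, one_mul, hci, sg_add, sg_one]
      ring
    have hS : ∑ a : X n, sg (a ⬝ᵥ c) = - ∑ a : X n, sg (a ⬝ᵥ c) := by
      conv_lhs => rw [← Equiv.sum_comp (Equiv.addRight (Pi.single i (1 : ZMod 2)))]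
      simp only [Equiv.coe_addRight, hflip, Finset.sum_neg_distrib]
    have h2S : (2 : ZMod 3) * ∑ a : X n, sg (a ⬝ᵥ c) = 0 := by linear_combination hS
    have h2 : (2 : ZMod 3) ≠ 0 := by decide
    exact (mul_eq_zero.mp h2S).resolve_left h2

/-- (C4) completeness relation. -/
theorem completeness (M : Matrix (X n) (X n) (ZMod 3)) :
    (2 : ZMod 3) ^ n • M = ∑ u : U0 n, Matrix.trace (M * (T u)ᵀ) • T u := by
  ext x z
  rw [Matrix.smul_apply, Matrix.sum_apply, Fintype.sum_prod_type]
  have htr : ∀ a b : X n,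
      Matrix.trace (M * (T (a, b))ᵀ) = ∑ y, M y (y + b) * sg (a ⬝ᵥ y) := by
    intro a b
    rw [Matrix.trace]
    refine Finset.sum_congr rfl fun y _ => ?_
    rw [Matrix.diag_apply, Matrix.mul_apply, Finset.sum_eq_single (y + b)]
    · rw [Matrix.transpose_apply, T_apply, if_pos rfl]
    · intro w _ hw
      rw [Matrix.transpose_apply, T_apply, if_neg hw, mul_zero]
    · intro h; exact absurd (Finset.mem_univ _) h
  have hb : ∀ a : X n, ∑ b : X n, (Matrix.trace (M * (T (a, b))ᵀ) • T (a, b)) x z =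
      (∑ y, M y (y + (x + z)) * sg (a ⬝ᵥ y)) * sg (a ⬝ᵥ x) := by
    intro a
    rw [Finset.sum_eq_single (x + z)]
    · rw [Matrix.smul_apply, htr, T_apply, if_pos, smul_eq_mul]
      show z = x + (x + z)
      rw [← add_assoc, add_self_X, zero_add]
    · intro b _ hb
      rw [Matrix.smul_apply, T_apply, if_neg, smul_zero]
      intro hz
      apply hb
      show b = x + z
      rw [hz]
      show b = x + (x + b)
      rw [← add_assoc, add_self_X, zero_add]
    · intro h; exact absurd (Finset.mem_univ _) h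
  simp_rw [hb]
  have hxy : ∀ y : X n, y + x = 0 ↔ y = x := by
    intro y
    constructor
    · intro h
      calc y = y + (x + x) := by rw [add_self_X, add_zero]
        _ = (y + x) + x := by rw [add_assoc]
        _ = x := by rw [h, zero_add]
    · intro h; rw [h, add_self_X]
  calc (2 : ZMod 3) ^ n • M x z
      = M x (x + (x + z)) * (2 : ZMod 3) ^ n := by
        rw [← add_assoc, add_self_X, zero_add, smul_eq_mul, mul_comm]
    _ = ∑ y, M y (y + (x + z)) * (if y + x = 0 then (2 : ZMod 3) ^ n else 0) := by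
        rw [Finset.sum_eq_single x]
        · rw [if_pos (add_self_X x)]
        · intro y _ hy
          rw [if_neg (fun h => hy ((hxy y).mp h)), mul_zero]
        · intro h; exact absurd (Finset.mem_univ _) h
    _ = ∑ y, M y (y + (x + z)) * ∑ a : X n, sg (a ⬝ᵥ (y + x)) := by
        refine Finset.sum_congr rfl fun y _ => ?_
        rw [sum_sg_dot_left]
    _ = ∑ y, ∑ a : X n, M y (y + (x + z)) * sg (a ⬝ᵥ y) * sg (a ⬝ᵥ x) := by
        refine Finset.sum_congr rfl fun y _ => ?_
        rw [Finset.mul_sum]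
        refine Finset.sum_congr rfl fun a _ => ?_
        rw [dotProduct_add, sg_add, mul_assoc]
    _ = ∑ a : X n, ∑ y, M y (y + (x + z)) * sg (a ⬝ᵥ y) * sg (a ⬝ᵥ x) := Finset.sum_comm
    _ = ∑ a : X n, (∑ y, M y (y + (x + z)) * sg (a ⬝ᵥ y)) * sg (a ⬝ᵥ x) := by
        refine Finset.sum_congr rfl fun a _ => ?_
        rw [Finset.sum_mul]

end Cfsg.Agent.Helper48.Cliff
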