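import Mathlib

/-!
# (L4) Skolem–Noether for a full matrix algebra over a field (piece for S3084, helper44)

A unital multiplicative linear endomorphism of `Matrix ι ι F` (`F` a field) is conjugation by an
invertible matrix.  Explicit intertwiner: with `P = Φ (E x0 x0)`, `v = P *ᵥ v0 ≠ 0`, the matrix `g`
with columns `g e_x = Φ (E x x0) *ᵥ v` satisfies `Φ M * g = g * M`, and it is invertible because its
kernel is stable under all matrices and does not contain `e_x0`.
-/

set_option autoImplicit false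

namespace Cfsg.Agent.Helper48.Cliff

open Matrix

/-- (L4) Skolem–Noether for a full matrix algebra over a field (explicit intertwiner). -/
theorem skolem_noether {ι F : Type*} [Fintype ι] [DecidableEq ι] [Nonempty ι] [Field F]
    (Φ : Matrix ι ι F →ₗ[F] Matrix ι ι F) (h1 : Φ 1 = 1) (hmul : ∀ M N, Φ (M * N) = Φ M * Φ N) :
    ∃ g : (Matrix ι ι F)ˣ, ∀ M, Φ M = (g : Matrix ι ι F) * M * ((g⁻¹ : (Matrix ι ι F)ˣ) : Matrix ι ι F) := by
  classical
  have x0 : ι := Classical.arbitrary ι
  have hPP : Φ (Matrix.single x0 x0 1) * Φ (Matrix.single x0 x0 1) = Φ (Matrix.single x0 x0 1) := by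
    rw [← hmul, Matrix.single_mul_single_same, mul_one]
  have hPne : Φ (Matrix.single x0 x0 1) ≠ 0 := by
    intro h0
    have h10 : (1 : Matrix ι ι F) = 0 := by
      calc (1 : Matrix ι ι F) = Φ 1 := h1.symm
        _ = Φ (∑ x, Matrix.single x x (1 : F)) := by rw [Matrix.sum_single_one]
        _ = ∑ x, Φ (Matrix.single x x (1 : F)) := map_sum Φ _ _
        _ = ∑ x, Φ (Matrix.single x x0 1) * Φ (Matrix.single x0 x0 1) * Φ (Matrix.single x0 x 1) := by
            refine Finset.sum_congr rfl fun x _ => ?_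
            rw [← hmul, ← hmul, Matrix.single_mul_single_same, Matrix.single_mul_single_same,
              mul_one, mul_one]
        _ = 0 := by simp [h0]
    exact one_ne_zero h10
  obtain ⟨v0, hv0⟩ : ∃ v0 : ι → F, Φ (Matrix.single x0 x0 1) *ᵥ v0 ≠ 0 := by
    by_contra hcon
    push Not at hcon
    apply hPne
    ext i j
    have := congrFun (hcon (Pi.single j 1)) i
    simpa using this
  have hPv : Φ (Matrix.single x0 x0 1) *ᵥ (Φ (Matrix.single x0 x0 1) *ᵥ v0) =
      Φ (Matrix.single x0 x0 1) *ᵥ v0 := by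
    rw [Matrix.mulVec_mulVec, hPP]
  -- the intertwiner
  obtain ⟨g, hg⟩ : ∃ g : Matrix ι ι F, ∀ y x,
      g y x = (Φ (Matrix.single x x0 1) *ᵥ (Φ (Matrix.single x0 x0 1) *ᵥ v0)) y :=
    ⟨Matrix.of fun y x => (Φ (Matrix.single x x0 1) *ᵥ (Φ (Matrix.single x0 x0 1) *ᵥ v0)) y,
      fun _ _ => rfl⟩
  have hkey : ∀ M : Matrix ι ι F, Φ M * g = g * M := by
    intro M
    ext y x
    have hdec : M * Matrix.single x x0 (1 : F) = ∑ a, M a x • Matrix.single a x0 (1 : F) := by
      ext i j
      rw [Matrix.sum_apply]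
      by_cases hj : j = x0
      · subst hj
        rw [Matrix.mul_apply]
        simp [Matrix.single, Finset.sum_ite_eq']
      · rw [Matrix.mul_apply]
        simp [Matrix.single, Ne.symm hj]
    have hL : (Φ M * g) y x =
        (Φ (M * Matrix.single x x0 1) *ᵥ (Φ (Matrix.single x0 x0 1) *ᵥ v0)) y := by
      rw [hmul, ← Matrix.mulVec_mulVec, Matrix.mul_apply]
      simp only [hg]
      rfl
    rw [hL, hdec, map_sum, Matrix.mul_apply]
    simp only [map_smul, Matrix.sum_mulVec, Matrix.smul_mulVec, Finset.sum_apply, Pi.smul_apply,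
      hg, smul_eq_mul]
    exact Finset.sum_congr rfl fun a _ => mul_comm _ _
  have hgx0 : g *ᵥ Pi.single x0 1 = Φ (Matrix.single x0 x0 1) *ᵥ v0 := by
    ext y
    rw [Matrix.mulVec_single_one, Matrix.col_apply, hg, hPv]
  have hdet : g.det ≠ 0 := by
    intro hd
    obtain ⟨w, hw0, hw⟩ := (Matrix.exists_mulVec_eq_zero_iff).mpr hd
    obtain ⟨j, hj⟩ : ∃ j, w j ≠ 0 := by
      by_contra hcon
      push Not at hcon
      exact hw0 (funext hcon)
    have hall : ∀ M : Matrix ι ι F, g *ᵥ (M *ᵥ w) = 0 := by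
      intro M
      rw [Matrix.mulVec_mulVec, ← hkey, ← Matrix.mulVec_mulVec, hw, Matrix.mulVec_zero]
    have h2 := hall (Matrix.single x0 j (w j)⁻¹)
    rw [Matrix.single_mulVec_eq, inv_mul_cancel₀ hj, one_smul, hgx0] at h2
    exact hv0 h2
  have hu : IsUnit g := (Matrix.isUnit_iff_isUnit_det g).mpr (IsUnit.mk0 _ hdet)
  obtain ⟨G, hG⟩ : ∃ G : (Matrix ι ι F)ˣ, (G : Matrix ι ι F) = g := ⟨hu.unit, rfl⟩
  refine ⟨G, fun M => ?_⟩
  rw [hG, ← hkey, mul_assoc, ← hG, Units.mul_inv, mul_one]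

end Cfsg.Agent.Helper48.Cliff
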