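import Mathlib
import Cfsg.Agent.Helper78.Olsson.Defs

/-!
# (RED) for helper78's S4539: Gauss reduction of a positive definite binary quadratic form
-/

set_option autoImplicit false

namespace Cfsg.Agent.Helper48.Olsson

open Cfsg.Agent.Helper78.Olsson

open Matrix

/-- the entries of `Pᵀ C P` for a symmetric `C` -/
theorem entries (C P : Matrix (Fin 2) (Fin 2) ℤ) (hs : C 0 1 = C 1 0) :
    (P.transpose * C * P) 0 0 =
        C 0 0 * P 0 0 ^ 2 + 2 * C 0 1 * P 0 0 * P 1 0 + C 1 1 * P 1 0 ^ 2 ∧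
      (P.transpose * C * P) 0 1 =
        C 0 0 * P 0 0 * P 0 1 + C 0 1 * (P 0 0 * P 1 1 + P 0 1 * P 1 0) + C 1 1 * P 1 0 * P 1 1 ∧
      (P.transpose * C * P) 1 0 =
        C 0 0 * P 0 0 * P 0 1 + C 0 1 * (P 0 0 * P 1 1 + P 0 1 * P 1 0) + C 1 1 * P 1 0 * P 1 1 ∧
      (P.transpose * C * P) 1 1 =
        C 0 0 * P 0 1 ^ 2 + 2 * C 0 1 * P 0 1 * P 1 1 + C 1 1 * P 1 1 ^ 2 := by
  refine ⟨?_, ?_, ?_, ?_⟩ <;>
    simp only [Matrix.mul_apply, Fin.sum_univ_two, Matrix.transpose_apply] <;>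
    rw [← hs] <;> ring

/-- the entries of `Pᵀ C P` for a symmetric `C = [[a, b], [b, c]]` and `P = [[p, q], [r, s]]` -/
theorem entries' (C : Matrix (Fin 2) (Fin 2) ℤ) (hs : C 0 1 = C 1 0) (a b c p q r s : ℤ)
    (ha : a = C 0 0) (hb : b = C 0 1) (hc : c = C 1 1) :
    (!![p, q; r, s].transpose * C * !![p, q; r, s]) 0 0 = a * p ^ 2 + 2 * b * p * r + c * r ^ 2 ∧
      (!![p, q; r, s].transpose * C * !![p, q; r, s]) 0 1 =
        a * p * q + b * (p * s + q * r) + c * r * s ∧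
      (!![p, q; r, s].transpose * C * !![p, q; r, s]) 1 0 =
        a * p * q + b * (p * s + q * r) + c * r * s ∧
      (!![p, q; r, s].transpose * C * !![p, q; r, s]) 1 1 =
        a * q ^ 2 + 2 * b * q * s + c * s ^ 2 := by
  obtain ⟨e00, e01, e10, e11⟩ := entries C !![p, q; r, s] hs
  rw [e00, e01, e10, e11, ha, hb, hc]
  simp

theorem mul_two (p q r s p' q' r' s' : ℤ) :
    (!![p, q; r, s] : Matrix (Fin 2) (Fin 2) ℤ) * !![p', q'; r', s'] =
      !![p * p' + q * r', p * q' + q * s'; r * p' + s * r', r * q' + s * s'] := by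
  ext i j
  fin_cases i <;> fin_cases j <;> simp [Matrix.mul_apply, Fin.sum_univ_two]

theorem one_two : (1 : Matrix (Fin 2) (Fin 2) ℤ) = !![1, 0; 0, 1] := by
  ext i j
  fin_cases i <;> fin_cases j <;> simp

theorem aux : ∀ (N : ℕ) (C : Matrix (Fin 2) (Fin 2) ℤ), C 0 1 = C 1 0 → 0 < C 0 0 →
    0 < C 0 0 * C 1 1 - C 0 1 ^ 2 → (C 0 0).toNat = N →
    ∃ P Q : Matrix (Fin 2) (Fin 2) ℤ, P * Q = 1 ∧ Q * P = 1 ∧
      IsReduced (P.transpose * C * P) ∧ 0 < (P.transpose * C * P) 0 0 := by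
  intro N
  induction N using Nat.strong_induction_on with
  | _ N ih =>
    intro C hs h0 hdet hN
    obtain ⟨a, ha⟩ : ∃ a, a = C 0 0 := ⟨_, rfl⟩
    obtain ⟨b, hb⟩ : ∃ b, b = C 0 1 := ⟨_, rfl⟩
    obtain ⟨c, hc⟩ : ∃ c, c = C 1 1 := ⟨_, rfl⟩
    rw [← ha] at h0 hN
    rw [← ha, ← hb, ← hc] at hdet
    obtain ⟨t, ht⟩ : ∃ t, t = (2 * b + a) / (2 * a) := ⟨_, rfl⟩
    have h2a : 0 < 2 * a := by omega
    have hdm := Int.emod_add_mul_ediv (2 * b + a) (2 * a)
    have hm0 := Int.emod_nonneg (2 * b + a) (ne_of_gt h2a)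
    have hm1 := Int.emod_lt_of_pos (2 * b + a) h2a
    rw [← ht] at hdm
    -- `b1 = b - a t`, `c1 = a t^2 - 2 b t + c`
    obtain ⟨b1, hb1⟩ : ∃ b1, b1 = b - a * t := ⟨_, rfl⟩
    obtain ⟨c1, hc1⟩ : ∃ c1, c1 = a * t ^ 2 - 2 * b * t + c := ⟨_, rfl⟩
    have hb1l : -a ≤ 2 * b1 := by rw [hb1]; linarith
    have hb1u : 2 * b1 < a := by rw [hb1]; linarith
    have hdet1 : 0 < a * c1 - b1 ^ 2 := by
      have : a * c1 - b1 ^ 2 = a * c - b ^ 2 := by rw [hb1, hc1]; ring
      rw [this]; exact hdet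
    by_cases hac : a ≤ c1
    · by_cases hb1s : 0 ≤ b1
      · obtain ⟨e00, e01, -, e11⟩ := entries' C hs a b c 1 (-t) 0 1 ha hb hc
        have E00 : (!![1, -t; 0, 1].transpose * C * !![1, -t; 0, 1]) 0 0 = a := by
          rw [e00]; ring
        have E01 : (!![1, -t; 0, 1].transpose * C * !![1, -t; 0, 1]) 0 1 = b1 := by
          rw [e01, hb1]; ring
        have E11 : (!![1, -t; 0, 1].transpose * C * !![1, -t; 0, 1]) 1 1 = c1 := by
          rw [e11, hc1]; ring
        refine ⟨!![1, -t; 0, 1], !![1, t; 0, 1], ?_, ?_, ⟨?_, ?_, ?_⟩, ?_⟩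
        · rw [mul_two, one_two]; simp
        · rw [mul_two, one_two]; simp
        · rw [E01]; linarith
        · rw [E01, E00]; linarith
        · rw [E00, E11]; exact hac
        · rw [E00]; exact h0
      · obtain ⟨e00, e01, -, e11⟩ := entries' C hs a b c 1 t 0 (-1) ha hb hc
        have E00 : (!![1, t; 0, -1].transpose * C * !![1, t; 0, -1]) 0 0 = a := by
          rw [e00]; ring
        have E01 : (!![1, t; 0, -1].transpose * C * !![1, t; 0, -1]) 0 1 = -b1 := by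
          rw [e01, hb1]; ring
        have E11 : (!![1, t; 0, -1].transpose * C * !![1, t; 0, -1]) 1 1 = c1 := by
          rw [e11, hc1]; ring
        refine ⟨!![1, t; 0, -1], !![1, t; 0, -1], ?_, ?_, ⟨?_, ?_, ?_⟩, ?_⟩
        · rw [mul_two, one_two]; simp
        · rw [mul_two, one_two]; simp
        · rw [E01]; linarith
        · rw [E01, E00]; linarith
        · rw [E00, E11]; exact hac
        · rw [E00]; exact h0
    · -- swap and recurse
      have hc1lt : c1 < a := by omega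
      have hc1pos : 0 < c1 := by
        by_contra hcon
        have h1 : c1 ≤ 0 := by omega
        nlinarith [sq_nonneg b1]
      obtain ⟨e00, e01, e10, e11⟩ := entries' C hs a b c (-t) 1 1 0 ha hb hc
      have E00 : (!![-t, 1; 1, 0].transpose * C * !![-t, 1; 1, 0]) 0 0 = c1 := by
        rw [e00, hc1]; ring
      have E01 : (!![-t, 1; 1, 0].transpose * C * !![-t, 1; 1, 0]) 0 1 = b1 := by
        rw [e01, hb1]; ring
      have E10 : (!![-t, 1; 1, 0].transpose * C * !![-t, 1; 1, 0]) 1 0 = b1 := by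
        rw [e10, hb1]; ring
      have E11 : (!![-t, 1; 1, 0].transpose * C * !![-t, 1; 1, 0]) 1 1 = a := by
        rw [e11]; ring
      have hlt : c1.toNat < N := by omega
      obtain ⟨P', Q', hPQ, hQP, hred, hpos⟩ :=
        ih _ hlt (!![-t, 1; 1, 0].transpose * C * !![-t, 1; 1, 0]) (by rw [E01, E10])
          (by rw [E00]; exact hc1pos) (by rw [E00, E01, E11]; linarith) (by rw [E00])
      have h1 : (!![-t, 1; 1, 0] : Matrix (Fin 2) (Fin 2) ℤ) * !![0, 1; 1, t] = 1 := by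
        rw [mul_two, one_two]; simp
      have h2 : (!![0, 1; 1, t] : Matrix (Fin 2) (Fin 2) ℤ) * !![-t, 1; 1, 0] = 1 := by
        rw [mul_two, one_two]; simp
      have hconj : (!![-t, 1; 1, 0] * P').transpose * C * (!![-t, 1; 1, 0] * P') =
          P'.transpose * (!![-t, 1; 1, 0].transpose * C * !![-t, 1; 1, 0]) * P' := by
        rw [Matrix.transpose_mul]
        simp only [Matrix.mul_assoc]
      refine ⟨!![-t, 1; 1, 0] * P', Q' * !![0, 1; 1, t], ?_, ?_, ?_, ?_⟩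
      · calc !![-t, 1; 1, 0] * P' * (Q' * !![0, 1; 1, t])
            = !![-t, 1; 1, 0] * (P' * Q') * !![0, 1; 1, t] := by simp only [Matrix.mul_assoc]
          _ = 1 := by rw [hPQ, Matrix.mul_one, h1]
      · calc Q' * !![0, 1; 1, t] * (!![-t, 1; 1, 0] * P')
            = Q' * (!![0, 1; 1, t] * !![-t, 1; 1, 0]) * P' := by simp only [Matrix.mul_assoc]
          _ = 1 := by rw [h2, Matrix.mul_one, hQP]
      · rw [hconj]; exact hred
      · rw [hconj]; exact hpos

/-- (RED) Gauss reduction of a positive definite binary quadratic form. -/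
theorem exists_reduce (C : Matrix (Fin 2) (Fin 2) ℤ) (hs : C 0 1 = C 1 0) (h0 : 0 < C 0 0)
    (hdet : 0 < C 0 0 * C 1 1 - C 0 1 ^ 2) :
    ∃ P Q : Matrix (Fin 2) (Fin 2) ℤ, P * Q = 1 ∧ Q * P = 1 ∧
      IsReduced (P.transpose * C * P) ∧ 0 < (P.transpose * C * P) 0 0 :=
  aux _ C hs h0 hdet rfl

end Cfsg.Agent.Helper48.Olsson
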