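import Mathlib

/-!
# (C1) for S3701 (helper3's E27 route): an integer vector of norm 2 orthogonal to a positive vector
-/

set_option autoImplicit false

namespace Cfsg.Agent.Helper48.E27

open Finset

variable {ι : Type*} [Fintype ι] [DecidableEq ι]

/-- (C1) an integer vector of norm 2 orthogonal to a positive vector. -/
theorem norm_two (d : ι → ℕ) (hd : ∀ x, 0 < d x) (f : ι → ℤ) (hf : ∑ x, f x ^ 2 = 2)
    (hdf : ∑ x, (d x : ℤ) * f x = 0) :
    ∃ x y : ι, x ≠ y ∧ d x = d y ∧
      ∀ z, f z = (if z = x then 1 else 0) - (if z = y then 1 else 0) := by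
  have hle : ∀ z, f z ^ 2 ≤ 2 := fun z => by
    rw [← hf]
    exact Finset.single_le_sum (f := fun x => f x ^ 2) (fun i _ => sq_nonneg _) (Finset.mem_univ z)
  have hval : ∀ z, f z = 0 ∨ f z = 1 ∨ f z = -1 := fun z => by
    have := hle z
    have h1 : -2 < f z := by nlinarith
    have h2 : f z < 2 := by nlinarith
    omega
  have hsq : ∀ z, f z ^ 2 = if f z ≠ 0 then 1 else 0 := fun z => by
    rcases hval z with h | h | h <;> simp [h]
  have hcard : (Finset.univ.filter (fun z => f z ≠ 0)).card = 2 := by
    have : (∑ x, f x ^ 2) = ((Finset.univ.filter (fun z => f z ≠ 0)).card : ℤ) := by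
      simp_rw [hsq]
      rw [Finset.sum_ite]
      simp
    rw [hf] at this
    exact_mod_cast this.symm
  obtain ⟨x, y, hxy, hSxy⟩ := Finset.card_eq_two.1 hcard
  have hmem : ∀ z, f z ≠ 0 ↔ z = x ∨ z = y := fun z => by
    have : z ∈ Finset.univ.filter (fun z => f z ≠ 0) ↔ z ∈ ({x, y} : Finset ι) := by rw [hSxy]
    simpa using this
  have hzero : ∀ z, z ≠ x → z ≠ y → f z = 0 := fun z hzx hzy => by
    by_contra hne
    rcases (hmem z).1 hne with h | h
    · exact hzx h
    · exact hzy h
  have hsum : ∑ z, (d z : ℤ) * f z = d x * f x + d y * f y := by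
    rw [← Finset.sum_subset (Finset.subset_univ ({x, y} : Finset ι))]
    · rw [Finset.sum_pair hxy]
    · intro z _ hz
      have hzx : z ≠ x := fun h => hz (by simp [h])
      have hzy : z ≠ y := fun h => hz (by simp [h])
      simp [hzero z hzx hzy]
  rw [hsum] at hdf
  have hx : f x ≠ 0 := (hmem x).2 (Or.inl rfl)
  have hy : f y ≠ 0 := (hmem y).2 (Or.inr rfl)
  have hdx := hd x
  have hdy := hd y
  rcases hval x with h | h | h
  · exact absurd h hx
  · rcases hval y with h' | h' | h'
    · exact absurd h' hy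
    · rw [h, h'] at hdf; omega
    · refine ⟨x, y, hxy, by rw [h, h'] at hdf; omega, fun z => ?_⟩
      by_cases hzx : z = x
      · subst hzx; simp [h, hxy]
      · by_cases hzy : z = y
        · subst hzy; simp [h', hzx]
        · simp [hzero z hzx hzy, hzx, hzy]
  · rcases hval y with h' | h' | h'
    · exact absurd h' hy
    · refine ⟨y, x, hxy.symm, by rw [h, h'] at hdf; omega, fun z => ?_⟩
      by_cases hzx : z = x
      · subst hzx; simp [h, hxy]
      · by_cases hzy : z = y
        · subst hzy; simp [h', hzx]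
        · simp [hzero z hzx hzy, hzx, hzy]
    · rw [h, h'] at hdf; omega

end Cfsg.Agent.Helper48.E27
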