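import Cfsg.Agent.Helper16.DT.Defs
import Cfsg.Agent.Helper48.DT_INaCore
import Cfsg.Agent.Helper2.DT_DEN

set_option autoImplicit false
set_option linter.unusedSectionVars false
set_option linter.unusedVariables false

/-!
# DT farm (helper16, #13881), piece (INa) `trace_indep_pRegular`
-/

namespace Cfsg.Agent.Helper48.DT

open Cfsg Cfsg.Agent.Helper16 Cfsg.Agent.Helper16.DT Polynomial Matrix

universe u v w

section FieldK

variable {K : Type v} [Field K] {G : Type u} [Group G]

/-- (INa) the traces of pairwise inequivalent irreducible matrix representations in characteristic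
`p` are linearly independent on the `p`-regular elements. -/
theorem trace_indep_pRegular {p : ℕ} [Fact p.Prime] [CharP K p] [IsAlgClosed K] [Fintype G] {r : ℕ}
    (d : Fin r → ℕ) (ρ : ∀ i, G →* Matrix (Fin (d i)) (Fin (d i)) K)
    (hirr : ∀ i, IsIrredMat (ρ i)) (hne : ∀ i j, i ≠ j → ¬ MatEquiv (ρ i) (ρ j))
    (c : Fin r → K) (hc : ∀ g : G, IsPRegular p g → ∑ i, c i * (ρ i g).trace = 0) : c = 0 :=
  INa_of_density d ρ hirr (Cfsg.Agent.Helper2.DT.density d ρ hirr hne) c hc

end FieldK

end Cfsg.Agent.Helper48.DT
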