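import Cfsg.Agent.Helper25.FSwan.Defs2
import Cfsg.Agent.Helper15.Gallagher
import Cfsg.Agent.Helper80.Pullback
import Cfsg.Agent.Helper15.CliffordCorr
import Cfsg.Agent.Helper81.CliffordInd
import Cfsg.Agent.Helper11.PSolvable
import Cfsg.Agent.Helper1.FFPair
import Cfsg.Agent.Helper74.FongHtMain
import Cfsg.Agent.Lib.Cores
import Cfsg.Statements.S4440
import Cfsg.Agent.Helper78.FongReynolds

set_option autoImplicit false
set_option linter.unusedSectionVars false
set_option linter.unusedVariables false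

namespace Cfsg.Agent.Helper48.FS

open Cfsg Cfsg.Agent.Helper16 Cfsg.Agent.Helper16.DT Cfsg.Agent.Helper25.FS

universe u

variable {p : ℕ} [Fact p.Prime] {M : Ideal AlgInt} [M.IsMaximal] {G : Type u} [Group G]

section ST2

variable [Fintype G] (N : Subgroup G) [hN : N.Normal] [Fintype N]

open scoped ComplexConjugate

/-- the central element of the group algebra of `T` giving the `θ`-part -/
noncomputable def S2a_z (T : Subgroup G) (θ : N → ℂ) : T → ℂ := fun u => by
  classical
  exact if h : (u : G) ∈ N then (θ 1 / (Nat.card N : ℂ)) * conj (θ ⟨(u : G), h⟩) else 0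

omit [Fintype G] hN [M.IsMaximal] in
theorem S2a_sum (T : Subgroup G) [Fintype T] (hNT : N ≤ T) (θ : N → ℂ) (f : T → ℂ) (t : T) :
    thetaProj N T hNT θ f t = ∑ u : T, S2a_z N T θ u * f (t * u) := by
  classical
  let ι : N ↪ T := ⟨fun n => ⟨(n : G), hNT n.2⟩, fun a b h => by
    apply Subtype.ext
    exact congrArg (fun x : T => (x : G)) h⟩
  have h1 : ∑ u : T, S2a_z N T θ u * f (t * u)
      = ∑ u ∈ (Finset.univ : Finset N).map ι, S2a_z N T θ u * f (t * u) := by
    symm
    apply Finset.sum_subset (Finset.subset_univ _)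
    intro u _ hu
    have hu' : ¬ (u : G) ∈ N := by
      intro h
      apply hu
      rw [Finset.mem_map]
      exact ⟨⟨(u : G), h⟩, Finset.mem_univ _, Subtype.ext rfl⟩
    unfold S2a_z
    rw [dif_neg hu', zero_mul]
  rw [h1, Finset.sum_map]
  unfold thetaProj
  rw [Finset.mul_sum]
  apply Finset.sum_congr rfl
  intro n _
  have hz : S2a_z N T θ (ι n) = (θ 1 / (Nat.card N : ℂ)) * conj (θ n) := by
    unfold S2a_z
    have hmem : ((ι n : T) : G) ∈ N := n.2
    rw [dif_pos hmem]
    rfl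
  rw [hz, mul_assoc]
  rfl

omit [Fintype G] [M.IsMaximal] in
theorem S2a_classFun (T : Subgroup G) (θ : N → ℂ)
    (hinv : ∀ t ∈ T, Helper15.conjFun N t θ = θ) : IsClassFunction T (S2a_z N T θ) := by
  classical
  intro g h
  have hiff : ((h * g * h⁻¹ : T) : G) ∈ N ↔ (g : G) ∈ N := by
    have e : ((h * g * h⁻¹ : T) : G) = (h : G) * (g : G) * (h : G)⁻¹ := by simp
    rw [e]
    constructor
    · intro hm
      have := hN.conj_mem _ hm (h : G)⁻¹
      have e2 : (h : G)⁻¹ * ((h : G) * (g : G) * (h : G)⁻¹) * ((h : G)⁻¹)⁻¹ = (g : G) := by group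
      rwa [e2] at this
    · intro hm
      exact hN.conj_mem _ hm (h : G)
  unfold S2a_z
  by_cases hg : (g : G) ∈ N
  · rw [dif_pos hg, dif_pos (hiff.2 hg)]
    have h2 := congrFun (hinv (h : G) h.2) ⟨(g : G), hg⟩
    rw [Helper15.conjFun_apply] at h2
    congr 2
  · rw [dif_neg hg, dif_neg (fun hm => hg (hiff.1 hm))]

/-- (S2a) the `θ`-part of an irreducible character `ψ` of `T` is `ψ` or `0`. -/
theorem thetaProj_irr (T : Subgroup G) [Fintype T] (hNT : N ≤ T) (θ : IrrCharacter N)
    (hinv : ∀ t ∈ T, Helper15.conjFun N t (θ : N → ℂ) = (θ : N → ℂ)) (ψ : IrrCharacter T) :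
    (classInner (Helper15.resTo N T hNT (ψ : T → ℂ)) (θ : N → ℂ) ≠ 0 →
      thetaProj N T hNT (θ : N → ℂ) (ψ : T → ℂ) = (ψ : T → ℂ)) ∧
    (classInner (Helper15.resTo N T hNT (ψ : T → ℂ)) (θ : N → ℂ) = 0 →
      thetaProj N T hNT (θ : N → ℂ) (ψ : T → ℂ) = 0) := by
  classical
  have hz := S2a_classFun N T (θ : N → ℂ) hinv
  set e := classInner (Helper15.resTo N T hNT (ψ : T → ℂ)) (θ : N → ℂ) with he
  -- the value of the central character
  have hkey : ∀ t : T, thetaProj N T hNT (θ : N → ℂ) (ψ : T → ℂ) t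
      = Helper16.omega (ψ : T → ℂ) (S2a_z N T (θ : N → ℂ)) * (ψ : T → ℂ) t := by
    intro t
    rw [S2a_sum, Helper78.sum_mul_irr_mul ψ hz t]
  have hnum : ∑ u : T, S2a_z N T (θ : N → ℂ) u * (ψ : T → ℂ) u = (θ : N → ℂ) 1 * e := by
    have h1 := S2a_sum N T hNT (θ : N → ℂ) (ψ : T → ℂ) 1
    simp only [one_mul] at h1
    rw [← h1]
    unfold thetaProj
    rw [he, classInner]
    simp only [one_mul]
    rw [div_eq_mul_inv, mul_assoc]
    congr 2
    apply Finset.sum_congr rfl
    intro n _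
    rw [Helper15.resTo_apply, mul_comm]
  have homega : Helper16.omega (ψ : T → ℂ) (S2a_z N T (θ : N → ℂ))
      = (θ : N → ℂ) 1 * e / (ψ : T → ℂ) 1 := by
    unfold Helper16.omega
    rw [hnum]
  constructor
  · intro hne
    -- Clifford inside `T`
    let _ : Fintype (N.subgroupOf T) := Fintype.ofFinite _
    have hθ' : IsIrrCharacter (N.subgroupOf T) (Helper15.toSub N T hNT (θ : N → ℂ)) :=
      Helper15.isIrrCharacter_toSub N T hNT θ.2
    have hinv' : ∀ t : T, Helper15.conjFun (N.subgroupOf T) t (Helper15.toSub N T hNT (θ : N → ℂ))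
        = Helper15.toSub N T hNT (θ : N → ℂ) := by
      intro t
      rw [Helper15.conjFun_toSub, hinv (t : G) t.2]
    have hψres : (fun x : N.subgroupOf T => (ψ : T → ℂ) x)
        = Helper15.toSub N T hNT (Helper15.resTo N T hNT (ψ : T → ℂ)) :=
      Helper15.restrict_subgroupOf N T hNT _
    have hinner' : classInner (fun x : N.subgroupOf T => (ψ : T → ℂ) x)
        (Helper15.toSub N T hNT (θ : N → ℂ)) = e := by
      rw [hψres, Helper15.classInner_toSub]
    have hne' : classInner (fun x : N.subgroupOf T => (ψ : T → ℂ) x)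
        (Helper15.toSub N T hNT (θ : N → ℂ)) ≠ 0 := by
      rw [hinner']; exact hne
    have hcl := Helper15.restrict_eq_smul_of_invariant (N.subgroupOf T) ψ.2 hθ' hne' hinv'
    rw [hinner', hψres, ← Helper15.toSub_smul] at hcl
    have hψN : Helper15.resTo N T hNT (ψ : T → ℂ) = e • (θ : N → ℂ) :=
      Helper15.toSub_injective N T hNT hcl
    have hψ1 : (ψ : T → ℂ) 1 = e * (θ : N → ℂ) 1 := by
      have := congrFun hψN 1
      rw [Helper15.resTo_apply, Pi.smul_apply, smul_eq_mul] at this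
      rw [← this]
      congr 1
    have hψ1ne : (ψ : T → ℂ) 1 ≠ 0 := Helper80.IsIrrCharacter.map_one_ne_zero ψ.2
    funext t
    rw [hkey t, homega, hψ1, mul_comm ((θ : N → ℂ) 1) e, div_self (hψ1 ▸ hψ1ne), one_mul]
  · intro h0
    funext t
    rw [hkey t, homega, h0, mul_zero, zero_div, zero_mul]
    rfl

end ST2

end Cfsg.Agent.Helper48.FS
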