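import Cfsg.Agent.Helper25.FSwan.Defs2
import Cfsg.Agent.Helper15.Gallagher
import Cfsg.Agent.Helper80.Pullback
import Cfsg.Agent.Helper15.CliffordCorr
import Cfsg.Agent.Helper81.CliffordInd
import Cfsg.Agent.Helper11.PSolvable
import Cfsg.Agent.Helper1.FFPair
import Cfsg.Agent.Helper74.FongHtMain
import Cfsg.Agent.Lib.Cores
import Cfsg.Statements.S4440
import Cfsg.Agent.Helper87.DT_DECCore

set_option autoImplicit false
set_option linter.unusedSectionVars false
set_option linter.unusedVariables false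

namespace Cfsg.Agent.Helper48.FS

open Cfsg Cfsg.Agent.Helper16 Cfsg.Agent.Helper16.DT Cfsg.Agent.Helper25.FS

universe u

variable {p : ℕ} [Fact p.Prime] {M : Ideal AlgInt} [M.IsMaximal] {G : Type u} [Group G]

/-- (BRC) the Brauer character of any matrix representation is a sum of irreducible Brauer
characters, at least one if the degree is positive. -/
theorem brauerChar_eq_list_sum {n : ℕ} (ρ : G →* Matrix (Fin n) (Fin n) (AlgInt ⧸ M)) :
    ∃ l : List (G → ℂ), (∀ ψ ∈ l, ψ ∈ IBr p M G) ∧ brauerChar p M ρ = l.sum ∧ (0 < n → l ≠ []) := by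
  obtain ⟨l, hirr, hcp, -⟩ := Cfsg.Agent.Helper24.DT.exists_compSeries ρ
  refine ⟨l.map fun s => brauerChar p M s.2, ?_, ?_, ?_⟩
  · intro ψ hψ
    rw [List.mem_map] at hψ
    obtain ⟨s, hs, rfl⟩ := hψ
    exact ⟨s.1, s.2, hirr s hs, rfl⟩
  · have h1 := Cfsg.Agent.Helper10.DT.brauerFull_compSeries (p := p) ρ l hcp
    unfold brauerChar
    rw [h1, Cfsg.Agent.Helper87.DT.DEC_pReg_list_sum, List.map_map]
    rfl
  · intro hn hl
    rw [List.map_eq_nil_iff] at hl
    have h1 := hcp 1
    rw [hl, List.map_nil, List.prod_nil] at h1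
    have h2 := Matrix.charpoly_natDegree_eq_dim (ρ 1)
    rw [h1, Polynomial.natDegree_one, Fintype.card_fin] at h2
    omega

end Cfsg.Agent.Helper48.FS
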