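import Mathlib
import Cfsg.Prelude.Def_OddOrderLocal
import Cfsg.Agent.Helper71.BG11Leaf
import Cfsg.Agent.Helper48.BG142B

set_option autoImplicit false
set_option linter.unusedSectionVars false
set_option linter.unusedVariables false
set_option linter.style.haveILetI false

/-!
# B-G Lemma 13.1(a), case `p ∈ σ(H)` (helper48)

`M`, `H` non-conjugate maximal subgroups, `p ∉ σ(M)`, `p ∈ σ(H)`, `P` a `p`-subgroup of `M ∩ H`:
then `P` centralizes `M_σ ∩ H`.  Black boxes: the Uniqueness Theorem (S1403) and the normal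
`q`-complement clause of S1414 (as the hypothesis `H1414`).
-/

namespace Cfsg.Agent.Helper48.BG142

open Cfsg Cfsg.Agent.Helper29.BG10 Cfsg.Agent.Helper29.BG11 Cfsg.Agent.Helper68.BG12
  Cfsg.Agent.Helper71.BG11

universe u

/-- S1414, the normal `p`-complement of `M_σ` for `p ∉ β(M)` -/
def H1414 (G : Type u) [Group G] : Prop :=
  ∀ (M : Subgroup G), IsCoatom M → ∀ p : ℕ, p.Prime → p ∣ Nat.card M → p ∉ Cfsg.beta M →
    Cfsg.HasNormalPComplement p ↥(Cfsg.sigmaCore M)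

variable {G : Type u} [Group G] [Finite G]

/-- in a group with a normal `q`-complement, a commutator of an arbitrary element with a
`p`-element (`p ≠ q`) has order prime to `q` -/
theorem not_dvd_orderOf_of_hasNormalPComplement {S : Type*} [Group S] [Finite S] {p q : ℕ}
    [Fact p.Prime] [Fact q.Prime] (hpq : p ≠ q) (h : Cfsg.HasNormalPComplement q S)
    {x : S} (hx : ∃ k : ℕ, x ^ p ^ k = 1) (e : S) : ¬ q ∣ orderOf (e⁻¹ * x * e * x⁻¹) := by
  obtain ⟨Q, N, hN, hc⟩ := h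
  haveI := hN
  have hq : q.Prime := Fact.out
  have hp : p.Prime := Fact.out
  -- `|N|` is prime to `q`
  have hcard : Nat.card N * Nat.card (Q : Subgroup S) = Nat.card S := hc.card_mul_card
  have hQ : Nat.card (Q : Subgroup S) = q ^ (Nat.card S).factorization q :=
    Sylow.card_eq_multiplicity Q
  have hNq : ¬ q ∣ Nat.card N := by
    intro hd
    obtain ⟨t, ht⟩ := hd
    have h1 : q ^ ((Nat.card S).factorization q + 1) ∣ Nat.card S := by
      refine ⟨t, ?_⟩
      calc Nat.card S = Nat.card N * Nat.card (Q : Subgroup S) := hcard.symm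
        _ = (q * t) * q ^ (Nat.card S).factorization q := by rw [ht, hQ]
        _ = q ^ ((Nat.card S).factorization q + 1) * t := by ring
    exact Nat.pow_succ_factorization_not_dvd Nat.card_pos.ne' hq h1
  -- `x ∈ N`
  have hidx : N.index = Nat.card (Q : Subgroup S) := hc.symm.index_eq_card
  have hxN : x ∈ N := by
    obtain ⟨k, hk⟩ := hx
    have hP : IsPGroup p (Subgroup.zpowers x) := by
      rintro ⟨y, hy⟩
      obtain ⟨n, rfl⟩ := Subgroup.mem_zpowers_iff.1 hy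
      refine ⟨k, ?_⟩
      apply Subtype.ext
      show (x ^ n) ^ p ^ k = 1
      rw [← zpow_natCast, ← zpow_mul, mul_comm, zpow_mul, zpow_natCast, hk, one_zpow]
    have hcop : (N.index).Coprime p := by
      rw [hidx, hQ]
      exact Nat.Coprime.pow_left _ ((Nat.coprime_primes hq hp).2 (Ne.symm hpq))
    exact le_of_index_coprime N hcop _ hP (Subgroup.mem_zpowers x)
  have hcN : e⁻¹ * x * e * x⁻¹ ∈ N := by
    have h1 : e⁻¹ * x * e⁻¹⁻¹ ∈ N := hN.conj_mem x hxN e⁻¹
    have : e⁻¹ * x * e * x⁻¹ = (e⁻¹ * x * e⁻¹⁻¹) * x⁻¹ := by group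
    rw [this]
    exact N.mul_mem h1 (N.inv_mem hxN)
  intro hd
  exact hNq (hd.trans (Subgroup.orderOf_dvd_natCard N hcN))

/-- **B-G Lemma 13.1(a)**, case `p ∈ σ(H)` -/
theorem lemmaA_of (hG : Cfsg.IsMinSimpleOddOrder G) (hU : UniquenessThm G) (h14 : H1414 G) :
    HLemmaA G := by
  intro M H hM hH hnc p hp hpσM hpσH P hP hPle
  haveI : Fact p.Prime := ⟨hp⟩
  have hPH : P ≤ Cfsg.sigmaCore H :=
    Cfsg.Agent.Helper71.BG11.le_sigmaCore_of_isPGroup hG hU hH hpσH hP (hPle.trans inf_le_right)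
  have hnc' : ∀ g : G, cj g H ≠ M := by
    intro g hg
    exact hnc g⁻¹ (cj_eq_iff.1 hg).symm
  -- the commutator of an element of `M_σ ∩ H` with an element of `P`
  have hcomm_mem : ∀ d ∈ Cfsg.sigmaCore M ⊓ H, ∀ x ∈ P,
      d⁻¹ * x * d * x⁻¹ ∈ Cfsg.sigmaCore M ⊓ Cfsg.sigmaCore H := by
    intro d hd x hx
    have hxM : x ∈ M := (hPle hx).1
    have hxS : x ∈ Cfsg.sigmaCore H := hPH hx
    refine Subgroup.mem_inf.2 ⟨?_, ?_⟩
    · have : d⁻¹ * x * d * x⁻¹ = d⁻¹ * (x * d * x⁻¹) := by group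
      rw [this]
      exact Subgroup.mul_mem _ (Subgroup.inv_mem _ hd.1) (conj_mem_sigmaCore hxM hd.1)
    · have : d⁻¹ * x * d * x⁻¹ = (d⁻¹ * x * d⁻¹⁻¹) * x⁻¹ := by group
      rw [this]
      exact Subgroup.mul_mem _ (conj_mem_sigmaCore (H.inv_mem hd.2) hxS)
        (Subgroup.inv_mem _ hxS)
  -- Step 1: `P` centralizes `M_σ ∩ H_σ`
  have step1 : ∀ e ∈ Cfsg.sigmaCore M ⊓ Cfsg.sigmaCore H, ∀ x ∈ P, e⁻¹ * x * e * x⁻¹ = 1 := by
    intro e he x hx
    have heH : e ∈ Cfsg.sigmaCore M ⊓ H :=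
      Subgroup.mem_inf.2 ⟨he.1, Cfsg.Agent.Helper68.BG12.sigmaCore_le H he.2⟩
    have hc := hcomm_mem e heH x hx
    by_contra hne
    have hox : orderOf (e⁻¹ * x * e * x⁻¹) ≠ 1 := fun h => hne (orderOf_eq_one_iff.1 h)
    obtain ⟨q, hq, hqd⟩ := Nat.exists_prime_and_dvd hox
    haveI : Fact q.Prime := ⟨hq⟩
    have hqM : q ∈ Cfsg.sigma M := prime_mem_sigma_of_dvd_card_sigmaCore M hq
      (hqd.trans (Subgroup.orderOf_dvd_natCard _ hc.1))
    have hqHc : q ∣ Nat.card (Cfsg.sigmaCore H) :=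
      hqd.trans (Subgroup.orderOf_dvd_natCard _ hc.2)
    have hqH : q ∣ Nat.card H :=
      hqHc.trans (Subgroup.card_dvd_of_le (Cfsg.Agent.Helper68.BG12.sigmaCore_le H))
    have hqβ : q ∉ Cfsg.beta H := fun hβ => alpha_sigma_disjoint hG hU hH hM hnc' hβ.1 hqM
    have hcompl := h14 H hH q hq hqH hqβ
    have hpq : p ≠ q := by
      rintro rfl
      exact hpσM hqM
    -- work inside `H_σ`
    have hxS : x ∈ Cfsg.sigmaCore H := hPH hx
    obtain ⟨k, hk⟩ := hP ⟨x, hx⟩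
    have hk' : (⟨x, hxS⟩ : Cfsg.sigmaCore H) ^ p ^ k = 1 := by
      apply Subtype.ext
      have := congrArg Subtype.val hk
      simpa using this
    have := not_dvd_orderOf_of_hasNormalPComplement hpq hcompl ⟨k, hk'⟩ (⟨e, he.2⟩ : Cfsg.sigmaCore H)
    apply this
    have e1 : ((⟨e, he.2⟩ : Cfsg.sigmaCore H)⁻¹ * ⟨x, hxS⟩ * ⟨e, he.2⟩ * (⟨x, hxS⟩ : Cfsg.sigmaCore H)⁻¹ :
        Cfsg.sigmaCore H) = ⟨e⁻¹ * x * e * x⁻¹, hc.2⟩ := by
      apply Subtype.ext
      simp
    rw [e1, Subgroup.orderOf_mk]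
    exact hqd
  -- Step 2
  intro d hd
  rw [Subgroup.mem_centralizer_iff]
  intro x hx
  have hc := hcomm_mem d hd x hx
  set c := d⁻¹ * x * d * x⁻¹ with hcdef
  have hxc : x * c = c * x := by
    have h1 := step1 c hc x hx
    have : x * c = c * (c⁻¹ * x * c * x⁻¹) * x := by group
    rw [this, h1, mul_one]
  have hconj : ∀ n : ℕ, x ^ n * d * (x ^ n)⁻¹ = d * c ^ n := by
    intro n
    induction n with
    | zero => simp
    | succ n ih =>
      have hxcn : x * c ^ n = c ^ n * x := (Commute.pow_right (show Commute x c from hxc) n).eq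
      calc x ^ (n + 1) * d * (x ^ (n + 1))⁻¹ = x * (x ^ n * d * (x ^ n)⁻¹) * x⁻¹ := by
            rw [pow_succ']; group
        _ = x * (d * c ^ n) * x⁻¹ := by rw [ih]
        _ = (x * d * x⁻¹) * (x * c ^ n) * x⁻¹ := by group
        _ = (x * d * x⁻¹) * (c ^ n * x) * x⁻¹ := by rw [hxcn]
        _ = (d * c) * c ^ n := by rw [hcdef]; group
        _ = d * c ^ (n + 1) := by rw [pow_succ']; group
  have hcn : c ^ orderOf x = 1 := by
    have := hconj (orderOf x)
    rw [pow_orderOf_eq_one, one_mul, inv_one, mul_one] at this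
    exact (mul_eq_left.1 this.symm)
  obtain ⟨k, hk⟩ := (IsPGroup.iff_orderOf.1 hP) ⟨x, hx⟩
  have hox : orderOf x = p ^ k := by rw [← hk, Subgroup.orderOf_mk]
  have hc1 : c = 1 := by
    rw [← orderOf_eq_one_iff]
    have h1 : orderOf c ∣ p ^ k := by rw [← hox]; exact orderOf_dvd_of_pow_eq_one hcn
    have h2 : orderOf c ∣ Nat.card (Cfsg.sigmaCore M) := Subgroup.orderOf_dvd_natCard _ hc.1
    have hcop : (p ^ k).Coprime (Nat.card (Cfsg.sigmaCore M)) := by
      apply Nat.Coprime.pow_left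
      rw [Nat.Prime.coprime_iff_not_dvd hp]
      exact fun h => hpσM (prime_mem_sigma_of_dvd_card_sigmaCore M hp h)
    exact Nat.eq_one_of_dvd_coprimes hcop h1 h2
  have : x * d = d * c * x := by rw [hcdef]; group
  rw [this, hc1, mul_one]

end Cfsg.Agent.Helper48.BG142
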