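import Mathlib
import Cfsg.Agent.S0755
import Cfsg.Agent.S0837
import Cfsg.Agent.Helper3.Cov2P4Defs
import Cfsg.Agent.Helper3.Cov2P5Defs

/-!
helper48 for helper3 (S2500 part 5, board #12490): piece (5A) `exists_psi` of
`tools/helper3_cov2p4/Skel5.lean.txt`: orthonormal coordinates for the hermitian trace form of the
cubic extension.
-/

set_option autoImplicit false

namespace Cfsg.Agent.Helper48.Cov2P5

open Polynomial Module Matrix Cfsg.Agent.Helper3.Cov2

variable {F : Type*} [Field F] [Fintype F] {q : ℕ}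

variable (L : Type*) [Field L] [Algebra F L] [Finite L]

omit [Finite L] in
/-- additivity of `x ↦ x ^ (q ^ m)` on `L` -/
theorem A5_add_pow (hF : Fintype.card F = q ^ 2) (m : ℕ) (x y : L) :
    (x + y) ^ (q ^ m) = x ^ (q ^ m) + y ^ (q ^ m) := by
  obtain ⟨p, j, hp, hchar, rfl⟩ := Cfsg.Agent.Helper13.exists_char_pow_of_card_eq_sq hF
  have := hchar
  have : Fact p.Prime := ⟨hp⟩
  have : CharP L p := charP_of_injective_algebraMap (algebraMap F L).injective p
  rw [← pow_mul]
  exact add_pow_char_pow x y p (j * m)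

omit [Finite L] in
theorem A5_sum_pow (hF : Fintype.card F = q ^ 2) (m : ℕ) {ι : Type*} (s : Finset ι) (f : ι → L) :
    (∑ i ∈ s, f i) ^ (q ^ m) = ∑ i ∈ s, f i ^ (q ^ m) := by
  classical
  have hq : 2 ≤ q := Cfsg.Agent.Helper13.two_le_of_card_eq_sq hF
  have hqm : q ^ m ≠ 0 := pow_ne_zero _ (by omega)
  induction s using Finset.induction_on with
  | empty => rw [Finset.sum_empty, Finset.sum_empty, zero_pow hqm]
  | insert a s ha ih => rw [Finset.sum_insert ha, Finset.sum_insert ha, A5_add_pow L hF, ih]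

/-- `x ^ (q ^ 6) = x` on `L` -/
theorem A5_pow_six (hF : Fintype.card F = q ^ 2) (hL3 : finrank F L = 3) (x : L) :
    x ^ (q ^ 6) = x := by
  have : Fintype L := Fintype.ofFinite L
  have hc : Fintype.card L = q ^ 6 := by
    rw [Module.card_eq_pow_finrank (K := F) (V := L), hL3, hF, ← pow_mul]
  rw [← hc, FiniteField.pow_card]

/-- `c ^ (q ^ 3) = c ^ q` on `F` -/
theorem A5_pow_three (hF : Fintype.card F = q ^ 2) (c : F) : c ^ (q ^ 3) = c ^ q := by
  have : q ^ 3 = q ^ 2 * q := by ring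
  rw [this, pow_mul, ← hF, FiniteField.pow_card]

/-- `Tr(w)^q = Tr(w^(q^3))` -/
theorem A5_trace_pow (hF : Fintype.card F = q ^ 2) (hL3 : finrank F L = 3) (w : L) :
    (Algebra.trace F L w) ^ q = Algebra.trace F L (w ^ (q ^ 3)) := by
  apply (algebraMap F L).injective
  rw [map_pow, FiniteField.algebraMap_trace_eq_sum_pow, FiniteField.algebraMap_trace_eq_sum_pow,
    hL3, Nat.card_eq_fintype_card, hF]
  have h1 := A5_sum_pow L hF 1 (Finset.range 3) (fun i => w ^ ((q ^ 2) ^ i))
  rw [pow_one] at h1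
  rw [h1]
  simp only [Finset.sum_range_succ, Finset.sum_range_zero, zero_add, pow_zero, pow_one]
  have e1 : (w ^ q ^ 3) ^ (q ^ 2) ^ 2 = w ^ q := by
    rw [← pow_mul]
    have : q ^ 3 * (q ^ 2) ^ 2 = q ^ 6 * q := by ring
    rw [this, pow_mul, A5_pow_six L hF hL3]
  have e2 : (w ^ q ^ 3) ^ q ^ 2 = (w ^ (q ^ 2) ^ 2) ^ q := by
    rw [← pow_mul, ← pow_mul]
    have : q ^ 3 * q ^ 2 = (q ^ 2) ^ 2 * q := by ring
    rw [this]
  have e3 : (w ^ q ^ 2) ^ q = w ^ q ^ 3 := by
    rw [← pow_mul]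
    have : q ^ 2 * q = q ^ 3 := by ring
    rw [this]
  rw [e1, e2, e3]
  ring

/-- the hermitian trace form as a sesquilinear map (semilinear in the first variable) -/
noncomputable def A5_B (hF : Fintype.card F = q ^ 2) :
    L →ₛₗ[Cfsg.Agent.S0837.frobHom hF] L →ₗ[F] F :=
  LinearMap.mk₂'ₛₗ (Cfsg.Agent.S0837.frobHom hF) (RingHom.id F) (fun x y => hL F L q y x)
    (fun x x' y => by
      simp only [hL]
      rw [A5_add_pow L hF, mul_add, map_add])
    (fun c x y => by
      simp only [hL, Cfsg.Agent.S0837.frobHom_apply, smul_eq_mul]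
      rw [Algebra.smul_def, mul_pow, ← map_pow, A5_pow_three hF, ← mul_assoc,
        mul_comm y, mul_assoc, ← Algebra.smul_def, map_smul, smul_eq_mul])
    (fun x y y' => by
      simp only [hL]
      rw [add_mul, map_add])
    (fun c x y => by
      simp only [hL, RingHom.id_apply, smul_eq_mul]
      rw [smul_mul_assoc, map_smul, smul_eq_mul])

omit [Finite L] in
theorem A5_B_apply (hF : Fintype.card F = q ^ 2) (x y : L) :
    A5_B L hF x y = hL F L q y x := rfl

theorem A5_B_isSymm (hF : Fintype.card F = q ^ 2) (hL3 : finrank F L = 3) :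
    (A5_B L hF).IsSymm := by
  refine ⟨fun x y => ?_⟩
  rw [A5_B_apply, A5_B_apply, Cfsg.Agent.S0837.frobHom_apply]
  simp only [hL]
  rw [A5_trace_pow L hF hL3, mul_pow, ← pow_mul]
  have : q ^ 3 * q ^ 3 = q ^ 6 := by ring
  rw [this, A5_pow_six L hF hL3, mul_comm]

theorem A5_pow_surj (hF : Fintype.card F = q ^ 2) (hL3 : finrank F L = 3) (z : L) :
    ∃ x : L, x ^ (q ^ 3) = z := by
  refine ⟨z ^ (q ^ 3), ?_⟩
  rw [← pow_mul]
  have : q ^ 3 * q ^ 3 = q ^ 6 := by ring
  rw [this, A5_pow_six L hF hL3]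

theorem A5_B_nondegenerate (hF : Fintype.card F = q ^ 2) (hL3 : finrank F L = 3) :
    (A5_B L hF).Nondegenerate := by
  have hfd : FiniteDimensional F L := inferInstance
  have hq : 2 ≤ q := Cfsg.Agent.Helper13.two_le_of_card_eq_sq hF
  have hnd := traceForm_nondegenerate F L
  constructor
  · intro x hx
    have h0 : x ^ (q ^ 3) = 0 := by
      apply hnd.1
      intro y
      have := hx y
      rw [A5_B_apply] at this
      simp only [hL] at this
      rw [Algebra.traceForm_apply, mul_comm]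
      exact this
    exact pow_eq_zero_iff (pow_ne_zero _ (by omega)) |>.1 h0
  · intro y hy
    apply hnd.1
    intro z
    obtain ⟨x, rfl⟩ := A5_pow_surj L hF hL3 z
    have := hy x
    rw [A5_B_apply] at this
    simp only [hL] at this
    rw [Algebra.traceForm_apply]
    exact this

/-- (5A) -/
theorem exists_psi (hF : Fintype.card F = q ^ 2) (hL3 : finrank F L = 3) :
    ∃ ψ : L ≃ₗ[F] (Fin 3 → F), ∀ x y : L, Cfsg.hermForm 3 F q (ψ x) (ψ y) = hL F L q x y := by
  classical
  have hfd : FiniteDimensional F L := inferInstance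
  obtain ⟨b, hb⟩ := Cfsg.Agent.S0755.result (Cfsg.Agent.S0837.frobHom hF)
    (Cfsg.Agent.S0837.frobHom_ne_id hF) (Cfsg.Agent.S0837.frobHom_frobHom hF) (A5_B L hF)
    (A5_B_isSymm L hF hL3) (A5_B_nondegenerate L hF hL3)
  set b' : Module.Basis (Fin 3) F L := b.reindex (finCongr hL3) with hb'
  have hb'o : ∀ i j : Fin 3, A5_B L hF (b' i) (b' j) = if i = j then 1 else 0 := by
    intro i j
    rw [hb', Module.Basis.reindex_apply, Module.Basis.reindex_apply, hb]
    simp only [EmbeddingLike.apply_eq_iff_eq]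
  refine ⟨b'.equivFun, fun x y => ?_⟩
  have hx : x = ∑ i, b'.equivFun x i • b' i := (b'.sum_equivFun x).symm
  have hy : y = ∑ i, b'.equivFun y i • b' i := (b'.sum_equivFun y).symm
  have hxy : hL F L q x y = A5_B L hF y x := (A5_B_apply L hF y x).symm
  rw [hxy]
  conv_rhs => rw [hy, hx]
  simp only [map_sum, LinearMap.sum_apply, LinearMap.map_smulₛₗ, LinearMap.smul_apply, hb'o,
    Cfsg.Agent.S0837.frobHom_apply, smul_eq_mul, RingHom.id_apply]
  simp only [Cfsg.hermForm]
  refine Finset.sum_congr rfl fun i _ => ?_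
  simp

end Cfsg.Agent.Helper48.Cov2P5
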