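import Mathlib

/-!
# (C3) for S3701 (helper3's E27 route): the common part of the star vanishes on the exceptional
characters, and so do the `b k`.
-/

set_option autoImplicit false

namespace Cfsg.Agent.Helper48.E27

open Finset

variable {ι : Type*} [Fintype ι] [DecidableEq ι]

theorem sum_mul_ite_eq (g : ι → ℤ) (t : ι) (ε : ℤ) :
    ∑ x, g x * (if x = t then ε else 0) = g t * ε := by
  simp [mul_ite, Finset.sum_ite_eq']

omit [Fintype ι] in
theorem sum_theta_image (θ : Fin 5 → ι) (hθ : Function.Injective θ) (g : ι → ℤ) :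
    ∑ x ∈ Finset.univ.image θ, g x = ∑ i, g (θ i) :=
  Finset.sum_image (fun _ _ _ _ h => hθ h)

set_option linter.unusedVariables false in
/-- (C3) the common part vanishes on the exceptional characters, and so do the `b k`. -/
theorem star_zero (o : ι) (d : ι → ℕ) (hd : ∀ x, 0 < d x) (hdo : d o = 1)
    (a : Fin 5 → ι → ℤ) (b : Fin 3 → ι → ℤ)
    (haa : ∀ i j, ∑ x, a i x * a j x = if i = j then 5 else 4)
    (hbb : ∀ k, ∑ x, b k x ^ 2 = 6) (hba : ∀ k i, ∑ x, b k x * a i x = 4)
    (hao : ∀ i, a i o = -1) (hda : ∀ i, ∑ x, (d x : ℤ) * a i x = 0)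
    (ε : ℤ) (θ : Fin 5 → ι) (D : ℕ) (W : ι → ℤ) (hε : ε = 1 ∨ ε = -1)
    (hθ : Function.Injective θ) (hD : ∀ i, d (θ i) = D)
    (hW : ∀ i x, a i x = W x + if x = θ i then ε else 0) :
    (∀ i, θ i ≠ o) ∧ (∀ l, W (θ l) = 0) ∧ (∀ k l, b k (θ l) = 0) := by
  have hε2 : ε * ε = 1 := by rcases hε with h | h <;> simp [h]
  have hε0 : ε ≠ 0 := by rcases hε with h | h <;> simp [h]
  -- Step 1
  have hθo : ∀ i, θ i ≠ o := by
    intro l hl
    obtain ⟨i, hil⟩ : ∃ i : Fin 5, i ≠ l := ⟨l + 1, by omega⟩
    have h1 := hao i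
    rw [hW i o, if_neg (by rw [← hl]; exact fun h => hil (hθ h).symm)] at h1
    have h2 := hao l
    rw [hW l o, if_pos hl.symm] at h2
    omega
  have hWo : W o = -1 := by
    have h1 := hao 0
    rw [hW 0 o, if_neg (fun h => hθo 0 h.symm)] at h1
    simpa using h1
  -- Step 2
  set N : ℤ := ∑ x, W x ^ 2 with hN
  have hdiag : ∀ i, N + 2 * (ε * W (θ i)) = 4 := by
    intro i
    have h1 := haa i i
    rw [if_pos rfl] at h1
    have h2 : ∑ x, a i x * a i x =
        N + 2 * (∑ x, W x * (if x = θ i then ε else 0)) +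
          ∑ x, (if x = θ i then ε else 0) * (if x = θ i then ε else 0) := by
      rw [hN, Finset.mul_sum, ← Finset.sum_add_distrib, ← Finset.sum_add_distrib]
      refine Finset.sum_congr rfl fun x _ => ?_
      rw [hW i x]; ring
    rw [sum_mul_ite_eq, sum_mul_ite_eq, if_pos rfl] at h2
    rw [h2] at h1
    linarith
  -- Step 3
  set w : ℤ := W (θ 0) with hw
  have hconst : ∀ i, W (θ i) = w := by
    intro i
    have h1 := hdiag i
    have h2 := hdiag 0
    have h3 : ε * (W (θ i) - w) = 0 := by rw [hw]; linarith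
    rcases mul_eq_zero.1 h3 with h | h
    · exact absurd h hε0
    · linarith
  have hNw : N = 4 - 2 * (ε * w) := by have := hdiag 0; linarith
  -- Step 4
  have hθimg : o ∉ Finset.univ.image θ := by
    simp only [Finset.mem_image, Finset.mem_univ, true_and, not_exists]
    exact fun i => hθo i
  have hSsum : ∀ g : ι → ℤ, ∑ x ∈ insert o (Finset.univ.image θ), g x = g o + ∑ i, g (θ i) := by
    intro g
    rw [Finset.sum_insert hθimg, sum_theta_image θ hθ]
  have hNge : 1 + 5 * w ^ 2 ≤ N := by
    have h1 : ∑ x ∈ insert o (Finset.univ.image θ), W x ^ 2 ≤ N :=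
      Finset.sum_le_sum_of_subset_of_nonneg (Finset.subset_univ _) (fun _ _ _ => sq_nonneg _)
    rw [hSsum] at h1
    simp only [hconst, hWo] at h1
    simp at h1
    linarith
  have hεw : ε * w = 0 ∨ ε * w = -1 := by
    rcases hε with h | h
    · rw [h] at hNw ⊢
      have h1 : -2 < w := by nlinarith
      have h2 : w < 1 := by nlinarith
      omega
    · rw [h] at hNw ⊢
      have h1 : -1 < w := by nlinarith
      have h2 : w < 2 := by nlinarith
      omega
  -- Step 5
  have hw0 : w = 0 := by
    rcases hεw with h | h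
    · rcases mul_eq_zero.1 h with h' | h'
      · exact absurd h' hε0
      · exact h'
    · exfalso
      have hN6 : N = 6 := by rw [hNw, h]; norm_num
      have hw2 : w ^ 2 = 1 := by
        have : (ε * w) ^ 2 = 1 := by rw [h]; norm_num
        rw [mul_pow, sq ε, hε2, one_mul] at this
        exact this
      have hwε : w = -ε := by
        have : ε * (ε * w) = ε * (-1) := by rw [h]
        rw [← mul_assoc, hε2, one_mul] at this
        linarith
      -- W vanishes off S
      have hoff : ∀ x ∉ insert o (Finset.univ.image θ), W x = 0 := by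
        have h1 : ∑ x ∈ insert o (Finset.univ.image θ), W x ^ 2 = 6 := by
          rw [hSsum]
          simp only [hconst, hWo, hw2]
          simp
        have h2 : ∑ x ∈ (insert o (Finset.univ.image θ))ᶜ, W x ^ 2 = 0 := by
          have := Finset.sum_add_sum_compl (insert o (Finset.univ.image θ)) (fun x => W x ^ 2)
          rw [h1, ← hN, hN6] at this
          linarith
        intro x hx
        have h3 := (Finset.sum_eq_zero_iff_of_nonneg (fun _ _ => sq_nonneg _)).1 h2 x
          (Finset.mem_compl.2 hx)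
        exact pow_eq_zero_iff (two_ne_zero) |>.1 h3
      have h1 := hda 0
      have h2 : ∑ x, (d x : ℤ) * a 0 x =
          (∑ x, (d x : ℤ) * W x) + ∑ x, (d x : ℤ) * (if x = θ 0 then ε else 0) := by
        rw [← Finset.sum_add_distrib]
        refine Finset.sum_congr rfl fun x _ => ?_
        rw [hW 0 x]; ring
      have h3 : ∑ x, (d x : ℤ) * W x = -1 + 5 * (D * w) := by
        rw [← Finset.sum_subset (Finset.subset_univ (insert o (Finset.univ.image θ)))
          (fun x _ hx => by rw [hoff x hx, mul_zero]), hSsum]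
        simp only [hconst, hWo, hD, hdo]
        simp
      rw [h2, h3, sum_mul_ite_eq, hD, hwε] at h1
      rcases hε with h' | h' <;> rw [h'] at h1 <;> omega
  have hWθ : ∀ l, W (θ l) = 0 := fun l => by rw [hconst l, hw0]
  have hN4 : N = 4 := by rw [hNw, hw0]; norm_num
  refine ⟨hθo, hWθ, ?_⟩
  -- Step 7
  intro k
  set P : ℤ := ∑ x, b k x * W x with hP
  have hbθ : ∀ i, P + ε * b k (θ i) = 4 := by
    intro i
    have h1 := hba k i
    have h2 : ∑ x, b k x * a i x = P + ∑ x, b k x * (if x = θ i then ε else 0) := by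
      rw [hP, ← Finset.sum_add_distrib]
      refine Finset.sum_congr rfl fun x _ => ?_
      rw [hW i x]; ring
    rw [h2, sum_mul_ite_eq] at h1
    linarith
  set c : ℤ := b k (θ 0) with hc
  have hbconst : ∀ i, b k (θ i) = c := by
    intro i
    have h1 := hbθ i
    have h2 := hbθ 0
    have h3 : ε * (b k (θ i) - c) = 0 := by rw [hc]; linarith
    rcases mul_eq_zero.1 h3 with h | h
    · exact absurd h hε0
    · linarith
  suffices hc0 : c = 0 from fun l => by rw [hbconst l, hc0]
  by_contra hcne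
  -- sums over Θ and its complement
  have hb1 : ∑ x ∈ Finset.univ.image θ, b k x ^ 2 = 5 * c ^ 2 := by
    rw [sum_theta_image θ hθ]
    simp only [hbconst]
    simp
  have hb2 : ∑ x ∈ (Finset.univ.image θ)ᶜ, b k x ^ 2 = 6 - 5 * c ^ 2 := by
    have := Finset.sum_add_sum_compl (Finset.univ.image θ) (fun x => b k x ^ 2)
    rw [hb1, hbb k] at this
    linarith
  have hb2nn : 0 ≤ ∑ x ∈ (Finset.univ.image θ)ᶜ, b k x ^ 2 :=
    Finset.sum_nonneg fun _ _ => sq_nonneg _
  have hc2 : c ^ 2 = 1 := by
    have h1 : 0 < c ^ 2 := by positivity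
    have h2 : c ^ 2 ≤ 1 := by rw [hb2] at hb2nn; omega
    omega
  have hW2 : ∑ x ∈ (Finset.univ.image θ)ᶜ, W x ^ 2 ≤ 4 := by
    rw [← hN4]
    exact Finset.sum_le_sum_of_subset_of_nonneg (Finset.subset_univ _) (fun _ _ _ => sq_nonneg _)
  have hP2 : P = ∑ x ∈ (Finset.univ.image θ)ᶜ, b k x * W x := by
    have := Finset.sum_add_sum_compl (Finset.univ.image θ) (fun x => b k x * W x)
    rw [sum_theta_image θ hθ] at this
    simp only [hWθ, mul_zero, Finset.sum_const_zero, zero_add] at this
    rw [hP, ← this]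
  have hCS := Finset.sum_mul_sq_le_sq_mul_sq (Finset.univ.image θ)ᶜ (fun x => b k x) W
  rw [← hP2, hb2, hc2] at hCS
  have hW2nn : 0 ≤ ∑ x ∈ (Finset.univ.image θ)ᶜ, W x ^ 2 :=
    Finset.sum_nonneg fun _ _ => sq_nonneg _
  have hP4 : P ^ 2 ≤ 4 := by nlinarith
  have hPval : P = 4 - ε * c := by have := hbθ 0; linarith
  have hεc : ε * c = 1 ∨ ε * c = -1 := by
    have hcv : c = 1 ∨ c = -1 := by
      have : (c - 1) * (c + 1) = 0 := by nlinarith
      rcases mul_eq_zero.1 this with h | h
      · left; linarith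
      · right; linarith
    rcases hε with h | h <;> rcases hcv with h' | h' <;> simp [h, h']
  rcases hεc with h | h <;> rw [hPval, h] at hP4 <;> norm_num at hP4

end Cfsg.Agent.Helper48.E27
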