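import Mathlib
import Cfsg.Agent.S0989

set_option autoImplicit false

open Equiv Equiv.Perm
open scoped commutatorElement

namespace Cfsg.Agent.Helper48.GenGAL

/-- `p ^ 2` does not divide `p !`. -/
theorem sq_not_dvd_factorial {p : ℕ} (hp : p.Prime) : ¬ p ^ 2 ∣ p.factorial := by
  intro h
  obtain ⟨k, hk⟩ : ∃ k, p = k + 1 := ⟨p - 1, by have := hp.pos; omega⟩
  rw [hk, Nat.factorial_succ, pow_two] at h
  have h2 : (k + 1) ∣ k.factorial := Nat.dvd_of_mul_dvd_mul_left (by omega) h
  rw [← hk] at h2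
  have := (hp.dvd_factorial).1 h2
  omega

/-- A power of `p` dividing `p !` is at most `p`. -/
theorem pow_dvd_factorial_le {p k : ℕ} (hp : p.Prime) (h : p ^ k ∣ p.factorial) : k ≤ 1 := by
  by_contra hk
  rw [not_le] at hk
  exact sq_not_dvd_factorial hp (dvd_trans (pow_dvd_pow p hk) h)

theorem card_dvd_of_solvable_prime_degree {α : Type*} [Fintype α] [DecidableEq α] {p : ℕ}
    (hp : p.Prime) (hα : Fintype.card α = p) (G : Subgroup (Perm α))
    [MulAction.IsPretransitive G α] (hs : Group.IsSolvable G) : Nat.card G ∣ p * (p - 1) := by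
  classical
  have : Fact p.Prime := ⟨hp⟩
  have hprim : MulAction.IsPreprimitive G α :=
    MulAction.IsPreprimitive.of_prime_card (by rw [Nat.card_eq_fintype_card, hα]; exact hp)
  -- two distinct points
  have hcard2 : 1 < Fintype.card α := by rw [hα]; exact hp.one_lt
  obtain ⟨a0, b0, hab0⟩ := Fintype.exists_pair_of_one_lt_card hcard2
  -- derived series
  have hsol := hs.solvable
  set n := Nat.find hsol with hn
  have hnbot : derivedSeries G n = ⊥ := Nat.find_spec hsol
  have hn0 : n ≠ 0 := by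
    intro h0
    rw [h0, derivedSeries_zero] at hnbot
    obtain ⟨g, hg⟩ := MulAction.exists_smul_eq G a0 b0
    have : g ∈ (⊤ : Subgroup G) := Subgroup.mem_top g
    rw [hnbot, Subgroup.mem_bot] at this
    rw [this, one_smul] at hg
    exact hab0 hg
  obtain ⟨m, hm⟩ : ∃ m, n = m + 1 := ⟨n - 1, by omega⟩
  set A : Subgroup G := derivedSeries G m with hA
  have hAne : A ≠ ⊥ := by
    have := Nat.find_min hsol (m := m) (by omega)
    exact this
  have hAcomm : ⁅A, A⁆ = ⊥ := by
    rw [hm, derivedSeries_succ] at hnbot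
    exact hnbot
  have hAn : A.Normal := derivedSeries_normal G m
  have hcommute : ∀ x ∈ A, ∀ y ∈ A, x * y = y * x := by
    intro x hx y hy
    have h1 : ⁅x, y⁆ ∈ ⁅A, A⁆ := Subgroup.commutator_mem_commutator hx hy
    rw [hAcomm, Subgroup.mem_bot, commutatorElement_def] at h1
    have : x * y * x⁻¹ * y⁻¹ * y * x = 1 * y * x := by rw [h1]
    simpa [mul_assoc] using this
  -- A is transitive
  have hfix : MulAction.fixedPoints A α ≠ Set.univ := by
    intro hf
    apply hAne
    rw [Subgroup.eq_bot_iff_forall]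
    intro x hx
    have : ∀ a : α, (x : Perm α) a = a := by
      intro a
      have ha : a ∈ MulAction.fixedPoints A α := by rw [hf]; exact Set.mem_univ a
      have := ha ⟨x, hx⟩
      exact this
    apply Subtype.ext
    apply Equiv.Perm.ext
    intro a
    simpa using this a
  have hAt : MulAction.IsPretransitive A α :=
    MulAction.IsQuasiPreprimitive.isPretransitive_of_normal hfix
  have hpA : p ∣ Nat.card A := by
    have h1 := MulAction.index_stabilizer_of_transitive A a0
    rw [Nat.card_eq_fintype_card, hα] at h1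
    rw [← h1]
    exact Subgroup.index_dvd_card _
  obtain ⟨⟨a, haA⟩, hao⟩ := exists_prime_orderOf_dvd_card' p hpA
  have hao' : orderOf a = p := by
    rw [← hao]
    exact (Subgroup.orderOf_mk a haA).symm
  -- the subgroup of elements of A of order dividing p
  let Q : Subgroup G :=
    { carrier := {g | g ∈ A ∧ g ^ p = 1}
      one_mem' := ⟨A.one_mem, one_pow p⟩
      mul_mem' := by
        rintro x y ⟨hx, hxp⟩ ⟨hy, hyp⟩
        refine ⟨A.mul_mem hx hy, ?_⟩
        have hc : Commute x y := hcommute x hx y hy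
        rw [hc.mul_pow, hxp, hyp, one_mul]
      inv_mem' := by
        rintro x ⟨hx, hxp⟩
        exact ⟨A.inv_mem hx, by rw [inv_pow, hxp, inv_one]⟩ }
  have hQmem : ∀ g : G, g ∈ Q ↔ g ∈ A ∧ g ^ p = 1 := fun g => Iff.rfl
  have hQn : Q.Normal := by
    constructor
    intro x hx g
    rw [hQmem] at hx ⊢
    refine ⟨hAn.conj_mem x hx.1 g, ?_⟩
    rw [conj_pow, hx.2, mul_one, mul_inv_cancel]
  have haQ : a ∈ Q := by
    rw [hQmem]
    exact ⟨haA, by rw [← hao']; exact pow_orderOf_eq_one a⟩
  have ha1 : a ≠ 1 := by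
    intro h
    rw [h, orderOf_one] at hao'
    exact hp.one_lt.ne hao'
  have hQp : IsPGroup p Q := by
    intro x
    refine ⟨1, ?_⟩
    have := ((hQmem x).1 x.2).2
    apply Subtype.ext
    simpa using this
  -- image in Perm α
  set Q' : Subgroup (Perm α) := Q.map G.subtype with hQ'
  have hQ'p : IsPGroup p Q' := hQp.map G.subtype
  have hcardQ' : Nat.card Q' = Nat.card Q :=
    Subgroup.card_map_of_injective (Subgroup.subtype_injective G)
  have hpermcard : Nat.card (Perm α) = p.factorial := by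
    rw [Nat.card_eq_fintype_card, Fintype.card_perm, hα]
  obtain ⟨S, hS⟩ := hQ'p.exists_le_sylow
  obtain ⟨j, hj⟩ := (S.isPGroup').exists_card_eq
  have hj1 : j ≤ 1 := by
    apply pow_dvd_factorial_le hp
    rw [← hj, ← hpermcard]
    exact Subgroup.card_subgroup_dvd_card _
  have hQ'card : p ≤ Nat.card Q' := by
    rw [hcardQ']
    obtain ⟨k, hk⟩ := hQp.exists_card_eq
    rw [hk]
    have hk0 : k ≠ 0 := by
      intro h0
      rw [h0, pow_zero] at hk
      have hsub : Subsingleton Q := (Nat.card_eq_one_iff_unique.1 hk).1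
      have : (⟨a, haQ⟩ : Q) = 1 := Subsingleton.elim _ _
      exact ha1 (by simpa using congrArg Subtype.val this)
    calc p = p ^ 1 := (pow_one p).symm
      _ ≤ p ^ k := Nat.pow_le_pow_right hp.pos (by omega)
  have hSQ : (S : Subgroup (Perm α)) = Q' := by
    symm
    apply Subgroup.eq_of_le_of_card_ge hS
    rw [hj]
    calc p ^ j ≤ p ^ 1 := Nat.pow_le_pow_right hp.pos hj1
      _ = p := pow_one p
      _ ≤ Nat.card Q' := hQ'card
  -- G normalizes Q'
  have hGN : G ≤ Subgroup.normalizer ((S : Subgroup (Perm α)) : Set (Perm α)) := by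
    intro g hg
    rw [Subgroup.mem_normalizer_iff]
    intro x
    rw [hSQ, hQ']
    simp only [Subgroup.mem_map, Subgroup.coe_subtype]
    constructor
    · rintro ⟨y, hy, rfl⟩
      exact ⟨⟨g, hg⟩ * y * ⟨g, hg⟩⁻¹, hQn.conj_mem y hy ⟨g, hg⟩, rfl⟩
    · rintro ⟨y, hy, hyx⟩
      refine ⟨⟨g, hg⟩⁻¹ * y * ⟨g, hg⟩, ?_, ?_⟩
      · have := hQn.conj_mem y hy (⟨g, hg⟩⁻¹)
        simpa using this
      · simp only [Subgroup.coe_mul, Subgroup.coe_inv, hyx]
        group
  have hN := Cfsg.Agent.S0989.result p (Or.inl hα) S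
  rw [← hN]
  exact Subgroup.card_dvd_of_le hGN

end Cfsg.Agent.Helper48.GenGAL
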