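import Mathlib
import Cfsg.Agent.S0678
import Cfsg.Agent.Helper48.GenGAL

set_option autoImplicit false

open Equiv Equiv.Perm

namespace Cfsg.Agent.Helper48.GenD7

/-- A subgroup containing a cycle with full support is transitive. -/
theorem isPretransitive_of_full_cycle {α : Type*} [Fintype α] [DecidableEq α]
    (H : Subgroup (Perm α)) {τ : Perm α} (hτ : τ ∈ H) (hτc : τ.IsCycle)
    (hfull : τ.support.card = Fintype.card α) : MulAction.IsPretransitive H α := by
  have hsupp : τ.support = Finset.univ := Finset.eq_univ_of_card _ hfull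
  constructor
  intro a b
  have ha : τ a ≠ a := by
    rw [← Equiv.Perm.mem_support, hsupp]; exact Finset.mem_univ a
  have hb : τ b ≠ b := by
    rw [← Equiv.Perm.mem_support, hsupp]; exact Finset.mem_univ b
  obtain ⟨i, hi⟩ := hτc.sameCycle ha hb
  exact ⟨⟨τ ^ i, H.zpow_mem hτ i⟩, hi⟩

theorem alt_le_of_deg7 {α : Type*} [Fintype α] [DecidableEq α] (hα : Fintype.card α = 7)
    (H : Subgroup (Perm α)) {σ τ : Perm α} (hσ : σ ∈ H) (hτ : τ ∈ H) (hσc : σ.IsCycle)
    (hσ5 : σ.support.card = 5) (hτc : τ.IsCycle) (hτ7 : τ.support.card = 7) :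
    alternatingGroup α ≤ H := by
  classical
  have htrans : MulAction.IsPretransitive H α :=
    isPretransitive_of_full_cycle H hτ hτc (by rw [hτ7, hα])
  have h5 : 5 ∣ Nat.card H := by
    have ho : orderOf σ = 5 := by rw [hσc.orderOf, hσ5]
    have ho' : orderOf (⟨σ, hσ⟩ : H) = 5 := by
      rw [← ho]; exact Subgroup.orderOf_mk σ hσ
    rw [← ho']
    exact orderOf_dvd_natCard _
  by_contra hA
  by_cases hs : Group.IsSolvable H
  · have h42 := Cfsg.Agent.Helper48.GenGAL.card_dvd_of_solvable_prime_degree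
      (p := 7) (by norm_num) hα H hs
    have : 5 ∣ 7 * (7 - 1) := dvd_trans h5 h42
    omega
  · have h168 := (Cfsg.Agent.S0678.result hα H hs hA).1
    rw [h168] at h5
    omega

end Cfsg.Agent.Helper48.GenD7
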