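import Mathlib

/-!
# (D-3) for S2534 (helper30's Hall-Sym cluster): a `{2,3}`-subgroup of `A₈` preserving no
bipartition of type `4 | 4`.

`X` is the `A₄` acting on the six 2-subsets of four points (points `0..5`) and fixing `6` and `7`:
generated by `g = (0 3 1)(2 4 5)` and `h₁ = (1 4)(2 3)`; it is given as an explicit list of 12
permutations.
-/

set_option autoImplicit false

open Equiv Equiv.Perm MulAction Subgroup
open scoped Nat Pointwise

namespace Cfsg.Agent.Helper48.HallSym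

/-- `(0 3 1)(2 4 5)` -/
def d3g : Perm (Fin 8) := swap 0 3 * swap 3 1 * (swap 2 4 * swap 4 5)
/-- `(1 4)(2 3)` -/
def d3h1 : Perm (Fin 8) := swap 1 4 * swap 2 3
/-- `(0 5)(1 4)` -/
def d3h2 : Perm (Fin 8) := swap 0 5 * swap 1 4
/-- `(0 5)(2 3)` -/
def d3h3 : Perm (Fin 8) := swap 0 5 * swap 2 3

/-- the twelve elements of `A₄` -/
def d3L : List (Perm (Fin 8)) :=
  [1, d3h1, d3h2, d3h3, d3g, d3g * d3h1, d3g * d3h2, d3g * d3h3,
    d3g * d3g, d3g * d3g * d3h1, d3g * d3g * d3h2, d3g * d3g * d3h3]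

theorem d3L_mul_aux :
    (d3L.all fun a => d3L.all fun b => decide (a * b ∈ d3L)) = true := by decide +kernel

theorem d3L_mul : ∀ a ∈ d3L, ∀ b ∈ d3L, a * b ∈ d3L := by
  intro a ha b hb
  have h1 := d3L_mul_aux
  rw [List.all_eq_true] at h1
  have h2 := h1 a ha
  rw [List.all_eq_true] at h2
  exact of_decide_eq_true (h2 b hb)

theorem d3L_inv_aux : (d3L.all fun a => decide (a⁻¹ ∈ d3L)) = true := by decide +kernel

theorem d3L_inv : ∀ a ∈ d3L, a⁻¹ ∈ d3L := by
  intro a ha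
  have h1 := d3L_inv_aux
  rw [List.all_eq_true] at h1
  exact of_decide_eq_true (h1 a ha)

theorem d3L_sign_aux : (d3L.all fun a => decide (Equiv.Perm.sign a = 1)) = true := by
  decide +kernel

theorem d3L_sign : ∀ a ∈ d3L, Equiv.Perm.sign a = 1 := by
  intro a ha
  have h1 := d3L_sign_aux
  rw [List.all_eq_true] at h1
  exact of_decide_eq_true (h1 a ha)

theorem d3L_card : d3L.toFinset.card = 12 := by decide +kernel

/-- the subgroup `A₄ ≤ A₈` -/
def d3X : Subgroup (Perm (Fin 8)) where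
  carrier := {σ | σ ∈ d3L}
  mul_mem' := fun {a b} ha hb => d3L_mul a ha b hb
  one_mem' := by show (1 : Perm (Fin 8)) ∈ d3L; exact List.mem_cons_self
  inv_mem' := fun {a} ha => d3L_inv a ha

theorem mem_d3X {σ : Perm (Fin 8)} : σ ∈ d3X ↔ σ ∈ d3L := Iff.rfl

theorem d3X_le_alt : d3X ≤ alternatingGroup (Fin 8) := by
  intro σ hσ
  rw [Equiv.Perm.mem_alternatingGroup]
  exact d3L_sign σ hσ

theorem card_d3X : Nat.card d3X = 12 := by
  have h1 : Nat.card d3X = Nat.card {σ // σ ∈ d3L.toFinset} :=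
    Nat.card_congr (Equiv.subtypeEquivRight (fun σ => by rw [List.mem_toFinset]; exact Iff.rfl))
  rw [h1, Nat.card_eq_fintype_card, Fintype.card_coe, d3L_card]

theorem d3_key : ∀ t : Finset (Fin 8), t.card = 4 → (d3g • t = t ∨ d3g • t = tᶜ) →
    (d3h1 • t = t ∨ d3h1 • t = tᶜ) → False := by decide +kernel

/-- (D-3) -/
theorem exists_subgroup_no_bipartition :
    ∃ X : Subgroup (Perm (Fin 8)), X ≤ alternatingGroup (Fin 8) ∧
      (∀ p : ℕ, p.Prime → p ∣ Nat.card X → p = 2 ∨ p = 3) ∧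
      ∀ s : Set (Fin 8), s.ncard = 4 →
        ¬ X ≤ stabilizer (Perm (Fin 8)) ({s, sᶜ} : Set (Set (Fin 8))) := by
  refine ⟨d3X, d3X_le_alt, ?_, ?_⟩
  · intro p hp hdvd
    rw [card_d3X] at hdvd
    have h12 : (12 : ℕ) = 2 * (2 * 3) := by norm_num
    rw [h12] at hdvd
    rcases (Nat.Prime.dvd_mul hp).1 hdvd with h | h
    · exact Or.inl ((Nat.prime_dvd_prime_iff_eq hp Nat.prime_two).1 h)
    · rcases (Nat.Prime.dvd_mul hp).1 h with h | h
      · exact Or.inl ((Nat.prime_dvd_prime_iff_eq hp Nat.prime_two).1 h)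
      · exact Or.inr ((Nat.prime_dvd_prime_iff_eq hp Nat.prime_three).1 h)
  · intro s hs hX
    have hmem : ∀ σ ∈ d3X, σ • s = s ∨ σ • s = sᶜ := by
      intro σ hσ
      have h1 : σ • ({s, sᶜ} : Set (Set (Fin 8))) = {s, sᶜ} := mem_stabilizer_iff.1 (hX hσ)
      have h2 : σ • s ∈ σ • ({s, sᶜ} : Set (Set (Fin 8))) :=
        Set.smul_mem_smul_set (Set.mem_insert _ _)
      rw [h1] at h2
      simpa using h2
    classical
    obtain ⟨t, rfl⟩ : ∃ t : Finset (Fin 8), (t : Set (Fin 8)) = s :=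
      ⟨s.toFinset, Set.coe_toFinset s⟩
    rw [Set.ncard_coe_finset] at hs
    have hg := hmem d3g (show d3g ∈ d3L by simp [d3L])
    have hh := hmem d3h1 (show d3h1 ∈ d3L by simp [d3L])
    rw [← Finset.coe_smul_finset, ← Finset.coe_compl, Finset.coe_inj, Finset.coe_inj] at hg hh
    exact d3_key t hs hg hh

end Cfsg.Agent.Helper48.HallSym
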