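import Cfsg.Agent.Helper48.ZJClosedA
import Cfsg.Agent.Helper33.LocalGlobal
import Cfsg.Agent.Lib.Nilpotent

/-!
# The conjugacy functor `R ↦ ZJ(R ∩ D^G)` for a strongly closed subgroup `D` (helper48)

For a conjugation-invariant intrinsic family `good`, `zjInto good D R` is the intersection of the `good`
subgroups of `R` of largest order among those having a conjugate inside `D`; for `R ≤ P` with `D` strongly
closed in `P` this is `ZJ(D ∩ R)`.  `zjFunctor good D` replaces the value `⊥` by `R`, and is a conjugacy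
functor.
-/

set_option autoImplicit false

namespace Cfsg.Agent.Helper48

open Subgroup
open Cfsg.Agent.Lib.ZJ

universe u

variable {good : ∀ (K : Type u) [Group K], Subgroup K → Prop}

section functor

variable {G : Type u} [Group G]

theorem cj_cj_inv (g : G) (A : Subgroup G) : cj g (cj g⁻¹ A) = A := by
  show (A.map (MulAut.conj g⁻¹).toMonoidHom).map (MulAut.conj g).toMonoidHom = A
  rw [Cfsg.Agent.Helper33.map_conj_map_conj, mul_inv_cancel, Cfsg.Agent.Helper33.map_conj_one]

theorem cj_inv_cj (g : G) (A : Subgroup G) : cj g⁻¹ (cj g A) = A := by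
  show (A.map (MulAut.conj g).toMonoidHom).map (MulAut.conj g⁻¹).toMonoidHom = A
  rw [Cfsg.Agent.Helper33.map_conj_map_conj, inv_mul_cancel, Cfsg.Agent.Helper33.map_conj_one]

/-- conjugation invariance of `goodInto` -/
theorem goodInto_cj (hI : Intrinsic good) (D A : Subgroup G) (g : G) (hA : goodInto good D A) :
    goodInto good D (cj g A) := by
  refine ⟨(hI.map_iff (MulAut.conj g).toMonoidHom (MulAut.conj g).injective A).2 hA.1, ?_⟩
  obtain ⟨g₀, hg₀⟩ := hA.2
  refine ⟨g₀ * g⁻¹, ?_⟩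
  rintro _ ⟨_, ⟨x, hx, rfl⟩, rfl⟩
  have : g₀ * x * g₀⁻¹ ∈ D := hg₀ ⟨x, hx, rfl⟩
  simpa [mul_assoc] using this

theorem cj_mem_maxGood {gd : Subgroup G → Prop}
    (hconj : ∀ (A : Subgroup G) (g : G), gd A → gd (cj g A)) {R A : Subgroup G} (g : G)
    (hA : A ∈ maxGood gd R) : cj g A ∈ maxGood gd (cj g R) := by
  obtain ⟨hAR, hg, hmax⟩ := hA
  refine ⟨Subgroup.map_mono hAR, hconj A g hg, fun A' hA' hg' => ?_⟩
  rw [card_cj]
  have h1 : cj g⁻¹ A' ≤ R := by
    have h0 : cj g⁻¹ A' ≤ cj g⁻¹ (cj g R) :=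
      Subgroup.map_mono (f := (MulAut.conj g⁻¹).toMonoidHom) hA'
    rwa [cj_inv_cj] at h0
  have h2 := hmax _ h1 (hconj A' g⁻¹ hg')
  rwa [card_cj] at h2

theorem maxGood_cj {gd : Subgroup G → Prop}
    (hconj : ∀ (A : Subgroup G) (g : G), gd A → gd (cj g A)) (R : Subgroup G) (g : G) :
    maxGood gd (cj g R) = Set.image (fun A : Subgroup G => cj g A) (maxGood gd R) := by
  ext A
  constructor
  · intro hA
    have h1 := cj_mem_maxGood hconj g⁻¹ hA
    rw [cj_inv_cj] at h1
    exact ⟨cj g⁻¹ A, h1, cj_cj_inv g A⟩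
  · rintro ⟨A₀, hA₀, rfl⟩
    exact cj_mem_maxGood hconj g hA₀

theorem maxGood_goodInto_nonempty [Finite G] (hI : Intrinsic good) (D R : Subgroup G) :
    (maxGood (goodInto good D) R).Nonempty := by
  classical
  have hbot : goodInto good D (⊥ : Subgroup G) := by
    refine ⟨hI.bot, 1, ?_⟩
    rintro _ ⟨x, hx, rfl⟩
    have hx1 : x = 1 := Subgroup.mem_bot.1 hx
    subst hx1
    simp
  have : Nonempty {A : Subgroup G // A ≤ R ∧ goodInto good D A} := ⟨⟨⊥, bot_le, hbot⟩⟩
  obtain ⟨⟨A, hA⟩, hmax⟩ :=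
    Finite.exists_max (fun A : {A : Subgroup G // A ≤ R ∧ goodInto good D A} => Nat.card A.1)
  exact ⟨A, hA.1, hA.2, fun B hB hgB => hmax ⟨B, hB, hgB⟩⟩

/-- the intersection of the largest `good` subgroups of `R` that are conjugate into `D` -/
def zjInto (good : ∀ (K : Type u) [Group K], Subgroup K → Prop) (D R : Subgroup G) : Subgroup G :=
  sInf (maxGood (goodInto good D) R)

theorem zjInto_le [Finite G] (hI : Intrinsic good) (D R : Subgroup G) : zjInto good D R ≤ R := by
  obtain ⟨A, hA⟩ := maxGood_goodInto_nonempty hI D R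
  exact (sInf_le hA).trans hA.1

theorem zjInto_cj [Finite G] (hI : Intrinsic good) (D R : Subgroup G) (g : G) :
    zjInto good D (cj g R) = cj g (zjInto good D R) := by
  unfold zjInto
  rw [maxGood_cj (fun A g hA => goodInto_cj hI D A g hA)]
  exact (map_sInf_of_injective (MulAut.conj g).toMonoidHom (MulAut.conj g).injective
    (maxGood_goodInto_nonempty hI D R)).symm

open Classical in
/-- the conjugacy functor attached to `good` and `D` -/
noncomputable def zjFunctor (good : ∀ (K : Type u) [Group K], Subgroup K → Prop) (D : Subgroup G) :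
    Subgroup G → Subgroup G :=
  fun R => if zjInto good D R = ⊥ then R else zjInto good D R

theorem zjFunctor_of_ne_bot {D R : Subgroup G} (h : zjInto good D R ≠ ⊥) :
    zjFunctor good D R = zjInto good D R := by
  unfold zjFunctor
  rw [if_neg h]

theorem isConjugacyFunctor_zjFunctor [Finite G] (hI : Intrinsic good) (p : ℕ) (D : Subgroup G) :
    Cfsg.IsConjugacyFunctor p (zjFunctor good D) := by
  intro R _
  refine ⟨?_, ?_, ?_⟩
  · unfold zjFunctor
    split_ifs
    · exact le_rfl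
    · exact zjInto_le hI D R
  · intro hR
    unfold zjFunctor
    split_ifs with h
    · exact hR
    · exact h
  · intro g
    have h1 : zjInto good D (R.map (MulAut.conj g).toMonoidHom) =
        (zjInto good D R).map (MulAut.conj g).toMonoidHom := zjInto_cj hI D R g
    unfold zjFunctor
    rw [h1]
    by_cases h : zjInto good D R = ⊥
    · rw [if_pos h, if_pos (by rw [h, Subgroup.map_bot])]
    · have h2 : (zjInto good D R).map (MulAut.conj g).toMonoidHom ≠ ⊥ := by
        rw [Ne, Subgroup.map_eq_bot_iff_of_injective _ (MulAut.conj g).injective]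
        exact h
      rw [if_neg h, if_neg h2]

/-- For `R ≤ P` with `D` strongly closed in `P`, the family is the family of `D ⊓ R`. -/
theorem maxGood_goodInto_of_le {D P R : Subgroup G} (hD : Cfsg.IsStronglyClosed D P) (hR : R ≤ P) :
    maxGood (goodInto good D) R = maxGood (good G) (D ⊓ R) := by
  have key : ∀ A : Subgroup G, (A ≤ R ∧ goodInto good D A) ↔ (A ≤ D ⊓ R ∧ good G A) := by
    intro A
    constructor
    · rintro ⟨hAR, hg, g, hgA⟩
      refine ⟨le_inf (fun x hx => ?_) hAR, hg⟩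
      have h1 : g * x * g⁻¹ ∈ D := hgA ⟨x, hx, rfl⟩
      have h2 := hD.2 (g * x * g⁻¹) h1 g⁻¹
      have h3 : g⁻¹ * (g * x * g⁻¹) * g⁻¹⁻¹ = x := by group
      rw [h3] at h2
      exact h2 (hR (hAR hx))
    · rintro ⟨hAD, hg⟩
      refine ⟨hAD.trans inf_le_right, hg, 1, ?_⟩
      rintro _ ⟨x, hx, rfl⟩
      simpa using (hAD hx).1
  ext A
  constructor
  · rintro ⟨hAR, hg, hmax⟩
    obtain ⟨hAD, hgA⟩ := (key A).1 ⟨hAR, hg⟩
    refine ⟨hAD, hgA, fun A' hA' hg' => ?_⟩
    obtain ⟨h1, h2⟩ := (key A').2 ⟨hA', hg'⟩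
    exact hmax A' h1 h2
  · rintro ⟨hAD, hg, hmax⟩
    obtain ⟨hAR, hgA⟩ := (key A).2 ⟨hAD, hg⟩
    refine ⟨hAR, hgA, fun A' hA' hg' => ?_⟩
    obtain ⟨h1, h2⟩ := (key A').1 ⟨hA', hg'⟩
    exact hmax A' h1 h2

theorem zjInto_of_le {D P R : Subgroup G} (hD : Cfsg.IsStronglyClosed D P) (hR : R ≤ P) :
    zjInto good D R = sInf (maxGood (good G) (D ⊓ R)) := by
  unfold zjInto
  rw [maxGood_goodInto_of_le hD hR]

end functor

section main

variable {G : Type u} [Group G] [Finite G] {p : ℕ} [Fact p.Prime]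

/-- The centre of a Sylow `p`-subgroup meets a nontrivial strongly closed subgroup nontrivially. -/
theorem exists_central_of_stronglyClosed (P : Sylow p G) {D : Subgroup G}
    (hD : Cfsg.IsStronglyClosed D (P : Subgroup G)) (hD1 : D ≠ ⊥) :
    ∃ z ∈ D, z ≠ 1 ∧ ∀ y ∈ (P : Subgroup G), y * z = z * y := by
  have hnil : Group.IsNilpotent ↥(P : Subgroup G) := P.2.isNilpotent
  have hDn : (D.subgroupOf (P : Subgroup G)).Normal := normal_subgroupOf_of_stronglyClosed hD
  obtain ⟨⟨x, hx⟩, hx1⟩ := Subgroup.ne_bot_iff_exists_ne_one.1 hD1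
  have hne : D.subgroupOf (P : Subgroup G) ≠ ⊥ := by
    intro hbot
    apply hx1
    have h1 : (⟨x, hD.1 hx⟩ : ↥(P : Subgroup G)) ∈ D.subgroupOf (P : Subgroup G) :=
      Subgroup.mem_subgroupOf.2 hx
    rw [hbot, Subgroup.mem_bot] at h1
    apply Subtype.ext
    have h2 := congrArg Subtype.val h1
    exact h2
  have h := Cfsg.Agent.Lib.normal_inf_center_ne_bot (D.subgroupOf (P : Subgroup G)) hne
  obtain ⟨⟨z, hz⟩, hz1⟩ := Subgroup.ne_bot_iff_exists_ne_one.1 h
  refine ⟨z.1, Subgroup.mem_subgroupOf.1 hz.1, ?_, fun y hy => ?_⟩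
  · intro h1
    apply hz1
    apply Subtype.ext
    apply Subtype.ext
    exact h1
  · have := (Subgroup.mem_center_iff.1 hz.2) ⟨y, hy⟩
    exact congrArg Subtype.val this

/-- The local step: in the normalizer of a nontrivial well-placed subgroup, the functor controls strong
fusion. -/
theorem controlsStrongFusionIn_normalizer_of_wellPlaced (hI : Intrinsic good)
    (hrepl : ∀ (S : Type u) [Group S] [Finite S], IsPGroup p S → ∀ (D : Subgroup S) [D.Normal],
      ReplD good S D)
    (hnt : ∀ R : Subgroup G, IsPGroup p R → R ≠ ⊥ → sInf (maxGood (good G) R) ≠ ⊥)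
    (P : Sylow p G) (D : Subgroup G) (hD : Cfsg.IsStronglyClosed D (P : Subgroup G)) (hD1 : D ≠ ⊥)
    (hst : Cfsg.IsNormalizerPStable p G)
    (hc : ∀ U : Subgroup G, U ≤ (P : Subgroup G) → U ≠ ⊥ →
      Cfsg.IsPConstrained p ↥(normalizer (U : Set G)))
    (T : Subgroup G) (hT0 : T ≠ ⊥)
    (hT : Cfsg.IsWellPlaced p (zjFunctor good D) (P : Subgroup G) T) :
    Cfsg.ControlsStrongFusionIn p (zjFunctor good D) (normalizer (T : Set G)) := by
  set H := normalizer (T : Set G) with hH
  set T' := (P : Subgroup G) ⊓ H with hT'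
  have hT'p : IsPGroup p T' := P.2.to_le inf_le_left
  have hidx : ¬ p ∣ T'.relIndex H := hT.2 0
  refine ⟨T', inf_le_right, hT'p, hidx, ?_⟩
  intro A h hh hA hhA
  have hcX : Cfsg.IsPConstrained p ↥H := hc T hT.1 hT0
  have hsX : Cfsg.IsNormalizerPStable p ↥H :=
    isNormalizerPStable_of_injective H.subtype H.subtype_injective hst
  have hT'pX : IsPGroup p (T'.subgroupOf H) := hT'p.comap_subtype
  set TX : Sylow p ↥H := hT'pX.toSylow hidx with hTXdef
  have hTX : (TX : Subgroup ↥H) = T'.subgroupOf H := IsPGroup.toSylow_coe hT'pX hidx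
  set E := D.subgroupOf H with hE
  have hEX : Cfsg.IsStronglyClosed E (TX : Subgroup ↥H) := by
    rw [hTX]
    refine ⟨fun x hx => ?_, fun x hx g hg => ?_⟩
    · rw [Subgroup.mem_subgroupOf] at hx ⊢
      exact ⟨hD.1 hx, x.2⟩
    · rw [Subgroup.mem_subgroupOf] at hx hg ⊢
      exact hD.2 _ hx g.1 hg.1
  have hfac := pPrimeCore_sup_normalizer_sInf_maxGood hI hrepl hcX hsX TX E hEX
  set Zx := sInf (maxGood (good ↥H) E) with hZx
  have hKc : (Nat.card (Cfsg.pPrimeCore p ↥H)).Coprime p := Cfsg.Agent.Lib.card_pPrimeCore_coprime p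
  have hKn : (Cfsg.pPrimeCore p ↥H).Normal := pPrimeCore_normal p _
  -- `TX` normalizes `Zx`
  have hTN : (TX : Subgroup ↥H) ≤ normalizer (Zx : Set ↥H) := by
    have hconj : ∀ (A : Subgroup ↥H) (g : ↥H), good ↥H A → good ↥H (cj g A) := fun A g hA =>
      (hI.map_iff (MulAut.conj g).toMonoidHom (MulAut.conj g).injective A).2 hA
    have h1 := normalizer_le_normalizer_sInf (good := good ↥H) hconj (le_refl E)
    rw [maxGoodIn_self] at h1
    refine le_trans ?_ h1
    have key : ∀ t ∈ (TX : Subgroup ↥H), ∀ x ∈ E, t * x * t⁻¹ ∈ E := fun t ht x hx =>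
      hEX.2 x hx t ((TX : Subgroup ↥H).mul_mem ((TX : Subgroup ↥H).mul_mem ht (hEX.1 hx))
        ((TX : Subgroup ↥H).inv_mem ht))
    intro t ht
    rw [Subgroup.mem_normalizer_iff]
    intro x
    constructor
    · exact key t ht x
    · intro hx
      have := key t⁻¹ ((TX : Subgroup ↥H).inv_mem ht) _ hx
      simpa [mul_assoc] using this
  -- the subgroup generated by `A`
  set B := Subgroup.closure A with hB
  have hBT' : B ≤ T' := (Subgroup.closure_le _).2 hA
  set Bx := B.subgroupOf H with hBx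
  have hBxp : IsPGroup p Bx := (hT'p.to_le hBT').comap_subtype
  have hBxN : Bx ≤ normalizer (Zx : Set ↥H) := fun b hb =>
    hTN (by rw [hTX]; exact Subgroup.mem_subgroupOf.2 (hBT' (Subgroup.mem_subgroupOf.1 hb)))
  have hconjB : ∀ b ∈ B, h * b * h⁻¹ ∈ T' := by
    have h1 : B.map (MulAut.conj h).toMonoidHom ≤ T' := by
      rw [hB, MonoidHom.map_closure, Subgroup.closure_le]
      rintro _ ⟨a, ha, rfl⟩
      exact hhA ⟨a, ha, rfl⟩
    intro b hb
    exact h1 ⟨b, hb, rfl⟩
  have hh' : ∀ b ∈ Bx, (⟨h, hh⟩ : ↥H) * b * (⟨h, hh⟩ : ↥H)⁻¹ ∈ normalizer (Zx : Set ↥H) :=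
    fun b hb => hTN (by
      rw [hTX, Subgroup.mem_subgroupOf]
      exact hconjB _ (Subgroup.mem_subgroupOf.1 hb))
  obtain ⟨x, hxN, hx⟩ := exists_mem_conj_eq_of_sup_eq_top (Cfsg.pPrimeCore p ↥H)
    (normalizer (Zx : Set ↥H)) hKc hfac Bx hBxp hBxN ⟨h, hh⟩ hh'
  -- identification of the value of the functor at `T'`
  have hZmap : Zx.map H.subtype = zjFunctor good D T' := by
    have hinj : Function.Injective (H.subtype.comp E.subtype) :=
      H.subtype_injective.comp E.subtype_injective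
    have h1 : sInf (maxGood (good G) (E.map H.subtype)) = Zx.map H.subtype :=
      sInf_maxGood_map_of_injOn H.subtype E hinj hI (maxGood_nonempty' hI E)
    have hEmap : E.map H.subtype = D ⊓ T' := by
      rw [hE, Subgroup.subgroupOf_map_subtype]
      apply le_antisymm
      · exact le_inf inf_le_left (le_inf (inf_le_left.trans hD.1) inf_le_right)
      · exact le_inf inf_le_left (inf_le_right.trans inf_le_right)
    have h2 : zjInto good D T' = sInf (maxGood (good G) (D ⊓ T')) := zjInto_of_le hD inf_le_left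
    have hne : D ⊓ T' ≠ ⊥ := by
      obtain ⟨z, hzD, hz1, hzc⟩ := exists_central_of_stronglyClosed P hD hD1
      intro hbot
      apply hz1
      have hzH : z ∈ H := by
        apply Subgroup.centralizer_le_normalizer
        rw [Subgroup.mem_centralizer_iff]
        intro y hy
        exact hzc y (hT.1 hy)
      have : z ∈ D ⊓ T' := ⟨hzD, hD.1 hzD, hzH⟩
      rw [hbot, Subgroup.mem_bot] at this
      exact this
    have h3 : zjInto good D T' ≠ ⊥ := by
      rw [h2]
      exact hnt _ (hT'p.to_le inf_le_right) hne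
    rw [zjFunctor_of_ne_bot h3, h2, ← hEmap, h1]
  refine ⟨x.1, ⟨x.2, ?_⟩, fun a ha => ?_⟩
  · rw [← hZmap]
    exact (Subgroup.le_normalizer_map H.subtype) ⟨x, hxN, rfl⟩
  · have := hx ⟨a, (hA ha).2⟩ (Subgroup.mem_subgroupOf.2 (Subgroup.subset_closure ha))
    exact congrArg Subtype.val this

/-- **Control of strong fusion by `N_G(ZJ(D))`**, `D` strongly closed; generic form in the family. -/
theorem controlsStrongFusionOf_normalizer_sInf (hI : Intrinsic good)
    (hrepl : ∀ (S : Type u) [Group S] [Finite S], IsPGroup p S → ∀ (D : Subgroup S) [D.Normal],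
      ReplD good S D)
    (hnt : ∀ R : Subgroup G, IsPGroup p R → R ≠ ⊥ → sInf (maxGood (good G) R) ≠ ⊥)
    (P : Sylow p G) (D : Subgroup G) (hD : Cfsg.IsStronglyClosed D (P : Subgroup G))
    (hst : Cfsg.IsNormalizerPStable p G)
    (hc : ∀ U : Subgroup G, U ≤ (P : Subgroup G) → U ≠ ⊥ →
      Cfsg.IsPConstrained p ↥(normalizer (U : Set G)))
    (A : Set G) (hA : A ⊆ (P : Subgroup G)) :
    Cfsg.ControlsStrongFusionOf
      (normalizer ((sInf (maxGood (good G) D) : Subgroup G) : Set G)) (P : Subgroup G) A := by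
  refine ⟨hA, fun g hg => ?_⟩
  by_cases hD1 : D = ⊥
  · have h1 : sInf (maxGood (good G) D) = ⊥ := by
      rw [eq_bot_iff]
      exact (sInf_maxGood_le' hI D).trans (le_of_eq hD1)
    refine ⟨g, ?_, fun a _ => rfl⟩
    rw [h1, Subgroup.normalizer_eq_top]
    exact Subgroup.mem_top _
  · have hW := isConjugacyFunctor_zjFunctor (good := good) hI p D
    have hloc : ∀ T : Subgroup G, T ≠ ⊥ →
        Cfsg.IsWellPlaced p (zjFunctor good D) (P : Subgroup G) T →
        Cfsg.ControlsStrongFusionIn p (zjFunctor good D) (normalizer ((T : Subgroup G) : Set G)) :=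
      fun T hT0 hT =>
        controlsStrongFusionIn_normalizer_of_wellPlaced hI hrepl hnt P D hD hD1 hst hc T hT0 hT
    have hgA : Cfsg.Agent.Helper33.conjR g⁻¹ A ⊆ (P : Subgroup G) := by
      rintro _ ⟨a, ha, rfl⟩
      have := hg ⟨a, ha, rfl⟩
      simpa using this
    obtain ⟨c, hcA, n, hn, hgcn⟩ :=
      Cfsg.Agent.Helper33.controlsStrongFusion_of_local hW P hloc A g⁻¹ hA hgA
    have hWP : zjFunctor good D (P : Subgroup G) = sInf (maxGood (good G) D) := by
      have h2 : zjInto good D (P : Subgroup G) = sInf (maxGood (good G) (D ⊓ (P : Subgroup G))) :=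
        zjInto_of_le hD le_rfl
      rw [inf_eq_left.2 hD.1] at h2
      have h3 : zjInto good D (P : Subgroup G) ≠ ⊥ := by
        rw [h2]
        exact hnt D (P.2.to_le hD.1) hD1
      rw [zjFunctor_of_ne_bot h3, h2]
    rw [hWP] at hn
    refine ⟨n⁻¹, Subgroup.inv_mem _ hn, fun a ha => ?_⟩
    have hg' : g = n⁻¹ * c⁻¹ := by
      rw [← inv_inj, hgcn]
      group
    have hca : a * c = c * a := (Subgroup.mem_centralizer_iff.1 hcA) a ha
    have hca' : c⁻¹ * a * c = a := by rw [mul_assoc, hca]; group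
    rw [hg']
    calc n⁻¹ * c⁻¹ * a * (n⁻¹ * c⁻¹)⁻¹ = n⁻¹ * (c⁻¹ * a * c) * n := by group
      _ = n⁻¹ * a * n⁻¹⁻¹ := by rw [hca', inv_inv]

end main

end Cfsg.Agent.Helper48
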