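import Cfsg.Agent.Helper36.TorD.Defs

/-!
Helper48 for helper36 (TorD farm, S2372/S2375): piece (RHOGP) `rhoHom_gp`, statement verbatim from
`tools/helper36_tordata/Skel.lean.txt`.
-/

set_option autoImplicit false

namespace Cfsg.Agent.Helper48.TorD

open Cfsg Cfsg.Lie Cfsg.Agent.Helper18 Cfsg.Agent.Helper19.Cox Cfsg.Agent.Helper19.Poinc
  Cfsg.Agent.Helper80.Tor Cfsg.Agent.Helper36.TorD

section Fields

variable {F K : Type*} [Field F] [Fintype F] [Field K] [Fintype K] [Algebra F K]

variable (D : ChevalleyDatum)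
  (hD : D ∈ [chevG2, chevB2, chevD4, chevF4, chevE6, chevE7, chevE8])
include hD

/-- (RHOGP) the value of `rhoHom` on a word -/
theorem rhoHom_gp (C : Cert D) (h : RefSq D) (hl : C.M.IsLiftable (refU D h)) (w : List ℕ)
    (hw : ∀ i ∈ w, i < D.rank) :
    ((rhoHom D C h hl (gp C.M w) : (Matrix (Fin D.rank) (Fin D.rank) ℤ)ˣ) : Matrix (Fin D.rank) (Fin D.rank) ℤ)
      = wordM D w := by
  induction w with
  | nil => simp [wordM]
  | cons i w ih =>
    have hi : i < D.rank := hw i (List.mem_cons_self ..)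
    have hw' : ∀ j ∈ w, j < D.rank := fun j hj => hw j (List.mem_cons_of_mem _ hj)
    rw [gp_cons, map_mul, Units.val_mul, ih hw', sg_of_lt _ hi]
    unfold rhoHom
    rw [CoxeterSystem.lift_apply_simple]
    simp [wordM, refU]

end Fields

end Cfsg.Agent.Helper48.TorD
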