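import Cfsg.Agent.Helper38.FP.Defs

/-!
# (SS) selection, small case (piece for S2276, helper38)

For a permutation `v` of order 3 on at least 7 points there is a `v`-invariant set of size 6 on which
`v` acts nontrivially (two orbits of size 3, or one orbit of size 3 and three fixed points); this
gives `InvPair u w` directly (both sets of size 6).
-/

set_option autoImplicit false

namespace Cfsg.Agent.Helper48.FP

open Equiv Cfsg.Agent.Helper38.FP

variable {α : Type} [Fintype α] [DecidableEq α] {p : ℕ}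

/-- an element of order 3 on at least 7 points has an invariant set of size 6 with a moved point -/
theorem exists_six (v : Perm α) (h7 : 7 ≤ Fintype.card α) (hv : orderOf v = 3) :
    ∃ C : Finset α, (∀ a, v a ∈ C ↔ a ∈ C) ∧ C.card = 6 ∧ ∃ a ∈ C, v a ≠ a := by
  have hv1 : v ≠ 1 := by
    intro h
    rw [h, orderOf_one] at hv
    omega
  obtain ⟨x₀, hx₀⟩ : ∃ x₀, v x₀ ≠ x₀ := by
    by_contra hcon
    push Not at hcon
    exact hv1 (Perm.ext hcon)
  -- orbits of moved points have size 3
  have hcard3 : ∀ x, v x ≠ x → (orb v x).card = 3 := by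
    intro x hx
    rw [card_orb]
    have hdvd : orderOf (v.cycleOf x) ∣ 3 := hv ▸ Perm.orderOf_cycleOf_dvd_orderOf v x
    rcases (Nat.dvd_prime Nat.prime_three).mp hdvd with h1 | h3
    · exfalso
      rw [orderOf_eq_one_iff, Perm.cycleOf_eq_one_iff] at h1
      exact hx h1
    · exact h3
  by_cases hcase : ∃ y, y ∉ orb v x₀ ∧ v y ≠ y
  · obtain ⟨y, hy, hvy⟩ := hcase
    have hdisj : Disjoint (orb v x₀) (orb v y) := by
      rw [Finset.disjoint_left]
      intro z hz1 hz2
      rw [mem_orb] at hz1 hz2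
      exact hy (mem_orb.2 (hz1.trans hz2.symm))
    refine ⟨orb v x₀ ∪ orb v y, ?_, ?_, x₀, ?_, hx₀⟩
    · intro a
      rw [Finset.mem_union, Finset.mem_union, apply_mem_orb_iff, apply_mem_orb_iff]
    · rw [Finset.card_union_of_disjoint hdisj, hcard3 x₀ hx₀, hcard3 y hvy]
    · exact Finset.mem_union_left _ (self_mem_orb v x₀)
  · push Not at hcase
    have hcompl : 3 ≤ ((orb v x₀)ᶜ).card := by
      rw [Finset.card_compl, hcard3 x₀ hx₀]
      omega
    obtain ⟨F, hF, hFc⟩ := Finset.exists_subset_card_eq hcompl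
    have hdisj : Disjoint (orb v x₀) F := by
      rw [Finset.disjoint_left]
      intro z hz1 hz2
      exact (Finset.mem_compl.mp (hF hz2)) hz1
    refine ⟨orb v x₀ ∪ F, ?_, ?_, x₀, ?_, hx₀⟩
    · intro a
      by_cases ha : a ∈ orb v x₀
      · have ha' : v a ∈ orb v x₀ := (apply_mem_orb_iff v x₀ a).2 ha
        simp only [Finset.mem_union, ha, ha', true_or]
      · rw [hcase a ha]
    · rw [Finset.card_union_of_disjoint hdisj, hcard3 x₀ hx₀, hFc]
    · exact Finset.mem_union_left _ (self_mem_orb v x₀)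

/-- (SS) selection, small case (`p = 3`, both of order 3). -/
theorem select_small (u w : Perm α) (h5 : 5 ≤ Fintype.card α) (hu : orderOf u = 3)
    (hw : orderOf w = 3) :
    Fintype.card α = 5 ∨ Fintype.card α = 6 ∨ InvPair u w := by
  by_cases h7 : 7 ≤ Fintype.card α
  · right
    right
    obtain ⟨C, hC, hCc, hCm⟩ := exists_six u h7 hu
    obtain ⟨D, hD, hDc, hDm⟩ := exists_six w h7 hw
    refine ⟨C, D, hC, hD, by rw [hCc, hDc], by omega, by omega, hCm, hDm⟩
  · omega

end Cfsg.Agent.Helper48.FP
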