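import Cfsg.Agent.Helper39.C320.Conc

/-!
# (C2) `T0` is an involution (piece for S1903, helper39)
-/

set_option autoImplicit false

namespace Cfsg.Agent.Helper48.C320

open Cfsg.Agent.Helper39.C320
open Cfsg.Agent.Helper39.U34 Cfsg.Agent.Helper23.U34E

/-- (C2) `T0` is an involution -/
theorem orderOf_T0 : orderOf T0 = 2 := by
  have : Fact (Nat.Prime 2) := ⟨by norm_num⟩
  apply orderOf_eq_prime
  · rw [pow_eq_one_iff, mat_T0]
    decide +kernel
  · intro e
    have := congrArg mat e
    rw [mat_T0, Cfsg.Agent.Helper23.U34E.mat_one] at this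
    revert this
    decide +kernel

end Cfsg.Agent.Helper48.C320
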