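import Cfsg.Agent.Helper39.C320.Conc

/-!
# (C7) the centraliser of `T0` is not the whole stabiliser (piece for S1903, helper39)
-/

set_option autoImplicit false

namespace Cfsg.Agent.Helper48.C320

open Cfsg.Agent.Helper39.C320
open Cfsg.Agent.Helper39.U34 Cfsg.Agent.Helper23.U34E

/-- (C7) the centraliser is not the whole stabiliser -/
theorem exists_not_comm : ∃ s ∈ Stab, s * T0 ≠ T0 * s := by
  refine ⟨Z15, ?_, ?_⟩
  · rw [mem_Stab]
    unfold act
    rw [mat_Z15]
    decide +kernel
  · intro e
    have := congrArg mat e
    rw [mat_mul, mat_mul, mat_Z15, mat_T0] at this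
    revert this
    decide +kernel

end Cfsg.Agent.Helper48.C320
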