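import Mathlib

/-!
# S2371 piece (TW), for helper40: the Frobenius twist of a simultaneous diagonalisation
-/

set_option autoImplicit false

namespace Cfsg.Agent.Helper48.G2Tor

/-- one matrix: if `S` is `φ`-fixed and `S M₀ = M₀ diag d`, then `M = M₀⁻¹ φ(M₀)` satisfies
`M i j * φ (d j) = d i * M i j` -/
theorem TW_one {ι K : Type*} [Fintype ι] [DecidableEq ι] [Field K] (φ : K →+* K) (M₀ : Matrix ι ι K)
    (hM₀ : IsUnit M₀.det) (S : Matrix ι ι K) (hS : S.map φ = S) (d : ι → K)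
    (hSd : S * M₀ = M₀ * Matrix.diagonal d) (i j : ι) :
    (M₀⁻¹ * M₀.map φ) i j * φ (d j) = d i * (M₀⁻¹ * M₀.map φ) i j := by
  -- apply `φ` entrywise
  have h1 : S * M₀.map φ = M₀.map φ * Matrix.diagonal (fun i => φ (d i)) := by
    have h := congrArg (fun A : Matrix ι ι K => A.map φ) hSd
    simp only [Matrix.map_mul, hS] at h
    rw [h, Matrix.diagonal_map (map_zero φ)]
  -- `M₀⁻¹ S = diag d M₀⁻¹`
  have h2 : M₀⁻¹ * S = Matrix.diagonal d * M₀⁻¹ := by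
    calc M₀⁻¹ * S = M₀⁻¹ * S * (M₀ * M₀⁻¹) := by rw [Matrix.mul_nonsing_inv _ hM₀, Matrix.mul_one]
      _ = M₀⁻¹ * (S * M₀) * M₀⁻¹ := by simp only [Matrix.mul_assoc]
      _ = M₀⁻¹ * (M₀ * Matrix.diagonal d) * M₀⁻¹ := by rw [hSd]
      _ = (M₀⁻¹ * M₀) * Matrix.diagonal d * M₀⁻¹ := by simp only [Matrix.mul_assoc]
      _ = Matrix.diagonal d * M₀⁻¹ := by rw [Matrix.nonsing_inv_mul _ hM₀, Matrix.one_mul]
  have h4 : (M₀⁻¹ * M₀.map φ) * Matrix.diagonal (fun i => φ (d i)) =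
      Matrix.diagonal d * (M₀⁻¹ * M₀.map φ) := by
    rw [Matrix.mul_assoc, ← h1, ← Matrix.mul_assoc, h2, Matrix.mul_assoc]
  have h5 := congrFun (congrFun h4 i) j
  rw [Matrix.mul_diagonal, Matrix.diagonal_mul] at h5
  exact h5

/-- (TW) -/
theorem frob_twist {ι K : Type*} [Fintype ι] [DecidableEq ι] [Field K] (φ : K →+* K) (M₀ : Matrix ι ι K)
    (hM₀ : IsUnit M₀.det) (S T : Matrix ι ι K) (hS : S.map φ = S) (hT : T.map φ = T) (d e : ι → K)
    (hSd : S * M₀ = M₀ * Matrix.diagonal d) (hTe : T * M₀ = M₀ * Matrix.diagonal e) (j : ι) :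
    ∃ i, d i = φ (d j) ∧ e i = φ (e j) := by
  -- `M = M₀⁻¹ φ(M₀)` is invertible
  have hdetφ : (M₀.map φ).det = φ M₀.det := by
    rw [RingHom.map_det]
    rfl
  have hdet : (M₀⁻¹ * M₀.map φ).det ≠ 0 := by
    rw [Matrix.det_mul, hdetφ]
    apply mul_ne_zero
    · rw [Matrix.det_nonsing_inv]
      exact (Ring.inverse_unit hM₀.unit ▸ (hM₀.unit⁻¹).ne_zero)
    · exact (hM₀.map φ).ne_zero
  -- some entry of column `j` is non-zero
  obtain ⟨i, hi⟩ : ∃ i, (M₀⁻¹ * M₀.map φ) i j ≠ 0 := by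
    by_contra hcon
    push Not at hcon
    exact hdet (Matrix.det_eq_zero_of_column_eq_zero j hcon)
  refine ⟨i, ?_, ?_⟩
  · have h := TW_one φ M₀ hM₀ S hS d hSd i j
    rw [mul_comm] at h
    exact (mul_right_cancel₀ hi h).symm
  · have h := TW_one φ M₀ hM₀ T hT e hTe i j
    rw [mul_comm] at h
    exact (mul_right_cancel₀ hi h).symm

end Cfsg.Agent.Helper48.G2Tor
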