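import Mathlib
import Cfsg.Agent.Helper42.DZDefs

/-!
# (FD-C) of board #5654 (helper42, S2440): `|Z(SL_n(p))| = gcd(n, p - 1)` (helper48)
-/

set_option autoImplicit false

namespace Cfsg.Agent.Helper48.DZ

open Matrix Cfsg Cfsg.Agent.Helper42.DZ

variable {n : ℕ} {F : Type*} [Field F] [Fintype F]

/-- **(FD-C)** -/
theorem card_center_SL_zmod (p : ℕ) [hp : Fact p.Prime] (hn : 0 < n) :
    Nat.card (Subgroup.center (SLn n (ZMod p))) = Nat.gcd n (p - 1) := by
  rw [Nat.card_congr (Matrix.SpecialLinearGroup.center_equiv_rootsOfUnity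
    (n := Fin n) (R := ZMod p)).toEquiv]
  rw [Fintype.card_fin, max_eq_left (Nat.succ_le_of_lt hn), rootsOfUnity_eq_ker,
    IsCyclic.card_powMonoidHom_ker, Nat.card_eq_fintype_card, ZMod.card_units, Nat.gcd_comm]

end Cfsg.Agent.Helper48.DZ
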