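import Mathlib
import Cfsg.Agent.Helper42.DZDefs

/-!
# (FD-Z2) of board #5654 (helper42, S2440): central elements of `SL_n(F)`, `F` finite of
characteristic `p`, are `p`-regular (helper48)
-/

set_option autoImplicit false

namespace Cfsg.Agent.Helper48.DZ

open Matrix Cfsg Cfsg.Agent.Helper42.DZ

variable {n : ℕ} {F : Type*} [Field F] [Fintype F]

/-- **(FD-Z2)** -/
theorem not_dvd_orderOf_of_mem_center (p : ℕ) [hp : Fact p.Prime] [CharP F p] (z : SLn n F)
    (hz : z ∈ Subgroup.center (SLn n F)) : ¬ p ∣ orderOf z := by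
  intro hdvd
  rcases Nat.eq_zero_or_pos n with rfl | hn
  · have : z = 1 := Subsingleton.elim _ _
    rw [this, orderOf_one] at hdvd
    exact hp.out.one_lt.ne' (Nat.dvd_one.1 hdvd)
  obtain ⟨r, hr, hrz⟩ := Matrix.SpecialLinearGroup.mem_center_iff.1 hz
  rw [Fintype.card_fin] at hr
  have hr0 : r ≠ 0 := by
    rintro rfl
    rw [zero_pow hn.ne'] at hr
    exact zero_ne_one hr
  have hrq : r ^ (Fintype.card F - 1) = 1 := FiniteField.pow_card_sub_one_eq_one r hr0
  have hzq : z ^ (Fintype.card F - 1) = 1 := by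
    apply Subtype.ext
    rw [Matrix.SpecialLinearGroup.coe_pow, Matrix.SpecialLinearGroup.coe_one, ← hrz, ← map_pow,
      hrq, map_one]
  have h1 : p ∣ Fintype.card F - 1 := hdvd.trans (orderOf_dvd_of_pow_eq_one hzq)
  obtain ⟨f, -, hf⟩ := FiniteField.card F p
  have h2 : p ∣ Fintype.card F := by
    rw [hf]
    exact dvd_pow_self p f.ne_zero
  have hpos : 0 < Fintype.card F := Fintype.card_pos
  have h3 : p ∣ 1 := by
    have : Fintype.card F = (Fintype.card F - 1) + 1 := by omega
    rw [this] at h2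
    exact (Nat.dvd_add_right h1).1 h2
  exact hp.out.one_lt.ne' (Nat.dvd_one.1 h3)

end Cfsg.Agent.Helper48.DZ
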