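import Mathlib
import Cfsg.Agent.Helper43.EB.Defs

/-!
# S5877 (helper43), leaf (L2): two translates of an eigenspace
-/

set_option autoImplicit false

namespace Cfsg.Agent.Helper48.EBL2

open Cfsg.Agent.Helper43.EB Module

variable {F : Type*} [Field F] {V : Type*} [AddCommGroup V] [Module F V]

/-- a unit of `End V` is injective -/
theorem unit_injective (x : (Module.End F V)ˣ) : Function.Injective (x : Module.End F V) := by
  intro a b h
  have h1 : (((x⁻¹ : (Module.End F V)ˣ) : Module.End F V) * (x : Module.End F V)) a =
      (((x⁻¹ : (Module.End F V)ˣ) : Module.End F V) * (x : Module.End F V)) b := by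
    rw [Module.End.mul_apply, Module.End.mul_apply, h]
  rw [← Units.val_mul, inv_mul_cancel] at h1
  exact h1

theorem inv_apply_apply (x : (Module.End F V)ˣ) (v : V) :
    ((x⁻¹ : (Module.End F V)ˣ) : Module.End F V) ((x : Module.End F V) v) = v := by
  rw [← Module.End.mul_apply, ← Units.val_mul, inv_mul_cancel]
  rfl

theorem apply_inv_apply (x : (Module.End F V)ˣ) (v : V) :
    (x : Module.End F V) (((x⁻¹ : (Module.End F V)ˣ) : Module.End F V) v) = v := by
  rw [← Module.End.mul_apply, ← Units.val_mul, mul_inv_cancel]
  rfl

/-- (L2a) two translates of a subspace of dimension `w` meet in dimension at least `2w - n` -/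
theorem finrank_inter_translate [FiniteDimensional F V] (g x : (Module.End F V)ˣ) (c : F) :
    2 * finrank F (Module.End.eigenspace (g : Module.End F V) c) ≤ finrank F V +
      finrank F ↥(Module.End.eigenspace (g : Module.End F V) c ⊓
        (Module.End.eigenspace (g : Module.End F V) c).map (x : Module.End F V)) := by
  set W := Module.End.eigenspace (g : Module.End F V) c with hW
  have h1 : finrank F ↥(W.map (x : Module.End F V)) = finrank F W :=
    (LinearEquiv.finrank_eq (Submodule.equivMapOfInjective (x : Module.End F V)
      (unit_injective x) W)).symm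
  have h2 := Submodule.finrank_sup_add_finrank_inf_eq W (W.map (x : Module.End F V))
  have h3 : finrank F ↥(W ⊔ W.map (x : Module.End F V)) ≤ finrank F V := Submodule.finrank_le _
  rw [h1] at h2
  omega

theorem pow_apply_eigen (g : Module.End F V) (c : F) (k : ℕ) {w : V} (hw : g w = c • w) :
    (g ^ k) w = c ^ k • w := by
  induction k with
  | zero => simp
  | succ k ih => rw [pow_succ, Module.End.mul_apply, hw, map_smul, ih, smul_smul, pow_succ, mul_comm]

/-- (L2b) `x g^k x⁻¹ g^{-k}` fixes `W ∩ xW` pointwise, `W` an eigenspace of `g` -/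
theorem fix_inter_translate (g x : (Module.End F V)ˣ) (c : F) (k : ℕ) {u : V}
    (hu : u ∈ Module.End.eigenspace (g : Module.End F V) c ⊓
      (Module.End.eigenspace (g : Module.End F V) c).map (x : Module.End F V)) :
    ((x * g ^ k * x⁻¹ * (g ^ k)⁻¹ : (Module.End F V)ˣ) : Module.End F V) u = u := by
  obtain ⟨hu1, w, hw, rfl⟩ := hu
  have hgu : (g : Module.End F V) ((x : Module.End F V) w) = c • (x : Module.End F V) w :=
    Module.End.mem_eigenspace_iff.mp hu1
  have hgw : (g : Module.End F V) w = c • w := Module.End.mem_eigenspace_iff.mp hw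
  rw [Units.val_mul, Units.val_mul, Units.val_mul, Module.End.mul_apply, Module.End.mul_apply,
    Module.End.mul_apply]
  by_cases hc : c = 0
  · -- then `w = 0`
    have hw0 : w = 0 := by
      apply unit_injective g
      rw [hgw, hc, zero_smul, map_zero]
    rw [hw0, map_zero, map_zero, map_zero, map_zero, map_zero]
  · have hck : c ^ k ≠ 0 := pow_ne_zero k hc
    have h1 : ((g ^ k : (Module.End F V)ˣ) : Module.End F V) ((x : Module.End F V) w) =
        c ^ k • (x : Module.End F V) w := by
      rw [Units.val_pow_eq_pow_val]
      exact pow_apply_eigen _ c k hgu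
    have h2 : (((g ^ k)⁻¹ : (Module.End F V)ˣ) : Module.End F V) ((x : Module.End F V) w) =
        (c ^ k)⁻¹ • (x : Module.End F V) w := by
      have : (((g ^ k)⁻¹ : (Module.End F V)ˣ) : Module.End F V)
          (c ^ k • (x : Module.End F V) w) = (x : Module.End F V) w := by
        rw [← h1]
        exact inv_apply_apply (g ^ k) _
      rw [map_smul] at this
      calc (((g ^ k)⁻¹ : (Module.End F V)ˣ) : Module.End F V) ((x : Module.End F V) w)
          = (c ^ k)⁻¹ • (c ^ k • (((g ^ k)⁻¹ : (Module.End F V)ˣ) : Module.End F V)
              ((x : Module.End F V) w)) := by rw [smul_smul, inv_mul_cancel₀ hck, one_smul]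
        _ = (c ^ k)⁻¹ • (x : Module.End F V) w := by rw [this]
    have h3 : ((g ^ k : (Module.End F V)ˣ) : Module.End F V) w = c ^ k • w := by
      rw [Units.val_pow_eq_pow_val]
      exact pow_apply_eigen _ c k hgw
    rw [h2, map_smul, inv_apply_apply, map_smul, h3, smul_smul, inv_mul_cancel₀ hck, one_smul]

end Cfsg.Agent.Helper48.EBL2
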