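import Mathlib
import Cfsg.Agent.Helper43.EB.Defs

/-!
# S5877 (helper43), leaf (L6): a fixed point modulo the centre

`Q = G ⧸ Z` is a `ZMod r`-module, `N = 1 - φ̄` satisfies `N ^ r = 1 - φ̄ ^ r = 0`; the last non-zero
`N ^ i ȳ` is fixed by `φ̄`.
-/

set_option autoImplicit false

namespace Cfsg.Agent.Helper48.EBL6

open Cfsg.Agent.Helper43.EB Module

/-- the linear core: a `ZMod r`-linear endomorphism `fL` with `fL ^ r = 1` has a non-zero fixed
point as soon as the module is non-trivial -/
theorem exists_fixed_lin {A : Type*} [AddCommGroup A] {r : ℕ} [Fact r.Prime] [Module (ZMod r) A]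
    (fL : Module.End (ZMod r) A) (hfLpow : fL ^ r = 1) (y : A) (hy : y ≠ 0) :
    ∃ z : A, z ≠ 0 ∧ fL z = z := by
  have hN : (1 - fL) ^ r = 0 := by
    have hpoly : ((1 : Polynomial (ZMod r)) - Polynomial.X) ^ r = 1 - Polynomial.X ^ r := by
      rw [sub_pow_char, one_pow]
    have h1 := congrArg (Polynomial.aeval fL) hpoly
    rw [map_pow, map_sub, map_sub, map_one, map_pow, Polynomial.aeval_X, hfLpow, sub_self] at h1
    exact h1
  -- the least `k` with `N ^ k y = 0`
  have hex : ∃ k : ℕ, ((1 - fL) ^ k) y = 0 := ⟨r, by rw [hN]; rfl⟩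
  classical
  set k := Nat.find hex with hk
  have hk0 : ((1 - fL) ^ k) y = 0 := Nat.find_spec hex
  have hkpos : k ≠ 0 := by
    intro h
    rw [h, pow_zero, Module.End.one_apply] at hk0
    exact hy hk0
  obtain ⟨m, hm⟩ := Nat.exists_eq_succ_of_ne_zero hkpos
  have hmin : ((1 - fL) ^ m) y ≠ 0 := Nat.find_min hex (by omega : m < Nat.find hex)
  refine ⟨((1 - fL) ^ m) y, hmin, ?_⟩
  have h2 : (1 - fL) (((1 - fL) ^ m) y) = 0 := by
    rw [← Module.End.mul_apply, ← pow_succ', ← Nat.succ_eq_add_one, ← hm]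
    exact hk0
  rw [LinearMap.sub_apply, Module.End.one_apply, sub_eq_zero] at h2
  exact h2.symm

/-- the additive core: an additive endomorphism `f` with `f^[r] = id` of a non-trivial abelian
group of prime exponent `r` has a non-zero fixed point -/
theorem exists_fixed_add {A : Type*} [AddCommGroup A] {r : ℕ} (hr : r.Prime)
    (hexp : ∀ a : A, r • a = 0) (f : A →+ A) (hf : ∀ a, f^[r] a = a) (y : A) (hy : y ≠ 0) :
    ∃ z : A, z ≠ 0 ∧ f z = z := by
  have hfact : Fact r.Prime := ⟨hr⟩
  obtain ⟨inst⟩ : Nonempty (Module (ZMod r) A) := ⟨AddCommGroup.zmodModule hexp⟩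
  have hiter : ∀ k : ℕ, ∀ b, ((@AddMonoidHom.toZModLinearMap r A A _ _ inst inst f) ^ k) b =
      (⇑f)^[k] b := by
    intro k
    induction k with
    | zero => intro b; rfl
    | succ k ih =>
      intro b
      rw [pow_succ, Module.End.mul_apply, Function.iterate_succ_apply, ih]
      rfl
  obtain ⟨z, hz, hfz⟩ := @exists_fixed_lin A _ r hfact inst
    (@AddMonoidHom.toZModLinearMap r A A _ _ inst inst f)
    (by
      apply LinearMap.ext
      intro a
      rw [hiter, hf]
      rfl) y hy
  exact ⟨z, hz, hfz⟩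

/-- the multiplicative version of the core -/
theorem exists_fixed_mul {Q : Type*} [CommGroup Q] {r : ℕ} (hr : r.Prime)
    (hexp : ∀ q : Q, q ^ r = 1) (f : Q →* Q) (hf : ∀ q, f^[r] q = q) (y : Q) (hy : y ≠ 1) :
    ∃ z : Q, z ≠ 1 ∧ f z = z := by
  obtain ⟨z, hz, hfz⟩ := exists_fixed_add (A := Additive Q) hr
    (fun a => by
      show Additive.ofMul ((Additive.toMul a) ^ r) = 0
      rw [hexp]; rfl)
    (MonoidHom.toAdditive f)
    (fun a => by
      have : ∀ k : ℕ, ∀ b : Additive Q, (⇑(MonoidHom.toAdditive f))^[k] b =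
          Additive.ofMul ((⇑f)^[k] (Additive.toMul b)) := by
        intro k
        induction k with
        | zero => intro b; rfl
        | succ k ih => intro b; rw [Function.iterate_succ_apply, Function.iterate_succ_apply, ih]; rfl
      rw [this, hf]; rfl)
    (Additive.ofMul y) (fun h => hy (by simpa using h))
  refine ⟨Additive.toMul z, fun h => hz (by simpa using h), ?_⟩
  exact congrArg Additive.toMul hfz

/-- (L6) an automorphism of order dividing `r` of a group that is abelian of exponent `r` modulo a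
central subgroup `Z` fixes a non-trivial element modulo `Z` -/
theorem exists_fixed_mod {G : Type*} [Group G] (Z : Subgroup G) {r : ℕ} (hr : r.Prime)
    (hZc : ∀ a ∈ Z, ∀ b : G, a * b = b * a) (hcomm : ∀ a b : G, a * b * a⁻¹ * b⁻¹ ∈ Z)
    (hpow : ∀ a : G, a ^ r ∈ Z) (φ : MulAut G) (hφZ : ∀ a : G, a ∈ Z ↔ φ a ∈ Z) (hφr : φ ^ r = 1)
    (y : G) (hy : y ∉ Z) : ∃ z : G, z ∉ Z ∧ z * (φ z)⁻¹ ∈ Z := by
  have hZn : Z.Normal := ⟨fun a ha b => by
    have : b * a * b⁻¹ = a := by rw [← hZc a ha b, mul_assoc, mul_inv_cancel, mul_one]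
    rw [this]; exact ha⟩
  let instC : CommGroup (G ⧸ Z) :=
    { (inferInstance : Group (G ⧸ Z)) with
      mul_comm := by
        intro p q
        induction p using QuotientGroup.induction_on with
        | H a =>
          induction q using QuotientGroup.induction_on with
          | H b =>
            rw [← QuotientGroup.mk_mul, ← QuotientGroup.mk_mul, QuotientGroup.eq]
            have := hcomm b⁻¹ a⁻¹
            simpa [mul_assoc] using this }
  have hle : Z ≤ Z.comap φ.toMonoidHom := fun a ha => (hφZ a).mp ha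
  let f : (G ⧸ Z) →* (G ⧸ Z) := QuotientGroup.map Z Z φ.toMonoidHom hle
  have hfmk : ∀ a : G, f (QuotientGroup.mk a) = QuotientGroup.mk (φ a) := fun a => rfl
  have hfit : ∀ k : ℕ, ∀ a : G, (⇑f)^[k] (QuotientGroup.mk a) = QuotientGroup.mk ((φ ^ k) a) := by
    intro k
    induction k with
    | zero => intro a; rfl
    | succ k ih =>
      intro a
      rw [Function.iterate_succ_apply', ih, hfmk, pow_succ', MulAut.mul_apply]
  obtain ⟨z, hz, hfz⟩ := exists_fixed_mul (Q := G ⧸ Z) hr
    (fun q => by
      induction q using QuotientGroup.induction_on with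
      | H a =>
        rw [← QuotientGroup.mk_pow]
        exact (QuotientGroup.eq_one_iff _).mpr (hpow a))
    f
    (fun q => by
      induction q using QuotientGroup.induction_on with
      | H a => rw [hfit, hφr, MulAut.one_apply])
    (QuotientGroup.mk y) (fun h => hy ((QuotientGroup.eq_one_iff y).mp h))
  induction z using QuotientGroup.induction_on with
  | H a =>
    refine ⟨a, fun h => hz ((QuotientGroup.eq_one_iff a).mpr h), ?_⟩
    rw [hfmk] at hfz
    have h1 : (QuotientGroup.mk (a * (φ a)⁻¹) : G ⧸ Z) = 1 := by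
      rw [QuotientGroup.mk_mul, QuotientGroup.mk_inv, hfz, mul_inv_cancel]
    exact (QuotientGroup.eq_one_iff _).mp h1

end Cfsg.Agent.Helper48.EBL6
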