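import Cfsg.Agent.Helper5.PsuE2.Defs

set_option autoImplicit false

namespace Cfsg.Agent.Helper48.PsuE2

open Matrix
open scoped commutatorElement
open Cfsg.Agent.Helper43.PsuM.Ev
open Cfsg.Agent.Helper96.StLift
open Cfsg.Agent.Helper5.PsuE2

universe u

section group

variable {K : Type u} [Field K] {σ : K →+* K} {m : ℕ} {Γ : Type u} [Group Γ] [Finite Γ]
  (τ : Γ →* SUe m σ) (hτ : Function.Surjective τ)

/-- (C3) conjugating `cT τ a b u` by a lift of `xE σ a b t`. -/
theorem conj_cT (E : Ext2 τ hτ) (F : F4Facts σ) (R : RootFacts σ m) (hm : 4 ≤ m)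
    (L : LiftFacts τ hτ)
    (hC1 : ∀ a b : Fin m, a ≠ b → ∀ t : K, t ≠ 0 →
      lc hτ (xE σ a b t) (zE σ b 1) = cT τ a b t * zt τ hτ a b)
    (a b : Fin m) (hab : a ≠ b) (t u : K) (g : Γ) (hg : τ g = xE σ a b t) :
    g * cT τ a b u * g⁻¹ = cT τ a b u ∨ g * cT τ a b u * g⁻¹ = cT τ a b u * zt τ hτ a b := by
  classical
  -- notation
  obtain ⟨z, hz⟩ := hτ (zE σ b 1)
  have hZmap : τ (zt τ hτ a b) = zE σ a 1 := map_zt τ hτ R hab
  have hZQ : τ (zt τ hτ a b) ∈ Qsub m σ := by rw [hZmap]; exact R.z_mem a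
  have hzQ : τ z ∈ Qsub m σ := by rw [hz]; exact R.z_mem b
  have hCmap : ∀ v : K, τ (cT τ a b v) = cE σ a b v := fun v => map_cT τ hτ R hab v
  have hCQ : ∀ v : K, τ (cT τ a b v) ∈ Qsub m σ := fun v => by
    rw [hCmap]; exact R.c_mem a b hab v
  have hZZ : zt τ hτ a b * zt τ hτ a b = 1 := L.sq_one _ hZQ
  have hCC : ∀ v : K, cT τ a b v * cT τ a b v = 1 := fun v => L.sq_one _ (hCQ v)
  have cm : ∀ x y : Γ, τ x ∈ Qsub m σ → τ y ∈ Qsub m σ → x * y = y * x :=
    fun x y hx hy => (E.comm x y hx hy).eq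
  have hc0 : cE σ a b 0 = 1 := by
    have h := R.c_add a b hab 0 0
    rw [add_zero] at h
    have h' : cE σ a b 0 * cE σ a b 0 = cE σ a b 0 * 1 := by rw [mul_one]; exact h.symm
    exact mul_left_cancel h'
  -- (i) the action of a lift of `x_s`, `s ≠ 0`, on `z`
  have hact : ∀ (s : K) (x : Γ), s ≠ 0 → τ x = xE σ a b s →
      x * z * x⁻¹ = cT τ a b s * zt τ hτ a b * z := by
    intro s x hs hx
    have h1 : ⁅x, z⁆ = lc hτ (xE σ a b s) (zE σ b 1) := lc_eq' hτ E.central hx hz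
    rw [hC1 a b hab s hs, commutatorElement_def, mul_inv_eq_iff_eq_mul] at h1
    exact h1
  -- (ii) lifts of `x_s` centralise `zt`
  have hZfix : ∀ (s : K) (x : Γ), τ x = xE σ a b s → x * zt τ hτ a b * x⁻¹ = zt τ hτ a b := by
    intro s x hx
    have h := (L.x_z x (zt τ hτ a b) a b a s hab hab hx hZmap).eq
    rw [h, mul_inv_cancel_right]
  -- the common rearrangement
  have hrearr : ∀ (D C : Γ), τ C ∈ Qsub m σ →
      D * zt τ hτ a b * (C * zt τ hτ a b * z) = D * C * z := by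
    intro D C hC
    calc D * zt τ hτ a b * (C * zt τ hτ a b * z)
        = D * (zt τ hτ a b * C) * zt τ hτ a b * z := by group
      _ = D * (C * zt τ hτ a b) * zt τ hτ a b * z := by rw [cm _ _ hZQ hC]
      _ = D * C * (zt τ hτ a b * zt τ hτ a b) * z := by group
      _ = D * C * z := by rw [hZZ, mul_one]
  by_cases ht : t = 0
  · -- `g` is central
    left
    have hgk : g ∈ τ.ker := by rw [MonoidHom.mem_ker, hg, ht, R.x_zero]
    have hcen := Subgroup.mem_center_iff.1 (E.central hgk) (cT τ a b u)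
    rw [← hcen, mul_inv_cancel_right]
  by_cases hu : u = 0
  · left
    have h1 : (1 : Γ) = cT τ a b 0 :=
      cT_unique τ hτ R L.csh_inf hab (Subgroup.one_mem _) (by rw [map_one, hc0])
    rw [hu, ← h1, mul_one, mul_inv_cancel]
  have hDQ : τ (g * cT τ a b u * g⁻¹) ∈ Qsub m σ := by
    rw [map_mul, map_mul, map_inv, hg]
    exact R.x_norm a b t _ (hCQ u)
  by_cases htu : t = u
  · left
    subst htu
    -- `g * g` is central
    have hggk : g * g ∈ τ.ker := by
      rw [MonoidHom.mem_ker, map_mul, hg, ← R.x_add, F.two, R.x_zero]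
    have hcen := Subgroup.mem_center_iff.1 (E.central hggk) z
    have h1 := hact t g ht hg
    have h2 := hZfix t g hg
    have e1 : g * cT τ a b t * g⁻¹ * zt τ hτ a b * (cT τ a b t * zt τ hτ a b * z) = z := by
      calc g * cT τ a b t * g⁻¹ * zt τ hτ a b * (cT τ a b t * zt τ hτ a b * z)
          = (g * cT τ a b t * g⁻¹) * (g * zt τ hτ a b * g⁻¹) * (g * z * g⁻¹) := by rw [h2, h1]
        _ = g * (cT τ a b t * zt τ hτ a b * z) * g⁻¹ := by group
        _ = g * (g * z * g⁻¹) * g⁻¹ := by rw [h1]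
        _ = z * (g * g) * (g⁻¹ * g⁻¹) := by rw [hcen]; group
        _ = z := by group
    rw [hrearr _ _ (hCQ t)] at e1
    have e2 : g * cT τ a b t * g⁻¹ * cT τ a b t = 1 := by
      have : g * cT τ a b t * g⁻¹ * cT τ a b t * z = 1 * z := by rw [one_mul]; exact e1
      exact mul_right_cancel this
    calc g * cT τ a b t * g⁻¹
        = g * cT τ a b t * g⁻¹ * (cT τ a b t * cT τ a b t) := by rw [hCC, mul_one]
      _ = (g * cT τ a b t * g⁻¹ * cT τ a b t) * cT τ a b t := by group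
      _ = cT τ a b t := by rw [e2, one_mul]
  · right
    have htu0 : t + u ≠ 0 := by
      intro h
      apply htu
      have : t = t + (u + u) := by rw [F.two, add_zero]
      rw [this, ← add_assoc, h, zero_add]
    obtain ⟨g', hg'⟩ := hτ (xE σ a b u)
    have hgg' : τ (g * g') = xE σ a b (t + u) := by rw [map_mul, hg, hg', R.x_add]
    have h1 := hact t g ht hg
    have h1' := hact u g' hu hg'
    have h1'' := hact (t + u) (g * g') htu0 hgg'
    have h2 := hZfix t g hg
    have hadd : cT τ a b t * cT τ a b u = cT τ a b (t + u) := by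
      apply cT_unique τ hτ R L.csh_inf hab
        (Subgroup.mul_mem _ (cT_mem τ hτ R hab t) (cT_mem τ hτ R hab u))
      rw [map_mul, hCmap, hCmap, R.c_add a b hab]
    have e1 : g * cT τ a b u * g⁻¹ * zt τ hτ a b * (cT τ a b t * zt τ hτ a b * z)
        = cT τ a b (t + u) * zt τ hτ a b * z := by
      calc g * cT τ a b u * g⁻¹ * zt τ hτ a b * (cT τ a b t * zt τ hτ a b * z)
          = (g * cT τ a b u * g⁻¹) * (g * zt τ hτ a b * g⁻¹) * (g * z * g⁻¹) := by rw [h2, h1]
        _ = g * (cT τ a b u * zt τ hτ a b * z) * g⁻¹ := by group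
        _ = g * (g' * z * g'⁻¹) * g⁻¹ := by rw [h1']
        _ = (g * g') * z * (g * g')⁻¹ := by group
        _ = cT τ a b (t + u) * zt τ hτ a b * z := h1''
    rw [hrearr _ _ (hCQ t), ← hadd] at e1
    have e2 : g * cT τ a b u * g⁻¹ * cT τ a b t = cT τ a b t * cT τ a b u * zt τ hτ a b :=
      mul_right_cancel e1
    have hCuZ : τ (cT τ a b u * zt τ hτ a b) ∈ Qsub m σ := by
      rw [map_mul]; exact Subgroup.mul_mem _ (hCQ u) hZQ
    calc g * cT τ a b u * g⁻¹
        = (g * cT τ a b u * g⁻¹ * cT τ a b t) * (cT τ a b t)⁻¹ := by group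
      _ = cT τ a b t * cT τ a b u * zt τ hτ a b * (cT τ a b t)⁻¹ := by rw [e2]
      _ = cT τ a b t * (cT τ a b u * zt τ hτ a b) * (cT τ a b t)⁻¹ := by group
      _ = (cT τ a b u * zt τ hτ a b) * cT τ a b t * (cT τ a b t)⁻¹ := by
          rw [cm _ _ (hCQ t) hCuZ]
      _ = cT τ a b u * zt τ hτ a b := by group

end group

end Cfsg.Agent.Helper48.PsuE2
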