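import Mathlib
import Cfsg.Agent.Helper85.A7Defs

/-!
# S0984 sub-tree LOC, leaf (R4) for helper85: eigenvalue multiplicities of an element `b` with
`b ^ 4 = 1` in a `Rep6`

`f := D.ρ b` satisfies `f ^ 4 = 1`.  The four spectral projections
`Q ν = (1/4) (1 + ν f + ν² f² + ν³ f³)` (`ν = μ⁻¹`, `μ ∈ {1, i, -1, -i}`) are orthogonal idempotents
with sum `1` and `f Q = μ Q`; traces of idempotents are ranks; the determinant is computed from
`f = (1 + (i - 1) P₁) (1 + (-1 - 1) P₂) (1 + (-i - 1) P₃)` and `det (1 + (c - 1) P) = c ^ rank P`.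
-/

set_option autoImplicit false

namespace Cfsg.Agent.Helper48.A7

open Cfsg Cfsg.Agent.Helper85.A7
open scoped ComplexConjugate

universe u

section LinAlg

variable {V : Type*} [AddCommGroup V] [Module ℂ V]

/-- the spectral projection of `f` (with `f ^ 4 = 1`) for the eigenvalue `ν⁻¹` -/
noncomputable def qProj (f : Module.End ℂ V) (ν : ℂ) : Module.End ℂ V :=
  (1 / 4 : ℂ) • (1 + ν • f + ν ^ 2 • f ^ 2 + ν ^ 3 • f ^ 3)

theorem f_mul_qProj (f : Module.End ℂ V) (hf : f ^ 4 = 1) (μ ν : ℂ) (h1 : μ * ν = 1)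
    (h4 : ν ^ 4 = 1) : f * qProj f ν = μ • qProj f ν := by
  have h3 : ν ^ 3 = μ := by linear_combination (-(ν ^ 3)) * h1 + μ * h4
  have e2 : f * f = f ^ 2 := (pow_two f).symm
  have e3 : f * f ^ 2 = f ^ 3 := (pow_succ' f 2).symm
  have e4 : f * f ^ 3 = 1 := by rw [← pow_succ', hf]
  unfold qProj
  rw [mul_smul_comm, mul_add, mul_add, mul_add, mul_one, mul_smul_comm, mul_smul_comm,
    mul_smul_comm, e2, e3, e4]
  linear_combination (norm := module) (-(1 / 4 : ℂ)) • (h1 • f) - ((1 / 4 : ℂ) * ν) • (h1 • f ^ 2)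
    - ((1 / 4 : ℂ) * ν ^ 2) • (h1 • f ^ 3) + (1 / 4 : ℂ) • (h3 • (1 : Module.End ℂ V))

theorem pow_mul_qProj (f : Module.End ℂ V) (hf : f ^ 4 = 1) (μ ν : ℂ) (h1 : μ * ν = 1)
    (h4 : ν ^ 4 = 1) (k : ℕ) : f ^ k * qProj f ν = μ ^ k • qProj f ν := by
  induction k with
  | zero => simp
  | succ k ih =>
    rw [pow_succ, mul_assoc, f_mul_qProj f hf μ ν h1 h4, mul_smul_comm, ih, smul_smul, pow_succ,
      mul_comm]

theorem qProj_mul_qProj (f : Module.End ℂ V) (hf : f ^ 4 = 1) (μ ν ν' : ℂ) (h1 : μ * ν = 1)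
    (h4 : ν ^ 4 = 1) :
    qProj f ν' * qProj f ν =
      ((1 / 4 : ℂ) * (1 + ν' * μ + (ν' * μ) ^ 2 + (ν' * μ) ^ 3)) • qProj f ν := by
  have e1 := f_mul_qProj f hf μ ν h1 h4
  have e2 := pow_mul_qProj f hf μ ν h1 h4 2
  have e3 := pow_mul_qProj f hf μ ν h1 h4 3
  generalize qProj f ν = Q at e1 e2 e3 ⊢
  unfold qProj
  rw [smul_mul_assoc, add_mul, add_mul, add_mul, one_mul, smul_mul_assoc, smul_mul_assoc,
    smul_mul_assoc, e1, e2, e3]
  module

theorem qProj_idem (f : Module.End ℂ V) (hf : f ^ 4 = 1) (μ ν : ℂ) (h1 : μ * ν = 1)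
    (h4 : ν ^ 4 = 1) : IsIdempotentElem (qProj f ν) := by
  have h1' : ν * μ = 1 := by rw [mul_comm]; exact h1
  show qProj f ν * qProj f ν = qProj f ν
  rw [qProj_mul_qProj f hf μ ν ν h1 h4, h1']
  norm_num

theorem qProj_orth (f : Module.End ℂ V) (hf : f ^ 4 = 1) (μ ν μ' ν' : ℂ) (h1 : μ * ν = 1)
    (h4 : ν ^ 4 = 1) (h1' : μ' * ν' = 1) (h4' : ν' ^ 4 = 1) (hne : μ ≠ μ') :
    qProj f ν' * qProj f ν = 0 := by
  rw [qProj_mul_qProj f hf μ ν ν' h1 h4]
  have hμ4 : μ ^ 4 = 1 := by
    have : (μ * ν) ^ 4 = 1 := by rw [h1, one_pow]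
    rw [mul_pow, h4, mul_one] at this
    exact this
  have hr4 : (ν' * μ) ^ 4 = 1 := by rw [mul_pow, h4', hμ4, one_mul]
  have hr1 : ν' * μ - 1 ≠ 0 := by
    intro h
    apply hne
    have h2 : ν' * μ = 1 := sub_eq_zero.mp h
    calc μ = (μ' * ν') * μ := by rw [h1', one_mul]
      _ = μ' * (ν' * μ) := by ring
      _ = μ' := by rw [h2, mul_one]
  have hsum : 1 + ν' * μ + (ν' * μ) ^ 2 + (ν' * μ) ^ 3 = 0 := by
    have : (ν' * μ - 1) * (1 + ν' * μ + (ν' * μ) ^ 2 + (ν' * μ) ^ 3) = 0 := by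
      linear_combination hr4
    exact (mul_eq_zero.mp this).resolve_left hr1
  rw [hsum, mul_zero, zero_smul]

theorem qProj_sum (f : Module.End ℂ V) :
    qProj f 1 + qProj f (-Complex.I) + qProj f (-1) + qProj f Complex.I = 1 := by
  unfold qProj
  linear_combination (norm := module) ((1 / 2 : ℂ)) • (Complex.I_sq • f ^ 2)

/-- `f` in terms of its spectral projections -/
theorem f_eq_sum_qProj (f : Module.End ℂ V) (hf : f ^ 4 = 1) :
    f = qProj f 1 + Complex.I • qProj f (-Complex.I) + (-1 : ℂ) • qProj f (-1) +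
      (-Complex.I) • qProj f Complex.I := by
  have hI4 : Complex.I ^ 4 = 1 := Complex.I_pow_four
  have e0 := f_mul_qProj f hf 1 1 (by norm_num) (by norm_num)
  have e1 := f_mul_qProj f hf Complex.I (-Complex.I) (by rw [mul_neg, Complex.I_mul_I, neg_neg])
    (by rw [neg_pow, hI4]; norm_num)
  have e2 := f_mul_qProj f hf (-1) (-1) (by norm_num) (by norm_num)
  have e3 := f_mul_qProj f hf (-Complex.I) Complex.I (by rw [neg_mul, Complex.I_mul_I, neg_neg]) hI4
  calc f = f * (qProj f 1 + qProj f (-Complex.I) + qProj f (-1) + qProj f Complex.I) := by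
        rw [qProj_sum, mul_one]
    _ = _ := by rw [mul_add, mul_add, mul_add, e0, e1, e2, e3, one_smul]

/-- `f ^ 2` in terms of the spectral projections of `f` -/
theorem f_sq_eq_sum_qProj (f : Module.End ℂ V) (hf : f ^ 4 = 1) :
    f ^ 2 = qProj f 1 + (-1 : ℂ) • qProj f (-Complex.I) + qProj f (-1) +
      (-1 : ℂ) • qProj f Complex.I := by
  have hI4 : Complex.I ^ 4 = 1 := Complex.I_pow_four
  have e0 := pow_mul_qProj f hf 1 1 (by norm_num) (by norm_num) 2
  have e1 := pow_mul_qProj f hf Complex.I (-Complex.I) (by rw [mul_neg, Complex.I_mul_I, neg_neg])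
    (by rw [neg_pow, hI4]; norm_num) 2
  have e2 := pow_mul_qProj f hf (-1) (-1) (by norm_num) (by norm_num) 2
  have e3 := pow_mul_qProj f hf (-Complex.I) Complex.I (by rw [neg_mul, Complex.I_mul_I, neg_neg])
    hI4 2
  calc f ^ 2 = f ^ 2 * (qProj f 1 + qProj f (-Complex.I) + qProj f (-1) + qProj f Complex.I) := by
        rw [qProj_sum, mul_one]
    _ = _ := by
        have hI2 : (-Complex.I) ^ 2 = -1 := by rw [neg_sq, Complex.I_sq]
        rw [mul_add, mul_add, mul_add, e0, e1, e2, e3, Complex.I_sq, hI2]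
        norm_num

/-- `det (1 + (c - 1) P) = c ^ rank P` for an idempotent `P` -/
theorem det_one_add_smul_idem [FiniteDimensional ℂ V] (P : Module.End ℂ V)
    (hP : IsIdempotentElem P) (c : ℂ) :
    LinearMap.det (1 + (c - 1) • P) = c ^ Module.finrank ℂ (LinearMap.range P) := by
  have h := LinearMap.IsIdempotentElem.isProj_range P hP
  set e := (LinearMap.range P).prodEquivOfIsCompl (LinearMap.ker P) h.isCompl with he
  have h2 : (1 + (c - 1) • P : Module.End ℂ V) =
      (e : _ →ₗ[ℂ] V) ∘ₗ (LinearMap.prodMap (c • (LinearMap.id : LinearMap.range P →ₗ[ℂ] LinearMap.range P))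
        (LinearMap.id : LinearMap.ker P →ₗ[ℂ] LinearMap.ker P)) ∘ₗ (e.symm : V →ₗ[ℂ] _) := by
    apply LinearMap.ext
    intro x
    obtain ⟨⟨u, w⟩, rfl⟩ := e.surjective x
    have hu : P (u : V) = u := h.map_id u u.2
    have hw : P (w : V) = 0 := LinearMap.mem_ker.mp w.2
    rw [LinearMap.comp_apply, LinearMap.comp_apply, LinearEquiv.coe_coe, LinearEquiv.coe_coe,
      LinearEquiv.symm_apply_apply]
    simp only [LinearMap.prodMap_apply, LinearMap.smul_apply, LinearMap.id_apply, LinearMap.add_apply,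
      Module.End.one_apply, he, Submodule.coe_prodEquivOfIsCompl', map_add, hu, hw,
      Submodule.coe_smul]
    module
  rw [h2, LinearMap.det_conj, LinearMap.det_prodMap, LinearMap.det_smul, LinearMap.det_id,
    LinearMap.det_id, mul_one, mul_one]

/-- the product decomposition of `f` used for the determinant -/
theorem f_eq_prod_qProj (f : Module.End ℂ V) (hf : f ^ 4 = 1) :
    f = (1 + (Complex.I - 1) • qProj f (-Complex.I)) * (1 + ((-1 : ℂ) - 1) • qProj f (-1)) *
      (1 + (-Complex.I - 1) • qProj f Complex.I) := by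
  have hI4 : Complex.I ^ 4 = 1 := Complex.I_pow_four
  have hnI4 : (-Complex.I) ^ 4 = 1 := by rw [neg_pow, hI4]; norm_num
  have a1 : Complex.I * -Complex.I = 1 := by rw [mul_neg, Complex.I_mul_I, neg_neg]
  have a2 : (-1 : ℂ) * -1 = 1 := by norm_num
  have a3 : -Complex.I * Complex.I = 1 := by rw [neg_mul, Complex.I_mul_I, neg_neg]
  have hIne : Complex.I ≠ -1 := by
    intro h
    have := congrArg Complex.im h
    simp at this
  have hInI : Complex.I ≠ -Complex.I := by
    intro h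
    have := congrArg Complex.im h
    simp at this
    norm_num at this
  have hnI1 : (-1 : ℂ) ≠ -Complex.I := by
    intro h
    have := congrArg Complex.im h
    simp at this
  -- `P₁ P₂ = 0`, `P₁ P₃ = 0`, `P₂ P₃ = 0`
  have o12 : qProj f (-Complex.I) * qProj f (-1) = 0 :=
    qProj_orth f hf (-1) (-1) Complex.I (-Complex.I) a2 (by norm_num) a1 hnI4 (Ne.symm hIne)
  have o13 : qProj f (-Complex.I) * qProj f Complex.I = 0 :=
    qProj_orth f hf (-Complex.I) Complex.I Complex.I (-Complex.I) a3 hI4 a1 hnI4 (Ne.symm hInI)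
  have o23 : qProj f (-1) * qProj f Complex.I = 0 :=
    qProj_orth f hf (-Complex.I) Complex.I (-1) (-1) a3 hI4 a2 (by norm_num) (Ne.symm hnI1)
  have hs := qProj_sum f
  have hd := f_eq_sum_qProj f hf
  generalize qProj f 1 = P0 at hs hd
  generalize qProj f (-Complex.I) = P1 at hs hd o12 o13 ⊢
  generalize qProj f (-1) = P2 at hs hd o12 o23 ⊢
  generalize qProj f Complex.I = P3 at hs hd o13 o23 ⊢
  have e1 : (1 + (Complex.I - 1) • P1) * (1 + ((-1 : ℂ) - 1) • P2) =
      1 + (Complex.I - 1) • P1 + ((-1 : ℂ) - 1) • P2 := by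
    rw [add_mul, one_mul, mul_add, mul_one, smul_mul_smul_comm, o12, smul_zero, add_zero]
    abel
  rw [e1, add_mul, add_mul, one_mul, mul_add, mul_add, mul_one, mul_one, smul_mul_smul_comm, o13,
    smul_mul_smul_comm, o23, smul_zero, smul_zero, add_zero, add_zero]
  rw [← hs]
  nth_rewrite 1 [hd]
  module

theorem trace_qProj [FiniteDimensional ℂ V] (f : Module.End ℂ V) (hf : f ^ 4 = 1) (μ ν : ℂ)
    (h1 : μ * ν = 1) (h4 : ν ^ 4 = 1) :
    LinearMap.trace ℂ V (qProj f ν) = (Module.finrank ℂ (LinearMap.range (qProj f ν)) : ℂ) :=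
  (LinearMap.IsIdempotentElem.isProj_range _ (qProj_idem f hf μ ν h1 h4)).trace

theorem mem_range_qProj_one (f : Module.End ℂ V) (hf : f ^ 4 = 1) (v : V) :
    v ∈ LinearMap.range (qProj f 1) ↔ f v = v := by
  constructor
  · rintro ⟨w, rfl⟩
    have e0 := f_mul_qProj f hf 1 1 (by norm_num) (by norm_num)
    rw [one_smul] at e0
    rw [← Module.End.mul_apply, e0]
  · intro hv
    refine ⟨v, ?_⟩
    have h2 : (f ^ 2) v = v := by rw [pow_two, Module.End.mul_apply, hv, hv]
    have h3 : (f ^ 3) v = v := by rw [pow_succ, Module.End.mul_apply, hv, h2]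
    unfold qProj
    simp only [LinearMap.smul_apply, LinearMap.add_apply, Module.End.one_apply, hv, h2, h3]
    module

end LinAlg

section Main

variable {G : Type u} [Group G]

theorem fixSp_zpowers_eq {V : Type*} [AddCommGroup V] [Module ℂ V] (ρ : Representation ℂ G V)
    (b : G) (hb : b ^ 4 = 1) :
    fixSp ρ (Subgroup.zpowers b) = LinearMap.range (qProj (ρ b) 1) := by
  have hf : (ρ b) ^ 4 = 1 := by rw [← map_pow, hb, map_one]
  ext v
  rw [mem_range_qProj_one (ρ b) hf, mem_fixSp]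
  constructor
  · intro h
    exact h b (Subgroup.mem_zpowers b)
  · intro hv k hk
    rw [Subgroup.zpowers_eq_closure] at hk
    induction hk using Subgroup.closure_induction with
    | mem x hx =>
      rw [Set.mem_singleton_iff] at hx
      rw [hx]
      exact hv
    | one => rw [map_one, Module.End.one_apply]
    | mul x y _ _ hx hy => rw [map_mul, Module.End.mul_apply, hy, hx]
    | inv x _ hx =>
      conv_lhs => rw [← hx]
      rw [← Module.End.mul_apply, ← map_mul, inv_mul_cancel, map_one, Module.End.one_apply]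

/-- (R4) eigenvalue multiplicities of an element `b` with `b^4 = 1`: `d0, d1, d2, d1` for
`1, i, -1, -i` (reality gives `d1 = d3`, `det = 1` gives `d2` even) -/
theorem char_pow_four (D : Rep6 G) (b : G) (hb : b ^ 4 = 1) :
    ∃ d0 d1 d2 : ℕ, d0 + 2 * d1 + d2 = 6 ∧ Even d2 ∧
      D.ρ.character b = (d0 : ℂ) - (d2 : ℂ) ∧
      D.ρ.character (b ^ 2) = (d0 : ℂ) + (d2 : ℂ) - 2 * (d1 : ℂ) ∧
      Module.finrank ℂ (fixSp D.ρ (Subgroup.zpowers b)) = d0 := by
  have hf : (D.ρ b) ^ 4 = 1 := by rw [← map_pow, hb, map_one]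
  have hfix := fixSp_zpowers_eq D.ρ b hb
  have hch1 : D.ρ.character b = LinearMap.trace ℂ _ (D.ρ b) := rfl
  have hch2 : D.ρ.character (b ^ 2) = LinearMap.trace ℂ _ ((D.ρ b) ^ 2) := by
    rw [← map_pow]; rfl
  have hreal := D.real b
  have hdet := D.det_one b
  generalize D.ρ b = f at hf hfix hch1 hch2 hdet
  have hI4 : Complex.I ^ 4 = 1 := Complex.I_pow_four
  have hnI4 : (-Complex.I) ^ 4 = 1 := by rw [neg_pow, hI4]; norm_num
  have a1 : Complex.I * -Complex.I = 1 := by rw [mul_neg, Complex.I_mul_I, neg_neg]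
  have a3 : -Complex.I * Complex.I = 1 := by rw [neg_mul, Complex.I_mul_I, neg_neg]
  have t0 := trace_qProj f hf 1 1 (by norm_num) (by norm_num)
  have t1 := trace_qProj f hf Complex.I (-Complex.I) a1 hnI4
  have t2 := trace_qProj f hf (-1) (-1) (by norm_num) (by norm_num)
  have t3 := trace_qProj f hf (-Complex.I) Complex.I a3 hI4
  have i1 := qProj_idem f hf Complex.I (-Complex.I) a1 hnI4
  have i2 := qProj_idem f hf (-1) (-1) (by norm_num) (by norm_num)
  have i3 := qProj_idem f hf (-Complex.I) Complex.I a3 hI4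
  have hs := congrArg (LinearMap.trace ℂ (Fin 6 → ℂ)) (qProj_sum f)
  have hd1 := congrArg (LinearMap.trace ℂ (Fin 6 → ℂ)) (f_eq_sum_qProj f hf)
  have hd2 := congrArg (LinearMap.trace ℂ (Fin 6 → ℂ)) (f_sq_eq_sum_qProj f hf)
  have hdd := congrArg LinearMap.det (f_eq_prod_qProj f hf)
  rw [map_mul, map_mul, det_one_add_smul_idem _ i1, det_one_add_smul_idem _ i2,
    det_one_add_smul_idem _ i3, hdet] at hdd
  rw [map_add, map_add, map_add, t0, t1, t2, t3, LinearMap.trace_one, Module.finrank_fin_fun] at hs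
  rw [map_add, map_add, map_add, map_smul, map_smul, map_smul, t0, t1, t2, t3] at hd1
  rw [map_add, map_add, map_add, map_smul, map_smul, t0, t1, t2, t3] at hd2
  rw [← hch1] at hd1
  rw [← hch2] at hd2
  set d0 := Module.finrank ℂ (LinearMap.range (qProj f 1)) with hd0
  set d1 := Module.finrank ℂ (LinearMap.range (qProj f (-Complex.I))) with hd1'
  set d2 := Module.finrank ℂ (LinearMap.range (qProj f (-1))) with hd2'
  set d3 := Module.finrank ℂ (LinearMap.range (qProj f Complex.I)) with hd3'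
  -- reality: `d1 = d3`
  have h13 : d1 = d3 := by
    have him : (D.ρ.character b).im = 0 := Complex.conj_eq_iff_im.mp hreal
    rw [hd1] at him
    simp only [smul_eq_mul, Complex.add_im, Complex.mul_im, Complex.natCast_im, Complex.natCast_re,
      Complex.I_re, Complex.I_im, Complex.neg_im, mul_zero, add_zero, zero_add, one_mul, neg_zero,
      neg_mul] at him
    have : (d1 : ℝ) = d3 := by linarith
    exact_mod_cast this
  -- determinant: `d2` is even
  have heven : Even d2 := by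
    rw [← h13] at hdd
    have h1 : Complex.I ^ d1 * (-Complex.I) ^ d1 = 1 := by rw [← mul_pow, a1, one_pow]
    have h2 : ((-1 : ℂ)) ^ d2 = 1 := by
      calc ((-1 : ℂ)) ^ d2 = (Complex.I ^ d1 * (-Complex.I) ^ d1) * (-1) ^ d2 := by rw [h1, one_mul]
        _ = Complex.I ^ d1 * (-1) ^ d2 * (-Complex.I) ^ d1 := by ring
        _ = 1 := hdd.symm
    exact (neg_one_pow_eq_one_iff_even (by norm_num : (-1 : ℂ) ≠ 1)).mp h2
  refine ⟨d0, d1, d2, ?_, heven, ?_, ?_, ?_⟩
  · rw [← h13] at hs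
    have : ((d0 + 2 * d1 + d2 : ℕ) : ℂ) = ((6 : ℕ) : ℂ) := by
      push_cast
      linear_combination hs
    exact_mod_cast this
  · rw [hd1, ← h13]
    simp only [smul_eq_mul]
    ring
  · rw [hd2, ← h13]
    simp only [smul_eq_mul]
    ring
  · rw [hfix]

end Main


end Cfsg.Agent.Helper48.A7
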