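import Cfsg.Agent.Helper54.BGUnique3
import Cfsg.Agent.S1399
import Cfsg.Agent.S1401
import Cfsg.Agent.S1451
import Cfsg.Agent.S1457
import Cfsg.Agent.Helper4.RankTwoSolv
import Cfsg.Agent.Helper31.CoprimeHypRel
import Cfsg.Agent.Helper29.BGUniq96

set_option autoImplicit false
set_option linter.style.haveILetI false
set_option linter.unusedVariables false
set_option linter.unusedSectionVars false

/-!
# Bender–Glauberman, Theorem 9.5: the second half of the proof (helper48)

`part2` below reduces Theorem 9.5 (a subgroup `A ∈ SCN_3(P)` of a minimal simple group of odd order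
lies in a unique maximal subgroup) to the statement that, for every maximal subgroup `M ≥ C_G(A)`
and every `p`-subgroup `R` with `A ⊴ R`, one has `N_G(R) ≤ M`.
-/

namespace Cfsg.Agent.Helper48.BG95

open Cfsg
open scoped commutatorElement

/-! ### General lemmas -/

section General

variable {H : Type*} [Group H] [Finite H]

/-- A `t`-subgroup of a normal nilpotent subgroup lies in `O_t`. -/
theorem le_pCore_of_le_nilpotent (t : ℕ) [Fact t.Prime] (N : Subgroup H) (hN : N.Normal)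
    (hnil : Group.IsNilpotent N) (E : Subgroup H) (hE : IsPGroup t E) (hEN : E ≤ N) :
    E ≤ Cfsg.pCore t H := by
  have := hN
  obtain ⟨Q⟩ : Nonempty (Sylow t N) := inferInstance
  have hQn : (Q : Subgroup N).Normal := inferInstance
  have hQc : (Q : Subgroup N).Characteristic := Q.characteristic_of_normal hQn
  have hQG : ((Q : Subgroup N).map N.subtype).Normal := inferInstance
  have hle : (Q : Subgroup N).map N.subtype ≤ Cfsg.pCore t H :=
    Cfsg.Agent.Lib.le_pCore hQG (Q.2.map N.subtype)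
  -- `E ∩ N`, as a subgroup of `N`, is a `t`-group, hence lies in the normal Sylow `Q`
  have hE' : IsPGroup t (E.subgroupOf N) := hE.comap_subtype
  obtain ⟨Q', hQ'⟩ := hE'.exists_le_sylow
  have hQQ : Q' = Q := by
    haveI := Sylow.unique_of_normal Q hQn
    exact Subsingleton.elim _ _
  intro x hx
  apply hle
  refine ⟨⟨x, hEN hx⟩, ?_, rfl⟩
  rw [← hQQ]
  exact hQ' (show (⟨x, hEN hx⟩ : N) ∈ E.subgroupOf N from hx)

/-- `O_t(H)` and `O_{t'}(H)` commute elementwise. -/
theorem pCore_commute_pPrimeCore (t : ℕ) [Fact t.Prime] (x y : H) (hx : x ∈ Cfsg.pCore t H)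
    (hy : y ∈ Cfsg.pPrimeCore t H) : x * y = y * x := by
  have hn1 : (Cfsg.pCore t H).Normal := inferInstance
  have hn2 : (Cfsg.pPrimeCore t H).Normal := by unfold Cfsg.pPrimeCore; exact Subgroup.sSup_normal _ (fun _ h => h.1)
  have h1 : x * y * x⁻¹ * y⁻¹ ∈ Cfsg.pCore t H := by
    have : y * x⁻¹ * y⁻¹ ∈ Cfsg.pCore t H := hn1.conj_mem _ (Subgroup.inv_mem _ hx) _
    have h2 := Subgroup.mul_mem _ hx this
    have e : x * (y * x⁻¹ * y⁻¹) = x * y * x⁻¹ * y⁻¹ := by group
    rwa [e] at h2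
  have h2 : x * y * x⁻¹ * y⁻¹ ∈ Cfsg.pPrimeCore t H := by
    have : x * y * x⁻¹ ∈ Cfsg.pPrimeCore t H := hn2.conj_mem _ hy _
    exact Subgroup.mul_mem _ this (Subgroup.inv_mem _ hy)
  have h3 : x * y * x⁻¹ * y⁻¹ ∈ Cfsg.pCore t H ⊓ Cfsg.pPrimeCore t H := ⟨h1, h2⟩
  rw [Cfsg.Agent.Lib.pCore_inf_pPrimeCore, Subgroup.mem_bot] at h3
  have e : x * y = (x * y * x⁻¹ * y⁻¹) * (y * x) := by group
  rw [e, h3, one_mul]

end General

section Action

open Cfsg.Agent.Helper24 Cfsg.Agent.Helper4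

/-- **Rank two action lemma**: if the solvable group `N` of odd order normalizes the `t`-group `R` of
rank at most two, then every `t'`-element of `N'` centralizes `R`. -/
theorem mem_centralizer_of_mem_commutator {G : Type*} [Group G] [Finite G] (t : ℕ) [Fact t.Prime]
    (ht : t ≠ 2) (R N : Subgroup G) (hR : IsPGroup t R) (hr : Cfsg.PRankLE t 2 R)
    (hN : N ≤ Subgroup.normalizer (R : Set G)) (hNs : Group.IsSolvable N)
    (hNodd : Odd (Nat.card N)) (z : G) (hz : z ∈ ⁅N, N⁆) (hzo : (orderOf z).Coprime t) :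
    z ∈ Subgroup.centralizer (R : Set G) := by
  classical
  have htp : t.Prime := Fact.out
  obtain ⟨D, hDR, hDinv, hDexp, hDcl, hDfaith⟩ := exists_small_exponent_crit (p := t) R hR
  have hND : N ≤ Subgroup.normalizer (D : Set G) := by
    intro a ha
    rw [Subgroup.mem_normalizer_iff]
    intro h
    constructor
    · intro hh
      exact hDinv a (hN ha) h hh
    · intro hh
      have := hDinv a⁻¹ (Subgroup.inv_mem _ (hN ha)) _ hh
      simpa [mul_assoc] using this
  set ψ : ↥N →* MulAut ↥D := (D.normalizerMonoidHom).comp (Subgroup.inclusion hND) with hψ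
  have hψ_apply : ∀ (a : N) (x : D), ((ψ a x : D) : G) = a * x * a⁻¹ := by
    intro a x
    rfl
  have hexp : ∀ x : D, x ^ t = 1 := by
    intro x
    apply Subtype.ext
    rcases hDexp x x.2 with h | ⟨h, -⟩
    · simpa using h
    · exact absurd h ht
  have hcen : ∀ x y : D, ⁅x, y⁆ ∈ Subgroup.center D := by
    intro x y
    rw [Subgroup.mem_center_iff]
    intro w
    apply Subtype.ext
    have := (hDcl x x.2 y (hDR y.2)).2 w w.2
    show (w : G) * ⁅(x : G), (y : G)⁆ = ⁅(x : G), (y : G)⁆ * w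
    exact this.symm
  have hrkD : Cfsg.PRankLE t 2 D := by
    intro B hB hBexp
    have hinj : Function.Injective (Subgroup.inclusion hDR) := Subgroup.inclusion_injective hDR
    have hcard : Nat.card (B.map (Subgroup.inclusion hDR)) = Nat.card B :=
      Nat.card_congr (B.equivMapOfInjective _ hinj).symm.toEquiv
    rw [← hcard]
    apply hr
    · refine ⟨⟨?_⟩⟩
      rintro ⟨_, ⟨a, ha, rfl⟩⟩ ⟨_, ⟨b, hb, rfl⟩⟩
      apply Subtype.ext
      have := hB.is_comm.comm ⟨a, ha⟩ ⟨b, hb⟩
      have h2 := congrArg (fun v : B => Subgroup.inclusion hDR (v : D)) this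
      simpa using h2
    · rintro _ ⟨a, ha, rfl⟩
      rw [← map_pow, hBexp a ha, map_one]
  -- the image of `N` in `Aut D`
  have hKodd : Odd (Nat.card ψ.range) :=
    Odd.of_dvd_nat hNodd (Subgroup.card_range_dvd ψ)
  have hKs : Group.IsSolvable ψ.range :=
    Group.isSolvable_of_surjective ψ.rangeRestrict_surjective
  have hker : IsPGroup t (ψ.range.subtype).ker := by
    rw [Subgroup.ker_subtype]
    exact IsPGroup.of_bot
  have hfinal := isPGroup_commutator_of_action ht hexp hcen hrkD hKodd hKs ψ.range.subtype hker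
  rw [← Subgroup.map_subtype_commutator N] at hz
  obtain ⟨z', hz'c, rfl⟩ := hz
  have h1 : ψ.rangeRestrict z' ∈ commutator ψ.range := by
    have h2 : (commutator ↥N).map ψ.rangeRestrict = commutator ψ.range := by
      rw [commutator_def, commutator_def, Subgroup.map_commutator, ← MonoidHom.range_eq_map,
        MonoidHom.range_eq_top.mpr ψ.rangeRestrict_surjective]
    rw [← h2]
    exact Subgroup.mem_map_of_mem _ hz'c
  obtain ⟨i, hi⟩ := hfinal ⟨_, h1⟩
  have hi' : (ψ z') ^ t ^ i = 1 := by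
    have := congrArg (fun v : commutator ψ.range => ((v : ψ.range) : MulAut D)) hi
    simpa using this
  have h2 : ψ z' = 1 := by
    have hd1 : orderOf (ψ z') ∣ t ^ i := orderOf_dvd_of_pow_eq_one hi'
    have hd2 : orderOf (ψ z') ∣ orderOf z' := orderOf_map_dvd ψ z'
    have hcop : (orderOf z').Coprime t := by rwa [← Subgroup.orderOf_coe]
    have : orderOf (ψ z') = 1 :=
      Nat.Coprime.eq_one_of_dvd ((hcop.pow_right i).coprime_dvd_left hd2) hd1
    exact orderOf_eq_one_iff.mp this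
  have hcent : ∀ x ∈ D, (z' : G) * x = x * z' := by
    intro x hx
    have h3 : ψ z' ⟨x, hx⟩ = ⟨x, hx⟩ := by rw [h2]; rfl
    have h4 : (z' : G) * x * (z' : G)⁻¹ = x := by
      have := congrArg Subtype.val h3
      rwa [hψ_apply] at this
    calc (z' : G) * x = ((z' : G) * x * (z' : G)⁻¹) * z' := by group
      _ = x * z' := by rw [h4]
  have hR' := hDfaith z' (hN z'.2) hzo hcent
  rw [Subgroup.mem_centralizer_iff]
  intro x hx
  exact (hR' x hx).symm

end Action

section Burnside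

/-- A nontrivial Sylow subgroup of a nonabelian finite simple group is not central in its
normalizer (Burnside's transfer theorem). -/
theorem not_normalizer_le_centralizer_sylow {G : Type*} [Group G] [Finite G] [IsSimpleGroup G]
    (hnc : ¬ IsMulCommutative G) (p : ℕ) [Fact p.Prime] (P : Sylow p G)
    (hP1 : (P : Subgroup G) ≠ ⊥) :
    ¬ Subgroup.normalizer ((P : Subgroup G) : Set G) ≤
      Subgroup.centralizer ((P : Subgroup G) : Set G) := by
  intro hP
  have hc := MonoidHom.ker_transferSylow_isComplement' P hP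
  have hn : (MonoidHom.transferSylow P hP).ker.Normal := inferInstance
  rcases hn.eq_bot_or_eq_top with h | h
  · rw [h] at hc
    have htop : (P : Subgroup G) = ⊤ := Subgroup.isComplement'_bot_left.mp hc
    apply hnc
    refine ⟨⟨fun a b => ?_⟩⟩
    have ha : a ∈ (P : Subgroup G) := by rw [htop]; trivial
    have hb : b ∈ (P : Subgroup G) := by rw [htop]; trivial
    exact (hP (Subgroup.le_normalizer hb) a ha)
  · rw [h] at hc
    exact hP1 (Subgroup.isComplement'_top_left.mp hc)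

end Burnside

section Main

variable {G : Type*} [Group G] [Finite G]

open Cfsg.Agent.Helper54.BGU Cfsg.Agent.Helper21

/-- `⁅A, N_G(A)⁆ ≤ A`. -/
theorem commutator_normalizer_le (A : Subgroup G) :
    ⁅A, Subgroup.normalizer (A : Set G)⁆ ≤ A := by
  rw [Subgroup.commutator_le]
  intro a ha n hn
  have h1 : n * a⁻¹ * n⁻¹ ∈ A := (Subgroup.mem_normalizer_iff.mp hn a⁻¹).mp (A.inv_mem ha)
  have e : ⁅a, n⁆ = a * (n * a⁻¹ * n⁻¹) := by rw [commutatorElement_def]; group
  rw [e]
  exact A.mul_mem ha h1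

/-- `N_G(A)` normalizes `⁅A, N_G(A)⁆`. -/
theorem normalizer_le_normalizer_commutator (A : Subgroup G) :
    Subgroup.normalizer (A : Set G) ≤
      Subgroup.normalizer ((⁅A, Subgroup.normalizer (A : Set G)⁆ : Subgroup G) : Set G) := by
  intro n hn
  apply Subgroup.mem_normalizer_fintype
  intro z hz
  have h1 : (⁅A, Subgroup.normalizer (A : Set G)⁆).map (MulAut.conj n).toMonoidHom ≤
      ⁅A, Subgroup.normalizer (A : Set G)⁆ := by
    rw [Subgroup.map_commutator]
    apply Subgroup.commutator_mono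
    · rintro _ ⟨a, ha, rfl⟩
      exact (Subgroup.mem_normalizer_iff.mp hn a).mp ha
    · rintro _ ⟨m, hm, rfl⟩
      exact Subgroup.mul_mem _ (Subgroup.mul_mem _ hn hm) (Subgroup.inv_mem _ hn)
  exact h1 ⟨z, hz, rfl⟩

/-- Case (a) of the claim in the proof of Theorem 9.5: a maximal subgroup `L ≥ C_G(A)` whose
Fitting subgroup has rank at most two lies in `H₀`. -/
theorem le_of_rankLE_two (hG : Cfsg.IsMinSimpleOddOrder G) (p : ℕ) [hp : Fact p.Prime]
    (P : Sylow p G) (A : Subgroup G) (hAP : A ≤ (P : Subgroup G))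
    (hPA : (P : Subgroup G) ≤ Subgroup.normalizer (A : Set G))
    (hAc : ∀ a ∈ A, ∀ b ∈ A, a * b = b * a)
    (h1 : ∀ M : Subgroup G, IsCoatom M → Subgroup.centralizer (A : Set G) ≤ M →
      ∀ R : Subgroup G, IsPGroup p R → A ≤ R → R ≤ Subgroup.normalizer (A : Set G) →
        Subgroup.normalizer (R : Set G) ≤ M)
    (H₀ : Subgroup G) (hH₀ : IsCoatom H₀)
    (hNZH₀ : Subgroup.normalizer ((⁅A, Subgroup.normalizer (A : Set G)⁆ : Subgroup G) : Set G) ≤ H₀)
    (L : Subgroup G) (hL : IsCoatom L) (hCL : Subgroup.centralizer (A : Set G) ≤ L)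
    (hr : Cfsg.RankLE 2 ↥(Cfsg.fittingSubgroup ↥L)) : L ≤ H₀ := by
  classical
  have hpp : p.Prime := hp.out
  haveI hs : IsSimpleGroup G := hG.2.1
  have hAp : IsPGroup p A := P.2.to_le hAP
  have hZA := commutator_normalizer_le A
  have hNAZ := normalizer_le_normalizer_commutator A
  have hACA : A ≤ Subgroup.centralizer (A : Set G) := by
    intro a ha
    rw [Subgroup.mem_centralizer_iff]
    intro b hb
    exact hAc b hb a ha
  have hCANA : Subgroup.centralizer (A : Set G) ≤ Subgroup.normalizer (A : Set G) :=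
    Subgroup.centralizer_le_normalizer _
  have hCAH₀ : Subgroup.centralizer (A : Set G) ≤ H₀ := hCANA.trans (hNAZ.trans hNZH₀)
  have hNAL : Subgroup.normalizer (A : Set G) ≤ L :=
    h1 L hL hCL A hAp le_rfl Subgroup.le_normalizer
  have hPL : (P : Subgroup G) ≤ L := hPA.trans hNAL
  have hAL : A ≤ L := hAP.trans hPL
  haveI hLs : Group.IsSolvable ↥L := hG.2.2.2 L hL.1
  have hoddL : Odd (Nat.card ↥L) := Odd.of_dvd_nat hG.1 (Subgroup.card_subgroup_dvd_card L)
  have hPLs : IsSylIn p (P : Subgroup G) L := (isSylIn_top_of_sylow P).mono hPL le_top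
  obtain ⟨S, hS⟩ := hPLs.exists_sylow
  haveI hUn : (pPrimePCore p ↥L).Normal := by unfold pPrimePCore; infer_instance
  set U := pPrimePCore p ↥L with hU
  have hF := normalizer_inf_pPrimePCore_sup_eq_top S
  have hmemS : ∀ x : ↥L, x ∈ (S : Subgroup ↥L) ↔ (x : G) ∈ (P : Subgroup G) := by
    intro x
    rw [← hS]
    constructor
    · intro hx
      exact ⟨x, hx, rfl⟩
    · rintro ⟨y, hy, hyx⟩
      have : y = x := Subtype.ext hyx
      rwa [← this]
  have hA'S : A.subgroupOf L ≤ (S : Subgroup ↥L) := by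
    intro x hx
    rw [hmemS]
    exact hAP hx
  have hA'c : IsMulCommutative (A.subgroupOf L) := by
    refine ⟨⟨fun a b => ?_⟩⟩
    apply Subtype.ext
    apply Subtype.ext
    exact hAc _ a.2 _ b.2
  have hSA' : (S : Subgroup ↥L) ≤ Subgroup.normalizer ((A.subgroupOf L : Subgroup ↥L) : Set ↥L) := by
    intro s hs
    have h1 := hPA ((hmemS s).mp hs)
    rw [Subgroup.mem_normalizer_iff] at h1 ⊢
    intro y
    rw [Subgroup.mem_subgroupOf, Subgroup.mem_subgroupOf]
    have := h1 (y : G)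
    simpa using this
  have hA'U : A.subgroupOf L ≤ U :=
    Cfsg.Agent.S1457.result hoddL p S (A.subgroupOf L) hA'S hA'c hSA'
  -- `L'` is nilpotent
  have hnil := (Cfsg.Agent.S1451.result hoddL (Or.inr hr)).1
  have hZL' : (⁅A, Subgroup.normalizer (A : Set G)⁆).subgroupOf L ≤ commutator ↥L := by
    have h2 : ⁅A, Subgroup.normalizer (A : Set G)⁆ ≤ (commutator ↥L).map L.subtype := by
      rw [Subgroup.map_subtype_commutator]
      exact Subgroup.commutator_mono hAL hNAL
    intro x hx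
    obtain ⟨y, hy, hyx⟩ := h2 hx
    have : y = x := Subtype.ext hyx
    rwa [← this]
  have hZp : IsPGroup p ((⁅A, Subgroup.normalizer (A : Set G)⁆).subgroupOf L) :=
    (hAp.to_le hZA).comap_subtype
  have hZOp : (⁅A, Subgroup.normalizer (A : Set G)⁆).subgroupOf L ≤ pCore p ↥L :=
    le_pCore_of_le_nilpotent p (commutator ↥L) inferInstance hnil _ hZp hZL'
  have hXH₀ : ∀ k : ↥L, k ∈ pPrimeCore p ↥L → (k : G) ∈ H₀ := by
    intro k hk
    apply hNZH₀
    apply Subgroup.centralizer_le_normalizer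
    rw [Subgroup.mem_centralizer_iff]
    intro z hz
    have hz' : (⟨z, hAL (hZA hz)⟩ : ↥L) ∈ pCore p ↥L :=
      hZOp (show (⟨z, hAL (hZA hz)⟩ : ↥L) ∈
        (⁅A, Subgroup.normalizer (A : Set G)⁆).subgroupOf L from hz)
    have := pCore_commute_pPrimeCore p _ _ hz' hk
    exact congrArg Subtype.val this
  have key : ∀ n : ↥L, n ∈ Subgroup.normalizer ((((S : Subgroup ↥L) ⊓ U : Subgroup ↥L)) : Set ↥L) →
      (n : G) ∈ H₀ := by
    intro n hn
    have hRp : IsPGroup p (((S : Subgroup ↥L) ⊓ U).map L.subtype) :=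
      (S.2.to_inf_left).map _
    have hAR : A ≤ ((S : Subgroup ↥L) ⊓ U).map L.subtype := by
      intro a ha
      exact ⟨⟨a, hAL ha⟩, ⟨hA'S (show (⟨a, hAL ha⟩ : ↥L) ∈ A.subgroupOf L from ha),
        hA'U (show (⟨a, hAL ha⟩ : ↥L) ∈ A.subgroupOf L from ha)⟩, rfl⟩
    have hRP : ((S : Subgroup ↥L) ⊓ U).map L.subtype ≤ (P : Subgroup G) := by
      rw [← hS]
      exact Subgroup.map_mono inf_le_left
    have h3 := h1 H₀ hH₀ hCAH₀ _ hRp hAR (hRP.trans hPA)
    exact h3 (coe_mem_normalizer_map hn)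
  intro x hx
  have h2 : (⟨x, hx⟩ : ↥L) ∈ Subgroup.normalizer ((((S : Subgroup ↥L) ⊓ U : Subgroup ↥L)) : Set ↥L) ⊔
      pPrimeCore p ↥L := by
    rw [hF]; exact Subgroup.mem_top _
  obtain ⟨n, hn, k, hk, hnk⟩ := Subgroup.mem_sup_of_normal_right.mp h2
  have hx' : x = (n : G) * (k : G) := by
    have := congrArg Subtype.val hnk
    simpa using this.symm
  rw [hx']
  exact H₀.mul_mem (key n hn) (hXH₀ k hk)

/-- A prime `t` for which some subgroup has an elementary abelian `t`-subgroup of order `> t ^ n`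
is odd when `G` has odd order. -/
theorem ne_two_of_hasEA (hodd : Odd (Nat.card G)) {t n : ℕ} [ht : Fact t.Prime] {X : Subgroup G}
    (h : HasEA t n X) : t ≠ 2 := by
  obtain ⟨E, -, -, hEe, hEcard⟩ := h
  have hEp : IsPGroup t E := isPGroup_of_exp hEe
  obtain ⟨k, hk⟩ := hEp.exists_card_eq
  have hk0 : k ≠ 0 := by
    rintro rfl
    rw [pow_zero] at hk
    rw [hk] at hEcard
    have := Nat.one_le_pow n t ht.out.pos
    omega
  have h1 : t ∣ Nat.card E := by rw [hk]; exact dvd_pow_self t hk0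
  have h2 : t ∣ Nat.card G := h1.trans (Subgroup.card_subgroup_dvd_card E)
  rintro rfl
  exact (Nat.not_even_iff_odd.mpr hodd) (even_iff_two_dvd.mpr h2)

/-- Case (b) of the claim in the proof of Theorem 9.5: if the Fitting subgroup of the maximal
subgroup `L ≥ C_G(A)` has `t`-rank at least three (`t ≠ p`), then `⁅A, N_G(A)⁆` centralizes every
`t`-subgroup `T₀` of `L` normalized by `L`. -/
theorem le_centralizer_commutator_of_rank3 (hG : Cfsg.IsMinSimpleOddOrder G) (p t : ℕ)
    [hp : Fact p.Prime] [ht : Fact t.Prime] (htp : t ≠ p) (A : Subgroup G)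
    (hAc : ∀ a ∈ A, ∀ b ∈ A, a * b = b * a) (hAp : IsPGroup p A) (hAtop : A ≠ ⊤)
    (E : Subgroup G) (hEA : E ≤ A) (hEe : ∀ a ∈ E, a ^ p = 1) (hE3 : p ^ 3 ≤ Nat.card E)
    (hAU : ¬ Cfsg.InUniqueMaximal A)
    (h1N : ∀ M : Subgroup G, IsCoatom M → Subgroup.centralizer (A : Set G) ≤ M →
      Subgroup.normalizer (A : Set G) ≤ M)
    (L : Subgroup G) (hL : IsCoatom L) (hCL : Subgroup.centralizer (A : Set G) ≤ L)
    (hFt : ¬ Cfsg.PRankLE t 2 ↥(Cfsg.fittingOf L))
    (T₀ : Subgroup G) (hT₀ : IsPGroup t T₀) (hT₀L : T₀ ≤ L)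
    (hLT₀ : L ≤ Subgroup.normalizer (T₀ : Set G)) :
    T₀ ≤ Subgroup.centralizer ((⁅A, Subgroup.normalizer (A : Set G)⁆ : Subgroup G) : Set G) := by
  classical
  have hpp : p.Prime := hp.out
  have htt : t.Prime := ht.out
  haveI hs : IsSimpleGroup G := hG.2.1
  have hZA := commutator_normalizer_le A
  have hACA : A ≤ Subgroup.centralizer (A : Set G) := by
    intro a ha
    rw [Subgroup.mem_centralizer_iff]
    intro b hb
    exact hAc b hb a ha
  have hNAL : Subgroup.normalizer (A : Set G) ≤ L := h1N L hL hCL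
  have hAL : A ≤ L := hACA.trans hCL
  have hZNN : ⁅A, Subgroup.normalizer (A : Set G)⁆ ≤
      ⁅Subgroup.normalizer (A : Set G), Subgroup.normalizer (A : Set G)⁆ :=
    Subgroup.commutator_mono Subgroup.le_normalizer le_rfl
  have hNAtop : Subgroup.normalizer (A : Set G) ≠ ⊤ := by
    intro h
    apply hL.1
    rw [eq_top_iff, ← h]
    exact hNAL
  have hNAs : Group.IsSolvable ↥(Subgroup.normalizer (A : Set G)) := hG.2.2.2 _ hNAtop
  have hNAodd : Odd (Nat.card ↥(Subgroup.normalizer (A : Set G))) :=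
    Odd.of_dvd_nat hG.1 (Subgroup.card_subgroup_dvd_card _)
  have ht2 : t ≠ 2 := ne_two_of_hasEA hG.1 ((not_prankLE_iff _).mp hFt)
  have hcop : Nat.Coprime p t := (Nat.coprime_primes hpp htt).mpr (Ne.symm htp)
  by_contra hcon
  have hEc : ∀ x ∈ E, ∀ y ∈ E, x * y = y * x := fun x hx y hy => hAc x (hEA hx) y (hEA hy)
  have hpT : ¬ p ∣ Nat.card ↥T₀ := by
    obtain ⟨k, hk⟩ := hT₀.exists_card_eq
    rw [hk]
    intro h
    have := (Nat.prime_dvd_prime_iff_eq hpp htt).mp (hpp.dvd_of_dvd_pow h)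
    exact htp this.symm
  have hET : E ≤ Subgroup.normalizer (T₀ : Set G) := hEA.trans (hAL.trans hLT₀)
  have hE2 : p ^ 2 ≤ Nat.card ↥E :=
    (Nat.pow_le_pow_right hpp.pos (by norm_num)).trans hE3
  obtain ⟨F, hFE, hFcard, hFnot⟩ := Cfsg.Agent.Helper31.exists_hyperplane_not_le (p := p) T₀ E
    (Subgroup.centralizer ((⁅A, Subgroup.normalizer (A : Set G)⁆ : Subgroup G) : Set G))
    hpT hET hEc hEe hE2 hcon
  have hF2 : p ^ 2 ≤ Nat.card ↥F := by
    have h3 : p ^ 2 * p ≤ Nat.card ↥F * p := by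
      rw [hFcard, ← pow_succ]
      exact hE3
    exact Nat.le_of_mul_le_mul_right h3 hpp.pos
  have hFA : F ≤ A := hFE.trans hEA
  have hFe : ∀ a ∈ F, a ^ p = 1 := fun a ha => hEe a (hFE ha)
  have hFc : ∀ a ∈ F, ∀ b ∈ F, a * b = b * a := fun a ha b hb => hEc a (hFE ha) b (hFE hb)
  have hpF : p < Nat.card ↥F := by
    have : p < p ^ 2 := by
      have := hpp.one_lt
      nlinarith
    omega
  -- a non-identity element of `F`
  have hF1 : F ≠ ⊥ := by
    intro h
    rw [h, Subgroup.card_bot] at hpF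
    have := hpp.one_lt
    omega
  obtain ⟨x, hxF, hx1⟩ := (Subgroup.ne_bot_iff_exists_ne_one.mp hF1 : ∃ a : ↥F, a ≠ 1) |>.elim
    (fun a ha => (⟨(a : G), a.2, fun h => ha (Subtype.ext h)⟩ : ∃ x : G, x ∈ F ∧ x ≠ 1))
  have hCFtop : Subgroup.centralizer (F : Set G) ≠ ⊤ := by
    have hne := Cfsg.Agent.Helper31.centralizer_singleton_ne_top_of_simple hG.2.2.1 hx1
    intro h
    apply hne
    rw [eq_top_iff, ← h]
    apply Subgroup.centralizer_le
    intro y hy
    rw [Set.mem_singleton_iff] at hy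
    rw [hy]
    exact hxF
  have hCACF : Subgroup.centralizer (A : Set G) ≤ Subgroup.centralizer (F : Set G) :=
    Subgroup.centralizer_le hFA
  -- a maximal subgroup containing `C_G(F)` other than `L`
  have hex : ∃ HF : Subgroup G, IsCoatom HF ∧ Subgroup.centralizer (F : Set G) ≤ HF ∧ HF ≠ L := by
    by_contra hno
    push Not at hno
    obtain ⟨H1, hH1, hle⟩ := (eq_top_or_exists_le_coatom _).resolve_left hCFtop
    have hCU : Cfsg.InUniqueMaximal (Subgroup.centralizer (F : Set G)) :=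
      ⟨H1, ⟨hH1, hle⟩, fun M hM => (hno M hM.1 hM.2).trans (hno H1 hH1 hle).symm⟩
    have hFrk : ¬ Cfsg.RankLE 1 ↥F := not_rankLE_one_of_elemAb le_rfl hFc hFe hpF
    have hFCC : F ≤ Subgroup.centralizer ((Subgroup.centralizer (F : Set G) : Subgroup G) : Set G) := by
      intro a ha
      rw [Subgroup.mem_centralizer_iff]
      intro c hc
      exact ((Subgroup.mem_centralizer_iff.mp hc) a ha).symm
    have hFU : Cfsg.InUniqueMaximal F :=
      Cfsg.Agent.S1399.result hG (Subgroup.centralizer (F : Set G)) F hCU hFCC hFrk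
    exact hAU (Cfsg.Agent.Helper29.BGUniq96.inUniqueMaximal_of_le hFU hFA hAtop)
  obtain ⟨HF, hHF, hCFHF, hHFL⟩ := hex
  have hNAHF : Subgroup.normalizer (A : Set G) ≤ HF := h1N HF hHF (hCACF.trans hCFHF)
  have hTFt : IsPGroup t ↥(T₀ ⊓ HF) := hT₀.to_inf_left
  have hNATF : Subgroup.normalizer (A : Set G) ≤ Subgroup.normalizer ((T₀ ⊓ HF : Subgroup G) : Set G) := by
    intro n hn
    apply Subgroup.mem_normalizer_fintype
    rintro y ⟨hy1, hy2⟩
    exact ⟨(Subgroup.mem_normalizer_iff.mp (hLT₀ (hNAL hn)) y).mp hy1,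
      HF.mul_mem (HF.mul_mem (hNAHF hn) hy2) (HF.inv_mem (hNAHF hn))⟩
  have hTFr : Cfsg.PRankLE t 2 ↥(T₀ ⊓ HF) := by
    by_contra hr
    rw [not_prankLE_iff] at hr
    obtain ⟨E', hE'T, hE'c, hE'e, hE'card⟩ := hr
    have hE'U : Cfsg.InUniqueMaximal E' :=
      Cfsg.Agent.S1401.result hG L hL t hFt E' (isPGroup_of_exp hE'e)
        ⟨⟨fun a b => Subtype.ext (hE'c a a.2 b b.2)⟩⟩
        (by rw [not_prankLE_iff]; exact ⟨E', le_rfl, hE'c, hE'e, hE'card⟩)
    obtain ⟨M, ⟨hM, hE'M⟩, huniq⟩ := hE'U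
    have e1 : L = M := huniq L ⟨hL, hE'T.trans (inf_le_left.trans hT₀L)⟩
    have e2 : HF = M := huniq HF ⟨hHF, hE'T.trans inf_le_right⟩
    exact hHFL (e2.trans e1.symm)
  have hZTF : T₀ ⊓ HF ≤
      Subgroup.centralizer ((⁅A, Subgroup.normalizer (A : Set G)⁆ : Subgroup G) : Set G) := by
    intro y hy
    rw [Subgroup.mem_centralizer_iff]
    intro z hz
    have hzo : (orderOf z).Coprime t := by
      obtain ⟨k, hk⟩ := hAp ⟨z, hZA hz⟩
      have hk' : z ^ p ^ k = 1 := by simpa using congrArg Subtype.val hk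
      exact Nat.Coprime.coprime_dvd_left (orderOf_dvd_of_pow_eq_one hk') (hcop.pow_left k)
    have hzc := mem_centralizer_of_mem_commutator t ht2 (T₀ ⊓ HF) (Subgroup.normalizer (A : Set G))
      hTFt hTFr hNATF hNAs hNAodd z (hZNN hz) hzo
    exact ((Subgroup.mem_centralizer_iff.mp hzc) y hy).symm
  exact hFnot ((inf_le_inf_left T₀ hCFHF).trans hZTF)

/-- **Bender–Glauberman, Theorem 9.5, second half.**  Let `A ∈ SCN_3(P)` in the minimal simple group
`G` of odd order, and suppose that no maximal subgroup has a Fitting subgroup of `p`-rank at least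
three, and that for every maximal subgroup `M ≥ C_G(A)` and every `p`-subgroup `R` with `A ⊴ R` one
has `N_G(R) ≤ M`.  Then `A` lies in a unique maximal subgroup. -/
theorem part2 (hG : Cfsg.IsMinSimpleOddOrder G) (p : ℕ) [hp : Fact p.Prime] (P : Sylow p G)
    (A : Subgroup G) (hA : Cfsg.IsSCN (P : Subgroup G) A) (hA3 : ¬ Cfsg.PRankLE p 2 ↥A)
    (h0 : ∀ M : Subgroup G, IsCoatom M → Cfsg.PRankLE p 2 ↥(Cfsg.fittingOf M))
    (h1 : ∀ M : Subgroup G, IsCoatom M → Subgroup.centralizer (A : Set G) ≤ M →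
      ∀ R : Subgroup G, IsPGroup p R → A ≤ R → R ≤ Subgroup.normalizer (A : Set G) →
        Subgroup.normalizer (R : Set G) ≤ M) :
    Cfsg.InUniqueMaximal A := by
  classical
  have hpp : p.Prime := hp.out
  haveI hs : IsSimpleGroup G := hG.2.1
  obtain ⟨hAP, hPA, hPC⟩ := hA
  have hAc : ∀ a ∈ A, ∀ b ∈ A, a * b = b * a := by
    intro a ha b hb
    have h2 : b ∈ (P : Subgroup G) ⊓ Subgroup.centralizer (A : Set G) := by rw [hPC]; exact hb
    exact ((Subgroup.mem_centralizer_iff.mp h2.2) a ha)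
  have hAp : IsPGroup p A := P.2.to_le hAP
  obtain ⟨E, hEA, hEc, hEe, hEcard⟩ := (not_prankLE_iff A).mp hA3
  have hE3 : p ^ 3 ≤ Nat.card E := pow_succ_le_card_of_lt hEe hEcard
  have hp_lt : p < Nat.card E := by
    have : p < p ^ 2 := by
      have := hpp.one_lt
      nlinarith
    omega
  have hA1 : A ≠ ⊥ := by
    intro h
    have hE1 : E = ⊥ := by rw [eq_bot_iff, ← h]; exact hEA
    rw [hE1, Subgroup.card_bot] at hp_lt
    have := hpp.one_lt
    omega
  have hAtop : A ≠ ⊤ := by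
    intro h
    apply hG.2.2.1
    refine ⟨⟨fun a b => ?_⟩⟩
    exact hAc a (by rw [h]; trivial) b (by rw [h]; trivial)
  have hACA : A ≤ Subgroup.centralizer (A : Set G) := by
    intro a ha
    rw [Subgroup.mem_centralizer_iff]
    intro b hb
    exact hAc b hb a ha
  have hCANA : Subgroup.centralizer (A : Set G) ≤ Subgroup.normalizer (A : Set G) :=
    Subgroup.centralizer_le_normalizer _
  have hZA := commutator_normalizer_le A
  have hNAZ := normalizer_le_normalizer_commutator A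
  -- `Z = ⁅A, N_G(A)⁆` is not trivial
  have hZ1 : ⁅A, Subgroup.normalizer (A : Set G)⁆ ≠ ⊥ := by
    intro h
    rw [Subgroup.commutator_eq_bot_iff_le_centralizer] at h
    -- `P` centralizes `A`, so `P = A`
    have hPA' : (P : Subgroup G) ≤ A := by
      intro x hx
      have hx2 : x ∈ (P : Subgroup G) ⊓ Subgroup.centralizer (A : Set G) := by
        refine Subgroup.mem_inf.mpr ⟨hx, ?_⟩
        rw [Subgroup.mem_centralizer_iff]
        intro a ha
        exact ((Subgroup.mem_centralizer_iff.mp (h ha)) x (hPA hx)).symm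
      rwa [hPC] at hx2
    have hPeq : (P : Subgroup G) = A := le_antisymm hPA' hAP
    apply not_normalizer_le_centralizer_sylow hG.2.2.1 p P (by rw [hPeq]; exact hA1)
    rw [hPeq]
    intro n hn
    rw [Subgroup.mem_centralizer_iff]
    intro a ha
    exact ((Subgroup.mem_centralizer_iff.mp (h ha)) n hn).symm
  have hZtop : ⁅A, Subgroup.normalizer (A : Set G)⁆ ≠ ⊤ := by
    intro h
    apply hAtop
    rw [eq_top_iff, ← h]
    exact hZA
  have hNZtop := Cfsg.Agent.Helper31.bgt_normalizer_ne_top_of_simple hZ1 hZtop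
  obtain ⟨H₀, hH₀, hNZH₀⟩ := (eq_top_or_exists_le_coatom _).resolve_left hNZtop
  have hCAH₀ : Subgroup.centralizer (A : Set G) ≤ H₀ := hCANA.trans (hNAZ.trans hNZH₀)
  have h1N : ∀ M : Subgroup G, IsCoatom M → Subgroup.centralizer (A : Set G) ≤ M →
      Subgroup.normalizer (A : Set G) ≤ M :=
    fun M hM hCM => h1 M hM hCM A hAp le_rfl Subgroup.le_normalizer
  by_contra hAU
  -- the claim: `H₀` is the only maximal subgroup containing `C_G(A)`
  have claim : ∀ L : Subgroup G, IsCoatom L → Subgroup.centralizer (A : Set G) ≤ L → L = H₀ := by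
    intro L hL hCL
    by_cases hr : Cfsg.RankLE 2 ↥(Cfsg.fittingSubgroup ↥L)
    · exact coatom_eq_of_le hH₀ hL
        (le_of_rankLE_two hG p P A hAP hPA hAc h1 H₀ hH₀ hNZH₀ L hL hCL hr)
    · -- some prime `t` with `r_t(F(L)) ≥ 3`
      unfold Cfsg.RankLE at hr
      push Not at hr
      obtain ⟨t, htt, hrt⟩ := hr
      haveI ht : Fact t.Prime := ⟨htt⟩
      rw [not_prankLE_iff] at hrt
      obtain ⟨E₁, hE₁F, hE₁c, hE₁e, hE₁card⟩ := hrt
      have hFn : (Cfsg.fittingSubgroup ↥L).Normal := by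
        unfold Cfsg.fittingSubgroup
        exact Subgroup.sSup_normal _ (fun _ h => h.1)
      have hFnil : Group.IsNilpotent ↥(Cfsg.fittingSubgroup ↥L) :=
        Cfsg.Agent.Lib.isNilpotent_fittingSubgroup
      have hE₁O : E₁ ≤ pCore t ↥L :=
        le_pCore_of_le_nilpotent t _ hFn hFnil _ (isPGroup_of_exp hE₁e) hE₁F
      -- up to `G`
      have hinjL : Function.Injective L.subtype := Subgroup.subtype_injective _
      have hE₃ : HasEA t 2 (E₁.map L.subtype) := by
        refine ⟨_, le_rfl, ?_, ?_, ?_⟩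
        · rintro _ ⟨a, ha, rfl⟩ _ ⟨b, hb, rfl⟩
          rw [← map_mul, ← map_mul, hE₁c a ha b hb]
        · rintro _ ⟨a, ha, rfl⟩
          rw [← map_pow, hE₁e a ha, map_one]
        · rwa [Subgroup.card_map_of_injective hinjL]
      have hFt : ¬ Cfsg.PRankLE t 2 ↥(Cfsg.fittingOf L) := by
        rw [not_prankLE_iff]
        exact hE₃.mono (Subgroup.map_mono hE₁F)
      have htp : t ≠ p := by
        rintro rfl
        exact hFt (h0 L hL)
      -- `T₀ = O_t(L)`
      have hT₀ : IsPGroup t ↥((pCore t ↥L).map L.subtype) :=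
        (Cfsg.Agent.Lib.isPGroup_pCore t).map _
      have hLT₀ : L ≤ Subgroup.normalizer (((pCore t ↥L).map L.subtype : Subgroup G) : Set G) := by
        intro a ha
        apply Subgroup.mem_normalizer_fintype
        rintro _ ⟨m, hm, rfl⟩
        have hN : (pCore t ↥L).Normal := inferInstance
        exact ⟨⟨a, ha⟩ * m * ⟨a, ha⟩⁻¹, hN.conj_mem m hm _, rfl⟩
      have hcent := le_centralizer_commutator_of_rank3 hG p t htp A hAc hAp hAtop E hEA hEe hE3
        hAU h1N L hL hCL hFt _ hT₀ (Subgroup.map_subtype_le _) hLT₀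
      -- `A₁ ≤ T₀ ≤ C_G(Z) ≤ H₀`
      have hA₁H₀ : E₁.map L.subtype ≤ H₀ :=
        (Subgroup.map_mono hE₁O).trans
          (hcent.trans ((Subgroup.centralizer_le_normalizer _).trans hNZH₀))
      obtain ⟨E₃, hE₃le, hE₃c, hE₃e, hE₃card⟩ := hE₃
      have hE₃U : Cfsg.InUniqueMaximal E₃ :=
        Cfsg.Agent.S1401.result hG L hL t hFt E₃ (isPGroup_of_exp hE₃e)
          ⟨⟨fun a b => Subtype.ext (hE₃c a a.2 b b.2)⟩⟩
          (by rw [not_prankLE_iff]; exact ⟨E₃, le_rfl, hE₃c, hE₃e, hE₃card⟩)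
      obtain ⟨M, ⟨hM, hE₃M⟩, huniq⟩ := hE₃U
      have e1 : L = M := huniq L ⟨hL, hE₃le.trans (Subgroup.map_subtype_le _)⟩
      have e2 : H₀ = M := huniq H₀ ⟨hH₀, hE₃le.trans hA₁H₀⟩
      exact e1.trans e2.symm
  have hCU : Cfsg.InUniqueMaximal (Subgroup.centralizer (A : Set G)) :=
    ⟨H₀, ⟨hH₀, hCAH₀⟩, fun L hL => claim L hL.1 hL.2⟩
  have hArk : ¬ Cfsg.RankLE 1 ↥A := not_rankLE_one_of_elemAb hEA hEc hEe hp_lt
  have hACC : A ≤ Subgroup.centralizer ((Subgroup.centralizer (A : Set G) : Subgroup G) : Set G) := by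
    intro a ha
    rw [Subgroup.mem_centralizer_iff]
    intro c hc
    exact ((Subgroup.mem_centralizer_iff.mp hc) a ha).symm
  exact hAU (Cfsg.Agent.S1399.result hG (Subgroup.centralizer (A : Set G)) A hCU hACC hArk)

end Main

end Cfsg.Agent.Helper48.BG95
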