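import Cfsg.Agent.Helper57.BP.Lemmas

/-!
# (W2) for helper57's S4504: the values of `ψ` and `ψ₂` on `P` (pure algebra from the `P`-sums)
-/

set_option autoImplicit false
set_option linter.unusedSectionVars false

namespace Cfsg.Agent.Helper48.BP

open Cfsg Cfsg.Agent.Helper16 Cfsg.Agent.Helper16.DefOne Cfsg.Agent.Helper82.DefOne
  Cfsg.Agent.Helper77.DefOne Cfsg.Agent.Helper57.BH Cfsg.Agent.Helper57.BP
open scoped ComplexConjugate

universe u

variable {G : Type u} [Group G] [Fintype G] {p : ℕ} [Fact p.Prime] (P : Sylow p G)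

omit [Fintype G] in
theorem isClassFunction_mulConj {a b : G → ℂ} (ha : IsClassFunction G a)
    (hb : IsClassFunction G b) : IsClassFunction G (mulConj a b) := by
  intro g h
  simp only [mulConj]
  rw [ha g h, hb g h]

/-- the algebra behind (W2) and (T2) -/
theorem alg_core {f : ℂ} (hf : f ≠ 0) {a a' b b' : ℂ} (hcf : conj f = f)
    (E1 : 0 = f + f * a + f * a') (E2 : 0 = f + f * b + f * b')
    (E3 : 0 = f * conj f + f * (a * conj b) + f * (a' * conj b'))
    (E4 : (2 * f + 1) * f = f * conj f + f * (a * conj a) + f * (a' * conj a'))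
    (E5 : (2 * f + 1) * f = f * conj f + f * (b * conj b) + f * (b' * conj b')) :
    a + b = -1 ∧ a' = b ∧ b' = a ∧ a * conj a + b * conj b = f + 1 ∧
      (a - b) * conj (a - b) = 2 * f + 1 := by
  rw [hcf] at E3 E4 E5
  have ha' : a' = -1 - a := by
    have h : f * (a + a' + 1) = 0 := by linear_combination -E1
    have := (mul_eq_zero.mp h).resolve_left hf
    linear_combination this
  have hb' : b' = -1 - b := by
    have h : f * (b + b' + 1) = 0 := by linear_combination -E2
    have := (mul_eq_zero.mp h).resolve_left hf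
    linear_combination this
  have hca' : conj a' = -1 - conj a := by rw [ha', map_sub, map_neg, map_one]
  have hcb' : conj b' = -1 - conj b := by rw [hb', map_sub, map_neg, map_one]
  have e3 : a * conj b + a' * conj b' = -f := by
    have h : f * (a * conj b + a' * conj b' + f) = 0 := by linear_combination -E3
    have := (mul_eq_zero.mp h).resolve_left hf
    linear_combination this
  have e3' : conj a * b + conj a' * b' = -f := by
    have := congrArg conj e3
    rw [map_add, map_mul, map_mul, map_neg, Complex.conj_conj, Complex.conj_conj, hcf] at this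
    exact this
  have e4 : a * conj a + a' * conj a' = f + 1 := by
    have h : f * (a * conj a + a' * conj a' - (f + 1)) = 0 := by linear_combination -E4
    have := (mul_eq_zero.mp h).resolve_left hf
    linear_combination this
  have e5 : b * conj b + b' * conj b' = f + 1 := by
    have h : f * (b * conj b + b' * conj b' - (f + 1)) = 0 := by linear_combination -E5
    have := (mul_eq_zero.mp h).resolve_left hf
    linear_combination this
  rw [hca', ha'] at e4
  rw [hcb', hb'] at e5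
  rw [hcb', ha'] at e3
  rw [hca', hb'] at e3'
  have hN : (a + b + 1) * conj (a + b + 1) = 0 := by
    rw [map_add, map_add, map_one]
    linear_combination (1 / 2 : ℂ) * e4 + (1 / 2 : ℂ) * e5 + (1 / 2 : ℂ) * e3 + (1 / 2 : ℂ) * e3'
  have hN0 : a + b + 1 = 0 := by
    rw [Complex.mul_conj] at hN
    have h1 : Complex.normSq (a + b + 1) = 0 := by exact_mod_cast hN
    exact Complex.normSq_eq_zero.mp h1
  have hab : a + b = -1 := by linear_combination hN0
  have hb_eq : b = -1 - a := by linear_combination hab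
  have hcb_eq : conj b = -1 - conj a := by rw [hb_eq, map_sub, map_neg, map_one]
  refine ⟨hab, ?_, ?_, ?_, ?_⟩
  · rw [ha']; linear_combination -hab
  · rw [hb']; linear_combination -hab
  · rw [hcb_eq, hb_eq]; linear_combination e4
  · rw [map_sub, hcb_eq, hb_eq]
    rw [hcb_eq] at e3
    linear_combination e4 - e3

/-- (W2) the values of `ψ` and `ψ₂` on `P` (pure algebra from the `P`-sums) -/
theorem exc_values_on_P (ψ ψ₂ : IrrCharacter G)
    (hpf : 2 * (cen P).relIndex (nor P) + 1 = p)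
    (hdeg : charDegree (ψ : G → ℂ) = (cen P).relIndex (nor P))
    (hdeg₂ : charDegree (ψ₂ : G → ℂ) = (cen P).relIndex (nor P))
    (h0 : pSum P (ψ : G → ℂ) = 0) (h0' : pSum P (ψ₂ : G → ℂ) = 0)
    (h12 : pSum P (mulConj (ψ : G → ℂ) (ψ₂ : G → ℂ)) = 0)
    (h11 : pSum P (mulConj (ψ : G → ℂ) (ψ : G → ℂ)) =
      (p : ℂ) * ((cen P).relIndex (nor P) : ℂ))
    (h22 : pSum P (mulConj (ψ₂ : G → ℂ) (ψ₂ : G → ℂ)) =
      (p : ℂ) * ((cen P).relIndex (nor P) : ℂ))
    (x v : G)
    (hclass : ∀ F : G → ℂ, IsClassFunction G F →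
        pSum P F = F 1 + ((cen P).relIndex (nor P) : ℂ) * F x +
          ((cen P).relIndex (nor P) : ℂ) * F v) :
    (ψ : G → ℂ) x + (ψ₂ : G → ℂ) x = -1 ∧
      (ψ : G → ℂ) v = (ψ₂ : G → ℂ) x ∧ (ψ₂ : G → ℂ) v = (ψ : G → ℂ) x ∧
      ‖(ψ : G → ℂ) x‖ ^ 2 + ‖(ψ₂ : G → ℂ) x‖ ^ 2 = ((cen P).relIndex (nor P) : ℝ) + 1 ∧
      ‖(ψ : G → ℂ) x - (ψ₂ : G → ℂ) x‖ ^ 2 = (p : ℝ) := by
  obtain ⟨f, hf⟩ : ∃ f : ℕ, f = (cen P).relIndex (nor P) := ⟨_, rfl⟩
  rw [← hf] at hpf hdeg hdeg₂ h11 h22 hclass ⊢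
  have hp1 : 1 < p := (Fact.out : p.Prime).one_lt
  have hf0 : (f : ℂ) ≠ 0 := by
    have : f ≠ 0 := by omega
    exact_mod_cast this
  have hpc : (p : ℂ) = 2 * (f : ℂ) + 1 := by rw [← hpf]; push_cast; ring
  have h1 : (ψ : G → ℂ) 1 = (f : ℂ) := by rw [Cfsg.Agent.Helper79.irr_one, hdeg]
  have h1' : (ψ₂ : G → ℂ) 1 = (f : ℂ) := by rw [Cfsg.Agent.Helper79.irr_one, hdeg₂]
  have hcψ := Cfsg.Agent.Helper79.irr_isClassFunction ψ
  have hcψ₂ := Cfsg.Agent.Helper79.irr_isClassFunction ψ₂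
  have E1 := hclass _ hcψ
  have E2 := hclass _ hcψ₂
  have E3 := hclass _ (isClassFunction_mulConj hcψ hcψ₂)
  have E4 := hclass _ (isClassFunction_mulConj hcψ hcψ)
  have E5 := hclass _ (isClassFunction_mulConj hcψ₂ hcψ₂)
  rw [h0, h1] at E1
  rw [h0', h1'] at E2
  rw [h12] at E3
  rw [h11, hpc] at E4
  rw [h22, hpc] at E5
  simp only [mulConj, h1, h1'] at E3 E4 E5
  obtain ⟨r1, r2, r3, r4, r5⟩ := alg_core hf0 (Complex.conj_natCast f) E1 E2 E3 E4 E5
  refine ⟨r1, r2, r3, ?_, ?_⟩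
  · rw [Complex.mul_conj, Complex.mul_conj] at r4
    have h4 : Complex.normSq ((ψ : G → ℂ) x) + Complex.normSq ((ψ₂ : G → ℂ) x) = (f : ℝ) + 1 := by
      exact_mod_cast r4
    rw [← Complex.normSq_eq_norm_sq, ← Complex.normSq_eq_norm_sq]
    exact h4
  · rw [Complex.mul_conj] at r5
    have h5 : Complex.normSq ((ψ : G → ℂ) x - (ψ₂ : G → ℂ) x) = 2 * (f : ℝ) + 1 := by
      exact_mod_cast r5
    rw [← Complex.normSq_eq_norm_sq, h5, ← hpf]
    push_cast
    ring

end Cfsg.Agent.Helper48.BP
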