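import Cfsg.Agent.Helper57.BP.Lemmas
import Cfsg.Agent.Helper48.BPW2

/-!
# (T2) for helper57's S4504: the block of `θ` has exactly two exceptional characters
-/

set_option autoImplicit false
set_option linter.unusedSectionVars false

namespace Cfsg.Agent.Helper48.BP

open Cfsg Cfsg.Agent.Helper16 Cfsg.Agent.Helper16.DefOne Cfsg.Agent.Helper82.DefOne
  Cfsg.Agent.Helper77.DefOne Cfsg.Agent.Helper57.BH Cfsg.Agent.Helper57.BP
open scoped ComplexConjugate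

universe u

variable {G : Type u} [Group G] [Fintype G] {p : ℕ} [Fact p.Prime] (P : Sylow p G)

/-- (T2) the block of `θ` has exactly two exceptional characters (pure algebra from the
`P`-sums) -/
theorem Yθ_eq_pair {ψ ψ₂ : IrrCharacter G} {Yθ : Set (IrrCharacter G)}
    (hψ : ψ ∈ Yθ) (hψ₂ : ψ₂ ∈ Yθ)
    (hpf : 2 * (cen P).relIndex (nor P) + 1 = p)
    (hT1 : ∀ ψ' ∈ Yθ, ψ' ≠ ψ → pSum P (mulConj (ψ : G → ℂ) (ψ' : G → ℂ)) = 0)
    (hT1s : ∀ ψ' ∈ Yθ, ψ' ≠ ψ₂ → pSum P (mulConj (ψ₂ : G → ℂ) (ψ' : G → ℂ)) = 0)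
    (hT1' : ∀ ψ' ∈ Yθ, pSum P (ψ' : G → ℂ) = 0 ∧
      charDegree (ψ' : G → ℂ) = (cen P).relIndex (nor P))
    (x v : G)
    (hclass : ∀ F : G → ℂ, IsClassFunction G F →
        pSum P F = F 1 + ((cen P).relIndex (nor P) : ℂ) * F x +
          ((cen P).relIndex (nor P) : ℂ) * F v)
    (hsum1 : (ψ : G → ℂ) x + (ψ₂ : G → ℂ) x = -1)
    (hv : (ψ : G → ℂ) v = (ψ₂ : G → ℂ) x) (hv₂ : (ψ₂ : G → ℂ) v = (ψ : G → ℂ) x) :
    Yθ = {ψ, ψ₂} := by
  obtain ⟨f, hf⟩ : ∃ f : ℕ, f = (cen P).relIndex (nor P) := ⟨_, rfl⟩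
  rw [← hf] at hpf hT1' hclass
  have hp1 : 1 < p := (Fact.out : p.Prime).one_lt
  have hf0 : (f : ℂ) ≠ 0 := by
    have : f ≠ 0 := by omega
    exact_mod_cast this
  have hpc : (2 * (f : ℂ) + 1) ≠ 0 := by
    have : ((2 * f + 1 : ℕ) : ℂ) ≠ 0 := by
      rw [hpf]
      have : p ≠ 0 := by omega
      exact_mod_cast this
    push_cast at this
    exact this
  apply Set.Subset.antisymm
  · intro ψ₃ hψ₃
    by_contra hnot
    have hne : ψ₃ ≠ ψ := fun h => hnot (by rw [h]; exact Set.mem_insert _ _)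
    have hne₂ : ψ₃ ≠ ψ₂ := fun h => hnot (by rw [h]; exact Set.mem_insert_of_mem _ rfl)
    have hcf : conj (f : ℂ) = f := Complex.conj_natCast f
    have h1 : (ψ : G → ℂ) 1 = (f : ℂ) := by
      rw [Cfsg.Agent.Helper79.irr_one, (hT1' ψ hψ).2]
    have h1' : (ψ₂ : G → ℂ) 1 = (f : ℂ) := by
      rw [Cfsg.Agent.Helper79.irr_one, (hT1' ψ₂ hψ₂).2]
    have h1'' : (ψ₃ : G → ℂ) 1 = (f : ℂ) := by
      rw [Cfsg.Agent.Helper79.irr_one, (hT1' ψ₃ hψ₃).2]
    have hcψ := Cfsg.Agent.Helper79.irr_isClassFunction ψ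
    have hcψ₂ := Cfsg.Agent.Helper79.irr_isClassFunction ψ₂
    have hcψ₃ := Cfsg.Agent.Helper79.irr_isClassFunction ψ₃
    have E1 := hclass _ hcψ₃
    have E2 := hclass _ (isClassFunction_mulConj hcψ hcψ₃)
    have E3 := hclass _ (isClassFunction_mulConj hcψ₂ hcψ₃)
    rw [(hT1' ψ₃ hψ₃).1, h1''] at E1
    rw [hT1 ψ₃ hψ₃ hne] at E2
    rw [hT1s ψ₃ hψ₃ hne₂] at E3
    simp only [mulConj, h1, h1', h1'', hcf, hv, hv₂] at E2 E3
    -- `c + c' = -1`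
    have hc : (ψ₃ : G → ℂ) x + (ψ₃ : G → ℂ) v = -1 := by
      have h : (f : ℂ) * ((ψ₃ : G → ℂ) x + (ψ₃ : G → ℂ) v + 1) = 0 := by
        linear_combination -E1
      have := (mul_eq_zero.mp h).resolve_left hf0
      linear_combination this
    have hcc : conj ((ψ₃ : G → ℂ) x) + conj ((ψ₃ : G → ℂ) v) = -1 := by
      have := congrArg conj hc
      rw [map_add, map_neg, map_one] at this
      exact this
    have e2 : (ψ : G → ℂ) x * conj ((ψ₃ : G → ℂ) x) +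
        (ψ₂ : G → ℂ) x * conj ((ψ₃ : G → ℂ) v) = -(f : ℂ) := by
      have h : (f : ℂ) * ((ψ : G → ℂ) x * conj ((ψ₃ : G → ℂ) x) +
          (ψ₂ : G → ℂ) x * conj ((ψ₃ : G → ℂ) v) + f) = 0 := by
        linear_combination -E2
      have := (mul_eq_zero.mp h).resolve_left hf0
      linear_combination this
    have e3 : (ψ₂ : G → ℂ) x * conj ((ψ₃ : G → ℂ) x) +
        (ψ : G → ℂ) x * conj ((ψ₃ : G → ℂ) v) = -(f : ℂ) := by
      have h : (f : ℂ) * ((ψ₂ : G → ℂ) x * conj ((ψ₃ : G → ℂ) x) +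
          (ψ : G → ℂ) x * conj ((ψ₃ : G → ℂ) v) + f) = 0 := by
        linear_combination -E3
      have := (mul_eq_zero.mp h).resolve_left hf0
      linear_combination this
    apply hpc
    linear_combination
      e2 + e3 - (conj ((ψ₃ : G → ℂ) x) + conj ((ψ₃ : G → ℂ) v)) * hsum1 + hcc
  · intro ψ' hψ'
    rcases hψ' with rfl | hψ'
    · exact hψ
    · rw [Set.mem_singleton_iff] at hψ'
      rw [hψ']
      exact hψ₂

end Cfsg.Agent.Helper48.BP
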