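import Mathlib
import Cfsg.Agent.Helper77.Blk.Defs
import Cfsg.Agent.Helper73.BlkACT

/-!
helper48 for helper77 (S3888 Blackburn, board #13307): piece (C0) `class_m_one`.
-/

set_option autoImplicit false

universe u

namespace Cfsg.Agent.Helper48.Blk

open Subgroup Cfsg.Agent.Helper77.Blk

variable {G : Type u} [Group G] [Finite G] {p : ℕ} [hp : Fact p.Prime]

/-- strictly increasing subgroups of a `p`-group have strictly increasing exponents -/
theorem C0_card_lt {n : ℕ} (hG : Nat.card G = p ^ n) {S T : Subgroup G} (h : S < T) :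
    ∃ a b : ℕ, Nat.card S = p ^ a ∧ Nat.card T = p ^ b ∧ a < b := by
  obtain ⟨a, -, hSa⟩ := (Nat.dvd_prime_pow hp.out).1 (hG ▸ Subgroup.card_subgroup_dvd_card S)
  obtain ⟨b, -, hTb⟩ := (Nat.dvd_prime_pow hp.out).1 (hG ▸ Subgroup.card_subgroup_dvd_card T)
  refine ⟨a, b, hSa, hTb, ?_⟩
  have hle : Nat.card S ≤ Nat.card T := Subgroup.card_le_of_le h.le
  have hne : Nat.card S ≠ Nat.card T := fun heq =>
    h.ne (Subgroup.eq_of_le_of_card_ge h.le heq.ge)
  rw [hSa, hTb] at hle hne
  exact (Nat.pow_lt_pow_iff_right hp.out.one_lt).1 (lt_of_le_of_ne hle hne)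

/-- (C0) `m = 1` -/
theorem class_m_one (hp2 : p ≠ 2) (hG : Nat.card G = p ^ 3) (x z y : G) (hzy : z * y = y * z)
    (hz : orderOf z = p ^ 1) (hy : y ^ p = 1) (hyz : y ∉ zpowers z) (hx : x ^ p = 1)
    (hxC : x ∉ closure ({z, y} : Set G)) (hnz : x⁻¹ * z * x ∈ closure ({z, y} : Set G))
    (hny : x⁻¹ * y * x ∈ closure ({z, y} : Set G))
    (hact : ∃ e ∈ closure ({z, y} : Set G), x⁻¹ * e * x ≠ e) : Fam2 p 3 G := by
  classical
  have hpp : p.Prime := hp.out
  set A : Subgroup G := closure ({z, y} : Set G) with hA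
  have hpG : IsPGroup p G := IsPGroup.of_card hG
  have hzA : z ∈ A := subset_closure (by simp)
  have hyA : y ∈ A := subset_closure (by simp)
  -- `A` is abelian
  have hk : ∀ a ∈ ({z, y} : Set G), ∀ b ∈ ({z, y} : Set G), a * b = b * a := by
    rintro a (rfl | rfl) b (rfl | rfl)
    · rfl
    · exact hzy
    · exact hzy.symm
    · rfl
  have hAcomm : ∀ a ∈ A, ∀ b ∈ A, a * b = b * a := by
    intro a ha b hb
    have hc := Subgroup.isMulCommutative_closure hk
    have := hc.is_comm.comm ⟨a, ha⟩ ⟨b, hb⟩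
    exact congrArg Subtype.val this
  -- exponent `p`
  have hzp : z ^ p = 1 := by
    have := pow_orderOf_eq_one z
    rwa [hz, pow_one] at this
  have hAexp : ∀ a ∈ A, a ^ p = 1 := by
    intro a ha
    induction ha using Subgroup.closure_induction with
    | mem a ha =>
      rcases ha with rfl | rfl
      · exact hzp
      · exact hy
    | one => exact one_pow p
    | mul a b ha hb iha ihb =>
      have hc : Commute a b := hAcomm a ha b hb
      rw [hc.mul_pow, iha, ihb, one_mul]
    | inv a ha iha => rw [inv_pow, iha, inv_one]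
  -- `x` normalises `A`
  have hconjA : ∀ a ∈ A, x⁻¹ * a * x ∈ A := by
    intro a ha
    induction ha using Subgroup.closure_induction with
    | mem a ha =>
      rcases ha with rfl | rfl
      · exact hnz
      · exact hny
    | one => rw [mul_one, inv_mul_cancel]; exact A.one_mem
    | mul a b _ _ iha ihb =>
      have : x⁻¹ * (a * b) * x = (x⁻¹ * a * x) * (x⁻¹ * b * x) := by group
      rw [this]
      exact A.mul_mem iha ihb
    | inv a _ iha =>
      have : x⁻¹ * a⁻¹ * x = (x⁻¹ * a * x)⁻¹ := by group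
      rw [this]
      exact A.inv_mem iha
  -- the order of `A`
  have hz1 : z ≠ 1 := by
    intro h
    rw [h, orderOf_one, pow_one] at hz
    have := hpp.one_lt
    omega
  have hbz : (⊥ : Subgroup G) < zpowers z := by
    rw [bot_lt_iff_ne_bot]
    intro h
    have := mem_zpowers z
    rw [h, mem_bot] at this
    exact hz1 this
  have hzA' : zpowers z < A := by
    refine lt_of_le_of_ne ((zpowers_le).2 hzA) ?_
    intro h
    exact hyz (h ▸ hyA)
  have hAtop : A < ⊤ := by
    rw [lt_top_iff_ne_top]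
    intro h
    exact hxC (h ▸ mem_top x)
  have hAcard : Nat.card A = p ^ 2 := by
    obtain ⟨a0, a1, h0, h1, l01⟩ := C0_card_lt hG hbz
    obtain ⟨a1', a2, h1', h2, l12⟩ := C0_card_lt hG hzA'
    obtain ⟨a2', a3, h2', h3, l23⟩ := C0_card_lt hG hAtop
    have e1 : a1 = a1' := Nat.pow_right_injective hpp.two_le (h1.symm.trans h1')
    have e2 : a2 = a2' := Nat.pow_right_injective hpp.two_le (h2.symm.trans h2')
    have e3 : a3 = 3 := by
      rw [Subgroup.card_top, hG] at h3
      exact (Nat.pow_right_injective hpp.two_le h3).symm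
    have : a2 = 2 := by omega
    rw [h2, this]
  -- `A` is normal
  have hidx : A.index = p := by
    have := Subgroup.card_mul_index A
    rw [hAcard, hG] at this
    have h3 : p ^ 3 = p ^ 2 * p := by ring
    rw [h3] at this
    exact Nat.eq_of_mul_eq_mul_left (pow_pos hpp.pos 2) this
  have hAn : A.Normal := by
    apply Subgroup.normal_of_index_eq_minFac_card
    rw [hidx, hG, hpp.pow_minFac (by norm_num)]
  -- the transvection
  obtain ⟨e2, he2A, hne⟩ := hact
  obtain ⟨hfix1, -, -⟩ := Cfsg.Agent.Helper73.Blk.transvAct hpG A hAcard hAexp x e2 he2A hne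
  set e1 : G := e2⁻¹ * (x⁻¹ * e2 * x) with he1
  have he1A : e1 ∈ A := A.mul_mem (A.inv_mem he2A) (hconjA e2 he2A)
  have he1n : e1 ≠ 1 := by
    intro h
    apply hne
    have : x⁻¹ * e2 * x = e2 * e1 := by rw [he1]; group
    rw [this, h, mul_one]
  have hxe1 : x * e1 = e1 * x := by
    calc x * e1 = x * (x⁻¹ * e1 * x) := by rw [hfix1]
      _ = e1 * x := by group
  -- generation
  have he2n : e2 ∉ zpowers e1 := by
    intro h
    obtain ⟨k, hk⟩ := mem_zpowers_iff.1 h
    apply hne
    rw [← hk]
    have : x⁻¹ * e1 ^ k * x = (x⁻¹ * e1 * x) ^ k := by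
      have h' := conj_zpow (a := x⁻¹) (b := e1) (i := k)
      rw [inv_inv] at h'
      exact h'.symm
    rw [this, hfix1]
  set A' : Subgroup G := closure ({e2, e1} : Set G) with hA'
  set M : Subgroup G := closure ({x, e2, e1} : Set G) with hM
  have hA'A : A' ≤ A := by
    rw [hA', closure_le]
    rintro a (rfl | rfl)
    · exact he2A
    · exact he1A
  have hb1 : (⊥ : Subgroup G) < zpowers e1 := by
    rw [bot_lt_iff_ne_bot]
    intro h
    have := mem_zpowers e1
    rw [h, mem_bot] at this
    exact he1n this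
  have h12 : zpowers e1 < A' := by
    refine lt_of_le_of_ne ((zpowers_le).2 (subset_closure (by simp))) ?_
    intro h
    exact he2n (h ▸ (subset_closure (by simp) : e2 ∈ A'))
  have h23 : A' < M := by
    have hle : A' ≤ M := by
      rw [hA', closure_le]
      rintro a (rfl | rfl)
      · exact subset_closure (by simp)
      · exact subset_closure (by simp)
    refine lt_of_le_of_ne hle ?_
    intro h
    have hxM : x ∈ M := subset_closure (by simp)
    exact hxC (hA'A (h ▸ hxM))
  have hMtop : M = ⊤ := by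
    obtain ⟨a0, a1, h0, h1, l01⟩ := C0_card_lt hG hb1
    obtain ⟨a1', a2, h1', h2, l12⟩ := C0_card_lt hG h12
    obtain ⟨a2', a3, h2', h3, l23⟩ := C0_card_lt hG h23
    have e1' : a1 = a1' := Nat.pow_right_injective hpp.two_le (h1.symm.trans h1')
    have e2' : a2 = a2' := Nat.pow_right_injective hpp.two_le (h2.symm.trans h2')
    have hle3 : a3 ≤ 3 := by
      have := Subgroup.card_subgroup_dvd_card M
      rw [h3, hG] at this
      exact (Nat.pow_dvd_pow_iff_le_right hpp.one_lt).1 this
    have : a3 = 3 := by omega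
    apply Subgroup.eq_top_of_card_eq
    rw [h3, this, hG]
  refine ⟨le_refl 3, x, e2, e1, hMtop, hx, hAexp e2 he2A, ?_, hxe1, hAcomm e2 he2A e1 he1A, ?_⟩
  · show e1 ^ p ^ (3 - 2) = 1
    rw [show 3 - 2 = 1 from rfl, pow_one]
    exact hAexp e1 he1A
  · show x⁻¹ * e2 * x = e2 * e1 ^ p ^ (3 - 3)
    rw [show 3 - 3 = 0 from rfl, pow_zero, pow_one, he1]
    group

end Cfsg.Agent.Helper48.Blk
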