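import Cfsg.Agent.Helper78.Brandt.Defs

/-!
# (B-R2) for S4607 (helper78's Brandt route): the trace map onto the cocenter of a corner

For an idempotent `e` of a finite-dimensional algebra `A` with `∑ i, x i * e * y i = 1`, the map
`T a = ∑ i, e * y i * a * x i * e` sends commutators of `A` to commutators of the corner `e A e`,
and is the identity on the corner modulo commutators of the corner.  Hence
`dim e A e + dim [A, A] ≤ dim A + dim [e A e, e A e]`.
-/

set_option autoImplicit false

namespace Cfsg.Agent.Helper48.BrandtR2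

open Module Cfsg.Agent.Helper78.Brandt

variable {k : Type*} [Field k] {A : Type*} [Ring A] [Algebra k A]

/-- The trace map `a ↦ ∑ i, e * y i * a * (x i * e)`. -/
noncomputable def traceMap (k : Type*) [Field k] {A : Type*} [Ring A] [Algebra k A]
    (e : A) {ι : Type*} [Fintype ι] (x y : ι → A) : A →ₗ[k] A :=
  ∑ i, (LinearMap.mulLeft k (e * y i)).comp (LinearMap.mulRight k (x i * e))

theorem traceMap_apply (e : A) {ι : Type*} [Fintype ι] (x y : ι → A) (a : A) :
    traceMap k e x y a = ∑ i, e * y i * a * (x i * e) := by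
  simp [traceMap, LinearMap.sum_apply, mul_assoc]

theorem gen_mem_cornerCommSpan (e a b : A) :
    (e * a * e) * (e * b * e) - (e * b * e) * (e * a * e) ∈ cornerCommSpan k e :=
  Submodule.subset_span ⟨a, b, rfl⟩

theorem summand_mul (e : A) (he : IsIdempotentElem e) {ι : Type*} [Fintype ι] (x y : ι → A)
    (hxy : ∑ i, x i * e * y i = 1) (a b : A) (i : ι) :
    e * y i * (a * b) * (x i * e) =
      ∑ j, (e * (y i * a * x j) * e) * (e * (y j * b * x i) * e) := by
  have h1 : a * b = a * (∑ j, x j * e * y j) * b := by rw [hxy, mul_one]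
  rw [h1, Finset.mul_sum, Finset.sum_mul, Finset.mul_sum, Finset.sum_mul]
  refine Finset.sum_congr rfl fun j _ => ?_
  have h2 : e * (y i * a * x j) * e * (e * (y j * b * x i) * e) =
      e * (y i * a * x j) * (e * e) * (y j * b * x i) * e := by simp only [mul_assoc]
  rw [h2, he.eq]
  simp only [mul_assoc]

theorem traceMap_comm_mem (e : A) (he : IsIdempotentElem e) {ι : Type*} [Fintype ι] (x y : ι → A)
    (hxy : ∑ i, x i * e * y i = 1) (a b : A) :
    traceMap k e x y (a * b - b * a) ∈ cornerCommSpan k e := by
  rw [map_sub, traceMap_apply, traceMap_apply]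
  have h1 : ∑ i, e * y i * (a * b) * (x i * e) =
      ∑ i, ∑ j, (e * (y i * a * x j) * e) * (e * (y j * b * x i) * e) :=
    Finset.sum_congr rfl fun i _ => summand_mul e he x y hxy a b i
  have h2 : ∑ i, e * y i * (b * a) * (x i * e) =
      ∑ i, ∑ j, (e * (y j * b * x i) * e) * (e * (y i * a * x j) * e) := by
    rw [Finset.sum_comm]
    exact Finset.sum_congr rfl fun i _ => summand_mul e he x y hxy b a i
  rw [h1, h2, ← Finset.sum_sub_distrib]
  refine Submodule.sum_mem _ fun i _ => ?_
  rw [← Finset.sum_sub_distrib]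
  exact Submodule.sum_mem _ fun j _ => gen_mem_cornerCommSpan e _ _

theorem traceMap_maps_commSpan (e : A) (he : IsIdempotentElem e) {ι : Type*} [Fintype ι]
    (x y : ι → A) (hxy : ∑ i, x i * e * y i = 1) :
    commSpan k A ≤ (cornerCommSpan k e).comap (traceMap k e x y) := by
  refine Submodule.span_le.2 ?_
  rintro z ⟨a, b, rfl⟩
  exact traceMap_comm_mem e he x y hxy a b

theorem traceMap_corner_sub_mem (e : A) (he : IsIdempotentElem e) {ι : Type*} [Fintype ι]
    (x y : ι → A) (hxy : ∑ i, x i * e * y i = 1) (a : A) :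
    traceMap k e x y (e * a * e) - e * a * e ∈ cornerCommSpan k e := by
  rw [traceMap_apply]
  have h1 : e * a * e = ∑ i, (e * (a * e * x i) * e) * (e * y i * e) := by
    have : ∑ i, (e * (a * e * x i) * e) * (e * y i * e) =
        e * a * e * (∑ i, x i * e * y i) * e := by
      rw [Finset.mul_sum, Finset.sum_mul]
      refine Finset.sum_congr rfl fun i _ => ?_
      have h3 : e * (a * e * x i) * e * (e * y i * e) =
          e * (a * e * x i) * (e * e) * y i * e := by simp only [mul_assoc]
      rw [h3, he.eq]
      simp only [mul_assoc]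
    rw [this, hxy, mul_one, mul_assoc (e * a) e e, he.eq]
  have h2 : ∑ i, e * y i * (e * a * e) * (x i * e) =
      ∑ i, (e * y i * e) * (e * (a * e * x i) * e) := by
    refine Finset.sum_congr rfl fun i _ => ?_
    have h3 : e * y i * e * (e * (a * e * x i) * e) =
        e * y i * (e * e) * (a * e * x i) * e := by simp only [mul_assoc]
    rw [h3, he.eq]
    simp only [mul_assoc]
  rw [h2]
  have h4 : ∑ i, e * y i * e * (e * (a * e * x i) * e) - e * a * e =
      ∑ i, ((e * y i * e) * (e * (a * e * x i) * e) - (e * (a * e * x i) * e) * (e * y i * e)) := by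
    rw [Finset.sum_sub_distrib, ← h1]
  rw [h4]
  exact Submodule.sum_mem _ fun i _ => gen_mem_cornerCommSpan e _ _

theorem cornerSpace_inf_commSpan_le (e : A) (he : IsIdempotentElem e) {ι : Type*} [Fintype ι]
    (x y : ι → A) (hxy : ∑ i, x i * e * y i = 1) :
    cornerSpace k e ⊓ commSpan k A ≤ cornerCommSpan k e := by
  rintro w ⟨hw1, hw2⟩
  obtain ⟨a, rfl⟩ := mem_cornerSpace.1 hw1
  have h1 : traceMap k e x y (e * (a * e)) ∈ cornerCommSpan k e :=
    traceMap_maps_commSpan e he x y hxy hw2
  have h2 := traceMap_corner_sub_mem (k := k) e he x y hxy a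
  rw [mul_assoc] at h2
  have := Submodule.sub_mem _ h1 h2
  simpa using this

/-- (B-R2) the trace map `A → e A e / [e A e, e A e]`. -/
theorem finrank_cornerSpace_add_finrank_commSpan_le [FiniteDimensional k A] (e : A)
    (he : IsIdempotentElem e) {ι : Type*} [Fintype ι] (x y : ι → A)
    (hxy : ∑ i, x i * e * y i = 1) :
    finrank k (cornerSpace k e) + finrank k (commSpan k A) ≤
      finrank k A + finrank k (cornerCommSpan k e) := by
  have h1 := Submodule.finrank_sup_add_finrank_inf_eq (cornerSpace k e) (commSpan k A)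
  have h2 : finrank k ↥(cornerSpace k e ⊔ commSpan k A) ≤ finrank k A := Submodule.finrank_le _
  have h3 : finrank k ↥(cornerSpace k e ⊓ commSpan k A) ≤ finrank k (cornerCommSpan k e) :=
    Submodule.finrank_mono (cornerSpace_inf_commSpan_le e he x y hxy)
  omega

end Cfsg.Agent.Helper48.BrandtR2
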