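import Mathlib
import Cfsg.Agent.Lib.Nilpotent
import Cfsg.Agent.Helper2.CS2Defs
import Cfsg.Agent.Helper2.CS2Defs2
import Cfsg.Agent.Helper2.CS2Basic
import Cfsg.Agent.Helper51.CS2P0b

/-!
# (ST1) of board #6088 (helper2, S4284 class sizes `{1, m, mn}`): in Case B, for a good `x` there
is a noncentral `pi`-primary `y` with `C(y) ≤ C(x^γ)` for all `γ` (helper48)
-/

set_option autoImplicit false
set_option linter.unusedVariables false
set_option linter.unusedSectionVars false

namespace Cfsg.Agent.Helper48.CS2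
open Cfsg.Agent.Helper2.CS2 Subgroup

section general

variable {G : Type*} [Group G] [Finite G]

/-- (L0) in a finite `p`-group, a normal subgroup not inside the centre contains a noncentral
element all of whose commutators are central -/
theorem exists_central_commutators {P : Type*} [Group P] [Finite P] {p : ℕ} [Fact p.Prime]
    (hP : IsPGroup p P) (N : Subgroup P) [hN : N.Normal] (hNZ : ¬ N ≤ center P) :
    ∃ y ∈ N, y ∉ center P ∧ ∀ τ : P, τ * y * τ⁻¹ * y⁻¹ ∈ center P := by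
  classical
  have : Group.IsNilpotent P := hP.isNilpotent
  let π : P →* P ⧸ center P := QuotientGroup.mk' (center P)
  have hπ : Function.Surjective π := QuotientGroup.mk'_surjective _
  have : (N.map π).Normal := hN.map π hπ
  have hne : N.map π ≠ ⊥ := by
    intro h
    apply hNZ
    intro a ha
    have : π a ∈ N.map π := Subgroup.mem_map_of_mem π ha
    rw [h, Subgroup.mem_bot] at this
    exact (QuotientGroup.eq_one_iff a).1 this
  have h1 := Cfsg.Agent.Lib.normal_inf_center_ne_bot (N.map π) hne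
  obtain ⟨q, hq, hq1⟩ := (Subgroup.ne_bot_iff_exists_ne_one).1 h1 |> fun ⟨⟨q, hq⟩, hq1⟩ =>
    (⟨q, hq, fun h => hq1 (Subtype.ext h)⟩ : ∃ q, q ∈ N.map π ⊓ center (P ⧸ center P) ∧ q ≠ 1)
  obtain ⟨hqN, hqZ⟩ := Subgroup.mem_inf.1 hq
  obtain ⟨y, hyN, rfl⟩ := hqN
  refine ⟨y, hyN, ?_, ?_⟩
  · intro hy
    exact hq1 ((QuotientGroup.eq_one_iff y).2 hy)
  · intro τ
    rw [← QuotientGroup.eq_one_iff]
    have hcomm : π τ * π y = π y * π τ := (Subgroup.mem_center_iff.1 hqZ) (π τ)
    show π (τ * y * τ⁻¹ * y⁻¹) = 1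
    rw [map_mul, map_mul, map_mul, map_inv, map_inv, hcomm, mul_inv_cancel_right, mul_inv_cancel]

/-- multiplying by a central element does not change the centralizer -/
theorem Cn_central_mul {z y : G} (hz : z ∈ center G) : Cn (z * y) = Cn y := by
  ext g
  rw [mem_Cn_iff, mem_Cn_iff]
  have h1 : g * z = z * g := (Subgroup.mem_center_iff.1 hz g)
  constructor
  · intro h
    have : z * (g * y) = z * (y * g) := by
      rw [← mul_assoc, ← h1, mul_assoc, h, mul_assoc]
    exact mul_left_cancel this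
  · intro h
    rw [← mul_assoc, h1, mul_assoc, h, mul_assoc]

/-- if conjugation by `g` does not change the centralizer of `y`, then `g` normalizes it -/
theorem mem_normalizer_Cn {g y : G} (h : Cn (g * y * g⁻¹) = Cn y) :
    g ∈ normalizer ((Cn y : Subgroup G) : Set G) := by
  rw [Subgroup.mem_normalizer_iff]
  intro w
  have h1 : g * w * g⁻¹ ∈ Cn (g * y * g⁻¹) ↔ g⁻¹ * (g * w * g⁻¹) * g ∈ Cn y := mem_Cn_conj
  have e : g⁻¹ * (g * w * g⁻¹) * g = w := by group
  rw [e, h] at h1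
  exact h1.symm

/-- membership in a `p`-subgroup gives a `p`-element -/
theorem isPElt_of_mem {p : ℕ} [Fact p.Prime] {H : Subgroup G} (hH : IsPGroup p H) {y : G}
    (hy : y ∈ H) : IsPElt p y := by
  obtain ⟨k, hk⟩ := hH ⟨y, hy⟩
  have h1 : y ^ p ^ k = 1 := by
    have := congrArg Subtype.val hk
    simpa using this
  have h2 : orderOf y ∣ p ^ k := orderOf_dvd_of_pow_eq_one h1
  obtain ⟨j, -, hj⟩ := (Nat.dvd_prime_pow (Fact.out : p.Prime)).1 h2
  exact ⟨j, hj⟩

theorem isPElt_conj {p : ℕ} {y : G} (hy : IsPElt p y) (g : G) : IsPElt p (g * y * g⁻¹) := by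
  obtain ⟨k, hk⟩ := hy
  refine ⟨k, ?_⟩
  rw [← hk]
  exact orderOf_eq_orderOf_iff.2 fun n => by
    rw [conj_pow]
    constructor
    · intro h
      have : g⁻¹ * (g * y ^ n * g⁻¹) * g = g⁻¹ * 1 * g := by rw [h]
      simpa [mul_assoc] using this
    · intro h
      rw [h]; group

end general


section sylow

variable {G : Type*} [Group G] [Finite G] {m n : ℕ}

/-- a subgroup of index `t` in a Sylow `t`-subgroup is normalized by it -/
theorem conj_mem_of_card_mul {t : ℕ} [Fact t.Prime] (T : Sylow t G) (B : Subgroup G)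
    (hB : B ≤ (T : Subgroup G)) (hcard : Nat.card B * t = Nat.card T) :
    ∀ τ ∈ (T : Subgroup G), ∀ b ∈ B, τ * b * τ⁻¹ ∈ B := by
  have ht : t.Prime := Fact.out
  have hcardN : Nat.card (B.subgroupOf (T : Subgroup G)) = Nat.card B :=
    Nat.card_congr (Subgroup.subgroupOfEquivOfLe hB).toEquiv
  have hidx : (B.subgroupOf (T : Subgroup G)).index = t := by
    have h1 := (B.subgroupOf (T : Subgroup G)).card_mul_index
    rw [hcardN] at h1
    have h2 : Nat.card B * (B.subgroupOf (T : Subgroup G)).index = Nat.card B * t := by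
      rw [h1, hcard]
    exact Nat.eq_of_mul_eq_mul_left Nat.card_pos h2
  have hmin : (Nat.card (T : Subgroup G)).minFac = t := by
    have h1 : Nat.card (T : Subgroup G) = t ^ (Nat.card G).factorization t :=
      T.card_eq_multiplicity
    have h2 : (Nat.card G).factorization t ≠ 0 := by
      intro h0
      rw [h0, pow_zero] at h1
      have : t ∣ Nat.card (T : Subgroup G) := ⟨Nat.card B, by rw [← hcard, mul_comm]⟩
      rw [h1] at this
      exact ht.one_lt.ne' (Nat.dvd_one.1 this)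
    rw [h1]
    exact ht.pow_minFac h2
  have hnorm : (B.subgroupOf (T : Subgroup G)).Normal :=
    Subgroup.normal_of_index_eq_minFac_card (by rw [hidx, hmin])
  intro τ hτ b hb
  have := hnorm.conj_mem ⟨b, hB hb⟩ (Subgroup.mem_subgroupOf.2 hb) ⟨τ, hτ⟩
  exact Subgroup.mem_subgroupOf.1 this

/-- a subgroup of index `t` in a Sylow `t`-subgroup (`t ∣ m`) is not central -/
theorem not_le_center_of_card_mul (h : Hyp G m n) {t : ℕ} [Fact t.Prime] (htm : t ∣ m)
    (T : Sylow t G) (B : Subgroup G) (hB : B ≤ (T : Subgroup G))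
    (hcard : Nat.card B * t = Nat.card T) : ¬ B ≤ center G := by
  intro hBZ
  have ht : t.Prime := Fact.out
  have h1 := Cfsg.Agent.Helper51.CS2.Hyp.sq_mul_card_dvd h htm T
  rw [← hcard] at h1
  have hz : 0 < Nat.card ((T : Subgroup G) ⊓ center G : Subgroup G) := Nat.card_pos
  have h2 : t * Nat.card ((T : Subgroup G) ⊓ center G : Subgroup G) ∣ Nat.card B := by
    have e : t ^ 2 * Nat.card ((T : Subgroup G) ⊓ center G : Subgroup G) =
        (t * Nat.card ((T : Subgroup G) ⊓ center G : Subgroup G)) * t := by ring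
    rw [e] at h1
    exact (Nat.mul_dvd_mul_iff_right ht.pos).1 h1
  have h3 : Nat.card B ≤ Nat.card ((T : Subgroup G) ⊓ center G : Subgroup G) :=
    Nat.le_of_dvd hz (Subgroup.card_dvd_of_le (le_inf hB hBZ))
  have h4 : t * Nat.card ((T : Subgroup G) ⊓ center G : Subgroup G) ≤ Nat.card B :=
    Nat.le_of_dvd Nat.card_pos h2
  have : 2 ≤ t := ht.two_le
  nlinarith

/-- if `N` contains a Sylow `t`-subgroup of `G` and `t ∣ idx x`, then `t ∣ |N : N ∩ C(x)|` -/
theorem dvd_relIndex_of_sylow_le {t : ℕ} [Fact t.Prime] (T : Sylow t G) (N : Subgroup G)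
    (hTN : (T : Subgroup G) ≤ N) (x : G) (htx : t ∣ idx x) : t ∣ (Cn x).relIndex N := by
  have ht : t.Prime := Fact.out
  by_contra hnd
  -- `|T| ∣ |N| = |N ⊓ C(x)| * j`
  have h1 : Nat.card (T : Subgroup G) ∣ Nat.card N := Subgroup.card_dvd_of_le hTN
  have h2 : Nat.card ((Cn x).subgroupOf N) * (Cn x).relIndex N = Nat.card N :=
    ((Cn x).subgroupOf N).card_mul_index
  have hT : Nat.card (T : Subgroup G) = t ^ (Nat.card G).factorization t :=
    T.card_eq_multiplicity
  rw [← h2, hT] at h1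
  have hcop : (t ^ (Nat.card G).factorization t).Coprime ((Cn x).relIndex N) :=
    Nat.Coprime.pow_left _ ((Nat.Prime.coprime_iff_not_dvd ht).2 hnd)
  have h3 : t ^ (Nat.card G).factorization t ∣ Nat.card ((Cn x).subgroupOf N) :=
    hcop.dvd_of_dvd_mul_right h1
  have h4 : Nat.card ((Cn x).subgroupOf N) ∣ Nat.card (Cn x) := by
    have e : Nat.card ((Cn x).subgroupOf N) = Nat.card (Cn x ⊓ N : Subgroup G) := by
      rw [inf_comm]
      exact Nat.card_congr (Subgroup.subgroupOfEquivOfLe (inf_le_left : N ⊓ Cn x ≤ N)).toEquiv |>.symm ▸ by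
        rw [← Subgroup.inf_subgroupOf_left]
    rw [e]
    exact Subgroup.card_dvd_of_le inf_le_left
  have h5 : t ^ (Nat.card G).factorization t * t ∣ Nat.card G := by
    have h6 := Nat.mul_dvd_mul (h3.trans h4) htx
    rwa [show idx x = (Cn x).index from rfl, (Cn x).card_mul_index] at h6
  rw [← pow_succ] at h5
  exact Nat.pow_succ_factorization_not_dvd Nat.card_pos.ne' ht h5

/-- if the class size of `x` divides `|N : N ∩ C(x)|` then `N` is transitive on the class of `x` -/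
theorem exists_conj_eq_of_dvd_relIndex (N : Subgroup G) (x : G)
    (hm : idx x ∣ (Cn x).relIndex N) :
    ∀ γ : G, ∃ ν ∈ N, γ * x * γ⁻¹ = ν * x * ν⁻¹ := by
  classical
  let b : G ⧸ Cn x := QuotientGroup.mk 1
  have hstab : MulAction.stabilizer N b = (Cn x).subgroupOf N := by
    ext ν
    rw [MulAction.mem_stabilizer_iff, Subgroup.mem_subgroupOf]
    show ((ν : G) • (QuotientGroup.mk 1 : G ⧸ Cn x)) = QuotientGroup.mk 1 ↔ _
    rw [MulAction.Quotient.smul_mk, smul_eq_mul, mul_one, eq_comm, QuotientGroup.eq, inv_one,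
      one_mul]
  have h1 : (MulAction.orbit N b).ncard = (Cn x).relIndex N := by
    rw [← MulAction.index_stabilizer, hstab]
    rfl
  have h2 : (MulAction.orbit N b).ncard ≤ Nat.card (G ⧸ Cn x) := Set.ncard_le_card _
  have h3 : 0 < (MulAction.orbit N b).ncard := by
    rw [Set.ncard_pos]
    exact ⟨b, MulAction.mem_orbit_self b⟩
  have h4 : Nat.card (G ⧸ Cn x) = idx x := rfl
  have h5 : idx x ≤ (MulAction.orbit N b).ncard := by
    rw [h1]
    rw [h1] at h3
    exact Nat.le_of_dvd h3 hm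
  have h6 : MulAction.orbit N b = Set.univ := by
    rw [Set.eq_univ_iff_ncard]
    omega
  intro γ
  have h7 : (QuotientGroup.mk γ : G ⧸ Cn x) ∈ MulAction.orbit N b := by
    rw [h6]; exact Set.mem_univ _
  obtain ⟨ν, hν⟩ := h7
  refine ⟨ν, ν.2, ?_⟩
  have h8 : ((ν : G) • (QuotientGroup.mk 1 : G ⧸ Cn x)) = QuotientGroup.mk γ := hν
  rw [MulAction.Quotient.smul_mk, smul_eq_mul, mul_one, QuotientGroup.eq, mem_Cn_iff] at h8
  -- `(ν⁻¹ γ) x = x (ν⁻¹ γ)`
  have h9 : γ * x = (ν : G) * x * ((ν : G)⁻¹ * γ) := by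
    calc γ * x = (ν : G) * ((ν : G)⁻¹ * γ * x) := by group
      _ = (ν : G) * (x * ((ν : G)⁻¹ * γ)) := by rw [h8]
      _ = (ν : G) * x * ((ν : G)⁻¹ * γ) := by group
  rw [h9]; group

theorem coprime_of_isPElt {a b : G} {p q : ℕ} (hp : p.Prime) (hq : q.Prime) (hpq : p ≠ q)
    (ha : IsPElt p a) (hb : IsPElt q b) : (orderOf a).Coprime (orderOf b) := by
  obtain ⟨i, hi⟩ := ha
  obtain ⟨j, hj⟩ := hb
  rw [hi, hj]
  exact Nat.Coprime.pow _ _ ((Nat.coprime_primes hp hq).2 hpq)

/-- **(ST1)** for a good `x` there is a noncentral pi-primary `y` with C(y) ≤ C(x^γ) for all γ. -/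
theorem struct_W (h : Hyp G m n) (hB : CaseB G m)
    (hsq : ∀ t : ℕ, t.Prime → t ∣ m → m.factorization t = 1) {r : ℕ} {x : G} (hx : Good m r x) :
    ∃ (t₀ : ℕ) (y : G), t₀.Prime ∧ t₀ ∣ m ∧ IsPElt t₀ y ∧ y ∉ center G ∧
      ∀ γ : G, Cn y ≤ Cn (γ * x * γ⁻¹) := by
  classical
  obtain ⟨hr, hrm, hxr, hidx⟩ := hx
  obtain ⟨t₀, ht₀, ht₀m⟩ := Nat.exists_prime_and_dvd h.one_lt_m.ne'
  have : Fact t₀.Prime := ⟨ht₀⟩
  -- Step 1: a Sylow `t₀`-subgroup `A` of `C(x)` inside a Sylow `T` of `G`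
  obtain ⟨Q₀⟩ : Nonempty (Sylow t₀ (Cn x)) := inferInstance
  set A : Subgroup G := (Q₀ : Subgroup (Cn x)).map (Cn x).subtype with hA
  have hA2 : IsPGroup t₀ A := Q₀.2.map _
  obtain ⟨T, hAT⟩ := hA2.exists_le_sylow
  have hAM : A ≤ Cn x := by
    rintro _ ⟨q, -, rfl⟩
    exact q.2
  have hcardA : Nat.card A * t₀ = Nat.card T := by
    have h1 := Cfsg.Agent.Helper51.CS2.card_sylow_Cn x Q₀ T
    rw [hidx, hsq t₀ ht₀ ht₀m, pow_one] at h1
    rw [← h1]
    congr 1
    exact (Nat.card_congr ((Q₀ : Subgroup (Cn x)).equivMapOfInjective (Cn x).subtype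
      (Cn x).subtype_injective).toEquiv).symm
  have hAnorm := conj_mem_of_card_mul T A hAT hcardA
  have hAZ := not_le_center_of_card_mul h ht₀m T A hAT hcardA
  -- the element `y`
  have hNnormal : (A.subgroupOf (T : Subgroup G)).Normal := ⟨fun a ha τ => by
    rw [Subgroup.mem_subgroupOf] at ha ⊢
    exact hAnorm τ τ.2 a ha⟩
  have hNZ : ¬ A.subgroupOf (T : Subgroup G) ≤ center (T : Subgroup G) := by
    intro hle
    apply hAZ
    intro a ha
    have h1 : (⟨a, hAT ha⟩ : (T : Subgroup G)) ∈ center (T : Subgroup G) :=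
      hle (Subgroup.mem_subgroupOf.2 ha)
    refine Cfsg.Agent.Helper51.CS2.Hyp.sylow_center_le h ht₀m T (hAT ha) ?_
    intro τ hτ
    have := Subgroup.mem_center_iff.1 h1 ⟨τ, hτ⟩
    exact congrArg Subtype.val this
  obtain ⟨y', hy'N, hy'Z, hy'c⟩ :=
    exists_central_commutators T.2 (A.subgroupOf (T : Subgroup G)) hNZ
  set y : G := (y' : G) with hy
  have hyA : y ∈ A := Subgroup.mem_subgroupOf.1 hy'N
  have hyT : y ∈ (T : Subgroup G) := y'.2
  have hyZ : y ∉ center G := by
    intro hc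
    apply hy'Z
    rw [Subgroup.mem_center_iff]
    intro τ
    apply Subtype.ext
    exact Subgroup.mem_center_iff.1 hc τ
  have hycomm : ∀ τ ∈ (T : Subgroup G), τ * y * τ⁻¹ * y⁻¹ ∈ center G := by
    intro τ hτ
    have h1 := hy'c ⟨τ, hτ⟩
    refine Cfsg.Agent.Helper51.CS2.Hyp.sylow_center_le h ht₀m T ?_ ?_
    · exact ((⟨τ, hτ⟩ : (T : Subgroup G)) * y' * (⟨τ, hτ⟩ : (T : Subgroup G))⁻¹ * y'⁻¹).2
    · intro σ hσ
      have := Subgroup.mem_center_iff.1 h1 ⟨σ, hσ⟩
      exact congrArg Subtype.val this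
  have hyt : IsPElt t₀ y := isPElt_of_mem T.2 hyT
  have hidy : idx y = m * n :=
    (h.idx_of_not_mem_center hyZ).resolve_left (hB t₀ y ht₀ ht₀m hyt)
  have hrt₀ : t₀ ≠ r := fun e => hrm (e ▸ ht₀m)
  -- Step 2: `x ∈ W = C(y)`
  have hyx : Commute y x := mem_Cn_iff'.1 (hAM hyA)
  have hxW : x ∈ Cn y := mem_Cn_iff'.2 hyx.symm
  -- Step 3: `T` normalizes `W`
  have hTN : (T : Subgroup G) ≤ normalizer ((Cn y : Subgroup G) : Set G) := by
    intro τ hτ
    apply mem_normalizer_Cn
    have e : τ * y * τ⁻¹ = (τ * y * τ⁻¹ * y⁻¹) * y := by group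
    rw [e]
    exact Cn_central_mul (hycomm τ hτ)
  -- Step 4: for every prime `t ∣ m` a Sylow `t`-subgroup of `G` normalizes `W`
  have hsyl : ∀ t : ℕ, ∀ _ : Fact t.Prime, t ∣ m →
      ∃ T' : Sylow t G, (T' : Subgroup G) ≤ normalizer ((Cn y : Subgroup G) : Set G) := by
    intro t hFt htm
    have ht : t.Prime := hFt.out
    by_cases htt : t = t₀
    · subst htt
      exact ⟨T, hTN⟩
    obtain ⟨S⟩ : Nonempty (Sylow t (Cn y)) := inferInstance
    set B : Subgroup G := (S : Subgroup (Cn y)).map (Cn y).subtype with hBdef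
    have hB2 : IsPGroup t B := S.2.map _
    obtain ⟨T', hBT⟩ := hB2.exists_le_sylow
    have hBW : B ≤ Cn y := by
      rintro _ ⟨q, -, rfl⟩
      exact q.2
    have htn : ¬ t ∣ n := fun htn =>
      ht.one_lt.ne' (Nat.eq_one_of_dvd_coprimes h.cop htm htn)
    have hfac : (m * n).factorization t = 1 := by
      rw [Nat.factorization_mul h.m_pos.ne' h.n_pos.ne', Finsupp.add_apply, hsq t ht htm,
        Nat.factorization_eq_zero_of_not_dvd htn]
    have hcardB : Nat.card B * t = Nat.card T' := by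
      have h1 := Cfsg.Agent.Helper51.CS2.card_sylow_Cn y S T'
      rw [hidy, hfac, pow_one] at h1
      rw [← h1]
      congr 1
      exact (Nat.card_congr ((S : Subgroup (Cn y)).equivMapOfInjective (Cn y).subtype
        (Cn y).subtype_injective).toEquiv).symm
    have hBnorm := conj_mem_of_card_mul T' B hBT hcardB
    have hBZ := not_le_center_of_card_mul h htm T' B hBT hcardB
    obtain ⟨yt, hytB, hytZ⟩ := SetLike.not_le_iff_exists.1 hBZ
    have key : ∀ s ∈ B, s ∉ center G → Cn y = Cn s := by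
      intro s hs hsZ
      have hst : IsPElt t s := isPElt_of_mem hB2 hs
      have hys : Commute y s := (mem_Cn_iff'.1 (hBW hs)).symm
      have hle : Cn y ≤ Cn s :=
        h.max hidy hys (coprime_of_isPElt ht₀ ht (Ne.symm htt) hyt hst)
      have hids : idx s = m * n :=
        (h.idx_of_not_mem_center hsZ).resolve_left (hB t s ht htm hst)
      exact Cn_eq_of_le_of_idx_le hle (by rw [hidy, hids])
    refine ⟨T', ?_⟩
    intro τ hτ
    have h1 : τ * yt * τ⁻¹ ∈ B := hBnorm τ hτ yt hytB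
    have h2 : τ * yt * τ⁻¹ ∉ center G := by
      intro hc
      apply hytZ
      have := (inferInstance : (center G).Normal).conj_mem _ hc τ⁻¹
      have e : τ⁻¹ * (τ * yt * τ⁻¹) * τ⁻¹⁻¹ = yt := by group
      rwa [e] at this
    have h3 : Cn (τ * yt * τ⁻¹) = Cn yt := by
      rw [← key _ h1 h2, ← key _ hytB hytZ]
    rw [key _ hytB hytZ]
    exact mem_normalizer_Cn h3
  -- Step 5: `m ∣ |N : N ∩ C(x)|`
  set N : Subgroup G := normalizer ((Cn y : Subgroup G) : Set G) with hNdef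
  have hj0 : (Cn x).relIndex N ≠ 0 := by
    unfold Subgroup.relIndex
    exact Subgroup.index_ne_zero_of_finite
  have hmj : m ∣ (Cn x).relIndex N := by
    rw [← Nat.factorization_le_iff_dvd h.m_pos.ne' hj0]
    intro p
    by_cases hp : p.Prime ∧ p ∣ m
    · obtain ⟨hp1, hp2⟩ := hp
      rw [hsq p hp1 hp2]
      obtain ⟨T', hT'⟩ := hsyl p ⟨hp1⟩ hp2
      have : Fact p.Prime := ⟨hp1⟩
      have hdvd : p ∣ (Cn x).relIndex N :=
        dvd_relIndex_of_sylow_le T' N hT' x (by rw [hidx]; exact hp2)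
      exact hp1.factorization_pos_of_dvd hj0 hdvd
    · have : m.factorization p = 0 := by
        by_cases hp1 : p.Prime
        · exact Nat.factorization_eq_zero_of_not_dvd fun hd => hp ⟨hp1, hd⟩
        · exact Nat.factorization_eq_zero_of_not_prime m hp1
      rw [this]
      exact Nat.zero_le _
  -- Step 6: `N` is transitive on the class of `x`
  have hconj := exists_conj_eq_of_dvd_relIndex N x (by rw [hidx]; exact hmj)
  -- Step 7
  refine ⟨t₀, y, ht₀, ht₀m, hyt, hyZ, ?_⟩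
  intro γ
  obtain ⟨ν, hνN, hγ⟩ := hconj γ
  rw [hγ]
  have h1 : ν * x * ν⁻¹ ∈ Cn y := (Subgroup.mem_normalizer_iff.1 hνN x).1 hxW
  have h2 : Commute y (ν * x * ν⁻¹) := (mem_Cn_iff'.1 h1).symm
  exact h.max hidy h2 (coprime_of_isPElt ht₀ hr hrt₀ hyt (isPElt_conj hxr ν))

end sylow

end Cfsg.Agent.Helper48.CS2
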