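import Cfsg.Agent.Helper49.FStar
import Cfsg.Agent.Helper49.LocalCharP
import Cfsg.Agent.Helper54.PConstrained
import Cfsg.Agent.Helper32.PGroup

set_option autoImplicit false

/-!
# Characteristic `p` of local subgroups (helper48), on top of helper49's `CharPIn` library

* `charP_congr` : "`C_H(O_p(H)) ≤ O_p(H)`" is invariant under isomorphisms;
* `charPIn_map_conj` : `CharPIn p L → CharPIn p (gLg⁻¹)`;
* `charPIn_normalizer_of_centralizer` : if `z ∈ Z(X)`, `X` a `p`-subgroup and `C_G(z)` has
  characteristic `p`, then `N_G(X)` has characteristic `p`;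
* `exists_orderOf_eq_prime_central` : a nontrivial `p`-subgroup `R ≤ T` normalized by the `p`-group
  `T` contains an element of order `p` centralized by `T`.
-/

namespace Cfsg.Agent.Helper48

open Cfsg Cfsg.Agent.Helper49

theorem charP_congr {H H' : Type*} [Group H] [Group H'] {p : ℕ} (e : H ≃* H')
    (h : Subgroup.centralizer (pCore p H : Set H) ≤ pCore p H) :
    Subgroup.centralizer (pCore p H' : Set H') ≤ pCore p H' := by
  intro c' hc'
  have hc : e.symm c' ∈ Subgroup.centralizer (pCore p H : Set H) := by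
    rw [Subgroup.mem_centralizer_iff]
    intro r hr
    have hr' : e r ∈ pCore p H' := (Cfsg.Agent.Helper54.mem_pCore_equiv e).mpr hr
    have := Subgroup.mem_centralizer_iff.mp hc' (e r) hr'
    apply e.injective
    rw [map_mul, map_mul, e.apply_symm_apply]
    exact this
  have := h hc
  rw [← Cfsg.Agent.Helper54.mem_pCore_equiv e, e.apply_symm_apply] at this
  exact this

variable {G : Type*} [Group G] {p : ℕ}

theorem charPIn_map_conj {L : Subgroup G} (h : CharPIn p L) (g : G) :
    CharPIn p (L.map (MulAut.conj g).toMonoidHom) := by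
  rw [charPIn_iff] at h ⊢
  exact charP_congr ((MulAut.conj g).subgroupMap L) h

theorem map_conj_centralizer_singleton (g y : G) :
    (Subgroup.centralizer ({y} : Set G)).map (MulAut.conj g).toMonoidHom =
      Subgroup.centralizer ({g * y * g⁻¹} : Set G) := by
  ext x
  rw [Subgroup.mem_map_equiv, Subgroup.mem_centralizer_iff, Subgroup.mem_centralizer_iff]
  simp only [Set.mem_singleton_iff, forall_eq, MulAut.conj_symm_apply]
  constructor
  · intro h
    calc g * y * g⁻¹ * x = g * (y * (g⁻¹ * x * g)) * g⁻¹ := by group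
      _ = g * ((g⁻¹ * x * g) * y) * g⁻¹ := by rw [h]
      _ = x * (g * y * g⁻¹) := by group
  · intro h
    calc y * (g⁻¹ * x * g) = g⁻¹ * ((g * y * g⁻¹) * x) * g := by group
      _ = g⁻¹ * (x * (g * y * g⁻¹)) * g := by rw [h]
      _ = g⁻¹ * x * g * y := by group

theorem charPIn_centralizer_conj {z : G} (h : CharPIn p (Subgroup.centralizer ({z} : Set G)))
    (g : G) : CharPIn p (Subgroup.centralizer ({g * z * g⁻¹} : Set G)) := by
  rw [← map_conj_centralizer_singleton]
  exact charPIn_map_conj h g

/-- If `z ∈ Z(X)` for a `p`-subgroup `X` and `C_G(z)` has characteristic `p`, then so does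
`N_G(X)`. -/
theorem charPIn_normalizer_of_centralizer [Finite G] [Fact p.Prime] {X : Subgroup G}
    (hX : IsPGroup p X) {z : G} (hzX : z ∈ X) (hzc : ∀ x ∈ X, x * z = z * x)
    (h : CharPIn p (Subgroup.centralizer ({z} : Set G))) :
    CharPIn p (Subgroup.normalizer (X : Set G)) := by
  apply charPIn_of_centralizer_le h hX
  · intro x hx
    rw [Subgroup.mem_centralizer_singleton_iff]
    exact hzc x hx
  · apply Subgroup.centralizer_le
    intro y hy
    have hy' : y = z := hy
    rw [hy']
    exact hzX
  · exact Subgroup.centralizer_le_normalizer (X : Set G)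
  · intro d hd hdr
    have hXc : X ≤ coreIn p (Subgroup.normalizer (X : Set G)) := by
      apply le_coreIn Subgroup.le_normalizer
      · intro l hl n hn
        exact (Subgroup.mem_normalizer_iff.mp hl n).mp hn
      · exact hX
    rw [Subgroup.mem_centralizer_iff]
    intro x hx
    exact (hdr x (hXc hx)).symm

/-- A nontrivial `p`-subgroup `R ≤ T` normalized by the `p`-group `T` contains an element of
order `p` centralized by `T`. -/
theorem exists_orderOf_eq_prime_central [Finite G] [Fact p.Prime] {R T : Subgroup G}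
    (hT : IsPGroup p T) (hRT : R ≤ T) (hR : R ≠ ⊥)
    (hTR : T ≤ Subgroup.normalizer (R : Set G)) :
    ∃ z ∈ R, orderOf z = p ∧ ∀ t ∈ T, t * z = z * t := by
  have : (R.subgroupOf T).Normal := (Subgroup.normal_subgroupOf_iff_le_normalizer hRT).mpr hTR
  have hD : R.subgroupOf T ≠ ⊥ := by
    intro h
    rw [Subgroup.subgroupOf_eq_bot] at h
    apply hR
    rw [eq_bot_iff]
    intro x hx
    exact h.le_bot ⟨hx, hRT hx⟩
  obtain ⟨b, hbD, hb1, hbc⟩ := Cfsg.Agent.Helper32.exists_mem_center_of_normal hT (R.subgroupOf T) hD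
  -- the subgroup `W = R ⊓ Z(T)`
  set W : Subgroup G := R ⊓ (T ⊓ Subgroup.centralizer (T : Set G)) with hW
  have hbW : (b : G) ∈ W := by
    have hbC : (b : G) ∈ Subgroup.centralizer (T : Set G) := by
      rw [Subgroup.mem_centralizer_iff]
      intro t ht
      have := Subgroup.mem_center_iff.mp hbc ⟨t, ht⟩
      exact congrArg Subtype.val this
    exact Subgroup.mem_inf.mpr ⟨Subgroup.mem_subgroupOf.mp hbD, Subgroup.mem_inf.mpr ⟨b.2, hbC⟩⟩
  have hWp : IsPGroup p W := hT.to_le (inf_le_right.trans inf_le_left)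
  have hW1 : Nat.card W ≠ 1 := by
    intro h1
    have : W = ⊥ := Subgroup.card_eq_one.mp h1
    apply hb1
    have hb' : (b : G) ∈ (⊥ : Subgroup G) := this ▸ hbW
    exact Subtype.ext (Subgroup.mem_bot.mp hb')
  have hdvd : p ∣ Nat.card W := (hWp.card_eq_or_dvd).resolve_left hW1
  obtain ⟨x, hx⟩ := exists_prime_orderOf_dvd_card' p hdvd
  refine ⟨x, x.2.1, ?_, ?_⟩
  · rw [Subgroup.orderOf_coe]; exact hx
  · intro t ht
    exact Subgroup.mem_centralizer_iff.mp x.2.2.2 t ht

end Cfsg.Agent.Helper48
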