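import Cfsg.Agent.Helper61.DihDefs

/-!
# S3616 (helper61), piece (P4b)
-/

set_option autoImplicit false

namespace Cfsg.Agent.Helper48.Dih

open DihedralGroup Finset Cfsg.Agent.Helper61.Dih

variable {e : ℕ} [NeZero e]

/-- (P4b) -/
theorem P4b {A B : Finset (ZMod e)} {k lam mu : ℤ} (h : DihData e A B k lam mu)
    (q : ℕ) [Fact q.Prime]
    (hper : ∀ x u : ZMod e, q • u = 0 → q • x ≠ 0 → (x ∈ A ↔ x + u ∈ A))
    (hdisj : ∀ u : ZMod e, q • u = 0 → u ∉ A) (u : ZMod e) (hu : q • u = 0) (hu0 : u ≠ 0) :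
    ((B.filter (fun j => j + u ∈ B)).card : ℤ) = mu - A.card := by
  have h1 := h.rot u hu0
  rw [if_neg (hdisj u hu)] at h1
  have h2 : A.filter (fun i => u - i ∈ A) = A := by
    apply Finset.filter_true_of_mem
    intro i hi
    have hni : -i ∈ A := h.neg_mem i hi
    have hq : q • (-i) ≠ 0 := fun h0 => hdisj (-i) h0 hni
    have := (hper (-i) u hu hq).mp hni
    rwa [neg_add_eq_sub] at this
  rw [h2] at h1
  linarith

end Cfsg.Agent.Helper48.Dih
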