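import Cfsg.Agent.Helper61.DihDefs

/-!
# S3616 (helper61), piece (P4c): Cauchy-Schwarz over the cosets of the subgroup of order `q`

With `C = {u | q • u = 0}`, `f x = #{u ∈ C | x + u ∈ B}`: `∑ₓ f x = |C| |B|`,
`∑ₓ (f x)² = |C| ∑_{w ∈ C} #{j ∈ B | j + w ∈ B}`, Cauchy-Schwarz over the `e` elements `x`,
and `q ≤ |C|`.
-/

set_option autoImplicit false

namespace Cfsg.Agent.Helper48.Dih

open DihedralGroup Finset Cfsg.Agent.Helper61.Dih

variable {e : ℕ} [NeZero e]

/-- translating a finset does not change its cardinality -/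
theorem card_filter_add_mem (B : Finset (ZMod e)) (u : ZMod e) :
    (univ.filter (fun x : ZMod e => x + u ∈ B)).card = B.card := by
  apply Finset.card_bij (fun x _ => x + u)
  · intro x hx
    exact (Finset.mem_filter.mp hx).2
  · intro x _ y _ hxy
    exact add_right_cancel hxy
  · intro j hj
    exact ⟨j - u, Finset.mem_filter.mpr ⟨Finset.mem_univ _, by rwa [sub_add_cancel]⟩,
      sub_add_cancel j u⟩

/-- the pairs count -/
theorem card_filter_add_mem_and (B : Finset (ZMod e)) (u u' : ZMod e) :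
    (univ.filter (fun x : ZMod e => x + u ∈ B ∧ x + u' ∈ B)).card =
      (B.filter (fun j => j + (u' - u) ∈ B)).card := by
  apply Finset.card_bij (fun x _ => x + u)
  · intro x hx
    obtain ⟨-, h1, h2⟩ := Finset.mem_filter.mp hx
    refine Finset.mem_filter.mpr ⟨h1, ?_⟩
    have : x + u + (u' - u) = x + u' := by ring
    rwa [this]
  · intro x _ y _ hxy
    exact add_right_cancel hxy
  · intro j hj
    obtain ⟨h1, h2⟩ := Finset.mem_filter.mp hj
    refine ⟨j - u, Finset.mem_filter.mpr ⟨Finset.mem_univ _, ?_, ?_⟩, sub_add_cancel j u⟩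
    · rwa [sub_add_cancel]
    · have : j - u + u' = j + (u' - u) := by ring
      rwa [this]

/-- the subgroup `{u | q • u = 0}` has at least `q` elements -/
theorem le_card_torsion (q : ℕ) (hqe : q ∣ e) :
    q ≤ (univ.filter (fun u : ZMod e => q • u = 0)).card := by
  obtain ⟨m, hm⟩ := hqe
  have he : e ≠ 0 := NeZero.ne e
  have hm0 : 0 < m := by
    rcases Nat.eq_zero_or_pos m with h | h
    · rw [h, mul_zero] at hm; exact absurd hm he
    · exact h
  have h := Finset.card_le_card_of_injOn (s := Finset.range q)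
    (t := univ.filter (fun u : ZMod e => q • u = 0)) (fun k => ((k * m : ℕ) : ZMod e))
    (by
      intro k _
      refine Finset.mem_coe.mpr (Finset.mem_filter.mpr ⟨Finset.mem_univ _, ?_⟩)
      rw [nsmul_eq_mul, ← Nat.cast_mul, ZMod.natCast_eq_zero_iff]
      exact ⟨k, by rw [hm]; ring⟩)
    (by
      intro k hk k' hk' hkk
      have hk1 : k < q := Finset.mem_range.mp hk
      have hk2 : k' < q := Finset.mem_range.mp hk'
      have hmod : k * m ≡ k' * m [MOD e] := (ZMod.natCast_eq_natCast_iff _ _ _).mp hkk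
      have hlt1 : k * m < e := by rw [hm]; exact Nat.mul_lt_mul_of_pos_right hk1 hm0
      have hlt2 : k' * m < e := by rw [hm]; exact Nat.mul_lt_mul_of_pos_right hk2 hm0
      have := Nat.ModEq.eq_of_lt_of_lt hmod hlt1 hlt2
      exact Nat.eq_of_mul_eq_mul_right hm0 this)
  rwa [Finset.card_range] at h

/-- (P4c) Cauchy-Schwarz over the cosets of the subgroup of order `q` -/
theorem P4c (B : Finset (ZMod e)) (q : ℕ) [Fact q.Prime] (hqe : q ∣ e) :
    q * B.card ^ 2 ≤
      e * ∑ u ∈ (univ.filter (fun u : ZMod e => q • u = 0)), (B.filter (fun j => j + u ∈ B)).card := by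
  have hqpos : 0 < q := (Fact.out : q.Prime).pos
  set C : Finset (ZMod e) := univ.filter (fun u : ZMod e => q • u = 0) with hC
  have hCmem : ∀ u : ZMod e, u ∈ C ↔ q • u = 0 := fun u => by
    rw [hC, Finset.mem_filter]; simp
  have hCsub : ∀ u ∈ C, ∀ v ∈ C, v - u ∈ C := by
    intro u hu v hv
    rw [hCmem] at hu hv ⊢
    rw [smul_sub, hu, hv, sub_zero]
  have hCadd : ∀ u ∈ C, ∀ v ∈ C, v + u ∈ C := by
    intro u hu v hv
    rw [hCmem] at hu hv ⊢
    rw [smul_add, hu, hv, add_zero]
  set g : ZMod e → ℕ := fun w => (B.filter (fun j => j + w ∈ B)).card with hg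
  set f : ZMod e → ℕ := fun x => (C.filter (fun u => x + u ∈ B)).card with hf
  -- Step 1
  have h1 : ∑ x : ZMod e, f x = C.card * B.card := by
    calc ∑ x : ZMod e, f x = ∑ u ∈ C, (univ.filter (fun x : ZMod e => x + u ∈ B)).card :=
          Finset.sum_card_bipartiteAbove_eq_sum_card_bipartiteBelow (fun x u => x + u ∈ B)
      _ = ∑ u ∈ C, B.card := Finset.sum_congr rfl (fun u _ => card_filter_add_mem B u)
      _ = C.card * B.card := by rw [Finset.sum_const, smul_eq_mul]
  -- Step 2
  have h2 : ∑ x : ZMod e, f x ^ 2 = C.card * ∑ w ∈ C, g w := by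
    have e1 : ∀ x : ZMod e, f x ^ 2 =
        ((C ×ˢ C).filter (fun p : ZMod e × ZMod e => x + p.1 ∈ B ∧ x + p.2 ∈ B)).card := by
      intro x
      rw [hf, sq, ← Finset.card_product]
      exact congrArg Finset.card
        (Finset.filter_product (s := C) (t := C) (fun u => x + u ∈ B) (fun u => x + u ∈ B)).symm
    calc ∑ x : ZMod e, f x ^ 2
        = ∑ x : ZMod e,
            ((C ×ˢ C).filter (fun p : ZMod e × ZMod e => x + p.1 ∈ B ∧ x + p.2 ∈ B)).card :=
          Finset.sum_congr rfl (fun x _ => e1 x)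
      _ = ∑ p ∈ C ×ˢ C, (univ.filter (fun x : ZMod e => x + p.1 ∈ B ∧ x + p.2 ∈ B)).card :=
          Finset.sum_card_bipartiteAbove_eq_sum_card_bipartiteBelow
            (fun (x : ZMod e) (p : ZMod e × ZMod e) => x + p.1 ∈ B ∧ x + p.2 ∈ B)
      _ = ∑ p ∈ C ×ˢ C, g (p.2 - p.1) :=
          Finset.sum_congr rfl (fun p _ => card_filter_add_mem_and B p.1 p.2)
      _ = ∑ u ∈ C, ∑ u' ∈ C, g (u' - u) := Finset.sum_product _ _ _
      _ = ∑ u ∈ C, ∑ w ∈ C, g w := by
          apply Finset.sum_congr rfl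
          intro u hu
          apply Finset.sum_nbij' (fun u' => u' - u) (fun w => w + u)
          · intro u' hu'
            exact hCsub u hu u' hu'
          · intro w hw
            exact hCadd u hu w hw
          · intro u' _
            exact sub_add_cancel u' u
          · intro w _
            exact add_sub_cancel_right w u
          · intro u' _
            rfl
      _ = C.card * ∑ w ∈ C, g w := by rw [Finset.sum_const, smul_eq_mul]
  -- Step 3: Cauchy-Schwarz
  have h3 : (∑ x : ZMod e, f x) ^ 2 ≤ (univ : Finset (ZMod e)).card * ∑ x : ZMod e, f x ^ 2 :=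
    sq_sum_le_card_mul_sum_sq
  rw [h1, h2, Finset.card_univ, ZMod.card] at h3
  -- Step 4
  have h4 : q ≤ C.card := le_card_torsion q hqe
  have hCpos : 0 < C.card := lt_of_lt_of_le hqpos h4
  have h5 : C.card * B.card ^ 2 ≤ e * ∑ w ∈ C, g w := by
    apply Nat.le_of_mul_le_mul_left _ hCpos
    calc C.card * (C.card * B.card ^ 2) = (C.card * B.card) ^ 2 := by ring
      _ ≤ e * (C.card * ∑ w ∈ C, g w) := h3
      _ = C.card * (e * ∑ w ∈ C, g w) := by ring
  calc q * B.card ^ 2 ≤ C.card * B.card ^ 2 := Nat.mul_le_mul_right _ h4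
    _ ≤ e * ∑ w ∈ C, g w := h5

end Cfsg.Agent.Helper48.Dih
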