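import Mathlib
import Cfsg.Agent.Helper96.E7.Data

/-!
# (K) for helper96's S2093: the kernel lemma for `W(E_7)`
-/

set_option autoImplicit false

namespace Cfsg.Agent.Helper48.E7K

open Cfsg.Agent.Helper96.E7

/-- the Coxeter group `W(E_7)` -/
abbrev W : Type := CoxeterMatrix.E₇.Group

/-- its Coxeter system -/
noncomputable abbrev cs : CoxeterSystem CoxeterMatrix.E₇ W := CoxeterMatrix.E₇.toCoxeterSystem

/-- (K) If `Γ = ⟨g i⟩` maps to `W` by `g i ↦ s i`, and a normal subgroup `Z ≤ ker τ` contains all the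
Coxeter relators `(g i * g j) ^ M i j`, then `ker τ = Z`. -/
theorem ker_eq_of_relators {Γ : Type*} [Group Γ] (g : Fin 7 → Γ)
    (hgen : Subgroup.closure (Set.range g) = ⊤) (τ : Γ →* W) (hτ : ∀ i, τ (g i) = cs.simple i)
    (Z : Subgroup Γ) [Z.Normal] (hZ : Z ≤ τ.ker) (hrel : ∀ i j, (g i * g j) ^ cm i j ∈ Z) :
    τ.ker = Z := by
  apply le_antisymm _ hZ
  have hlift : CoxeterMatrix.IsLiftable CoxeterMatrix.E₇
      (fun i => (QuotientGroup.mk (g i) : Γ ⧸ Z)) := by
    intro i j
    rw [cm_eq, ← QuotientGroup.mk_mul, ← QuotientGroup.mk_pow]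
    exact (QuotientGroup.eq_one_iff _).mpr (hrel i j)
  have hστ : ∀ x : Γ, cs.lift ⟨_, hlift⟩ (τ x) = (QuotientGroup.mk x : Γ ⧸ Z) := by
    intro x
    have hx : x ∈ Subgroup.closure (Set.range g) := by rw [hgen]; trivial
    induction hx using Subgroup.closure_induction with
    | mem y hy =>
      obtain ⟨i, rfl⟩ := hy
      rw [hτ]
      exact cs.lift_apply_simple hlift i
    | one => rw [map_one, map_one]; rfl
    | mul a b _ _ ha hb => rw [map_mul, map_mul, ha, hb]; rfl
    | inv a _ ha => rw [map_inv, map_inv, ha]; rfl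
  intro x hx
  rw [MonoidHom.mem_ker] at hx
  have h1 := hστ x
  rw [hx, map_one] at h1
  exact (QuotientGroup.eq_one_iff x).mp h1.symm

end Cfsg.Agent.Helper48.E7K
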