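import Mathlib
import Cfsg.Prelude.Def_Local
import Cfsg.Agent.Helper21.FStarComm
import Cfsg.Agent.Helper22.FStar
import Cfsg.Agent.Helper22.Layer

set_option autoImplicit false

/-!
Splitting a subnormal subgroup of `F*(X)` (helper48).

* `le_inf_fittingSubgroup_sup_components`: a subnormal subgroup `B ≤ F*(X)` is
  `(B ∩ F(X)) * (product of the components of X inside B)`.
* `component_le_commutator_or_commutator_eq_bot`: for a component `K'` of a subgroup `H ≤ G` and a
  subgroup `Y` of `G` normalizing `H`: `K ≤ [K, Y]` or `[K, Y] = 1`, with `K` the image of `K'` in `G`.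
-/

namespace Cfsg.Agent.Helper48

open Cfsg
open scoped commutatorElement

/-- A subnormal subgroup `B` of `F*(X)` is the product of `B ⊓ F(X)` and the components inside `B`. -/
theorem le_inf_fittingSubgroup_sup_components {X : Type*} [Group X] [Finite X] {B : Subgroup X}
    (hB : B.IsSubnormal) (hBF : B ≤ generalizedFittingSubgroup X) :
    B ≤ (B ⊓ fittingSubgroup X) ⊔ sSup {K : Subgroup X | IsComponent K ∧ K ≤ B} := by
  intro l hl
  have hFn : (fittingSubgroup X).Normal := inferInstance
  have h1 : l ∈ layer X ⊔ fittingSubgroup X := hBF hl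
  obtain ⟨e, he, f, hf, rfl⟩ := Subgroup.mem_sup_of_normal_right.1 h1
  have hE : layer X = sSup {K : Subgroup X | IsComponent K ∧ K ≤ B} ⊔
      sSup {K : Subgroup X | IsComponent K ∧ ¬ K ≤ B} :=
    Cfsg.Agent.Helper22.layer_eq_sup_of_split B
  have hE21 := Cfsg.Agent.Helper22.sSup_not_le_le_centralizer_sSup_le B
  have hE2B := Cfsg.Agent.Helper22.sSup_not_le_le_centralizer hB
  generalize sSup {K : Subgroup X | IsComponent K ∧ ¬ K ≤ B} = E₂ at hE hE21 hE2B
  have hE1B : sSup {K : Subgroup X | IsComponent K ∧ K ≤ B} ≤ B := sSup_le (fun K hK => hK.2)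
  generalize sSup {K : Subgroup X | IsComponent K ∧ K ≤ B} = E₁ at hE hE21 hE1B ⊢
  have hLF : layer X ≤ Subgroup.centralizer (fittingSubgroup X : Set X) := by
    rw [← Subgroup.commutator_eq_bot_iff_le_centralizer]
    exact Cfsg.Agent.Helper22.layer_commutator_fittingSubgroup
  have he' : e ∈ (↑(E₁ ⊔ E₂) : Set X) := hE ▸ he
  rw [Subgroup.coe_mul_of_right_le_normalizer_left E₁ E₂
    (hE21.trans (Subgroup.centralizer_le_normalizer _))] at he'
  obtain ⟨e₁, he₁, e₂, he₂, rfl⟩ := he'
  have hm : e₂ * f ∈ B := by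
    have : e₂ * f = e₁⁻¹ * (e₁ * e₂ * f) := by group
    rw [this]; exact B.mul_mem (B.inv_mem (hE1B he₁)) hl
  have he2L : e₂ ∈ layer X := hE ▸ (le_sup_right (a := E₁) he₂)
  have he2F : e₂ ∈ fittingSubgroup X := by
    apply Cfsg.Agent.Helper22.mem_fittingSubgroup_of_mem_layer_of_commute he2L
    have hcen : layer X ≤ Subgroup.centralizer ({e₂} : Set X) := by
      rw [hE]
      apply sup_le
      · intro x hx
        rw [Subgroup.mem_centralizer_singleton_iff]
        exact (Subgroup.mem_centralizer_iff.1 (hE21 he₂) x hx)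
      · intro x hx
        rw [Subgroup.mem_centralizer_singleton_iff]
        -- x commutes with e₂ * f and with f
        have hx1 : (e₂ * f) * x = x * (e₂ * f) := Subgroup.mem_centralizer_iff.1 (hE2B hx) _ hm
        have hxL : x ∈ layer X := hE ▸ (le_sup_right (a := E₁) hx)
        have hx2 : f * x = x * f := Subgroup.mem_centralizer_iff.1 (hLF hxL) f hf
        have : e₂ * x = (e₂ * f) * x * f⁻¹ := by
          rw [mul_assoc e₂ f x, hx2]; group
        rw [this, hx1]; group
    intro x hx
    have := hcen hx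
    rw [Subgroup.mem_centralizer_singleton_iff] at this
    exact this
  have : e₁ * e₂ * f = e₁ * (e₂ * f) := mul_assoc _ _ _
  rw [this]
  exact Subgroup.mul_mem _ (Subgroup.mem_sup_right he₁)
    (Subgroup.mem_sup_left ⟨hm, Subgroup.mul_mem _ he2F hf⟩)

/-- A component `K'` of a subgroup `H` of `G`, and a subgroup `Y` of `G` normalizing `H`:
the image `K` of `K'` in `G` satisfies `K ≤ [K, Y]` or `[K, Y] = 1`. -/
theorem component_le_commutator_or_commutator_eq_bot {G : Type*} [Group G] {H : Subgroup G}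
    {K' : Subgroup ↥H} (hK' : IsComponent K') {Y : Subgroup G}
    (hYH : Y ≤ Subgroup.normalizer (H : Set G)) :
    K'.map H.subtype ≤ ⁅K'.map H.subtype, Y⁆ ∨ ⁅K'.map H.subtype, Y⁆ = ⊥ := by
  have hKH : K'.map H.subtype ≤ H := Subgroup.map_subtype_le K'
  have hperf : ⁅K'.map H.subtype, K'.map H.subtype⁆ = K'.map H.subtype := by
    rw [← Subgroup.map_commutator, Cfsg.Agent.Helper22.IsComponent.commutator_self hK']
  generalize hKdef : K'.map H.subtype = K at hKH hperf ⊢
  have hNH : ⁅K, Y⁆ ≤ H :=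
    (Subgroup.commutator_mono hKH le_rfl).trans
      (Cfsg.Agent.Helper21.commutator_le_of_le_normalizer hYH)
  have hKN : K ≤ Subgroup.normalizer ((⁅K, Y⁆ : Subgroup G) : Set G) :=
    Subgroup.normalizer_commutator_ge_left K Y
  have hK'N : K' ≤ Subgroup.normalizer (((⁅K, Y⁆ : Subgroup G).subgroupOf H : Subgroup ↥H) : Set ↥H) := by
    intro k hk
    have hkK : (k : G) ∈ K := hKdef ▸ ⟨k, hk, rfl⟩
    rw [Subgroup.mem_normalizer_iff]
    intro x
    rw [Subgroup.mem_subgroupOf, Subgroup.mem_subgroupOf]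
    exact Subgroup.mem_normalizer_iff.1 (hKN hkK) (x : G)
  rcases Cfsg.Agent.Helper21.IsComponent.le_or_commutator_eq_bot hK' _ hK'N with h | h
  · left
    rw [← hKdef]
    rintro _ ⟨k, hk, rfl⟩
    have := h hk
    rw [Subgroup.mem_subgroupOf] at this
    rw [hKdef]
    exact this
  · right
    have h2 : ⁅K, ⁅K, Y⁆⁆ = ⊥ := by
      have := congrArg (Subgroup.map H.subtype) h
      rw [Subgroup.map_commutator, Subgroup.map_subgroupOf_eq_of_le hNH, hKdef,
        Subgroup.map_bot] at this
      exact this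
    have h3 : ⁅⁅Y, K⁆, K⁆ = ⊥ := by
      rw [Subgroup.commutator_comm Y K, Subgroup.commutator_comm]; exact h2
    have := Cfsg.Agent.Helper21.commutator_eq_bot_of_perfect hperf h3
    rw [Subgroup.commutator_comm]; exact this

end Cfsg.Agent.Helper48
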