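import Cfsg.Agent.Helper87.FusionAlperin
import Cfsg.Agent.Helper88.FusionCentric

set_option autoImplicit false

namespace Cfsg.Agent.Helper48

open Cfsg Cfsg.FusionSystem Cfsg.Agent.Helper87
open scoped commutatorElement

variable {Ω : Type*} [Group Ω] {S : Subgroup Ω}

/-- The subsystem of `G` consisting of the maps that are trivial modulo `T`. -/
def trivModSys (G : FusionSystem S) (T : Subgroup Ω) (hcomm : ⁅S, S⁆ ≤ T) : FusionSystem S where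
  Hom P := {φ | φ ∈ G.Hom P ∧ ∀ x : P, (x : Ω)⁻¹ * φ x ∈ T}
  le_of_mem h := G.le_of_mem h.1
  injective_of_mem h := G.injective_of_mem h.1
  conj_mem := by
    intro P g hP hg
    refine ⟨G.conj_mem hP hg, fun x => hcomm ?_⟩
    have hx : (x : Ω) ∈ S := hP x.2
    have h1 : ⁅(x : Ω)⁻¹, g⁆ ∈ ⁅S, S⁆ :=
      Subgroup.commutator_mem_commutator (S.inv_mem hx) hg
    have h2 : (x : Ω)⁻¹ * conjHom P g x = ⁅(x : Ω)⁻¹, g⁆ := by
      simp [conjHom, commutatorElement_def, mul_assoc]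
    rw [h2]; exact h1
  comp_mem := by
    intro P Q φ ψ hφ hψ h
    refine ⟨G.comp_mem hφ.1 hψ.1 h, fun x => ?_⟩
    have h1 := hφ.2 x
    have h2 := hψ.2 ⟨φ x, h x⟩
    have h3 : (x : Ω)⁻¹ * (ψ.comp (φ.codRestrict Q h)) x
        = ((x : Ω)⁻¹ * φ x) * ((φ x)⁻¹ * ψ ⟨φ x, h x⟩) := by
      simp [mul_assoc]
    rw [h3]
    exact T.mul_mem h1 h2
  inv_mem := by
    intro P φ hφ
    obtain ⟨ψ, hψ, hψx⟩ := G.inv_mem hφ.1
    refine ⟨ψ, ⟨hψ, ?_⟩, hψx⟩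
    rintro ⟨y, x, rfl⟩
    have h1 := hφ.2 x
    have h2 : ((⟨φ x, ⟨x, rfl⟩⟩ : φ.range) : Ω)⁻¹ * ψ ⟨φ x, ⟨x, rfl⟩⟩
        = ((x : Ω)⁻¹ * φ x)⁻¹ := by
      rw [hψx x]; simp
    rw [h2]
    exact T.inv_mem h1

theorem mem_trivModSys_hom (G : FusionSystem S) (T : Subgroup Ω) (hcomm : ⁅S, S⁆ ≤ T)
    {P : Subgroup Ω} {φ : P →* Ω} :
    φ ∈ (trivModSys G T hcomm).Hom P ↔ φ ∈ G.Hom P ∧ ∀ x : P, (x : Ω)⁻¹ * φ x ∈ T := Iff.rfl

end Cfsg.Agent.Helper48
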