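import Cfsg.Agent.Helper87.FusionAlperin
import Cfsg.Agent.Helper88.FusionCentric

set_option autoImplicit false

namespace Cfsg.Agent.Helper48

open Cfsg Cfsg.FusionSystem Cfsg.Agent.Helper87
open scoped commutatorElement

variable {Ω : Type*} [Group Ω] {S : Subgroup Ω}

/-- Elements of `T ⊔ C_S(T)` are products `t * c`. -/
theorem exists_mul_of_mem_sup_centralizerIn {T : Subgroup Ω} {x : Ω}
    (hx : x ∈ T ⊔ centralizerIn S T) :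
    ∃ t ∈ T, ∃ c ∈ centralizerIn S T, x = t * c := by
  have hcomm : ∀ c ∈ centralizerIn S T, ∀ t ∈ T, c * t = t * c := by
    intro c hc t ht
    exact ((Subgroup.mem_centralizer_iff.mp hc.2) t ht).symm
  rw [Subgroup.sup_eq_closure] at hx
  induction hx using Subgroup.closure_induction with
  | mem x hx =>
    rcases hx with hx | hx
    · exact ⟨x, hx, 1, Subgroup.one_mem _, by simp⟩
    · exact ⟨1, Subgroup.one_mem _, x, hx, by simp⟩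
  | one => exact ⟨1, Subgroup.one_mem _, 1, Subgroup.one_mem _, by simp⟩
  | mul x y _ _ ihx ihy =>
    obtain ⟨t, ht, c, hc, rfl⟩ := ihx
    obtain ⟨t', ht', c', hc', rfl⟩ := ihy
    refine ⟨t * t', T.mul_mem ht ht', c * c', Subgroup.mul_mem _ hc hc', ?_⟩
    calc t * c * (t' * c') = t * (c * t') * c' := by group
      _ = t * (t' * c) * c' := by rw [hcomm c hc t' ht']
      _ = t * t' * (c * c') := by group
  | inv x _ ihx =>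
    obtain ⟨t, ht, c, hc, rfl⟩ := ihx
    refine ⟨t⁻¹, T.inv_mem ht, c⁻¹, Subgroup.inv_mem _ hc, ?_⟩
    rw [mul_inv_rev]
    exact hcomm c⁻¹ (Subgroup.inv_mem _ hc) t⁻¹ (T.inv_mem ht)

theorem commutator_le_of_sup_centralizerIn {T : Subgroup Ω}
    (hS₀ : S ≤ T ⊔ centralizerIn S T)
    (hC : ⁅centralizerIn S T, centralizerIn S T⁆ ≤ T) : ⁅S, S⁆ ≤ T := by
  have hcomm : ∀ c ∈ centralizerIn S T, ∀ t ∈ T, c * t = t * c := by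
    intro c hc t ht
    exact ((Subgroup.mem_centralizer_iff.mp hc.2) t ht).symm
  rw [Subgroup.commutator_le]
  intro a ha b hb
  obtain ⟨t₁, ht₁, c₁, hc₁, rfl⟩ := exists_mul_of_mem_sup_centralizerIn (hS₀ ha)
  obtain ⟨t₂, ht₂, c₂, hc₂, rfl⟩ := exists_mul_of_mem_sup_centralizerIn (hS₀ hb)
  have h12 : c₁ * t₂ = t₂ * c₁ := hcomm c₁ hc₁ t₂ ht₂
  have hc' : c₁ * c₂ * c₁⁻¹ ∈ centralizerIn S T :=
    Subgroup.mul_mem _ (Subgroup.mul_mem _ hc₁ hc₂) (Subgroup.inv_mem _ hc₁)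
  have hct : (c₁ * c₂ * c₁⁻¹) * t₁⁻¹ = t₁⁻¹ * (c₁ * c₂ * c₁⁻¹) :=
    hcomm _ hc' _ (T.inv_mem ht₁)
  have hcc : ⁅c₁, c₂⁆ ∈ T := hC (Subgroup.commutator_mem_commutator hc₁ hc₂)
  have e : ⁅t₁ * c₁, t₂ * c₂⁆ = t₁ * t₂ * t₁⁻¹ * ⁅c₁, c₂⁆ * t₂⁻¹ := by
    calc ⁅t₁ * c₁, t₂ * c₂⁆
        = t₁ * (c₁ * t₂) * c₂ * c₁⁻¹ * t₁⁻¹ * c₂⁻¹ * t₂⁻¹ := by
          rw [commutatorElement_def]; group
      _ = t₁ * (t₂ * c₁) * c₂ * c₁⁻¹ * t₁⁻¹ * c₂⁻¹ * t₂⁻¹ := by rw [h12]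
      _ = t₁ * t₂ * ((c₁ * c₂ * c₁⁻¹) * t₁⁻¹) * c₂⁻¹ * t₂⁻¹ := by group
      _ = t₁ * t₂ * (t₁⁻¹ * (c₁ * c₂ * c₁⁻¹)) * c₂⁻¹ * t₂⁻¹ := by rw [hct]
      _ = t₁ * t₂ * t₁⁻¹ * ⁅c₁, c₂⁆ * t₂⁻¹ := by
          rw [commutatorElement_def]; group
  rw [e]
  exact T.mul_mem (T.mul_mem (T.mul_mem (T.mul_mem ht₁ ht₂) (T.inv_mem ht₁)) hcc)
    (T.inv_mem ht₂)

end Cfsg.Agent.Helper48
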