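-- helper48: piece (RHO) of helper87's WANTED #4935 for S2863/S2861: the conjugation action of `Λ / A` on `A / C`.
import Cfsg.Agent.Helper87.FrakLDefs

set_option autoImplicit false

namespace Cfsg.Agent.Helper48.FrakL

open Matrix Cfsg.Agent.Helper87.FrakL
open scoped commutatorElement

theorem exists_conjAction {Λ : Type*} [Group Λ] (A C : Subgroup Λ) [A.Normal] (hCA : C ≤ A)
    (hC : C ≤ Subgroup.center Λ) (hAA : ⁅A, A⁆ ≤ C) [(C.subgroupOf A).Normal] :
    ∃ ρ : Λ ⧸ A →* MulAut (↥A ⧸ C.subgroupOf A), ∀ (x a : Λ) (ha : a ∈ A)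
      (hxa : x * a * x⁻¹ ∈ A),
      ρ (QuotientGroup.mk x) (QuotientGroup.mk ⟨a, ha⟩) = QuotientGroup.mk ⟨x * a * x⁻¹, hxa⟩ := by
  classical
  -- conjugation by `x` fixes every element of `C`
  have hfix : ∀ (x : Λ) (z : ↥A), z ∈ C.subgroupOf A →
      (MulAut.conjNormal x : MulAut ↥A) z = z := by
    intro x z hz
    apply Subtype.ext
    rw [MulAut.conjNormal_apply]
    have h1 : x * (z : Λ) = (z : Λ) * x := (Subgroup.mem_center_iff.mp (hC hz) x)
    rw [h1, mul_inv_cancel_right]
  have hmap : ∀ x : Λ, (C.subgroupOf A).map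
      (((MulAut.conjNormal x : MulAut ↥A) : ↥A ≃* ↥A) : ↥A →* ↥A) = C.subgroupOf A := by
    intro x
    ext y
    constructor
    · rintro ⟨z, hz, rfl⟩
      have := hfix x z hz
      show (MulAut.conjNormal x : MulAut ↥A) z ∈ C.subgroupOf A
      rw [this]; exact hz
    · intro hy
      exact ⟨y, hy, hfix x y hy⟩
  let ρ0 : Λ →* MulAut (↥A ⧸ C.subgroupOf A) :=
    { toFun := fun x => QuotientGroup.congr (C.subgroupOf A) (C.subgroupOf A)
        (MulAut.conjNormal x : MulAut ↥A) (hmap x)
      map_one' := by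
        ext y
        induction y using QuotientGroup.induction_on with
        | H z =>
          show QuotientGroup.mk ((MulAut.conjNormal (1 : Λ) : MulAut ↥A) z) = QuotientGroup.mk z
          rw [map_one]; rfl
      map_mul' := by
        intro x y
        ext w
        induction w using QuotientGroup.induction_on with
        | H z =>
          show QuotientGroup.mk ((MulAut.conjNormal (x * y) : MulAut ↥A) z)
            = QuotientGroup.mk ((MulAut.conjNormal x : MulAut ↥A)
                ((MulAut.conjNormal y : MulAut ↥A) z))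
          rw [map_mul]; rfl }
  have hρ0 : ∀ (x : Λ) (z : ↥A), ρ0 x (QuotientGroup.mk z)
      = QuotientGroup.mk ((MulAut.conjNormal x : MulAut ↥A) z) := fun x z => rfl
  have hker : A ≤ ρ0.ker := by
    intro x hx
    rw [MonoidHom.mem_ker]
    ext w
    induction w using QuotientGroup.induction_on with
    | H z =>
      rw [hρ0]
      show QuotientGroup.mk ((MulAut.conjNormal x : MulAut ↥A) z) = QuotientGroup.mk z
      rw [QuotientGroup.eq]
      rw [Subgroup.mem_subgroupOf]
      apply hAA
      have h1 : ((((MulAut.conjNormal x : MulAut ↥A) z)⁻¹ * z : ↥A) : Λ)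
          = ⁅x, (z : Λ)⁻¹⁆ := by
        rw [Subgroup.coe_mul, Subgroup.coe_inv, MulAut.conjNormal_apply, commutatorElement_def]
        group
      rw [h1]
      exact Subgroup.commutator_mem_commutator hx (A.inv_mem z.2)
  refine ⟨QuotientGroup.lift A ρ0 hker, ?_⟩
  intro x a ha hxa
  have h1 : (QuotientGroup.lift A ρ0 hker) (QuotientGroup.mk x) = ρ0 x := QuotientGroup.lift_mk A hker x
  rw [h1, hρ0]
  congr 1

end Cfsg.Agent.Helper48.FrakL
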