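import Cfsg.Agent.Helper87.FrakLDefs
import Cfsg.Agent.Helper49.FrakLSL2c

/-!
# (SL2d) of board #5604 (helper87, S2861): a nontrivial subgroup of exponent `p` of `SL₂(F)`,
`F` finite of characteristic `p`, normalized by `N(E)` and normalizing `E` (the upper unitriangular
group), is `E` (helper48)
-/

set_option autoImplicit false

namespace Cfsg.Agent.Helper48.FrakL

open Matrix Cfsg.Agent.Helper87.FrakL

section

variable {F : Type*} [Field F]

/-- (M1) an element conjugating `uU 1` to some `uU s` is upper triangular -/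
theorem lower_eq_zero_of_conj (x : SpecialLinearGroup (Fin 2) F) (s : F)
    (h : x * uU 1 * x⁻¹ = uU s) : (x : Matrix (Fin 2) (Fin 2) F) 1 0 = 0 := by
  have h1 : x * uU 1 = uU s * x := by
    rw [← h, inv_mul_cancel_right]
  have h2 : ((x * uU 1 : SpecialLinearGroup (Fin 2) F) : Matrix (Fin 2) (Fin 2) F) 1 1 =
      ((uU s * x : SpecialLinearGroup (Fin 2) F) : Matrix (Fin 2) (Fin 2) F) 1 1 := by rw [h1]
  rw [Matrix.SpecialLinearGroup.coe_mul, Matrix.SpecialLinearGroup.coe_mul, Matrix.mul_apply, Matrix.mul_apply,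
    Fin.sum_univ_two, Fin.sum_univ_two] at h2
  simpa [uU] using h2

/-- (M2) powers of an upper triangular matrix -/
theorem pow_upper (x : Matrix (Fin 2) (Fin 2) F) (h10 : x 1 0 = 0) (n : ℕ) :
    (x ^ n) 1 0 = 0 ∧ (x ^ n) 0 0 = (x 0 0) ^ n ∧ (x ^ n) 1 1 = (x 1 1) ^ n := by
  induction n with
  | zero => simp
  | succ n ih =>
    obtain ⟨i1, i2, i3⟩ := ih
    rw [pow_succ]
    refine ⟨?_, ?_, ?_⟩
    · rw [Matrix.mul_apply, Fin.sum_univ_two, i1, h10]; ring
    · rw [Matrix.mul_apply, Fin.sum_univ_two, i2, h10, pow_succ]; ring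
    · rw [Matrix.mul_apply, Fin.sum_univ_two, i1, i3, pow_succ]; ring

theorem eq_one_of_pow_char_eq_one {p : ℕ} [Fact p.Prime] [CharP F p] (a : F) (h : a ^ p = 1) :
    a = 1 := by
  have h1 : (a - 1) ^ p = 0 := by
    rw [sub_pow_char, h, one_pow, sub_self]
  exact sub_eq_zero.1 (pow_eq_zero_iff (Fact.out : p.Prime).ne_zero |>.1 h1)

/-- (M2) an upper triangular element of order dividing `p` is `uU s` -/
theorem eq_uU_of_pow_eq_one {p : ℕ} [Fact p.Prime] [CharP F p]
    (x : SpecialLinearGroup (Fin 2) F) (h10 : (x : Matrix (Fin 2) (Fin 2) F) 1 0 = 0)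
    (hp : x ^ p = 1) : x = uU ((x : Matrix (Fin 2) (Fin 2) F) 0 1) := by
  have hm : (x : Matrix (Fin 2) (Fin 2) F) ^ p = 1 := by
    have := Matrix.SpecialLinearGroup.coe_pow x p
    rw [hp, Matrix.SpecialLinearGroup.coe_one] at this
    exact this.symm
  obtain ⟨-, h00, h11⟩ := pow_upper (x : Matrix (Fin 2) (Fin 2) F) h10 p
  rw [hm] at h00 h11
  have e00 : (x : Matrix (Fin 2) (Fin 2) F) 0 0 = 1 :=
    eq_one_of_pow_char_eq_one (p := p) _ (by rw [← h00]; simp)
  have e11 : (x : Matrix (Fin 2) (Fin 2) F) 1 1 = 1 :=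
    eq_one_of_pow_char_eq_one (p := p) _ (by rw [← h11]; simp)
  apply Subtype.ext
  ext i j
  fin_cases i <;> fin_cases j <;> simp [uU, e00, e11, h10]

/-- (M3) inverse torus conjugation of a root element -/
theorem hD_inv_conj_uU (t : Fˣ) (s : F) :
    (hD t : SpecialLinearGroup (Fin 2) F)⁻¹ * uU s * hD t = uU (s / (t : F) ^ 2) := by
  have ht : (t : F) ^ 2 ≠ 0 := pow_ne_zero _ t.ne_zero
  have h1 : s = (t : F) ^ 2 * (s / (t : F) ^ 2) := by
    field_simp
  have h2 := Cfsg.Agent.Helper49.FrakL.hD_mul_uU t (s / (t : F) ^ 2)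
  rw [← h1] at h2
  rw [mul_assoc, ← h2, inv_mul_cancel_left]

end

/-- **(SL2d)** -/
theorem sl2_normal_elemAb {F : Type*} [Field F] [Fintype F] {p : ℕ} [Fact p.Prime] [CharP F p]
    (E : Subgroup (SpecialLinearGroup (Fin 2) F)) (hE : ∀ x, x ∈ E ↔ ∃ s : F, x = uU s)
    (W : Subgroup (SpecialLinearGroup (Fin 2) F))
    (hWN : W ≤ Subgroup.normalizer (E : Set (SpecialLinearGroup (Fin 2) F)))
    (hNW : Subgroup.normalizer (E : Set (SpecialLinearGroup (Fin 2) F)) ≤
      Subgroup.normalizer (W : Set (SpecialLinearGroup (Fin 2) F)))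
    (hWp : ∀ x ∈ W, x ^ p = 1) (hW1 : W ≠ ⊥) : W = E := by
  -- `W ≤ E`
  have hWE : ∀ x ∈ W, ∃ s : F, x = uU s := by
    intro x hx
    have hxN := hWN hx
    rw [Subgroup.mem_normalizer_iff] at hxN
    obtain ⟨s, hs⟩ := (hE _).1 ((hxN (uU 1)).1 ((hE _).2 ⟨1, rfl⟩))
    exact ⟨_, eq_uU_of_pow_eq_one (p := p) x (lower_eq_zero_of_conj x s hs) (hWp x hx)⟩
  -- the torus normalizes `E`, hence `W`
  have hT : ∀ t : Fˣ, ∀ x ∈ W, hD t * x * (hD t)⁻¹ ∈ W := by
    intro t x hx
    have htE : hD t ∈ Subgroup.normalizer (E : Set (SpecialLinearGroup (Fin 2) F)) := by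
      rw [Subgroup.mem_normalizer_iff]
      intro h
      constructor
      · intro hh
        obtain ⟨s, rfl⟩ := (hE _).1 hh
        rw [Cfsg.Agent.Helper49.FrakL.hD_conj_uU]
        exact (hE _).2 ⟨_, rfl⟩
      · intro hh
        obtain ⟨s, hs⟩ := (hE _).1 hh
        have : h = (hD t)⁻¹ * uU s * hD t := by
          rw [← hs]; group
        rw [this, hD_inv_conj_uU]
        exact (hE _).2 ⟨_, rfl⟩
    have htW := hNW htE
    rw [Subgroup.mem_normalizer_iff] at htW
    exact (htW x).1 hx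
  have hall := Cfsg.Agent.Helper49.FrakL.eq_upper_of_torus_invariant W hWE hW1 hT
  apply le_antisymm
  · intro x hx
    exact (hE x).2 (hWE x hx)
  · intro x hx
    obtain ⟨s, rfl⟩ := (hE x).1 hx
    exact hall s

end Cfsg.Agent.Helper48.FrakL
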