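import Cfsg.Agent.Helper95.Hig.Basic

/-!
Helper48, HIG piece (CRD) for helper95 (S3050): coordinates.
-/

set_option autoImplicit false

namespace Cfsg.Agent.Helper48.Hig

open Cfsg.Agent.Helper40.SL2Hom
open Cfsg.Agent.Helper95.Hig

universe u v w

variable {K : Type u} [Field K] [CharP K 2] {V : Type v} [AddCommGroup V] [Module (ZG K) V]

/-- pairs of functions as functions into `Fin 2 → K` -/
def CRD_pairEquiv (K : Type u) [Field K] (k : ℕ) :
    ((Fin k → K) × (Fin k → K)) ≃+ (Fin k → Fin 2 → K) where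
  toFun p := fun i => ![p.1 i, p.2 i]
  invFun f := (fun i => f i 0, fun i => f i 1)
  left_inv p := by
    ext i <;> simp
  right_inv f := by
    funext i j
    fin_cases j <;> simp
  map_add' p q := by
    funext i j
    fin_cases j <;> simp

omit [CharP K 2] in
theorem CRD_pairEquiv_apply (k : ℕ) (p : (Fin k → K) × (Fin k → K)) (i : Fin k) :
    CRD_pairEquiv K k p i = ![p.1 i, p.2 i] := rfl

/-- (CRD) `C` is a `K`-vector space through `R` (`Module.compHom C R`), finite, hence has a finite basis
`b : Basis (Fin k) K C`. Put `ι x i := ![b.repr (φ x).1 i, b.repr (φ x).2 i]`. -/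
theorem crd {C : Type w} [AddCommGroup C] [Finite C] (φ : V ≃+ (C × C)) (R : K →+* AddMonoid.End C)
    (h : ∀ (g : SL2 K) (c d : C), φ (act g (φ.symm (c, d))) =
      (R (g 0 0) c + R (g 0 1) d, R (g 1 0) c + R (g 1 1) d)) :
    ∃ (k : ℕ) (ι : V ≃+ (Fin k → Fin 2 → K)), ∀ (g : SL2 K) (x : V) (i : Fin k),
      ι (act g x) i = (g : Matrix (Fin 2) (Fin 2) K).mulVec (ι x i) := by
  let _ : Module K C := Module.compHom C R
  have hsmul : ∀ (γ : K) (c : C), γ • c = R γ c := fun γ c => rfl
  have : Module.Finite K C := Module.Finite.of_finite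
  let b := Module.finBasis K C
  let e : C ≃+ (Fin (Module.finrank K C) → K) := b.equivFun.toAddEquiv
  have he : ∀ (γ δ : K) (c d : C) (i : Fin (Module.finrank K C)),
      e (R γ c + R δ d) i = γ * e c i + δ * e d i := by
    intro γ δ c d i
    have : e (R γ c + R δ d) = γ • e c + δ • e d := by
      show b.equivFun (R γ c + R δ d) = γ • b.equivFun c + δ • b.equivFun d
      rw [← hsmul, ← hsmul, map_add, map_smul, map_smul]
    rw [this]
    simp
  refine ⟨Module.finrank K C, (φ.trans (AddEquiv.prodCongr e e)).trans (CRD_pairEquiv K _), ?_⟩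
  intro g x i
  obtain ⟨⟨c, d⟩, rfl⟩ := φ.symm.surjective x
  have hpc : ∀ p : C × C, (AddEquiv.prodCongr e e) p = (e p.1, e p.2) := fun p => rfl
  simp only [AddEquiv.trans_apply, CRD_pairEquiv_apply, h g c d, AddEquiv.apply_symm_apply,
    hpc, he]
  funext j
  fin_cases j <;> simp [Matrix.mulVec, dotProduct, Fin.sum_univ_two]
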