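import Cfsg.Agent.Helper95.Hig.Basic

/-!
Helper48, HIG piece (EBR) for helper95 (S3050): the bridge from `V ⧸ 2V`.
-/

set_option autoImplicit false

namespace Cfsg.Agent.Helper48.Hig

open Cfsg.Agent.Helper40.SL2Hom
open Cfsg.Agent.Helper95.Hig

universe u v w

variable {K : Type u} [Field K] [CharP K 2] {V : Type v} [AddCommGroup V] [Module (ZG K) V]

/-- the projection `Fix1 V → Fix1 (V ⧸ 2V)` -/
noncomputable def EBR_pi : Fix1 K V →+ Fix1 K (V ⧸ twoV K V) :=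
  AddMonoidHom.codRestrict
    (((twoV K V).mkQ : V →ₗ[ZG K] V ⧸ twoV K V).toAddMonoidHom.comp (Fix1 K V).subtype)
    (Fix1 K (V ⧸ twoV K V)) (by
      intro c
      show act (U (1 : K)) (Submodule.Quotient.mk (c : V) : V ⧸ twoV K V)
        = Submodule.Quotient.mk (c : V)
      rw [act_mk, (mem_Fix1 _).1 c.2])

theorem EBR_pi_coe (c : Fix1 K V) :
    ((EBR_pi c : Fix1 K (V ⧸ twoV K V)) : V ⧸ twoV K V) = Submodule.Quotient.mk (c : V) := rfl

theorem EBR_mk_eq_zero (x : V) :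
    (Submodule.Quotient.mk x : V ⧸ twoV K V) = 0 ↔ ∃ z : V, x = z + z := by
  rw [Submodule.Quotient.mk_eq_zero, mem_twoV]

theorem EBR_fix_two (s : Split K V) (c : Fix1 K V) (z : V) (h : (c : V) = z + z) :
    ∃ c₁ : Fix1 K V, c = c₁ + c₁ := by
  refine ⟨(s.φ z).1, ?_⟩
  have h1 : s.φ (c : V) = s.φ z + s.φ z := by rw [h, map_add]
  rw [s.hfix] at h1
  have := congrArg Prod.fst h1
  simpa using this

/-- an element of `Fix1 V` that dies in `V ⧸ 2V` is twice an element of `Fix1 V` -/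
theorem EBR_of_pi_eq_zero (s : Split K V) (c : Fix1 K V) (h : EBR_pi c = 0) :
    ∃ c₁ : Fix1 K V, c = c₁ + c₁ := by
  have h1 : (Submodule.Quotient.mk (c : V) : V ⧸ twoV K V) = 0 := by
    rw [← EBR_pi_coe, h]; rfl
  obtain ⟨z, hz⟩ := (EBR_mk_eq_zero _).1 h1
  exact EBR_fix_two s c z hz

theorem EBR_decomp (s : Split K V) (x : V) :
    x = ((s.φ x).1 : V) + act (W : SL2 K) ((s.φ x).2 : V) := by
  rw [← s.symm_eq, Prod.mk.eta, AddEquiv.symm_apply_apply]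

theorem EBR_phi_mk (s : Split K V) (sq : Split K (V ⧸ twoV K V)) (x : V) :
    sq.φ (Submodule.Quotient.mk x) = (EBR_pi (s.φ x).1, EBR_pi (s.φ x).2) := by
  conv_lhs => rw [EBR_decomp s x]
  rw [Submodule.Quotient.mk_add, ← act_mk, ← EBR_pi_coe, ← EBR_pi_coe, sq.apply_add]

theorem EBR_surj (s : Split K V) (xb : Fix1 K (V ⧸ twoV K V)) :
    ∃ c : Fix1 K V, EBR_pi c = xb := by
  obtain ⟨x, hx⟩ := Submodule.Quotient.mk_surjective (twoV K V) (xb : V ⧸ twoV K V)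
  have hfix : act (U (1 : K)) (xb : V ⧸ twoV K V) = xb := (mem_Fix1 _).1 xb.2
  rw [← hx, act_mk] at hfix
  have h0 : (Submodule.Quotient.mk (act (U (1 : K)) x - x) : V ⧸ twoV K V) = 0 := by
    rw [Submodule.Quotient.mk_sub, hfix, sub_self]
  obtain ⟨z, hz⟩ := (EBR_mk_eq_zero _).1 h0
  have hxcd : x = s.φ.symm ((s.φ x).1, (s.φ x).2) := by
    rw [Prod.mk.eta, AddEquiv.symm_apply_apply]
  have h1 : s.φ (act (U (1 : K)) x - x)
      = ((s.φ x).1 - (s.φ x).2, -(s.φ x).2) - ((s.φ x).1, (s.φ x).2) := by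
    rw [map_sub]
    conv_lhs => rw [hxcd, s.hU1, AddEquiv.apply_symm_apply]
  rw [hz, map_add] at h1
  have h2 : (s.φ z).1 + (s.φ z).1 = -(s.φ x).2 := by
    have := congrArg Prod.fst h1
    simpa using this
  have h3 : (s.φ x).2 = -(s.φ z).1 + -(s.φ z).1 := by
    rw [← neg_add, h2, neg_neg]
  refine ⟨(s.φ x).1, ?_⟩
  apply Subtype.ext
  rw [EBR_pi_coe, ← hx]
  symm
  rw [← sub_eq_zero, ← Submodule.Quotient.mk_sub, EBR_mk_eq_zero]
  refine ⟨act (W : SL2 K) ((-(s.φ z).1 : Fix1 K V) : V), ?_⟩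
  have hd := EBR_decomp s x
  have h4 : x - ((s.φ x).1 : V) = act (W : SL2 K) ((s.φ x).2 : V) := by
    rw [sub_eq_iff_eq_add']; exact hd
  rw [h4, ← map_add, h3]
  rfl

theorem EBR_Bt (s : Split K V) (sq : Split K (V ⧸ twoV K V))
    (R : K →+* AddMonoid.End (Fix1 K (V ⧸ twoV K V)))
    (hq2 : ∀ (g : SL2 K) (c d : Fix1 K (V ⧸ twoV K V)), sq.φ (act g (sq.φ.symm (c, d))) =
      (R (g 0 0) c + R (g 0 1) d, R (g 1 0) c + R (g 1 1) d))
    (γ : K) (c : Fix1 K V) : EBR_pi (s.Bt γ c) = R γ (EBR_pi c) := by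
  have h1 := EBR_phi_mk s sq (act (U γ) (act (W : SL2 K) (c : V)))
  rw [← act_mk, ← act_mk, ← EBR_pi_coe, ← sq.symm_snd, hq2] at h1
  have h2 := congrArg Prod.fst h1
  simp only [U_coe, Matrix.of_apply, Matrix.cons_val', Matrix.cons_val_zero, Matrix.cons_val_one,
    Matrix.cons_val_fin_one, map_zero, zero_add] at h2
  rw [Split.Bt_apply]
  exact h2.symm

theorem EBR_Bt_iter (s : Split K V) (sq : Split K (V ⧸ twoV K V))
    (R : K →+* AddMonoid.End (Fix1 K (V ⧸ twoV K V)))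
    (hq2 : ∀ (g : SL2 K) (c d : Fix1 K (V ⧸ twoV K V)), sq.φ (act g (sq.φ.symm (c, d))) =
      (R (g 0 0) c + R (g 0 1) d, R (g 1 0) c + R (g 1 1) d))
    (γ : K) (k : ℕ) (c : Fix1 K V) : EBR_pi ((s.Bt γ)^[k] c) = R (γ ^ k) (EBR_pi c) := by
  induction k with
  | zero => simp
  | succ k ih =>
    rw [Function.iterate_succ_apply', EBR_Bt s sq R hq2, ih, pow_succ', map_mul]
    rfl

/-- (EBR) Let `π : V → V ⧸ 2V`. `π` maps `Fix1 V` into `Fix1 (V ⧸ 2V)`, and by uniqueness of the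
decompositions `sq.φ (π x) = (π (s.φ x).1, π (s.φ x).2)`. Also `Fix1 V ∩ 2V = 2 Fix1 V`
(decompose `x` with `2x = c`). -/
theorem ebr [Finite K] [Finite V] (h4 : ∀ x : V, (4 : ℕ) • x = 0) (s : Split K V)
    (sq : Split K (V ⧸ twoV K V))
    (hq1 : ∀ x : V ⧸ twoV K V, act (U (1 : K)) x = x → ∀ γ : K, act (U γ) x = x)
    (R : K →+* AddMonoid.End (Fix1 K (V ⧸ twoV K V)))
    (hq2 : ∀ (g : SL2 K) (c d : Fix1 K (V ⧸ twoV K V)), sq.φ (act g (sq.φ.symm (c, d))) =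
      (R (g 0 0) c + R (g 0 1) d, R (g 1 0) c + R (g 1 1) d))
    (γ : K) (hγ0 : γ ≠ 0) (hγ1 : γ ≠ 1) :
    (∀ c : Fix1 K V, ∃ c₁, s.Ap γ c - c = c₁ + c₁) ∧
    (∀ c : Fix1 K V, ∃ c₁, ((s.Bt γ)^[Nat.card K]) c - s.Bt γ c = c₁ + c₁) ∧
    (∀ c : Fix1 K V, ∃ c' c₁, c = s.Bt γ c' + s.Bt γ (s.Bt γ c') + (c₁ + c₁)) := by
  refine ⟨?_, ?_, ?_⟩
  · intro c
    have hc : act (U (1 : K)) (Submodule.Quotient.mk (c : V) : V ⧸ twoV K V)
        = Submodule.Quotient.mk (c : V) := by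
      rw [act_mk, (mem_Fix1 _).1 c.2]
    have h1 := hq1 _ hc γ
    rw [act_mk] at h1
    have h0 : (Submodule.Quotient.mk (act (U γ) (c : V) - c) : V ⧸ twoV K V) = 0 := by
      rw [Submodule.Quotient.mk_sub, h1, sub_self]
    obtain ⟨z, hz⟩ := (EBR_mk_eq_zero _).1 h0
    refine ⟨(s.φ z).1, ?_⟩
    have h2 : s.φ (act (U γ) (c : V)) - s.φ (c : V) = s.φ z + s.φ z := by
      rw [← map_sub, hz, map_add]
    rw [s.hfix] at h2
    have := congrArg Prod.fst h2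
    rw [Split.Ap_apply]
    simpa using this
  · intro c
    apply EBR_of_pi_eq_zero s
    have := Fintype.ofFinite K
    rw [map_sub, EBR_Bt_iter s sq R hq2, EBR_Bt s sq R hq2, Nat.card_eq_fintype_card,
      FiniteField.pow_card, sub_self]
  · intro c
    have hδ : γ + γ * γ ≠ 0 := by
      intro h
      have h' : γ * (1 + γ) = 0 := by rw [← h]; ring
      rcases mul_eq_zero.1 h' with h0 | h1
      · exact hγ0 h0
      · apply hγ1
        have : γ = -1 := by rw [eq_neg_iff_add_eq_zero, add_comm]; exact h1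
        rw [this, CharTwo.neg_eq]
    obtain ⟨c', hc'⟩ := EBR_surj s (R (γ + γ * γ)⁻¹ (EBR_pi c))
    have hkey : EBR_pi (c - (s.Bt γ c' + s.Bt γ (s.Bt γ c'))) = 0 := by
      rw [map_sub, map_add, EBR_Bt s sq R hq2, EBR_Bt s sq R hq2, EBR_Bt s sq R hq2, hc']
      have h1 : R γ (R (γ + γ * γ)⁻¹ (EBR_pi c)) + R γ (R γ (R (γ + γ * γ)⁻¹ (EBR_pi c)))
          = (R ((γ + γ * γ) * (γ + γ * γ)⁻¹)) (EBR_pi c) := by
        rw [map_mul, map_add, map_mul]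
        rfl
      rw [h1, mul_inv_cancel₀ hδ, map_one]
      exact sub_self _
    obtain ⟨c₁, hc₁⟩ := EBR_of_pi_eq_zero s _ hkey
    refine ⟨c', c₁, ?_⟩
    rw [← hc₁]
    abel
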