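import Mathlib
import Cfsg.Agent.Helper99.O9.Defs
import Cfsg.Agent.Helper44.OrthSumOmega

set_option autoImplicit false
set_option linter.unusedSectionVars false
set_option linter.unusedVariables false

/-!
# S2517 piece (SUMC) `sum_inOm_right` for helper99 (farm #13715)
-/

namespace Cfsg.Agent.Helper48.O9

open Matrix QuadraticMap Cfsg.Agent.Helper44 Cfsg.Agent.Helper44.QType Cfsg.Agent.Helper99.O9

universe u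

variable {F : Type u} [Field F]

theorem SUMC_nondeg {V : Type*} [AddCommGroup V] [Module F V] (Q : QuadraticForm F V)
    (h : ∀ x, (∀ y, polar Q x y = 0) → x = 0) : (polarBilin Q).Nondegenerate := by
  constructor
  · intro x hx
    exact h x hx
  · intro y hy
    apply h y
    intro x
    rw [polar_comm]
    exact hy x

theorem SUMC_blockDiagIso_mulVec {ι₁ ι₂ : Type} [Fintype ι₁] [DecidableEq ι₁] [Fintype ι₂]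
    [DecidableEq ι₂] (Q₁ : (ι₁ → F) → F) (Q₂ : (ι₂ → F) → F)
    (g₁ : ↥(Cfsg.isometryGroup F Q₁)) (g₂ : ↥(Cfsg.isometryGroup F Q₂)) (x : ι₁ ⊕ ι₂ → F) :
    (((blockDiagIso Q₁ Q₂ (g₁, g₂) : ↥(Cfsg.isometryGroup F (orthSum Q₁ Q₂))) : GL (ι₁ ⊕ ι₂) F) :
      Matrix (ι₁ ⊕ ι₂) (ι₁ ⊕ ι₂) F) *ᵥ x =
      Sum.elim (((g₁ : GL ι₁ F) : Matrix ι₁ ι₁ F) *ᵥ (x ∘ Sum.inl))
        (((g₂ : GL ι₂ F) : Matrix ι₂ ι₂ F) *ᵥ (x ∘ Sum.inr)) := by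
  rw [blockDiagIso_coe, Matrix.fromBlocks_mulVec]
  simp only [Matrix.zero_mulVec, add_zero, zero_add]

section swap

variable {ι₁ ι₂ : Type} [Fintype ι₁] [DecidableEq ι₁] [Fintype ι₂] [DecidableEq ι₂]

/-- swapping the two summands -/
def SUMC_swapEquiv (ι₁ ι₂ : Type) : (ι₁ ⊕ ι₂ → F) ≃ₗ[F] (ι₂ ⊕ ι₁ → F) :=
  LinearEquiv.funCongrLeft F F (Equiv.sumComm ι₂ ι₁)

theorem SUMC_swapEquiv_apply (w : ι₁ ⊕ ι₂ → F) :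
    SUMC_swapEquiv (F := F) ι₁ ι₂ w = w ∘ Sum.swap := rfl

theorem SUMC_swapEquiv_symm_apply (v : ι₂ ⊕ ι₁ → F) :
    (SUMC_swapEquiv (F := F) ι₁ ι₂).symm v = v ∘ Sum.swap := rfl

theorem SUMC_swap_form (Q₁ : QuadraticForm F (ι₁ → F)) (Q₂ : QuadraticForm F (ι₂ → F))
    (w : ι₁ ⊕ ι₂ → F) :
    orthSumForm Q₂ Q₁ (SUMC_swapEquiv (F := F) ι₁ ι₂ w) = orthSumForm Q₁ Q₂ w := by
  rw [orthSumForm_apply, orthSumForm_apply, SUMC_swapEquiv_apply]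
  have e1 : (w ∘ Sum.swap) ∘ (Sum.inl : ι₂ → ι₂ ⊕ ι₁) = w ∘ Sum.inr := rfl
  have e2 : (w ∘ Sum.swap) ∘ (Sum.inr : ι₁ → ι₂ ⊕ ι₁) = w ∘ Sum.inl := rfl
  rw [e1, e2, add_comm]

/-- `diag(1, g₂)` becomes `diag(g₂, 1)` after swapping the summands -/
theorem SUMC_transport (Q₁ : QuadraticForm F (ι₁ → F)) (Q₂ : QuadraticForm F (ι₂ → F))
    (g₂ : ↥(Cfsg.isometryGroup F ⇑Q₂)) :
    isoTransport ⇑(orthSumForm Q₁ Q₂) ⇑(orthSumForm Q₂ Q₁) (SUMC_swapEquiv (F := F) ι₁ ι₂)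
      (SUMC_swap_form Q₁ Q₂) (blockDiagIso ⇑Q₁ ⇑Q₂ (1, g₂)) = inlIso Q₂ Q₁ g₂ := by
  apply isometryGroup_ext
  intro v
  refine (isoTransport_mulVec _ _ (SUMC_swapEquiv (F := F) ι₁ ι₂) (SUMC_swap_form Q₁ Q₂) _ v).trans ?_
  refine Eq.trans ?_ (inlIso_mulVec Q₂ Q₁ g₂ v).symm
  rw [SUMC_swapEquiv_apply, SUMC_swapEquiv_symm_apply]
  have h := SUMC_blockDiagIso_mulVec ⇑Q₁ ⇑Q₂ 1 g₂ (v ∘ Sum.swap)
  refine (congrArg (fun z : ι₁ ⊕ ι₂ → F => z ∘ Sum.swap) h).trans ?_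
  funext j
  rcases j with j | j
  · rfl
  · show ((1 : ↥(Cfsg.isometryGroup F ⇑Q₁)).1 : Matrix ι₁ ι₁ F).mulVec ((v ∘ Sum.swap) ∘ Sum.inl) j = _
    have h1 : (((1 : ↥(Cfsg.isometryGroup F ⇑Q₁)) : GL ι₁ F) : Matrix ι₁ ι₁ F) = 1 := rfl
    rw [h1, Matrix.one_mulVec]
    rfl

end swap

variable [Fintype F]

/-- (SUMC) route: `diag(g₁,g₂) = diag(g₁,1) diag(1,g₂)`, so `diag(1,g₂) ∈ Ω`; then `inlIso_mem_Omega_iff` of helper44's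
`OrthSumOmega` after swapping the two summands -/
theorem sum_inOm_right (hF : Odd (Fintype.card F)) {P₁ P₂ : OPair F} (h₁ : P₁.ND) (h₂ : P₂.ND)
    (h : (P₁.sum P₂).InOm) (hg : P₁.InOm) : P₂.InOm := by
  rw [OPair.inOm_def] at h hg ⊢
  rw [OPair.nd_def] at h₁ h₂
  rw [OPair.sum_g] at h
  have h' : blockDiagIso ⇑P₁.Q ⇑P₂.Q (P₁.g, P₂.g) ∈ Cfsg.Omega F (orthSum ⇑P₁.Q ⇑P₂.Q) := h
  have hd₁ : blockDiagIso ⇑P₁.Q ⇑P₂.Q (P₁.g, 1) ∈ Cfsg.Omega F (orthSum ⇑P₁.Q ⇑P₂.Q) :=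
    blockDiagIso_mem_Omega _ _ _ _ hg (Subgroup.one_mem _)
  have hd₂ : blockDiagIso ⇑P₁.Q ⇑P₂.Q (1, P₂.g) ∈ Cfsg.Omega F (orthSum ⇑P₁.Q ⇑P₂.Q) := by
    have e : ((1 : ↥(Cfsg.isometryGroup F ⇑P₁.Q)), P₂.g) = (P₁.g, 1)⁻¹ * (P₁.g, P₂.g) := by
      simp
    rw [e, map_mul, map_inv]
    exact Subgroup.mul_mem _ (Subgroup.inv_mem _ hd₁) h'
  have hd₂' : blockDiagIso ⇑P₁.Q ⇑P₂.Q (1, P₂.g) ∈ Cfsg.Omega F ⇑(orthSumForm P₁.Q P₂.Q) := hd₂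
  have ht := map_mem_commutator (isoTransport ⇑(orthSumForm P₁.Q P₂.Q) ⇑(orthSumForm P₂.Q P₁.Q)
    (SUMC_swapEquiv (F := F) P₁.ι P₂.ι) (SUMC_swap_form P₁.Q P₂.Q)) hd₂'
  rw [SUMC_transport] at ht
  have hcard : Fintype.card F ≠ 2 := by
    intro h2
    rw [h2] at hF
    exact absurd hF (by decide)
  exact (inlIso_mem_Omega_iff P₂.Q P₁.Q (SUMC_nondeg _ h₂) (SUMC_nondeg _ h₁) (Or.inl hcard) P₂.g).1 ht

end Cfsg.Agent.Helper48.O9
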