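import Mathlib
import Cfsg.Agent.Helper99.O9.Defs

set_option autoImplicit false
set_option linter.unusedSectionVars false
set_option linter.unusedVariables false

/-!
# S2517 piece (SUMS) `sum_sim` for helper99 (farm #13715)
-/

namespace Cfsg.Agent.Helper48.O9

open Matrix QuadraticMap Cfsg.Agent.Helper44 Cfsg.Agent.Helper44.QType Cfsg.Agent.Helper99.O9

universe u

variable {F : Type u} [Field F]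

theorem SUMS_blockDiagIso_mulVec {ι₁ ι₂ : Type} [Fintype ι₁] [DecidableEq ι₁] [Fintype ι₂]
    [DecidableEq ι₂] (Q₁ : (ι₁ → F) → F) (Q₂ : (ι₂ → F) → F)
    (g₁ : ↥(Cfsg.isometryGroup F Q₁)) (g₂ : ↥(Cfsg.isometryGroup F Q₂)) (x : ι₁ ⊕ ι₂ → F) :
    (((blockDiagIso Q₁ Q₂ (g₁, g₂) : ↥(Cfsg.isometryGroup F (orthSum Q₁ Q₂))) : GL (ι₁ ⊕ ι₂) F) :
      Matrix (ι₁ ⊕ ι₂) (ι₁ ⊕ ι₂) F) *ᵥ x =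
      Sum.elim (((g₁ : GL ι₁ F) : Matrix ι₁ ι₁ F) *ᵥ (x ∘ Sum.inl))
        (((g₂ : GL ι₂ F) : Matrix ι₂ ι₂ F) *ᵥ (x ∘ Sum.inr)) := by
  rw [blockDiagIso_coe, Matrix.fromBlocks_mulVec]
  simp only [Matrix.zero_mulVec, add_zero, zero_add]

/-- the direct sum of two linear equivalences of function spaces -/
noncomputable def SUMS_sumEquiv {ι₁ ι₂ κ₁ κ₂ : Type}
    (C₁ : (ι₁ → F) ≃ₗ[F] (κ₁ → F)) (C₂ : (ι₂ → F) ≃ₗ[F] (κ₂ → F)) :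
    (ι₁ ⊕ ι₂ → F) ≃ₗ[F] (κ₁ ⊕ κ₂ → F) :=
  (LinearEquiv.sumArrowLequivProdArrow ι₁ ι₂ F F).trans
    ((C₁.prodCongr C₂).trans (LinearEquiv.sumArrowLequivProdArrow κ₁ κ₂ F F).symm)

theorem SUMS_sumEquiv_apply {ι₁ ι₂ κ₁ κ₂ : Type}
    (C₁ : (ι₁ → F) ≃ₗ[F] (κ₁ → F)) (C₂ : (ι₂ → F) ≃ₗ[F] (κ₂ → F)) (w : ι₁ ⊕ ι₂ → F) :
    SUMS_sumEquiv C₁ C₂ w = Sum.elim (C₁ (w ∘ Sum.inl)) (C₂ (w ∘ Sum.inr)) := rfl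

theorem SUMS_sumEquiv_symm_apply {ι₁ ι₂ κ₁ κ₂ : Type}
    (C₁ : (ι₁ → F) ≃ₗ[F] (κ₁ → F)) (C₂ : (ι₂ → F) ≃ₗ[F] (κ₂ → F)) (v : κ₁ ⊕ κ₂ → F) :
    (SUMS_sumEquiv C₁ C₂).symm v = Sum.elim (C₁.symm (v ∘ Sum.inl)) (C₂.symm (v ∘ Sum.inr)) := rfl

variable [Fintype F]

/-- (SUMS) sums of isometric pairs are isometric -/
theorem sum_sim {P₁ P₂ P₁' P₂' : OPair F} (h₁ : P₁.Sim P₁') (h₂ : P₂.Sim P₂') :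
    (P₁.sum P₂).Sim (P₁'.sum P₂') := by
  rw [OPair.sim_def] at h₁ h₂ ⊢
  obtain ⟨C₁, hC₁, hg₁⟩ := h₁
  obtain ⟨C₂, hC₂, hg₂⟩ := h₂
  have hC : ∀ w, (P₁'.sum P₂').Q (SUMS_sumEquiv C₁ C₂ w) = (P₁.sum P₂).Q w := by
    intro w
    show orthSumForm P₁'.Q P₂'.Q (SUMS_sumEquiv C₁ C₂ w) = orthSumForm P₁.Q P₂.Q w
    rw [orthSumForm_apply, orthSumForm_apply, SUMS_sumEquiv_apply]
    have e1 : (Sum.elim (C₁ (w ∘ Sum.inl)) (C₂ (w ∘ Sum.inr)) : P₁'.ι ⊕ P₂'.ι → F) ∘ Sum.inl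
        = C₁ (w ∘ Sum.inl) := rfl
    have e2 : (Sum.elim (C₁ (w ∘ Sum.inl)) (C₂ (w ∘ Sum.inr)) : P₁'.ι ⊕ P₂'.ι → F) ∘ Sum.inr
        = C₂ (w ∘ Sum.inr) := rfl
    rw [e1, e2, hC₁, hC₂]
  refine ⟨SUMS_sumEquiv C₁ C₂, hC, ?_⟩
  rw [OPair.sum_g, OPair.sum_g]
  apply isometryGroup_ext
  intro (v : P₁'.ι ⊕ P₂'.ι → F)
  refine (isoTransport_mulVec _ _ (SUMS_sumEquiv C₁ C₂) hC _ v).trans ?_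
  show SUMS_sumEquiv C₁ C₂ ((((blockDiagIso ⇑P₁.Q ⇑P₂.Q (P₁.g, P₂.g) :
      ↥(Cfsg.isometryGroup F (orthSum ⇑P₁.Q ⇑P₂.Q))) : GL (P₁.ι ⊕ P₂.ι) F) :
      Matrix (P₁.ι ⊕ P₂.ι) (P₁.ι ⊕ P₂.ι) F) *ᵥ (SUMS_sumEquiv C₁ C₂).symm v) =
    (((blockDiagIso ⇑P₁'.Q ⇑P₂'.Q (P₁'.g, P₂'.g) :
      ↥(Cfsg.isometryGroup F (orthSum ⇑P₁'.Q ⇑P₂'.Q))) : GL (P₁'.ι ⊕ P₂'.ι) F) :
      Matrix (P₁'.ι ⊕ P₂'.ι) (P₁'.ι ⊕ P₂'.ι) F) *ᵥ v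
  rw [SUMS_blockDiagIso_mulVec, SUMS_blockDiagIso_mulVec, SUMS_sumEquiv_apply,
    SUMS_sumEquiv_symm_apply]
  have e1 : ∀ (a : P₁.ι → F) (b : P₂.ι → F), (Sum.elim a b : P₁.ι ⊕ P₂.ι → F) ∘ Sum.inl = a :=
    fun _ _ => rfl
  have e2 : ∀ (a : P₁.ι → F) (b : P₂.ι → F), (Sum.elim a b : P₁.ι ⊕ P₂.ι → F) ∘ Sum.inr = b :=
    fun _ _ => rfl
  rw [e1, e2, e1, e2, ← hg₁, ← hg₂, isoTransport_mulVec, isoTransport_mulVec]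

end Cfsg.Agent.Helper48.O9
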