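import Mathlib
import Cfsg.Agent.Helper99.O9.Defs
import Cfsg.Agent.Helper44.QTypeAniso
import Cfsg.Agent.Helper44.StdNondeg

set_option autoImplicit false
set_option linter.unusedSectionVars false
set_option linter.unusedVariables false

/-!
# S2517 piece (T8) `spec_rhs` for helper99 (farm #13715)

The element orders of `F^8 ⋊ Ω_8^-(F)` (statement side) in terms of pairs: `(v, g)` has order
`o(g)` or `p · o(g)` according to `(Σ_{i < o(g)} g^i) v = 0` or not.
-/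

namespace Cfsg.Agent.Helper48.O9

open Matrix QuadraticMap Cfsg.Agent.Helper44 Cfsg.Agent.Helper44.QType Cfsg.Agent.Helper99.O9

universe u

/-- order of an element of a semidirect product whose `orderOf right`-th power lies in the kernel -/
theorem T8_orderOf_eq_mul {N G : Type*} [Group N] [Group G] {φ : G →* MulAut N} (x : N ⋊[φ] G) (n : N)
    (hk : orderOf x.right ≠ 0) (hx : x ^ orderOf x.right = SemidirectProduct.inl n) :
    orderOf x = orderOf n * orderOf x.right := by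
  have h1 : orderOf x.right ∣ orderOf x := by
    have := orderOf_map_dvd (SemidirectProduct.rightHom (φ := φ)) x
    simpa using this
  have h2 : orderOf (x ^ orderOf x.right) = orderOf x / orderOf x.right := by
    rw [orderOf_pow' x hk, Nat.gcd_eq_right h1]
  rw [hx, orderOf_injective SemidirectProduct.inl SemidirectProduct.inl_injective] at h2
  rw [h2, Nat.div_mul_cancel h1]

theorem T8_addOrderOf_eq_of_charP {F : Type*} [Field F] (p : ℕ) [Fact p.Prime] [CharP F p] {V : Type*}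
    [AddCommGroup V] [Module F V] (w : V) (hw : w ≠ 0) : addOrderOf w = p := by
  have h1 : addOrderOf w ∣ p := by
    rw [addOrderOf_dvd_iff_nsmul_eq_zero, ← Nat.cast_smul_eq_nsmul F, CharP.cast_eq_zero, zero_smul]
  rcases (Nat.dvd_prime (Fact.out : p.Prime)).mp h1 with h | h
  · rw [AddMonoid.addOrderOf_eq_one_iff] at h
    exact absurd h hw
  · exact h

section general

variable {F : Type u} [Field F] {ι : Type} [Fintype ι] [DecidableEq ι] {K : Type*} [Group K]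

/-- the action of a group `K` on `ι → F` through `ρ : K →* GL ι F`, in the shape of the statement -/
noncomputable abbrev T8_phi (ρ : K →* GL ι F) : K →* MulAut (Multiplicative (ι → F)) :=
  (MulAutMultiplicative (ι → F)).symm.toMonoidHom.comp
    ((DistribMulAction.toAddAut (LinearMap.GeneralLinearGroup F (ι → F)) (ι → F)).comp
      (Matrix.GeneralLinearGroup.toLin.toMonoidHom.comp ρ))

theorem T8_phi_apply (ρ : K →* GL ι F) (k : K) (v : ι → F) :
    T8_phi ρ k (Multiplicative.ofAdd v) =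
      Multiplicative.ofAdd (((ρ k : GL ι F) : Matrix ι ι F) *ᵥ v) := rfl

theorem T8_pow (ρ : K →* GL ι F) (k : K) (v : ι → F) (j : ℕ) :
    ((⟨Multiplicative.ofAdd v, k⟩ : Multiplicative (ι → F) ⋊[T8_phi ρ] K) ^ j) =
      ⟨Multiplicative.ofAdd ((∑ i ∈ Finset.range j, ((ρ k : GL ι F) : Matrix ι ι F) ^ i) *ᵥ v),
        k ^ j⟩ := by
  induction j with
  | zero =>
    rw [pow_zero]
    apply SemidirectProduct.ext
    · simp
    · simp
  | succ j ih =>
    rw [pow_succ, ih]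
    apply SemidirectProduct.ext
    · rw [SemidirectProduct.mul_left]
      simp only
      rw [T8_phi_apply, Finset.sum_range_succ, Matrix.add_mulVec, ofAdd_add, map_pow,
        Units.val_pow_eq_pow_val]
    · rw [SemidirectProduct.mul_right, pow_succ]

theorem T8_orderOf (ρ : K →* GL ι F) (k : K) (hk : orderOf k ≠ 0) (v : ι → F) :
    orderOf (⟨Multiplicative.ofAdd v, k⟩ : Multiplicative (ι → F) ⋊[T8_phi ρ] K) =
      addOrderOf ((∑ i ∈ Finset.range (orderOf k), ((ρ k : GL ι F) : Matrix ι ι F) ^ i) *ᵥ v) *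
        orderOf k := by
  have := T8_orderOf_eq_mul (⟨Multiplicative.ofAdd v, k⟩ : Multiplicative (ι → F) ⋊[T8_phi ρ] K)
    (Multiplicative.ofAdd
      ((∑ i ∈ Finset.range (orderOf k), ((ρ k : GL ι F) : Matrix ι ι F) ^ i) *ᵥ v)) hk (by
      show _ ^ orderOf k = _
      rw [T8_pow, pow_orderOf_eq_one]
      rfl)
  rw [this, orderOf_ofAdd_eq_addOrderOf]

end general

variable {F : Type u} [Field F] [Fintype F]

theorem T8_two_ne_zero (hodd : Odd (Fintype.card F)) : (2 : F) ≠ 0 := by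
  intro h
  have h1 : ((2 : ℕ) : F) = 0 := by exact_mod_cast h
  obtain ⟨p, hp⟩ := CharP.exists F
  have h3 := (CharP.cast_eq_zero_iff F p 2).mp h1
  have hpp : Fact p.Prime := ⟨CharP.char_is_prime F p⟩
  have hp2 : p = 2 := (Nat.prime_dvd_prime_iff_eq (Fact.out) Nat.prime_two).mp h3
  subst hp2
  obtain ⟨f, -, hf⟩ := FiniteField.card F 2
  rw [hf] at hodd
  have : Even (2 ^ (f : ℕ)) := (Nat.even_pow.mpr ⟨even_two, f.pos.ne'⟩)
  exact (Nat.not_odd_iff_even.mpr this) hodd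

theorem T8_isoTransport_injective {ι κ : Type} [Fintype ι] [DecidableEq ι] [Fintype κ] [DecidableEq κ]
    (Q₁ : (ι → F) → F) (Q₂ : (κ → F) → F)
    (C : (ι → F) ≃ₗ[F] (κ → F)) (hC : ∀ w, Q₂ (C w) = Q₁ w) :
    Function.Injective (isoTransport Q₁ Q₂ C hC) := by
  intro g h hgh
  apply Subtype.ext
  apply Units.ext
  apply Matrix.mulVec_injective
  funext v
  have h1 := isoTransport_mulVec Q₁ Q₂ C hC g (C v)
  have h2 := isoTransport_mulVec Q₁ Q₂ C hC h (C v)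
  rw [hgh, h2, LinearEquiv.symm_apply_apply] at h1
  exact (C.injective h1).symm

/-- the discriminant of an anisotropic binary form is not zero (odd characteristic) -/
theorem T8_disc_ne_zero (h2 : (2 : F) ≠ 0) (a b : F)
    (hab : ∀ z₁ z₂ : F, z₁ ^ 2 + a * z₁ * z₂ + b * z₂ ^ 2 = 0 → z₁ = 0 ∧ z₂ = 0) :
    a ^ 2 - 4 * b ≠ 0 := by
  intro h
  have h1 := hab a (-2) (by linear_combination (-1 : F) * h)
  exact h2 (by simpa using h1.2)

/-- non-degeneracy of the minus form in the shape of `OPair.ND` -/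
theorem T8_nd_minus (h2 : (2 : F) ≠ 0) (a b : F)
    (hab : ∀ z₁ z₂ : F, z₁ ^ 2 + a * z₁ * z₂ + b * z₂ ^ 2 = 0 → z₁ = 0 ∧ z₂ = 0) :
    ∀ x : (Fin 3 ⊕ Fin 3) ⊕ Fin 2 → F, (∀ y, polar (minusForm 3 F a b) x y = 0) → x = 0 := by
  intro x hx
  exact (nondegenerate_minusForm 3 a b (T8_disc_ne_zero h2 a b hab)).1 x hx

/-- (T8) route: `(v, g)^n = (Σ_{i<n} g^i v, g^n)` as in `Cfsg.Agent.S2516` (`orderOf_eq_mul`, `addOrderOf_eq_of_charP`);
`hasType_minus`, `exists_isometry_of_hasType`, (SIM*) -/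
theorem spec_rhs (hF : Odd (Fintype.card F)) (a b : F)
    (hab : ∀ z₁ z₂ : F, z₁ ^ 2 + a * z₁ * z₂ + b * z₂ ^ 2 = 0 → z₁ = 0 ∧ z₂ = 0) (N : ℕ) :
    N ∈ Set.range (orderOf :
        (Multiplicative (((Fin 3 ⊕ Fin 3) ⊕ Fin 2) → F)) ⋊[
          (MulAutMultiplicative (((Fin 3 ⊕ Fin 3) ⊕ Fin 2) → F)).symm.toMonoidHom.comp
           ((DistribMulAction.toAddAut (LinearMap.GeneralLinearGroup F (((Fin 3 ⊕ Fin 3) ⊕ Fin 2) → F))
              (((Fin 3 ⊕ Fin 3) ⊕ Fin 2) → F)).comp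
            (Matrix.GeneralLinearGroup.toLin.toMonoidHom.comp
              ((Cfsg.isometryGroup F (Cfsg.quadFormMinus 3 F a b)).subtype.comp
                (Cfsg.Omega F (Cfsg.quadFormMinus 3 F a b)).subtype)))]
          ↥(Cfsg.Omega F (Cfsg.quadFormMinus 3 F a b)) → ℕ) ↔
      (0 < N ∧ (EvR F 4 (-1) N ∨ AfR F 4 (-1) N)) := by
  classical
  have h2 := T8_two_ne_zero hF
  have hpp : Fact (ringChar F).Prime := ⟨CharP.char_is_prime F (ringChar F)⟩
  set ρ : ↥(Cfsg.Omega F (Cfsg.quadFormMinus 3 F a b)) →* GL ((Fin 3 ⊕ Fin 3) ⊕ Fin 2) F :=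
    (Cfsg.isometryGroup F (Cfsg.quadFormMinus 3 F a b)).subtype.comp
      (Cfsg.Omega F (Cfsg.quadFormMinus 3 F a b)).subtype with hρ
  have hnd₀ := T8_nd_minus h2 a b hab
  have hty₀ : HasType (⇑(minusForm 3 F a b)) 4 (-1) := hasType_minus 3 a b hab
  have hcard : Fintype.card ((Fin 3 ⊕ Fin 3) ⊕ Fin 2) = 2 * 4 := by simp
  have hord : ∀ (ω : ↥(Cfsg.Omega F (Cfsg.quadFormMinus 3 F a b))), orderOf ω ≠ 0 :=
    fun ω => (orderOf_pos ω).ne'
  constructor
  · rintro ⟨x, rfl⟩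
    obtain ⟨v, ω, rfl⟩ : ∃ (v : (Fin 3 ⊕ Fin 3) ⊕ Fin 2 → F)
        (ω : ↥(Cfsg.Omega F (Cfsg.quadFormMinus 3 F a b))),
        x = (⟨Multiplicative.ofAdd v, ω⟩ : Multiplicative (((Fin 3 ⊕ Fin 3) ⊕ Fin 2) → F) ⋊[T8_phi ρ] _) :=
      ⟨Multiplicative.toAdd x.left, x.right, rfl⟩
    have hO := T8_orderOf ρ ω (hord ω) v
    let P : OPair F := ⟨(Fin 3 ⊕ Fin 3) ⊕ Fin 2, minusForm 3 F a b, ω.1⟩
    have hPnd : P.ND := by
      rw [OPair.nd_def]
      exact hnd₀
    have hPty : P.Typ 4 (-1) := by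
      rw [OPair.typ_def, OPair.dim_def]
      exact ⟨hcard, hty₀⟩
    have hPom : P.InOm := by
      rw [OPair.inOm_def]
      exact ω.2
    have hPord : P.ord = orderOf ω := by
      rw [OPair.ord_def]
      exact Subgroup.orderOf_coe ω
    have hPM : P.M = ((ρ ω : GL ((Fin 3 ⊕ Fin 3) ⊕ Fin 2) F) : Matrix ((Fin 3 ⊕ Fin 3) ⊕ Fin 2) ((Fin 3 ⊕ Fin 3) ⊕ Fin 2) F) := by
      rw [OPair.M_def]
      rfl
    refine ⟨?_, ?_⟩
    · rw [hO]
      apply Nat.mul_pos _ (Nat.pos_of_ne_zero (hord ω))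
      exact addOrderOf_pos _
    · by_cases hs : (∑ i ∈ Finset.range (orderOf ω), ((ρ ω : GL ((Fin 3 ⊕ Fin 3) ⊕ Fin 2) F) : Matrix ((Fin 3 ⊕ Fin 3) ⊕ Fin 2) ((Fin 3 ⊕ Fin 3) ⊕ Fin 2) F) ^ i) *ᵥ v = 0
      · left
        refine ⟨P, hPnd, hPty, hPom, ?_⟩
        rw [hO, hs, addOrderOf_zero, one_mul, hPord]
      · right
        refine ⟨P, hPnd, hPty, hPom, ?_, ?_⟩
        · rw [OPair.aff_def, OPair.nrm_def, hPord, hPM]
          intro h0
          apply hs
          rw [h0, Matrix.zero_mulVec]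
        · rw [hO, T8_addOrderOf_eq_of_charP (F := F) (ringChar F) _ hs, hPord]
  · rintro ⟨hN, hcase⟩
    -- common part: transport a pair to the standard minus form
    have key : ∀ P : OPair F, P.ND → P.Typ 4 (-1) → P.InOm →
        ∃ ω : ↥(Cfsg.Omega F (Cfsg.quadFormMinus 3 F a b)), orderOf ω = P.ord ∧
          (P.Aff → ∃ v : (Fin 3 ⊕ Fin 3) ⊕ Fin 2 → F,
            (∑ i ∈ Finset.range (orderOf ω), ((ρ ω : GL ((Fin 3 ⊕ Fin 3) ⊕ Fin 2) F) : Matrix ((Fin 3 ⊕ Fin 3) ⊕ Fin 2) ((Fin 3 ⊕ Fin 3) ⊕ Fin 2) F) ^ i) *ᵥ v ≠ 0) := by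
      intro P hnd hty hom
      rw [OPair.nd_def] at hnd
      rw [OPair.typ_def, OPair.dim_def] at hty
      rw [OPair.inOm_def] at hom
      have hV : Module.finrank F (P.ι → F) = 2 * 4 := by
        rw [Module.finrank_fintype_fun_eq_card, hty.1]
      have hV' : Module.finrank F ((Fin 3 ⊕ Fin 3) ⊕ Fin 2 → F) = 2 * 4 := by
        rw [Module.finrank_fintype_fun_eq_card, hcard]
      obtain ⟨C, hC⟩ := exists_isometry_of_hasType P.Q (minusForm 3 F a b) hV hV' hnd hnd₀ hty.2 hty₀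
      let τ := isoTransport ⇑P.Q ⇑(minusForm 3 F a b) C hC
      have hτ : Function.Injective τ := T8_isoTransport_injective _ _ C hC
      let ω : ↥(Cfsg.Omega F (Cfsg.quadFormMinus 3 F a b)) := ⟨τ P.g, map_mem_commutator τ hom⟩
      have hω : orderOf ω = P.ord := by
        rw [OPair.ord_def, ← orderOf_injective τ hτ P.g]
        exact (Subgroup.orderOf_coe ω).symm
      refine ⟨ω, hω, ?_⟩
      intro haff
      rw [OPair.aff_def, OPair.nrm_def] at haff
      have hM : ((ρ ω : GL ((Fin 3 ⊕ Fin 3) ⊕ Fin 2) F) : Matrix ((Fin 3 ⊕ Fin 3) ⊕ Fin 2) ((Fin 3 ⊕ Fin 3) ⊕ Fin 2) F) = conjMatAlgEquiv C P.M := rfl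
      have hsum : (∑ i ∈ Finset.range (orderOf ω), ((ρ ω : GL ((Fin 3 ⊕ Fin 3) ⊕ Fin 2) F) : Matrix ((Fin 3 ⊕ Fin 3) ⊕ Fin 2) ((Fin 3 ⊕ Fin 3) ⊕ Fin 2) F) ^ i)
          = conjMatAlgEquiv C (∑ i ∈ Finset.range P.ord, P.M ^ i) := by
        rw [hω, hM, map_sum]
        apply Finset.sum_congr rfl
        intro i _
        rw [map_pow]
      rw [hsum]
      by_contra hcon
      push Not at hcon
      apply haff
      have h0 : conjMatAlgEquiv C (∑ i ∈ Finset.range P.ord, P.M ^ i) = 0 := by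
        apply Matrix.mulVec_injective
        funext v
        rw [hcon v, Matrix.zero_mulVec]
      exact (EmbeddingLike.map_eq_zero_iff (f := conjMatAlgEquiv C)).1 h0
    rcases hcase with ⟨P, hnd, hty, hom, hord'⟩ | ⟨P, hnd, hty, hom, haff, hord'⟩
    · obtain ⟨ω, hω, -⟩ := key P hnd hty hom
      refine ⟨(⟨Multiplicative.ofAdd 0, ω⟩ : Multiplicative (((Fin 3 ⊕ Fin 3) ⊕ Fin 2) → F) ⋊[T8_phi ρ] _), ?_⟩
      show orderOf _ = N
      rw [T8_orderOf ρ ω (hord ω) 0, Matrix.mulVec_zero, addOrderOf_zero, one_mul, hω, hord']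
    · obtain ⟨ω, hω, hv⟩ := key P hnd hty hom
      obtain ⟨v, hv⟩ := hv haff
      refine ⟨(⟨Multiplicative.ofAdd v, ω⟩ : Multiplicative (((Fin 3 ⊕ Fin 3) ⊕ Fin 2) → F) ⋊[T8_phi ρ] _), ?_⟩
      show orderOf _ = N
      rw [T8_orderOf ρ ω (hord ω) v, T8_addOrderOf_eq_of_charP (F := F) (ringChar F) _ hv, hω, hord']

end Cfsg.Agent.Helper48.O9
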