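import Mathlib
import Cfsg.Agent.Helper99.O9.Defs
import Cfsg.Agent.Helper99.PGBridge

set_option autoImplicit false
set_option linter.unusedSectionVars false
set_option linter.unusedVariables false

/-!
# S2517 piece (T9) `spec_lhs` for helper99 (farm #13715)

The element orders of `PΩ_9(q)` (statement side) are the `N` with `OmR F 9 N` (pairs side): the bridge
`mem_range_POmega_iff` of helper99's `PGBridge`, and every non-degenerate 9-dimensional form is similar to the
standard one (`exists_similarity_odd` of helper44), the isometry groups of `Q` and `a Q` being the same.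
-/

namespace Cfsg.Agent.Helper48.O9

open Matrix QuadraticMap Cfsg.Agent.Helper44 Cfsg.Agent.Helper44.QType Cfsg.Agent.Helper99.O9

universe u

variable {F : Type u} [Field F] [Fintype F]

theorem T9_two_ne_zero (hodd : Odd (Fintype.card F)) : (2 : F) ≠ 0 := by
  intro h
  have h1 : ((2 : ℕ) : F) = 0 := by exact_mod_cast h
  obtain ⟨p, hp⟩ := CharP.exists F
  have h3 := (CharP.cast_eq_zero_iff F p 2).mp h1
  have hpp : Fact p.Prime := ⟨CharP.char_is_prime F p⟩
  have hp2 : p = 2 := (Nat.prime_dvd_prime_iff_eq (Fact.out) Nat.prime_two).mp h3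
  subst hp2
  obtain ⟨f, -, hf⟩ := FiniteField.card F 2
  rw [hf] at hodd
  have : Even (2 ^ (f : ℕ)) := (Nat.even_pow.mpr ⟨even_two, f.pos.ne'⟩)
  exact (Nat.not_odd_iff_even.mpr this) hodd

theorem T9_isoTransport_injective {ι κ : Type} [Fintype ι] [DecidableEq ι] [Fintype κ] [DecidableEq κ]
    (Q₁ : (ι → F) → F) (Q₂ : (κ → F) → F)
    (C : (ι → F) ≃ₗ[F] (κ → F)) (hC : ∀ w, Q₂ (C w) = Q₁ w) :
    Function.Injective (isoTransport Q₁ Q₂ C hC) := by
  intro g h hgh
  apply Subtype.ext
  apply Units.ext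
  apply Matrix.mulVec_injective
  funext v
  have h1 := isoTransport_mulVec Q₁ Q₂ C hC g (C v)
  have h2 := isoTransport_mulVec Q₁ Q₂ C hC h (C v)
  rw [hgh, h2, LinearEquiv.symm_apply_apply] at h1
  exact (C.injective h1).symm

/-- (T9) route: `mem_range_POmega_iff` of helper99's `PGBridge`, `exists_similarity_odd` + `mem_isometryGroup_smul_iff` of
helper44's `OrthOddA`, `nondeg_oddForm`; the isometry groups of `Q` and `a Q` are the same subgroup of `GL` -/
theorem spec_lhs (hF : Odd (Fintype.card F)) (N : ℕ) :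
    N ∈ Set.range (orderOf : Cfsg.POmega F (Cfsg.quadFormOdd 4 F) → ℕ) ↔ OmR F 9 N := by
  have h2 := T9_two_ne_zero hF
  rw [Cfsg.Agent.Helper99.PG.mem_range_POmega_iff h2 4 (by norm_num) N]
  constructor
  · rintro ⟨x, hx, hN⟩
    refine ⟨⟨Unit ⊕ (Fin 4 ⊕ Fin 4), oddForm 4 F, x⟩, ?_, ?_, ?_, ?_⟩
    · rw [OPair.dim_def]
      simp
    · rw [OPair.nd_def]
      exact nondeg_oddForm h2 4
    · rw [OPair.inOm_def]
      exact hx
    · rw [OPair.ord_def]
      exact hN
  · rintro ⟨P, hdim, hnd, hom, hord⟩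
    rw [OPair.nd_def] at hnd
    have hV : Module.finrank F (P.ι → F) = 2 * 4 + 1 := by
      rw [Module.finrank_fintype_fun_eq_card, ← OPair.dim_def, hdim]
    obtain ⟨a, C, ha, hC⟩ := exists_similarity_odd P.Q hV hnd
    have hC' : ∀ w, (fun v => a * Cfsg.quadFormOdd 4 F v) (C w) = P.Q w := hC
    have hle : Cfsg.isometryGroup F (fun v => a * Cfsg.quadFormOdd 4 F v) ≤
        Cfsg.isometryGroup F (Cfsg.quadFormOdd 4 F) :=
      fun g hg => (mem_isometryGroup_smul_iff _ a ha g).1 hg
    let φ : ↥(Cfsg.isometryGroup F ⇑P.Q) →* ↥(Cfsg.isometryGroup F (Cfsg.quadFormOdd 4 F)) :=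
      (Subgroup.inclusion hle).comp
        (isoTransport ⇑P.Q (fun v => a * Cfsg.quadFormOdd 4 F v) C hC')
    have hφ : Function.Injective φ :=
      (Subgroup.inclusion_injective hle).comp (T9_isoTransport_injective _ _ C hC')
    refine ⟨φ P.g, ?_, ?_⟩
    · rw [OPair.inOm_def] at hom
      exact map_mem_commutator φ hom
    · rw [orderOf_injective φ hφ, ← OPair.ord_def, hord]

end Cfsg.Agent.Helper48.O9
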