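import Mathlib

/-!
# (OB1) for S2607/S2608 (helper5): a `D₈`-kernel with cyclic quotient and a section centralising
a four-group splits as `D₈ × C_f`.
-/

set_option autoImplicit false

namespace Cfsg.Agent.Helper48.OutPlusOB1

open Subgroup

/-! ### Facts on `D₈` -/

theorem d8_noncomm : (DihedralGroup.r 1 : DihedralGroup 4) * DihedralGroup.sr 0 ≠
    DihedralGroup.sr 0 * DihedralGroup.r 1 := by decide

theorem d8_center_unique : ∀ z1 z2 : DihedralGroup 4, (∀ x, z1 * x = x * z1) →
    (∀ x, z2 * x = x * z2) → z1 ≠ 1 → z2 ≠ 1 → z1 = z2 := by decide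

/-! ### An automorphism of a `D₈`-like group fixing a four-group pointwise is conjugation by an
element of the four-group -/

theorem aut_eq_conj {K : Type*} [Group K] (hK8 : Nat.card K = 8)
    (hnonab : ∃ x y : K, x * y ≠ y * x)
    (hZ : ∀ z1 z2 : K, (∀ x, z1 * x = x * z1) → (∀ x, z2 * x = x * z2) → z1 ≠ 1 → z2 ≠ 1 →
      z1 = z2)
    (V : Subgroup K) (hV4 : Nat.card V = 4) (hV2 : ∀ v ∈ V, v * v = 1)
    (α : K ≃* K) (hα : ∀ v ∈ V, α v = v) :
    ∃ a ∈ V, (∀ k, α k = a * k * a⁻¹) ∧ (a = 1 ∨ ∃ k, a * k ≠ k * a) := by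
  have hVi : V.index = 2 := by
    have := V.card_mul_index
    rw [hV4, hK8] at this
    omega
  have hinv : ∀ v ∈ V, v⁻¹ = v := fun v hv => inv_eq_of_mul_eq_one_left (hV2 v hv)
  have hVcomm : ∀ u ∈ V, ∀ w ∈ V, u * w = w * u := by
    intro u hu w hw
    have h1 : u * w = (u * w)⁻¹ := (hinv _ (V.mul_mem hu hw)).symm
    rw [h1, mul_inv_rev, hinv u hu, hinv w hw]
  obtain ⟨g, hg⟩ : ∃ g, g ∉ V := by
    by_contra h
    push Not at h
    have : V = ⊤ := (Subgroup.eq_top_iff' V).2 h
    rw [this, Subgroup.index_top] at hVi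
    omega
  have hdec : ∀ k, k ∈ V ∨ g⁻¹ * k ∈ V := by
    intro k
    by_cases hk : k ∈ V
    · exact Or.inl hk
    · right
      rw [Subgroup.mul_mem_iff_of_index_two hVi]
      simp [hk, hg]
  have hgen : ∀ H : Subgroup K, V ≤ H → g ∈ H → H = ⊤ := by
    intro H hVH hgH
    refine (Subgroup.eq_top_iff' H).2 fun k => ?_
    rcases hdec k with hk | hk
    · exact hVH hk
    · have := H.mul_mem hgH (hVH hk)
      simpa using this
  have hcentr : ∀ w : K, (∀ u ∈ V, w * u = u * w) → w * g = g * w → ∀ x, w * x = x * w := by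
    intro w hwV hwg x
    have htop : Subgroup.centralizer {w} = ⊤ := hgen _
      (fun u hu => by
        rw [Subgroup.mem_centralizer_iff]
        intro y hy
        rw [Set.mem_singleton_iff] at hy
        subst hy
        exact hwV u hu)
      (by
        rw [Subgroup.mem_centralizer_iff]
        intro y hy
        rw [Set.mem_singleton_iff] at hy
        subst hy
        exact hwg)
    have hx : x ∈ Subgroup.centralizer {w} := by rw [htop]; trivial
    exact Subgroup.mem_centralizer_iff.1 hx w rfl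
  -- Lemma L
  have hL : ∀ β : K ≃* K, (∀ v ∈ V, β v = v) →
      g⁻¹ * β g ∈ V ∧ ∀ x, (g⁻¹ * β g) * x = x * (g⁻¹ * β g) := by
    intro β hβ
    have hβg : β g ∉ V := by
      intro h
      have h1 := hβ _ h
      have h2 : β g = g := β.injective h1
      exact hg (h2 ▸ h)
    have hw : g⁻¹ * β g ∈ V := by
      rw [Subgroup.mul_mem_iff_of_index_two hVi]
      simp [hβg, hg]
    refine ⟨hw, ?_⟩
    set w := g⁻¹ * β g with hwdef
    have hβg' : β g = g * w := by rw [hwdef]; group
    have hgg : g * g ∈ V := Subgroup.mul_self_mem_of_index_two hVi g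
    have h1 : β (g * g) = g * g := hβ _ hgg
    rw [map_mul, hβg'] at h1
    have h2 : w * g = g * w := by
      have h3 : w * g * w = g := by
        have h4 : g * (w * g * w) = g * g := by rw [← h1]; group
        exact mul_left_cancel h4
      calc w * g = w * g * w * w⁻¹ := by group
        _ = g * w⁻¹ := by rw [h3]
        _ = g * w := by rw [hinv w hw]
    exact hcentr w (fun u hu => hVcomm w hw u hu) h2
  have hfin : ∀ a ∈ V, α g = a * g * a⁻¹ → ∀ k, α k = a * k * a⁻¹ := by
    intro a ha hga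
    have htop : MonoidHom.eqLocus α.toMonoidHom (MulAut.conj a).toMonoidHom = ⊤ := by
      refine hgen _ (fun u hu => ?_) ?_
      · show α u = a * u * a⁻¹
        rw [hα u hu, hVcomm a ha u hu]; group
      · show α g = a * g * a⁻¹
        exact hga
    intro k
    have hk : k ∈ MonoidHom.eqLocus α.toMonoidHom (MulAut.conj a).toMonoidHom := by
      rw [htop]; trivial
    exact hk
  obtain ⟨hv, hvc⟩ := hL α hα
  set v := g⁻¹ * α g with hvdef
  have hαg : α g = g * v := by rw [hvdef]; group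
  by_cases hv1 : v = 1
  · refine ⟨1, V.one_mem, hfin 1 V.one_mem (by rw [hαg, hv1]; group), Or.inl rfl⟩
  · -- a non-central element of V
    obtain ⟨a, haV, hag⟩ : ∃ a ∈ V, a * g ≠ g * a := by
      by_contra hcon
      push Not at hcon
      obtain ⟨x, y, hxy⟩ := hnonab
      have hgc : ∀ y, g * y = y * g :=
        hcentr g (fun u hu => (hcon u hu).symm) rfl
      have hVc : ∀ u ∈ V, ∀ y, u * y = y * u := fun u hu =>
        hcentr u (fun u' hu' => hVcomm u hu u' hu') (hcon u hu)
      exact hxy (hcentr x (fun u hu => (hVc u hu x).symm) (hgc x).symm y)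
    have hβ : ∀ u ∈ V, (MulAut.conj a) u = u := by
      intro u hu
      rw [MulAut.conj_apply, hVcomm a haV u hu]; group
    obtain ⟨hz, hzc⟩ := hL (MulAut.conj a) hβ
    rw [MulAut.conj_apply] at hz hzc
    have hz1 : g⁻¹ * (a * g * a⁻¹) ≠ 1 := by
      intro h
      apply hag
      have h2 : a * g * a⁻¹ = g := by
        have := congrArg (fun t => g * t) h
        simpa using this
      calc a * g = a * g * a⁻¹ * a := by group
        _ = g * a := by rw [h2]
    have hvz : v = g⁻¹ * (a * g * a⁻¹) := hZ _ _ hvc hzc hv1 hz1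
    refine ⟨a, haV, hfin a haV ?_, Or.inr ⟨g, hag⟩⟩
    rw [hαg, hvz]; group

/-! ### Splitting off a centralising section -/

theorem nonempty_mulEquiv_ker_prod_of_centralising_section {G C : Type*} [Group G] [Group C]
    (t : G →* C) (s : C →* G) (hts : ∀ c, t (s c) = c)
    (hcomm : ∀ c, ∀ k ∈ t.ker, s c * k = k * s c) :
    Nonempty (G ≃* ↥t.ker × C) := by
  let φ : ↥t.ker × C →* G :=
    { toFun := fun x => (x.1 : G) * s x.2
      map_one' := by simp
      map_mul' := by
        rintro ⟨k1, c1⟩ ⟨k2, c2⟩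
        have h := hcomm c1 (k2 : G) k2.2
        simp only [Prod.mk_mul_mk, Subgroup.coe_mul, map_mul]
        calc (k1 : G) * k2 * (s c1 * s c2) = k1 * (k2 * s c1) * s c2 := by group
          _ = k1 * (s c1 * k2) * s c2 := by rw [h]
          _ = k1 * s c1 * (k2 * s c2) := by group }
  have hinj : Function.Injective φ := by
    rw [injective_iff_map_eq_one]
    rintro ⟨k, c⟩ h
    have h1 : (k : G) * s c = 1 := h
    have h2 : c = 1 := by
      have := congrArg t h1
      rw [map_mul, hts, MonoidHom.mem_ker.1 k.2, one_mul, map_one] at this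
      exact this
    have h3 : (k : G) = 1 := by rw [h2, map_one, mul_one] at h1; exact h1
    exact Prod.ext (Subtype.ext h3) h2
  have hsurj : Function.Surjective φ := by
    intro g
    have hk : g * (s (t g))⁻¹ ∈ t.ker := by
      rw [MonoidHom.mem_ker, map_mul, map_inv, hts, mul_inv_cancel]
    exact ⟨(⟨g * (s (t g))⁻¹, hk⟩, t g), by show g * (s (t g))⁻¹ * s (t g) = g; group⟩
  exact ⟨(MulEquiv.ofBijective φ ⟨hinj, hsurj⟩).symm⟩

/-- (OB1) -/
theorem nonempty_mulEquiv_dihedral_prod_of_klein {G C : Type*} [Group G] [Group C] [IsCyclic C]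
    (t : G →* C) (s : C →* G) (hts : ∀ c, t (s c) = c)
    (e : ↥t.ker ≃* DihedralGroup 4)
    (V : Subgroup G) (hVK : V ≤ t.ker) (hV4 : Nat.card V = 4) (hV2 : ∀ v ∈ V, v * v = 1)
    (hcent : ∀ (c : C), ∀ v ∈ V, s c * v = v * s c)
    {f : ℕ} (hf : 0 < f) (hC : Nat.card C = f) :
    Nonempty (G ≃* DihedralGroup 4 × Multiplicative (ZMod f)) := by
  obtain ⟨c0, hc0⟩ := IsCyclic.exists_generator (α := C)
  have hK8 : Nat.card ↥t.ker = 8 := by rw [Nat.card_congr e.toEquiv, DihedralGroup.nat_card]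
  have hnonab : ∃ x y : ↥t.ker, x * y ≠ y * x :=
    ⟨e.symm (DihedralGroup.r 1), e.symm (DihedralGroup.sr 0), fun h =>
      d8_noncomm (by simpa using congrArg e h)⟩
  have hZ : ∀ z1 z2 : ↥t.ker, (∀ x, z1 * x = x * z1) → (∀ x, z2 * x = x * z2) → z1 ≠ 1 →
      z2 ≠ 1 → z1 = z2 := by
    intro z1 z2 h1 h2 hz1 hz2
    apply e.injective
    refine d8_center_unique (e z1) (e z2) (fun x => ?_) (fun x => ?_) ?_ ?_
    · have := congrArg e (h1 (e.symm x)); simpa using this
    · have := congrArg e (h2 (e.symm x)); simpa using this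
    · intro h; exact hz1 (e.injective (by rw [h, map_one]))
    · intro h; exact hz2 (e.injective (by rw [h, map_one]))
  have hVK4 : Nat.card ↥(V.subgroupOf t.ker) = 4 := by
    rw [Nat.card_congr (Subgroup.subgroupOfEquivOfLe hVK).toEquiv, hV4]
  have hVK2 : ∀ v ∈ V.subgroupOf t.ker, v * v = 1 := by
    intro v hv
    exact Subtype.ext (hV2 (v : G) (Subgroup.mem_subgroupOf.1 hv))
  have hα : ∀ v ∈ V.subgroupOf t.ker, (MulAut.conjNormal (s c0) : MulAut ↥t.ker) v = v := by
    intro v hv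
    apply Subtype.ext
    rw [MulAut.conjNormal_apply, hcent c0 (v : G) (Subgroup.mem_subgroupOf.1 hv)]
    group
  obtain ⟨a', ha'V, ha'conj, ha'nc⟩ := aut_eq_conj hK8 hnonab hZ (V.subgroupOf t.ker) hVK4 hVK2
    (MulAut.conjNormal (s c0) : MulAut ↥t.ker) hα
  have haV : (a' : G) ∈ V := Subgroup.mem_subgroupOf.1 ha'V
  have haa : (a' : G) * a' = 1 := hV2 _ haV
  have hainv : (a' : G)⁻¹ = a' := inv_eq_of_mul_eq_one_left haa
  have hconj : ∀ k ∈ t.ker, s c0 * k * (s c0)⁻¹ = (a' : G) * k * (a' : G)⁻¹ := by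
    intro k hk
    have := congrArg Subtype.val (ha'conj ⟨k, hk⟩)
    rw [MulAut.conjNormal_apply] at this
    simpa using this
  -- the corrected generator
  set σ1 : G := s c0 * a' with hσ1
  have hσ1c : ∀ k ∈ t.ker, σ1 * k = k * σ1 := by
    intro k hk
    have hk' : (a' : G) * k * (a' : G)⁻¹ ∈ t.ker :=
      (MonoidHom.normal_ker t).conj_mem k hk a'
    have h1 := hconj _ hk'
    -- s c0 * (a k a⁻¹) * (s c0)⁻¹ = a (a k a⁻¹) a⁻¹ = k
    have h2 : s c0 * ((a' : G) * k * (a' : G)⁻¹) * (s c0)⁻¹ = k := by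
      rw [h1, hainv]
      calc (a' : G) * (a' * k * a') * a' = (a' * a') * k * (a' * a') := by group
        _ = k := by rw [haa, one_mul, mul_one]
    rw [hσ1]
    calc s c0 * a' * k = s c0 * ((a' : G) * k * (a' : G)⁻¹) * (s c0)⁻¹ * (s c0 * a') := by group
      _ = k * (s c0 * a') := by rw [h2]
  have hcomm0 : Commute (s c0) (a' : G) := hcent c0 _ haV
  have hc0f : c0 ^ f = 1 := by rw [← hC]; exact pow_card_eq_one'
  have hσ1f : σ1 ^ f = (a' : G) ^ f := by
    rw [hσ1, hcomm0.mul_pow, ← map_pow, hc0f, map_one, one_mul]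
  have haf : (a' : G) ^ f = 1 := by
    rcases Nat.even_or_odd' f with ⟨m, hm | hm⟩
    · rw [hm, pow_mul, pow_two, haa, one_pow]
    · have h1 : (a' : G) ^ f = a' := by
        rw [hm, pow_succ, pow_mul, pow_two, haa, one_pow, one_mul]
      rcases ha'nc with h | ⟨k, hk⟩
      · rw [h]; simp
      · exfalso
        apply hk
        apply Subtype.ext
        have h2 : σ1 ^ f * (k : G) = k * σ1 ^ f :=
          (Commute.pow_left (hσ1c (k : G) k.2) f)
        rw [hσ1f, h1] at h2
        exact h2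
  have hσ1ord : orderOf σ1 ∣ orderOf c0 := by
    have h1 : orderOf c0 = f := by rw [orderOf_eq_card_of_forall_mem_zpowers hc0, hC]
    rw [h1]
    exact orderOf_dvd_of_pow_eq_one (by rw [hσ1f, haf])
  let s' : C →* G := monoidHomOfForallMemZpowers hc0 hσ1ord
  have hs'c0 : s' c0 = σ1 := monoidHomOfForallMemZpowers_apply_gen hc0 hσ1ord
  have htσ1 : t σ1 = c0 := by
    rw [hσ1, map_mul, hts, MonoidHom.mem_ker.1 (hVK haV), mul_one]
  have hs'pow : ∀ c : C, ∃ j : ℤ, c = c0 ^ j ∧ s' c = σ1 ^ j := by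
    intro c
    obtain ⟨j, hj⟩ := Subgroup.mem_zpowers_iff.1 (hc0 c)
    exact ⟨j, hj.symm, by rw [← hj, map_zpow, hs'c0]⟩
  have hts' : ∀ c, t (s' c) = c := by
    intro c
    obtain ⟨j, hj, hj'⟩ := hs'pow c
    rw [hj', map_zpow, htσ1, hj]
  have hcomm' : ∀ c, ∀ k ∈ t.ker, s' c * k = k * s' c := by
    intro c k hk
    obtain ⟨j, _, hj'⟩ := hs'pow c
    rw [hj']
    exact (Commute.zpow_left (hσ1c k hk) j)
  obtain ⟨ψ⟩ := nonempty_mulEquiv_ker_prod_of_centralising_section t s' hts' hcomm'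
  subst hC
  exact ⟨ψ.trans (MulEquiv.prodCongr e (zmodCyclicMulEquiv (inferInstance : IsCyclic C)).symm)⟩

end Cfsg.Agent.Helper48.OutPlusOB1
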