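import Mathlib
import Cfsg.Prelude.Def_LocalEven
import Cfsg.Agent.Lib.Cores
import Cfsg.Agent.Helper2.Residual
import Cfsg.Agent.Helper9.Wielandt
import Cfsg.Agent.Helper91.Subnormal
import Cfsg.Agent.Helper49.RConj
import Cfsg.Agent.Helper48.CoprimeGen

set_option autoImplicit false

/-!
# `p`-minimal groups (helper48)

`P` is `p`-minimal when a Sylow `p`-subgroup `S` is not normal and lies in a unique maximal subgroup
`M`.  With `F = core_P(M)`:
* `le_of_sylow_le` : every proper subgroup containing `S` lies in `M`;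
* `pResidual_le_or_le_core` : a normal subgroup contains `O^p(P)` or lies in `F`;
* `core_inf_sylow_normal` : `F ∩ S ⊴ P`;
* `le_core_of_isSubnormal` : a subnormal subgroup of `P` contained in `M` lies in `F`.
-/

namespace Cfsg.Agent.Helper48

open Cfsg
open scoped Pointwise

section general

variable {G : Type*} [Group G] {p : ℕ}

/-- If `N ⊴ G` and `G = N A` with `A` a `p`-group then `G ⧸ N` is a `p`-group. -/
theorem isPGroup_quotient_of_sup_eq_top (N : Subgroup G) [N.Normal] (A : Subgroup G)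
    (hA : IsPGroup p A) (h : N ⊔ A = ⊤) : IsPGroup p (G ⧸ N) := by
  apply hA.of_surjective ((QuotientGroup.mk' N).comp A.subtype)
  intro q
  obtain ⟨g, rfl⟩ := QuotientGroup.mk'_surjective N q
  have hg : g ∈ ((N ⊔ A : Subgroup G) : Set G) := by rw [h]; exact Set.mem_univ g
  rw [Subgroup.normal_mul, Set.mem_mul] at hg
  obtain ⟨n, hn, a, ha, rfl⟩ := hg
  refine ⟨⟨a, ha⟩, ?_⟩
  simp only [MonoidHom.coe_comp, Function.comp_apply, Subgroup.coe_subtype, map_mul]
  have : QuotientGroup.mk' N n = 1 := (QuotientGroup.eq_one_iff n).mpr hn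
  rw [this, one_mul]

end general

section pmin

variable {P : Type*} [Group P] [Finite P] {p : ℕ} [Fact p.Prime]

/-- every proper subgroup containing `S` lies in the unique maximal subgroup `M ⊇ S`. -/
theorem le_of_sylow_le (hP : Cfsg.IsPMinimal p P) (S : Sylow p P) {M : Subgroup P}
    (hM : IsCoatom M) (hSM : (S : Subgroup P) ≤ M) {X : Subgroup P}
    (hSX : (S : Subgroup P) ≤ X) (hX : X ≠ ⊤) : X ≤ M := by
  obtain ⟨M', hM', hXM'⟩ := (eq_top_or_exists_le_coatom X).resolve_left hX
  obtain ⟨-, M₀, -, huniq⟩ := hP S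
  have h1 : M' = M₀ := huniq M' ⟨hM', hSX.trans hXM'⟩
  have h2 : M = M₀ := huniq M ⟨hM, hSM⟩
  rw [h2, ← h1]
  exact hXM'

/-- a subgroup containing `S` and not contained in `M` is everything. -/
theorem eq_top_of_not_le (hP : Cfsg.IsPMinimal p P) (S : Sylow p P) {M : Subgroup P}
    (hM : IsCoatom M) (hSM : (S : Subgroup P) ≤ M) {X : Subgroup P}
    (hSX : (S : Subgroup P) ≤ X) (hX : ¬ X ≤ M) : X = ⊤ := by
  by_contra h
  exact hX (le_of_sylow_le hP S hM hSM hSX h)

/-- a normal subgroup of a `p`-minimal group contains `O^p(P)` or lies in the core of `M`. -/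
theorem pResidual_le_or_le_core (hP : Cfsg.IsPMinimal p P) (S : Sylow p P) {M : Subgroup P}
    (hM : IsCoatom M) (hSM : (S : Subgroup P) ≤ M) (N : Subgroup P) (hN : N.Normal) :
    Cfsg.pResidual p P ≤ N ∨ N ≤ M.normalCore := by
  by_cases hNM : N ≤ M
  · right
    exact (Subgroup.normal_le_normalCore (H := M) (N := N)).mpr hNM
  · left
    have htop : N ⊔ (S : Subgroup P) = ⊤ :=
      eq_top_of_not_le hP S hM hSM le_sup_right (fun h => hNM (le_sup_left.trans h))
    exact Cfsg.Agent.Lib.pResidual_le_of_isPGroup_quotient N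
      (isPGroup_quotient_of_sup_eq_top N S S.isPGroup' htop)

/-- `O^p(P)` is not contained in `M`. -/
theorem pResidual_not_le (S : Sylow p P) {M : Subgroup P}
    (hM : IsCoatom M) (hSM : (S : Subgroup P) ≤ M) : ¬ Cfsg.pResidual p P ≤ M := by
  intro h
  apply hM.1
  rw [eq_top_iff, ← Cfsg.Agent.Helper2.pResidual_sup_sylow_eq_top S]
  exact sup_le h hSM

/-- `core_P(M) ∩ S` is normal in `P`. -/
theorem core_inf_sylow_normal (hP : Cfsg.IsPMinimal p P) (S : Sylow p P) {M : Subgroup P}
    (hM : IsCoatom M) (hSM : (S : Subgroup P) ≤ M) :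
    ((S : Subgroup P) ⊓ M.normalCore).Normal := by
  set F : Subgroup P := M.normalCore with hF
  have hFn : F.Normal := Subgroup.normalCore_normal M
  have hsyl : Cfsg.Agent.Helper49.IsSylowOf p ((S : Subgroup P) ⊓ F) F :=
    (Cfsg.Agent.Helper49.isSylowOf_top S).inf_of_normal le_top (by
      have : F.subgroupOf ⊤ = F.comap (⊤ : Subgroup P).subtype := rfl
      rw [this]
      infer_instance)
  have hfrat := Sylow.normalizer_sup_eq_top hsyl.toSylow
  rw [hsyl.map_toSylow] at hfrat
  -- `S` normalizes `S ∩ F`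
  have hSN : (S : Subgroup P) ≤ Subgroup.normalizer (((S : Subgroup P) ⊓ F : Subgroup P) : Set P) := by
    apply mem_normalizer_of_forall_conj_mem
    intro a ha x hx
    exact Subgroup.mem_inf.mpr ⟨Subgroup.mul_mem _ (Subgroup.mul_mem _ ha hx.1)
      (Subgroup.inv_mem _ ha), hFn.conj_mem x hx.2 a⟩
  have htop : Subgroup.normalizer (((S : Subgroup P) ⊓ F : Subgroup P) : Set P) = ⊤ := by
    by_contra hne
    have hle := le_of_sylow_le hP S hM hSM hSN hne
    apply hM.1
    rw [eq_top_iff, ← hfrat]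
    exact sup_le hle (Subgroup.normalCore_le M)
  exact Subgroup.normalizer_eq_top_iff.mp htop

/-- an `S`-invariant subnormal subgroup of `P` contained in `M` lies in the core of `M`. -/
theorem le_core_of_isSubnormal_of_invariant (hP : Cfsg.IsPMinimal p P) (S : Sylow p P)
    {M : Subgroup P} (hM : IsCoatom M) (hSM : (S : Subgroup P) ≤ M) {N : Subgroup P}
    (hN : N.IsSubnormal) (hNM : N ≤ M)
    (hSN : (S : Subgroup P) ≤ Subgroup.normalizer (N : Set P)) : N ≤ M.normalCore := by
  set Nh : Subgroup P := Subgroup.normalClosure (N : Set P) with hNh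
  have hNNh : N ≤ Nh := Subgroup.le_normalClosure
  have hNhn : Nh.Normal := Subgroup.normalClosure_normal
  by_cases hNhM : Nh ≤ M
  · exact hNNh.trans ((Subgroup.normal_le_normalCore (H := M) (N := Nh)).mpr hNhM)
  · exfalso
    have htop : Nh ⊔ (S : Subgroup P) = ⊤ :=
      eq_top_of_not_le hP S hM hSM le_sup_right (fun h => hNhM (le_sup_left.trans h))
    have hne : N ≠ Nh := fun h => hNhM (h ▸ hNM)
    have hrel : Cfsg.Agent.Helper91.RelSN N Nh :=
      (Cfsg.Agent.Helper91.relSN_top_iff.mpr hN).mono hNNh le_top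
    obtain ⟨K, hNK, hKlt, hNhK, -⟩ := hrel.exists_normal hne
    -- the `S`-core of `K`
    set K₀ : Subgroup P := ⨅ s : (S : Subgroup P), MulAut.conj (s : P) • K with hK₀
    have hK₀K : K₀ ≤ K := by
      have := iInf_le (fun s : (S : Subgroup P) => MulAut.conj (s : P) • K) 1
      simpa using this
    have hNK₀ : N ≤ K₀ := by
      rw [hK₀]
      apply le_iInf
      intro s x hx
      rw [Subgroup.mem_pointwise_smul_iff_inv_smul_mem]
      apply hNK
      have hs : (s : P)⁻¹ ∈ Subgroup.normalizer (N : Set P) := Subgroup.inv_mem _ (hSN s.2)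
      have := (Subgroup.mem_normalizer_iff.mp hs x).mp hx
      simpa [MulAut.smul_def] using this
    -- `K₀` is normalized by `S` and by `Nh`
    have hmemK₀ : ∀ x : P, x ∈ K₀ ↔ ∀ s : (S : Subgroup P), (s : P)⁻¹ * x * (s : P) ∈ K := by
      intro x
      rw [hK₀, Subgroup.mem_iInf]
      apply forall_congr'
      intro s
      rw [Subgroup.mem_pointwise_smul_iff_inv_smul_mem]
      simp [MulAut.smul_def]
    have hnormS : ∀ t ∈ (S : Subgroup P), ∀ x ∈ K₀, t * x * t⁻¹ ∈ K₀ := by
      intro t ht x hx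
      rw [hmemK₀] at hx ⊢
      intro s
      have h1 : (t⁻¹ * (s : P))⁻¹ * x * (t⁻¹ * (s : P)) ∈ K :=
        hx ⟨t⁻¹ * s, Subgroup.mul_mem _ (Subgroup.inv_mem _ ht) s.2⟩
      have e : ((t⁻¹ * (s : P))⁻¹ * x * (t⁻¹ * (s : P))) = (s : P)⁻¹ * (t * x * t⁻¹) * (s : P) := by
        group
      rwa [e] at h1
    have hnormNh : ∀ n ∈ Nh, ∀ x ∈ K₀, n * x * n⁻¹ ∈ K₀ := by
      intro n hn x hx
      rw [hmemK₀] at hx ⊢
      intro s
      have hn' : (s : P)⁻¹ * n * (s : P) ∈ Nh := by
        have := hNhn.conj_mem n hn (s : P)⁻¹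
        simpa using this
      have h1 := (Subgroup.mem_normalizer_iff.mp (hNhK hn') _).mp (hx s)
      have e : (s : P)⁻¹ * n * (s : P) * ((s : P)⁻¹ * x * (s : P)) * ((s : P)⁻¹ * n * (s : P))⁻¹ =
          (s : P)⁻¹ * (n * x * n⁻¹) * (s : P) := by group
      rwa [e] at h1
    have hK₀n : K₀.Normal := by
      rw [← Subgroup.normalizer_eq_top_iff, eq_top_iff, ← htop]
      exact sup_le (mem_normalizer_of_forall_conj_mem hnormNh)
        (mem_normalizer_of_forall_conj_mem hnormS)
    have hle : Nh ≤ K₀ := Subgroup.normalClosure_le_normal hNK₀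
    exact absurd (hle.trans hK₀K) (not_le_of_gt hKlt)

/-- a conjugate of a subnormal subgroup is subnormal. -/
theorem isSubnormal_conj_smul {G : Type*} [Group G] {N : Subgroup G} (hN : N.IsSubnormal) (g : G) :
    (MulAut.conj g • N).IsSubnormal := by
  have h1 := Cfsg.Agent.Helper91.relSN_top_iff.mpr hN
  have h2 := h1.smul g
  have h3 : MulAut.conj g • (⊤ : Subgroup G) = ⊤ := by
    rw [eq_top_iff]
    intro x _
    rw [Subgroup.mem_pointwise_smul_iff_inv_smul_mem]
    exact Subgroup.mem_top _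
  rw [h3] at h2
  exact Cfsg.Agent.Helper91.relSN_top_iff.mp h2

/-- a subnormal subgroup of `P` contained in `M` lies in the core of `M`. -/
theorem le_core_of_isSubnormal (hP : Cfsg.IsPMinimal p P) (S : Sylow p P)
    {M : Subgroup P} (hM : IsCoatom M) (hSM : (S : Subgroup P) ≤ M) {N : Subgroup P}
    (hN : N.IsSubnormal) (hNM : N ≤ M) : N ≤ M.normalCore := by
  set f : ↥(S : Subgroup P) → Subgroup P := fun s => MulAut.conj (s : P) • N with hf
  set N₀ : Subgroup P := ⨆ s, f s with hN₀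
  have hsub : N₀.IsSubnormal := by
    have : N₀ = sSup (Set.range f) := rfl
    rw [this]
    apply Cfsg.Agent.Helper9.isSubnormal_sSup
    rintro _ ⟨s, rfl⟩
    exact isSubnormal_conj_smul hN _
  have hNN₀ : N ≤ N₀ := by
    have h1 : f 1 ≤ N₀ := le_iSup f 1
    have h2 : f 1 = N := by simp [hf]
    rwa [h2] at h1
  have hN₀M : N₀ ≤ M := by
    apply iSup_le
    intro s x hx
    rw [hf, Subgroup.mem_pointwise_smul_iff_inv_smul_mem] at hx
    have h1 : (s : P)⁻¹ * x * (s : P) ∈ M := hNM (by simpa [MulAut.smul_def] using hx)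
    have hs : (s : P) ∈ M := hSM s.2
    have := M.mul_mem (M.mul_mem hs h1) (M.inv_mem hs)
    have e : (s : P) * ((s : P)⁻¹ * x * (s : P)) * (s : P)⁻¹ = x := by group
    rwa [e] at this
  have hSN₀ : (S : Subgroup P) ≤ Subgroup.normalizer (N₀ : Set P) := by
    apply mem_normalizer_of_forall_conj_mem
    intro t ht x hx
    rw [hN₀] at hx
    refine Subgroup.iSup_induction f (C := fun x => t * x * t⁻¹ ∈ N₀) hx ?_ ?_ ?_
    · intro s y hy
      have h3 : t * y * t⁻¹ ∈ f (⟨t, ht⟩ * s) := by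
        simp only [hf, Subgroup.mem_pointwise_smul_iff_inv_smul_mem] at hy ⊢
        have e : (MulAut.conj ((⟨t, ht⟩ * s : ↥(S : Subgroup P)) : P))⁻¹ • (t * y * t⁻¹) =
            (MulAut.conj (s : P))⁻¹ • y := by
          simp only [MulAut.smul_def, Subgroup.coe_mul, ← map_inv, MulAut.conj_apply]
          group
        rw [e]
        exact hy
      exact le_iSup f _ h3
    · simp
    · intro y z hy hz
      have e : t * (y * z) * t⁻¹ = (t * y * t⁻¹) * (t * z * t⁻¹) := by group
      rw [e]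
      exact Subgroup.mul_mem _ hy hz
  exact hNN₀.trans (le_core_of_isSubnormal_of_invariant hP S hM hSM hsub hN₀M hSN₀)

/-- a number of the form `p ^ a * q ^ b` has at most two prime factors. -/
theorem card_primeFactors_le_two_of_eq {n p q a b : ℕ} (hp : p.Prime) (hq : q.Prime)
    (h : n = p ^ a * q ^ b) : n.primeFactors.card ≤ 2 := by
  have hsub : n.primeFactors ⊆ {p, q} := by
    intro r hr
    have hr' := Nat.mem_primeFactors.mp hr
    have hdvd : r ∣ p ^ a * q ^ b := h ▸ hr'.2.1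
    rcases (Nat.Prime.dvd_mul hr'.1).mp hdvd with h1 | h1
    · have := (Nat.prime_dvd_prime_iff_eq hr'.1 hp).mp (hr'.1.dvd_of_dvd_pow h1)
      simp [this]
    · have := (Nat.prime_dvd_prime_iff_eq hr'.1 hq).mp (hr'.1.dvd_of_dvd_pow h1)
      simp [this]
  exact (Finset.card_le_card hsub).trans Finset.card_le_two

/-- If `O^p(P)` has a normal Sylow `p`-subgroup then `|P|` has at most two prime divisors. -/
theorem card_primeFactors_le_two (hP : Cfsg.IsPMinimal p P) (S : Sylow p P) {M : Subgroup P}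
    (hM : IsCoatom M) (hSM : (S : Subgroup P) ≤ M)
    (h : ∀ T : Sylow p ↥(Cfsg.pResidual p P), (T : Subgroup ↥(Cfsg.pResidual p P)).Normal) :
    (Nat.card P).primeFactors.card ≤ 2 := by
  classical
  have hp : p.Prime := Fact.out
  set O : Subgroup P := Cfsg.pResidual p P with hO
  have hOchar : O.Characteristic := Cfsg.Agent.Lib.pResidual_characteristic p
  have hOn : O.Normal := Subgroup.normal_of_characteristic O
  obtain ⟨T₀⟩ : Nonempty (Sylow p ↥O) := inferInstance
  have hT₀n : (T₀ : Subgroup ↥O).Normal := h T₀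
  have hT₀c : (T₀ : Subgroup ↥O).Characteristic := T₀.characteristic_of_normal hT₀n
  set T : Subgroup P := (T₀ : Subgroup ↥O).map O.subtype with hT
  have hTn : T.Normal := ConjAct.normal_of_characteristic_of_normal
  have hTp : IsPGroup p T := T₀.isPGroup'.map _
  have hTS : T ≤ (S : Subgroup P) := Cfsg.Agent.Lib.normal_pGroup_le_sylow hTn hTp S
  -- the quotient
  set π : P →* P ⧸ T := QuotientGroup.mk' T with hπ
  have hπs : Function.Surjective π := QuotientGroup.mk'_surjective T
  have hker : π.ker = T := QuotientGroup.ker_mk' T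
  set Ob : Subgroup (P ⧸ T) := O.map π with hOb
  set Sb : Subgroup (P ⧸ T) := (S : Subgroup P).map π with hSb
  have hObn : Ob.Normal := Subgroup.Normal.map hOn π hπs
  have hSbp : IsPGroup p Sb := S.isPGroup'.map π
  have hsup : Ob ⊔ Sb = ⊤ := by
    rw [hOb, hSb, ← Subgroup.map_sup, Cfsg.Agent.Helper2.pResidual_sup_sylow_eq_top S,
      ← MonoidHom.range_eq_map, MonoidHom.range_eq_top.mpr hπs]
  have hpOb : ¬ p ∣ Nat.card Ob := by
    have h1 : Nat.card Ob = (T₀ : Subgroup ↥O).index := by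
      have h2 : Nat.card (π.comp O.subtype).range = (π.comp O.subtype).ker.index :=
        (Subgroup.index_ker _).symm
      have h3 : (π.comp O.subtype).range = Ob := by
        rw [MonoidHom.range_comp, Subgroup.range_subtype]
      have h4 : (π.comp O.subtype).ker = (T₀ : Subgroup ↥O) := by
        rw [← MonoidHom.comap_ker, hker, hT]
        exact Subgroup.comap_map_eq_self_of_injective O.subtype_injective _
      rw [← h3, h2, h4]
    rw [h1]
    exact T₀.not_dvd_index
  have hSbN : Sb ≤ Subgroup.normalizer (Ob : Set (P ⧸ T)) := by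
    rw [Subgroup.normalizer_eq_top_iff.mpr hObn]
    exact le_top
  -- the `Sb`-invariant Sylow subgroups of `Ob`
  have hX : ∀ q : ℕ, q.Prime → ∃ Xb : Subgroup (P ⧸ T), Xb ≤ Ob ∧ IsPGroup q Xb ∧
      Sb ≤ Subgroup.normalizer (Xb : Set (P ⧸ T)) ∧
      ∃ X : Sylow q Ob, (X : Subgroup Ob).map Ob.subtype = Xb := by
    intro q hq
    have : Fact q.Prime := ⟨hq⟩
    obtain ⟨X, hXinv⟩ := exists_invariant_sylow Ob Sb hSbN hSbp hpOb q
    refine ⟨(X : Subgroup Ob).map Ob.subtype, Subgroup.map_subtype_le _, X.isPGroup'.map _, ?_,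
      X, rfl⟩
    apply mem_normalizer_of_forall_conj_mem
    rintro a ha _ ⟨x, hx, rfl⟩
    have hx' : a * (x : P ⧸ T) * a⁻¹ ∈ Ob := hObn.conj_mem _ x.2 a
    exact ⟨⟨_, hx'⟩, hXinv a ha x hx hx', rfl⟩
  by_cases hcase : ∃ q : ℕ, q.Prime ∧ ∃ Xb : Subgroup (P ⧸ T), IsPGroup q Xb ∧
      Sb ≤ Subgroup.normalizer (Xb : Set (P ⧸ T)) ∧ Xb ⊔ Sb = ⊤
  · -- then `|P| = p^a q^b`
    obtain ⟨q, hq, Xb, hXq, hSX, htop⟩ := hcase
    have hXn : Xb.Normal := by
      rw [← Subgroup.normalizer_eq_top_iff, eq_top_iff, ← htop]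
      exact sup_le Subgroup.le_normalizer hSX
    have hquot : IsPGroup p ((P ⧸ T) ⧸ Xb) := isPGroup_quotient_of_sup_eq_top Xb Sb hSbp htop
    have : Fact q.Prime := ⟨hq⟩
    obtain ⟨a, ha⟩ := IsPGroup.iff_card.mp hTp
    obtain ⟨b, hb⟩ := IsPGroup.iff_card.mp hquot
    obtain ⟨c, hc⟩ := IsPGroup.iff_card.mp hXq
    have h1 : Nat.card P = Nat.card (P ⧸ T) * Nat.card T :=
      Subgroup.card_eq_card_quotient_mul_card_subgroup T
    have h2 : Nat.card (P ⧸ T) = Nat.card ((P ⧸ T) ⧸ Xb) * Nat.card Xb :=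
      Subgroup.card_eq_card_quotient_mul_card_subgroup Xb
    apply card_primeFactors_le_two_of_eq hp hq (a := a + b) (b := c)
    rw [h1, h2, ha, hb, hc]
    ring
  · -- otherwise `M` contains everything
    exfalso
    have hY : ∀ q : ℕ, q.Prime → ∀ Xb : Subgroup (P ⧸ T), IsPGroup q Xb →
        Sb ≤ Subgroup.normalizer (Xb : Set (P ⧸ T)) → Xb ⊔ Sb ≤ M.map π := by
      intro q hq Xb hXq hSX
      have hne : Xb ⊔ Sb ≠ ⊤ := fun htop => hcase ⟨q, hq, Xb, hXq, hSX, htop⟩
      have hSY : (S : Subgroup P) ≤ (Xb ⊔ Sb).comap π := by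
        intro s hs
        exact Subgroup.mem_comap.mpr ((le_sup_right : Sb ≤ Xb ⊔ Sb) ⟨s, hs, rfl⟩)
      have hYne : (Xb ⊔ Sb).comap π ≠ ⊤ := by
        intro htop
        apply hne
        rw [← Subgroup.map_comap_eq_self_of_surjective hπs (Xb ⊔ Sb), htop,
          ← MonoidHom.range_eq_map, MonoidHom.range_eq_top.mpr hπs]
      have hle := le_of_sylow_le hP S hM hSM hSY hYne
      rw [← Subgroup.map_comap_eq_self_of_surjective hπs (Xb ⊔ Sb)]
      exact Subgroup.map_mono hle
    have hObM : Ob ≤ M.map π := by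
      have h1 : Ob ≤ M.map π ⊓ Ob := by
        apply le_of_forall_sylow_le inf_le_right
        intro q hq
        obtain ⟨Xb, hXO, hXq, hSX, X, hXeq⟩ := hX q hq.out
        refine ⟨X, ?_⟩
        rw [hXeq]
        exact le_inf (le_sup_left.trans (hY q hq.out Xb hXq hSX)) hXO
      exact h1.trans inf_le_left
    have hSbM : Sb ≤ M.map π := Subgroup.map_mono hSM
    have htop : M.map π = ⊤ := by
      rw [eq_top_iff, ← hsup]
      exact sup_le hObM hSbM
    have h2 : (M.map π).comap π = M := by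
      rw [Subgroup.comap_map_eq, hker]
      exact sup_eq_left.mpr (hTS.trans hSM)
    rw [htop, Subgroup.comap_top] at h2
    exact hM.1 h2.symm

end pmin

end Cfsg.Agent.Helper48
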