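import Mathlib
import Cfsg.Prelude.Def_LocalEven
import Cfsg.Agent.Helper48.PMinimal
import Cfsg.Agent.Helper21.Radical
import Cfsg.Agent.Helper22.Layer
import Cfsg.Agent.Helper22.Subnormal
import Cfsg.Agent.Helper22.Conj
import Cfsg.Agent.Helper46.McBride
import Cfsg.Agent.Helper49.SylowExtra

set_option autoImplicit false

/-!
# Components of `p`-minimal groups (helper48)

For a `p`-minimal group `P` with `O_p(P) = 1`, Sylow `p`-subgroup `S ≤ M` (the unique maximal
subgroup over `S`) and a component `K`: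
* the core of `M` is a nilpotent `p'`-group;
* `K ≰ M`, `O^p(P) = E(P) = F*(P) = ⟨K^S⟩`;
* `K N_S(K)` is `p`-minimal.
-/

namespace Cfsg.Agent.Helper48

open Cfsg

section general

variable {G : Type*} [Group G]

/-- `S` normalizes the join of the `S`-conjugates of `D`. -/
theorem le_normalizer_iSup_conj (S D : Subgroup G) :
    S ≤ Subgroup.normalizer
      ((⨆ s : ↥S, D.map (MulAut.conj (s : G)).toMonoidHom : Subgroup G) : Set G) := by
  apply mem_normalizer_of_forall_conj_mem
  intro t ht x hx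
  refine Subgroup.iSup_induction (fun s : ↥S => D.map (MulAut.conj (s : G)).toMonoidHom)
    (C := fun x => t * x * t⁻¹ ∈
      (⨆ s : ↥S, D.map (MulAut.conj (s : G)).toMonoidHom : Subgroup G)) hx ?_ ?_ ?_
  · rintro s _ ⟨d, hd, rfl⟩
    refine Subgroup.mem_iSup_of_mem (⟨t, ht⟩ * s) ⟨d, hd, ?_⟩
    simp [MulAut.conj_apply, mul_assoc]
  · simp
  · intro y z hy hz
    have e : t * (y * z) * t⁻¹ = (t * y * t⁻¹) * (t * z * t⁻¹) := by group
    rw [e]
    exact Subgroup.mul_mem _ hy hz

theorem le_iSup_conj (S D : Subgroup G) :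
    D ≤ ⨆ s : ↥S, D.map (MulAut.conj (s : G)).toMonoidHom := by
  intro d hd
  refine Subgroup.mem_iSup_of_mem (1 : ↥S) ⟨d, hd, ?_⟩
  simp

/-- A subgroup normalized by `A` and `B` is normalized by `A ⊔ B`. -/
theorem normal_of_sup_eq_top {N A B : Subgroup G}
    (hA : A ≤ Subgroup.normalizer (N : Set G)) (hB : B ≤ Subgroup.normalizer (N : Set G))
    (h : A ⊔ B = ⊤) : N.Normal := by
  rw [← Subgroup.normalizer_eq_top_iff, eq_top_iff, ← h]
  exact sup_le hA hB

end general

section pmin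

variable {P : Type*} [Group P] [Finite P] {p : ℕ} [Fact p.Prime]

/-- A normal `p'`-subgroup of a `p`-minimal group inside `M` is nilpotent. -/
theorem isNilpotent_of_normal_le (hP : IsPMinimal p P) (S : Sylow p P) {M : Subgroup P}
    (hM : IsCoatom M) (hSM : (S : Subgroup P) ≤ M) {N : Subgroup P} (hN : N.Normal)
    (hNM : N ≤ M) (hpN : ¬ p ∣ Nat.card N) : Group.IsNilpotent ↥N := by
  refine ((Group.isNilpotent_of_finite_tfae (G := ↥N)).out 3 0).mp ?_
  intro q hq Q
  have hSN : (S : Subgroup P) ≤ Subgroup.normalizer (N : Set P) := by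
    rw [Subgroup.normalizer_eq_top_iff.mpr hN]; exact le_top
  obtain ⟨X, hXinv⟩ := exists_invariant_sylow N S hSN S.isPGroup' hpN q
  have hSX : (S : Subgroup P) ≤
      Subgroup.normalizer (((X : Subgroup N).map N.subtype : Subgroup P) : Set P) := by
    apply mem_normalizer_of_forall_conj_mem
    rintro a ha _ ⟨x, hx, rfl⟩
    have hx' : a * (x : P) * a⁻¹ ∈ N := hN.conj_mem _ x.2 a
    exact ⟨⟨_, hx'⟩, hXinv a ha x hx hx', rfl⟩
  have hfrat := Sylow.normalizer_sup_eq_top X
  have htop : Subgroup.normalizer (((X : Subgroup N).map N.subtype : Subgroup P) : Set P) = ⊤ := by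
    by_contra hne
    have hle := le_of_sylow_le hP S hM hSM hSX hne
    apply hM.1
    rw [eq_top_iff, ← hfrat]
    exact sup_le hle hNM
  have hXn : (X : Subgroup N).Normal := by
    have h1 : ((X : Subgroup N).map N.subtype).Normal := Subgroup.normalizer_eq_top_iff.mp htop
    have h2 : (X : Subgroup N) = ((X : Subgroup N).map N.subtype).comap N.subtype :=
      (Subgroup.comap_map_eq_self_of_injective N.subtype_injective _).symm
    rw [h2]
    exact h1.comap _
  obtain ⟨g, hg⟩ := MulAction.exists_smul_eq ↥N X Q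
  rw [← hg, Sylow.smul_eq_of_normal]
  exact hXn

/-- A normal `p'`-subgroup of a `p`-minimal group lies in `M` or is a `q`-group. -/
theorem le_or_isPGroup_of_normal (hP : IsPMinimal p P) (S : Sylow p P) {M : Subgroup P}
    (hM : IsCoatom M) (hSM : (S : Subgroup P) ≤ M) {N : Subgroup P} (hN : N.Normal)
    (hpN : ¬ p ∣ Nat.card N) : N ≤ M ∨ ∃ q : ℕ, q.Prime ∧ IsPGroup q ↥N := by
  by_cases hcase : ∃ q : ℕ, q.Prime ∧ ∃ X : Subgroup P, IsPGroup q X ∧
      (S : Subgroup P) ≤ Subgroup.normalizer (X : Set P) ∧ X ⊔ (S : Subgroup P) = ⊤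
  · right
    obtain ⟨q, hq, X, hXq, hSX, htop⟩ := hcase
    have hXn : X.Normal := normal_of_sup_eq_top Subgroup.le_normalizer hSX htop
    have hquot : IsPGroup p (P ⧸ X) := isPGroup_quotient_of_sup_eq_top X S S.isPGroup' htop
    have hR : pResidual p P ≤ X := Cfsg.Agent.Lib.pResidual_le_of_isPGroup_quotient X hquot
    have hNR : N ≤ pResidual p P := fun n hn =>
      Cfsg.Agent.Lib.mem_pResidual_of_coprime (coprime_orderOf_of_not_dvd_card hpN hn)
    exact ⟨q, hq, hXq.to_le (hNR.trans hR)⟩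
  · left
    have hSN : (S : Subgroup P) ≤ Subgroup.normalizer (N : Set P) := by
      rw [Subgroup.normalizer_eq_top_iff.mpr hN]; exact le_top
    have h1 : N ≤ M ⊓ N := by
      apply le_of_forall_sylow_le inf_le_right
      intro q hq
      obtain ⟨X, hXinv⟩ := exists_invariant_sylow N S hSN S.isPGroup' hpN q
      refine ⟨X, ?_⟩
      have hSX : (S : Subgroup P) ≤
          Subgroup.normalizer (((X : Subgroup N).map N.subtype : Subgroup P) : Set P) := by
        apply mem_normalizer_of_forall_conj_mem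
        rintro a ha _ ⟨x, hx, rfl⟩
        have hx' : a * (x : P) * a⁻¹ ∈ N := hN.conj_mem _ x.2 a
        exact ⟨⟨_, hx'⟩, hXinv a ha x hx hx', rfl⟩
      have hne : (X : Subgroup N).map N.subtype ⊔ (S : Subgroup P) ≠ ⊤ := fun htop =>
        hcase ⟨q, hq.out, _, X.isPGroup'.map _, hSX, htop⟩
      have hle := le_of_sylow_le hP S hM hSM le_sup_right hne
      exact le_inf (le_sup_left.trans hle) (Subgroup.map_subtype_le _)
    exact h1.trans inf_le_left

end pmin

section main

variable {P : Type*} [Group P] [Finite P] {p : ℕ} [Fact p.Prime]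

/-- A component is not contained in a nilpotent subgroup. -/
theorem not_le_of_isNilpotent {G : Type*} [Group G] {K N : Subgroup G} (hK : IsComponent K)
    (hN : Group.IsNilpotent ↥N) : ¬ K ≤ N := by
  intro h
  have : Group.IsNilpotent ↥K := Cfsg.Agent.Helper22.isNilpotent_of_le h hN
  exact Cfsg.Agent.Helper21.IsQuasisimple.not_isSolvable hK.2 inferInstance

/-- A perfect subgroup lies in `O^p`. -/
theorem perfect_le_pResidual {G : Type*} [Group G] [Finite G] {E : Subgroup G}
    (hE : ⁅E, E⁆ = E) : E ≤ pResidual p G := by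
  set π := QuotientGroup.mk' (pResidual p G) with hπ
  have hpg : IsPGroup p (G ⧸ pResidual p G) := Cfsg.Agent.Lib.isPGroup_quotient_pResidual p
  have hnil : Group.IsNilpotent (G ⧸ pResidual p G) := hpg.isNilpotent
  have hperf : ⁅E.map π, E.map π⁆ = E.map π := by
    rw [← Subgroup.map_commutator, hE]
  have hbot : E.map π = ⊥ := by
    by_contra hne
    have := Group.IsSolvable.commutator_lt_of_ne_bot hne
    rw [hperf] at this
    exact lt_irrefl _ this
  rw [← QuotientGroup.ker_mk' (pResidual p G)]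
  exact (Subgroup.map_eq_bot_iff _).mp hbot

/-- When `O_p(P) = 1`, the core of `M` is a `p'`-group. -/
theorem not_dvd_card_core (hP : IsPMinimal p P) (hOp : pCore p P = ⊥) (S : Sylow p P)
    {M : Subgroup P} (hM : IsCoatom M) (hSM : (S : Subgroup P) ≤ M) :
    ¬ p ∣ Nat.card M.normalCore := by
  have hn := core_inf_sylow_normal hP S hM hSM
  have h1 : (S : Subgroup P) ⊓ M.normalCore ≤ pCore p P :=
    Cfsg.Agent.Lib.le_pCore hn (S.isPGroup'.to_inf_left)
  rw [hOp, le_bot_iff] at h1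
  have : M.normalCore.Normal := Subgroup.normalCore_normal M
  have hsyl := Cfsg.Agent.Helper49.isSylowOf_inf_of_normal S M.normalCore
  have h2 := hsyl.2.2
  rw [h1, Subgroup.relIndex_bot_left] at h2
  exact h2

/-- A component of a `p`-minimal group with `O_p(P) = 1` is not contained in `M`. -/
theorem component_not_le (hP : IsPMinimal p P) (hOp : pCore p P = ⊥) (S : Sylow p P)
    {M : Subgroup P} (hM : IsCoatom M) (hSM : (S : Subgroup P) ≤ M) {K : Subgroup P}
    (hK : IsComponent K) : ¬ K ≤ M := by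
  intro hKM
  have h1 : K ≤ M.normalCore := le_core_of_isSubnormal hP S hM hSM hK.1 hKM
  have hnil : Group.IsNilpotent ↥M.normalCore :=
    isNilpotent_of_normal_le hP S hM hSM (Subgroup.normalCore_normal M) (Subgroup.normalCore_le M)
      (not_dvd_card_core hP hOp S hM hSM)
  exact not_le_of_isNilpotent hK hnil h1

/-- `O^p(P) = E(P)`. -/
theorem pResidual_eq_layer (hP : IsPMinimal p P) (hOp : pCore p P = ⊥) (S : Sylow p P)
    {K : Subgroup P} (hK : IsComponent K) : pResidual p P = layer P := by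
  obtain ⟨-, M, ⟨hM, hSM⟩, -⟩ := hP S
  apply le_antisymm
  · rcases pResidual_le_or_le_core hP S hM hSM (layer P) inferInstance with h | h
    · exact h
    · exact absurd ((Cfsg.Agent.Helper22.IsComponent.le_layer hK).trans
        (h.trans (Subgroup.normalCore_le M))) (component_not_le hP hOp S hM hSM hK)
  · exact perfect_le_pResidual Cfsg.Agent.Helper22.layer_commutator_self

/-- `F(P) ≤ O^p(P)`. -/
theorem fittingSubgroup_le_pResidual (hP : IsPMinimal p P) (hOp : pCore p P = ⊥) (S : Sylow p P)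
    {K : Subgroup P} (hK : IsComponent K) : fittingSubgroup P ≤ pResidual p P := by
  obtain ⟨-, M, ⟨hM, hSM⟩, -⟩ := hP S
  rcases pResidual_le_or_le_core hP S hM hSM (fittingSubgroup P) inferInstance with h | h
  · exfalso
    have h1 : K ≤ fittingSubgroup P := by
      refine le_trans ?_ h
      rw [pResidual_eq_layer hP hOp S hK]
      exact Cfsg.Agent.Helper22.IsComponent.le_layer hK
    exact not_le_of_isNilpotent hK Cfsg.Agent.Lib.isNilpotent_fittingSubgroup h1
  · have hpF : ¬ p ∣ Nat.card (fittingSubgroup P) := fun hd =>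
      not_dvd_card_core hP hOp S hM hSM (hd.trans (Subgroup.card_dvd_of_le h))
    intro x hx
    exact Cfsg.Agent.Lib.mem_pResidual_of_coprime (coprime_orderOf_of_not_dvd_card hpF hx)

/-- `E(P) = ⟨K^S⟩`. -/
theorem layer_eq_iSup_conj (hP : IsPMinimal p P) (hOp : pCore p P = ⊥) (S : Sylow p P)
    {K : Subgroup P} (hK : IsComponent K) :
    layer P = ⨆ s : ↥(S : Subgroup P), K.map (MulAut.conj (s : P)).toMonoidHom := by
  obtain ⟨-, M, ⟨hM, hSM⟩, -⟩ := hP S
  set E₁ : Subgroup P := ⨆ s : ↥(S : Subgroup P), K.map (MulAut.conj (s : P)).toMonoidHom with hE₁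
  have hle : E₁ ≤ layer P := iSup_le fun s =>
    Cfsg.Agent.Helper22.IsComponent.le_layer (Cfsg.Agent.Helper21.IsComponent.map_conj hK s)
  apply le_antisymm _ hle
  have hS : (S : Subgroup P) ≤ Subgroup.normalizer (E₁ : Set P) := le_normalizer_iSup_conj _ K
  have hE : layer P ≤ Subgroup.normalizer (E₁ : Set P) := by
    refine le_trans ?_ (Subgroup.iInf_normalizer_le_normalizer_iSup _)
    exact le_iInf fun s => Cfsg.Agent.Helper22.IsComponent.layer_le_normalizer
      (Cfsg.Agent.Helper21.IsComponent.map_conj hK s)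
  have htop : layer P ⊔ (S : Subgroup P) = ⊤ := by
    rw [← pResidual_eq_layer hP hOp S hK]
    exact Cfsg.Agent.Helper2.pResidual_sup_sylow_eq_top S
  have hn : E₁.Normal := normal_of_sup_eq_top hE hS htop
  rcases pResidual_le_or_le_core hP S hM hSM E₁ hn with h | h
  · rw [← pResidual_eq_layer hP hOp S hK]
    exact h
  · exact absurd ((le_iSup_conj _ K).trans (h.trans (Subgroup.normalCore_le M)))
      (component_not_le hP hOp S hM hSM hK)

end main

section final

open scoped commutatorElement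

variable {P : Type*} [Group P] [Finite P] {p : ℕ} [Fact p.Prime]

/-- If `K = D · Z(K)`-like (`K ≤ D ⊔ C_P(K)` with `D ≤ K`) and `K` is perfect then `K ≤ D`. -/
theorem le_of_le_sup_centralizer {G : Type*} [Group G] {K D : Subgroup G} (hperf : ⁅K, K⁆ = K)
    (hDK : D ≤ K) (h : K ≤ D ⊔ Subgroup.centralizer (K : Set G)) : K ≤ D := by
  have hDN : D ≤ Subgroup.normalizer
      ((Subgroup.centralizer (K : Set G) : Subgroup G) : Set G) :=
    hDK.trans (Subgroup.le_normalizer.trans
      (Cfsg.Agent.Helper22.normalizer_le_normalizer_centralizer K))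
  have hdec : ∀ k ∈ K, ∃ d ∈ D, ∃ c ∈ Subgroup.centralizer (K : Set G), k = d * c := by
    intro k hk
    have h1 : k ∈ ((D ⊔ Subgroup.centralizer (K : Set G) : Subgroup G) : Set G) := h hk
    rw [Subgroup.coe_mul_of_left_le_normalizer_right D _ hDN, Set.mem_mul] at h1
    obtain ⟨d, hd, c, hc, rfl⟩ := h1
    exact ⟨d, hd, c, hc, rfl⟩
  rw [← hperf, Subgroup.commutator_le]
  intro k₁ hk₁ k₂ hk₂
  obtain ⟨d₁, hd₁, c₁, hc₁, rfl⟩ := hdec k₁ hk₁
  obtain ⟨d₂, hd₂, c₂, hc₂, rfl⟩ := hdec k₂ hk₂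
  rw [Subgroup.mem_centralizer_iff] at hc₁ hc₂
  have e1 : (d₂ * c₂) * c₁ = c₁ * (d₂ * c₂) := hc₁ _ hk₂
  have e2 : d₁⁻¹ * c₂ = c₂ * d₁⁻¹ := hc₂ _ (K.inv_mem (hDK hd₁))
  have e : ⁅d₁ * c₁, d₂ * c₂⁆ = ⁅d₁, d₂⁆ := by
    rw [commutatorElement_def, commutatorElement_def]
    calc d₁ * c₁ * (d₂ * c₂) * (d₁ * c₁)⁻¹ * (d₂ * c₂)⁻¹
        = d₁ * (c₁ * (d₂ * c₂)) * c₁⁻¹ * d₁⁻¹ * (d₂ * c₂)⁻¹ := by group
      _ = d₁ * ((d₂ * c₂) * c₁) * c₁⁻¹ * d₁⁻¹ * (d₂ * c₂)⁻¹ := by rw [e1]
      _ = d₁ * d₂ * (c₂ * d₁⁻¹) * c₂⁻¹ * d₂⁻¹ := by group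
      _ = d₁ * d₂ * (d₁⁻¹ * c₂) * c₂⁻¹ * d₂⁻¹ := by rw [e2]
      _ = d₁ * d₂ * d₁⁻¹ * d₂⁻¹ := by group
  rw [e]
  exact Subgroup.commutator_mem_commutator hd₁ hd₂ |> fun h' =>
    (Subgroup.commutator_le_self D) h'

/-- The key lemma: a subgroup `X ⊇ N_S(K)` not containing `K` meets `K` inside `M`. -/
theorem inf_component_le (hP : IsPMinimal p P) (hOp : pCore p P = ⊥) (S : Sylow p P)
    {M : Subgroup P} (hM : IsCoatom M) (hSM : (S : Subgroup P) ≤ M) {K : Subgroup P}
    (hK : IsComponent K) {X : Subgroup P}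
    (hSX : (S : Subgroup P) ⊓ Subgroup.normalizer (K : Set P) ≤ X) (hKX : ¬ K ≤ X) :
    X ⊓ K ≤ M := by
  set D : Subgroup P := X ⊓ K with hD
  set Dh : Subgroup P := ⨆ s : ↥(S : Subgroup P), D.map (MulAut.conj (s : P)).toMonoidHom with hDh
  have hSDh : (S : Subgroup P) ≤ Subgroup.normalizer (Dh : Set P) := le_normalizer_iSup_conj _ D
  have hne : Dh ⊔ (S : Subgroup P) ≠ ⊤ := by
    intro htop
    apply hKX
    have hn : Dh.Normal := normal_of_sup_eq_top Subgroup.le_normalizer hSDh htop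
    have hquot : IsPGroup p (P ⧸ Dh) := isPGroup_quotient_of_sup_eq_top Dh S S.isPGroup' htop
    have hR : pResidual p P ≤ Dh := Cfsg.Agent.Lib.pResidual_le_of_isPGroup_quotient Dh hquot
    have hKDh : K ≤ Dh := by
      refine le_trans ?_ hR
      rw [pResidual_eq_layer hP hOp S hK]
      exact Cfsg.Agent.Helper22.IsComponent.le_layer hK
    have hDhle : Dh ≤ D ⊔ Subgroup.centralizer (K : Set P) := by
      apply iSup_le
      intro s
      by_cases hs : (s : P) ∈ Subgroup.normalizer (K : Set P)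
      · refine le_trans ?_ le_sup_left
        rintro _ ⟨d, hd, rfl⟩
        have hsX : (s : P) ∈ X := hSX (Subgroup.mem_inf.mpr ⟨s.2, hs⟩)
        refine Subgroup.mem_inf.mpr ⟨?_, ?_⟩
        · exact X.mul_mem (X.mul_mem hsX (Subgroup.mem_inf.mp hd).1) (X.inv_mem hsX)
        · exact (Subgroup.mem_normalizer_iff.mp hs d).mp (Subgroup.mem_inf.mp hd).2
      · refine le_trans ?_ le_sup_right
        have hne' : K.map (MulAut.conj (s : P)).toMonoidHom ≠ K := fun h =>
          hs (Cfsg.Agent.Helper21.mem_normalizer_of_map_conj_eq h)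
        have hcomm := Cfsg.Agent.Helper22.IsComponent.commutator_eq_bot_of_ne
          (Cfsg.Agent.Helper21.IsComponent.map_conj hK (s : P)) hK hne'
        rw [Subgroup.commutator_eq_bot_iff_le_centralizer] at hcomm
        exact (Subgroup.map_mono inf_le_right).trans hcomm
    exact (le_of_le_sup_centralizer (Cfsg.Agent.Helper22.IsComponent.commutator_self hK)
      inf_le_right (hKDh.trans hDhle)).trans inf_le_left
  have hle := le_of_sylow_le hP S hM hSM le_sup_right hne
  exact (le_iSup_conj _ D).trans (le_sup_left.trans hle)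

end final

section final2

variable {P : Type*} [Group P] [Finite P] {p : ℕ} [Fact p.Prime]

/-- modular law: `S₁ ≤ X ≤ K S₁` with `S₁` normalizing `K` gives `X = (X ∩ K) S₁`. -/
theorem le_inf_sup_of_le_sup {G : Type*} [Group G] {K S₁ X : Subgroup G}
    (hS₁ : S₁ ≤ Subgroup.normalizer (K : Set G)) (hSX : S₁ ≤ X) (hX : X ≤ K ⊔ S₁) :
    X ≤ (X ⊓ K) ⊔ S₁ := by
  intro x hx
  have h1 : x ∈ ((K ⊔ S₁ : Subgroup G) : Set G) := hX hx
  rw [Subgroup.coe_mul_of_right_le_normalizer_left K S₁ hS₁, Set.mem_mul] at h1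
  obtain ⟨k, hk, s, hs, rfl⟩ := h1
  have hkX : k ∈ X := by
    have := X.mul_mem hx (X.inv_mem (hSX hs))
    simpa using this
  exact Subgroup.mul_mem_sup (Subgroup.mem_inf.mpr ⟨hkX, hk⟩) hs

theorem normalizer_inf_le_normalizer_inf {G : Type*} [Group G] (A B : Subgroup G) :
    Subgroup.normalizer (A : Set G) ⊓ Subgroup.normalizer (B : Set G) ≤
      Subgroup.normalizer ((A ⊓ B : Subgroup G) : Set G) := by
  intro g hg
  rw [Subgroup.mem_inf] at hg
  rw [Subgroup.mem_normalizer_iff]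
  intro x
  rw [Subgroup.mem_inf, Subgroup.mem_inf, (Subgroup.mem_normalizer_iff.mp hg.1) x,
    (Subgroup.mem_normalizer_iff.mp hg.2) x]

/-- `K N_S(K)` is `p`-minimal. -/
theorem isPMinimal_component_sup (hP : IsPMinimal p P) (hOp : pCore p P = ⊥) (S : Sylow p P)
    {K : Subgroup P} (hK : IsComponent K) :
    IsPMinimal p ↥(K ⊔ ((S : Subgroup P) ⊓ Subgroup.normalizer (K : Set P))) := by
  obtain ⟨-, M, ⟨hM, hSM⟩, -⟩ := hP S
  set S₁ : Subgroup P := (S : Subgroup P) ⊓ Subgroup.normalizer (K : Set P) with hS₁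
  set L : Subgroup P := K ⊔ S₁ with hL
  have hS₁N : S₁ ≤ Subgroup.normalizer (K : Set P) := inf_le_right
  have hS₁L : S₁ ≤ L := le_sup_right
  have hKL : K ≤ L := le_sup_left
  have hKM : ¬ K ≤ M := component_not_le hP hOp S hM hSM hK
  have hRE := pResidual_eq_layer hP hOp S hK
  have hQp : IsPGroup p (S₁.subgroupOf L) := (S.isPGroup'.to_inf_left).comap_subtype
  obtain ⟨T, hQT⟩ := hQp.exists_le_sylow
  apply Cfsg.Agent.Helper46.isPMinimal_of_cond T
  -- facts about subgroups of `L` containing `T`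
  have hS₁map : ∀ X' : Subgroup ↥L, (T : Subgroup ↥L) ≤ X' → S₁ ≤ X'.map L.subtype := by
    intro X' hTX' s hs
    exact ⟨⟨s, hS₁L hs⟩, hTX' (hQT (Subgroup.mem_subgroupOf.mpr hs)), rfl⟩
  have hcoatom : ∀ X' : Subgroup ↥L, IsCoatom X' → (T : Subgroup ↥L) ≤ X' →
      X'.map L.subtype ≤ M := by
    intro X' hX' hTX'
    have hSX := hS₁map X' hTX'
    have hXL : X'.map L.subtype ≤ L := Subgroup.map_subtype_le _
    have hKX : ¬ K ≤ X'.map L.subtype := by
      intro hKX
      apply hX'.1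
      rw [eq_top_iff]
      have h1 : L ≤ X'.map L.subtype := sup_le hKX hSX
      rintro ⟨x, hx⟩ -
      obtain ⟨y, hy, hyx⟩ := h1 hx
      have : y = ⟨x, hx⟩ := Subtype.ext hyx
      rwa [← this]
    have h2 := inf_component_le hP hOp S hM hSM hK hSX hKX
    exact (le_inf_sup_of_le_sup hS₁N hSX hXL).trans (sup_le h2 (inf_le_left.trans hSM))
  have hnn : ¬ (T : Subgroup ↥L).Normal := by
    intro hTn
    set Tt : Subgroup P := (T : Subgroup ↥L).map L.subtype with hTt
    have hTtp : IsPGroup p Tt := T.isPGroup'.map _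
    have hS₁Tt : S₁ ≤ Tt := hS₁map _ le_rfl
    have hLTt : L ≤ Subgroup.normalizer (Tt : Set P) := by
      apply mem_normalizer_of_forall_conj_mem
      rintro a ha _ ⟨x, hx, rfl⟩
      exact ⟨(⟨a, ha⟩ : ↥L) * x * (⟨a, ha⟩ : ↥L)⁻¹, hTn.conj_mem x hx _, rfl⟩
    set E : Subgroup P := layer P with hE
    have hEn : E.Normal := inferInstance
    set Y : Subgroup P := (S : Subgroup P) ⊓ E with hY
    have hsyl : Cfsg.Agent.Helper49.IsSylowOf p Y E :=
      Cfsg.Agent.Helper49.isSylowOf_inf_of_normal S E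
    have hEK : E ≤ Subgroup.normalizer (K : Set P) :=
      Cfsg.Agent.Helper22.IsComponent.layer_le_normalizer hK
    have hYeq : Y = Tt ⊓ E := by
      apply hsyl.eq_of_le _ inf_le_right hTtp.to_inf_left
      exact le_inf (le_trans (le_inf inf_le_left (inf_le_right.trans hEK)) hS₁Tt) inf_le_right
    have hKY : K ≤ Subgroup.normalizer (Y : Set P) := by
      rw [hYeq]
      refine le_trans ?_ (normalizer_inf_le_normalizer_inf Tt E)
      exact le_inf (hKL.trans hLTt)
        (by rw [Subgroup.normalizer_eq_top_iff.mpr hEn]; exact le_top)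
    have hSY : (S : Subgroup P) ≤ Subgroup.normalizer (Y : Set P) := by
      refine le_trans ?_ (normalizer_inf_le_normalizer_inf (S : Subgroup P) E)
      exact le_inf Subgroup.le_normalizer
        (by rw [Subgroup.normalizer_eq_top_iff.mpr hEn]; exact le_top)
    have hEY : E ≤ Subgroup.normalizer (Y : Set P) := by
      rw [hE, layer_eq_iSup_conj hP hOp S hK]
      apply iSup_le
      rintro s _ ⟨k, hk, rfl⟩
      exact Subgroup.mul_mem _ (Subgroup.mul_mem _ (hSY s.2) (hKY hk)) (Subgroup.inv_mem _ (hSY s.2))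
    have htop : E ⊔ (S : Subgroup P) = ⊤ := by
      rw [← hRE]
      exact Cfsg.Agent.Helper2.pResidual_sup_sylow_eq_top S
    have hYn : Y.Normal := normal_of_sup_eq_top hEY hSY htop
    have hYbot : Y = ⊥ := by
      have h1 : Y ≤ pCore p P := Cfsg.Agent.Lib.le_pCore hYn (S.isPGroup'.to_inf_left)
      rwa [hOp, le_bot_iff] at h1
    have hpE : ¬ p ∣ Nat.card E := by
      have h2 := hsyl.2.2
      rwa [hYbot, Subgroup.relIndex_bot_left] at h2
    rcases le_or_isPGroup_of_normal hP S hM hSM hEn hpE with h | ⟨q, hq, hEq⟩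
    · exact hKM ((Cfsg.Agent.Helper22.IsComponent.le_layer hK).trans h)
    · have : Fact q.Prime := ⟨hq⟩
      exact not_le_of_isNilpotent hK hEq.isNilpotent (Cfsg.Agent.Helper22.IsComponent.le_layer hK)
  refine ⟨hnn, ?_⟩
  have hne : (T : Subgroup ↥L) ≠ ⊤ := by
    intro h
    apply hnn
    rw [h]
    infer_instance
  obtain ⟨M₁, hM₁, hTM₁⟩ := (eq_top_or_exists_le_coatom (T : Subgroup ↥L)).resolve_left hne
  refine ⟨M₁, ⟨hM₁, hTM₁⟩, ?_⟩
  rintro M₂ ⟨hM₂, hTM₂⟩
  by_contra hne12
  have hsup : M₂ ⊔ M₁ = ⊤ := by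
    by_contra hst
    have h1 : M₂ = M₂ ⊔ M₁ := by
      by_contra hlt
      exact hst (hM₂.2 _ (lt_of_le_of_ne le_sup_left hlt))
    have h2 : M₁ = M₂ ⊔ M₁ := by
      by_contra hlt
      exact hst (hM₁.2 _ (lt_of_le_of_ne le_sup_right hlt))
    exact hne12 (h1.trans h2.symm)
  apply hKM
  have h3 : (M₂ ⊔ M₁).map L.subtype ≤ M := by
    rw [Subgroup.map_sup]
    exact sup_le (hcoatom M₂ hM₂ hTM₂) (hcoatom M₁ hM₁ hTM₁)
  rw [hsup, ← MonoidHom.range_eq_map, Subgroup.range_subtype] at h3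
  exact hKL.trans h3

end final2

end Cfsg.Agent.Helper48
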