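-- helper48: piece (R0) of helper82's WANTED #4790 for S4892: existence of a generator `k` of the Galois group
-- of `ℚ(ζ_n)` over `ℚ(ζ_{n_{p'}})`, `p` odd.
import Mathlib
import Cfsg.Agent.Helper82.PRat.Defs

set_option autoImplicit false

namespace Cfsg.Agent.Helper48.PRatR0

open Cfsg Cfsg.Agent.Helper82.PRat

/-- A natural number generating the units modulo `p ^ b` and congruent to `1` modulo `m`. -/
theorem exists_gen_mod (p : ℕ) [Fact p.Prime] (hp : p ≠ 2) (b : ℕ) (hb : 1 ≤ b) (m : ℕ)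
    (hm : Nat.Coprime p m) :
    ∃ k : ℕ, 0 < k ∧ k.Coprime p ∧ k ≡ 1 [MOD m] ∧ ¬ k ≡ 1 [MOD p] ∧
      ∀ j : ℕ, j.Coprime p → ∃ i : ℕ, j ≡ k ^ i [MOD p ^ b] := by
  have hpp : p.Prime := Fact.out
  have : NeZero (p ^ b) := ⟨pow_ne_zero _ hpp.ne_zero⟩
  have : IsCyclic (ZMod (p ^ b))ˣ := ZMod.isCyclic_units_of_prime_pow p hpp hp b
  obtain ⟨u, hu⟩ := IsCyclic.exists_monoid_generator (α := (ZMod (p ^ b))ˣ)
  have hcop : Nat.Coprime (p ^ b) m := Nat.Coprime.pow_left b hm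
  set k₀ : ℕ := ((u : ZMod (p ^ b))).val with hk₀
  obtain ⟨k, hk1, hk2⟩ := Nat.chineseRemainder hcop k₀ 1
  have hk₀cop : Nat.Coprime k₀ (p ^ b) := ZMod.val_coe_unit_coprime u
  have hkcop' : Nat.Coprime k (p ^ b) := by
    have := hk1.gcd_eq
    unfold Nat.Coprime
    rw [this]; exact hk₀cop
  have hkcop : Nat.Coprime k p :=
    Nat.Coprime.coprime_dvd_right (dvd_pow_self p (by omega)) hkcop'
  have hkpos : 0 < k := by
    rcases Nat.eq_zero_or_pos k with h0 | h0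
    · rw [h0, Nat.coprime_zero_left] at hkcop
      exact absurd hkcop hpp.one_lt.ne'
    · exact h0
  have hkcast : ((k : ℕ) : ZMod (p ^ b)) = (u : ZMod (p ^ b)) := by
    have h1 : ((k : ℕ) : ZMod (p ^ b)) = ((k₀ : ℕ) : ZMod (p ^ b)) :=
      (ZMod.natCast_eq_natCast_iff _ _ _).mpr hk1
    rw [h1, hk₀, ZMod.natCast_zmod_val]
  have hlast : ∀ j : ℕ, j.Coprime p → ∃ i : ℕ, j ≡ k ^ i [MOD p ^ b] := by
    intro j hj
    have hj' : Nat.Coprime j (p ^ b) := Nat.Coprime.pow_right b hj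
    obtain ⟨i, hi⟩ := Submonoid.mem_powers_iff _ _ |>.mp (hu (ZMod.unitOfCoprime j hj'))
    refine ⟨i, ?_⟩
    rw [← ZMod.natCast_eq_natCast_iff]
    have h2 : ((u ^ i : (ZMod (p ^ b))ˣ) : ZMod (p ^ b)) = ((j : ℕ) : ZMod (p ^ b)) := by
      rw [hi]; exact ZMod.coe_unitOfCoprime j hj'
    rw [Nat.cast_pow, hkcast, ← h2, Units.val_pow_eq_pow_val]
  refine ⟨k, hkpos, hkcop, hk2, ?_, hlast⟩
  intro hk1p
  -- then every `j` prime to `p` is `1` modulo `p`; take `j = 2`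
  have h2cop : Nat.Coprime 2 p := by
    rw [Nat.coprime_comm, Nat.Prime.coprime_iff_not_dvd hpp]
    intro h
    exact hp ((Nat.prime_dvd_prime_iff_eq hpp Nat.prime_two).mp h)
  obtain ⟨i, hi⟩ := hlast 2 h2cop
  have hi' : 2 ≡ k ^ i [MOD p] := hi.of_dvd (dvd_pow_self p (by omega))
  have h3 : k ^ i ≡ 1 [MOD p] := by
    have := hk1p.pow i
    rwa [one_pow] at this
  have h4 : 2 ≡ 1 [MOD p] := hi'.trans h3
  have h5 : p ∣ 2 - 1 := (Nat.modEq_iff_dvd' (by norm_num)).mp h4.symm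
  norm_num at h5
  exact hpp.one_lt.ne' h5

theorem exists_isPGen (p : ℕ) [Fact p.Prime] (hp : p ≠ 2) (n : ℕ) (hn : 0 < n) :
    ∃ k : ℕ, IsPGen p n k := by
  have hpp : p.Prime := Fact.out
  set a : ℕ := n.factorization p with ha
  set n' : ℕ := ordCompl[p] n with hn'
  have hnn : p ^ a * n' = n := Nat.ordProj_mul_ordCompl_eq_self n p
  have hcop : Nat.Coprime p n' := Nat.coprime_ordCompl hpp hn.ne'
  by_cases ha0 : a = 0
  · -- `p ∤ n`
    have hn'n : n' = n := by rw [← hnn, ha0, pow_zero, one_mul]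
    obtain ⟨k, hkpos, hkcop, hk1, hkp, -⟩ := exists_gen_mod p hp 1 le_rfl n' hcop
    refine ⟨k, hkpos, ?_, hk1, hkp, ?_⟩
    · rw [← hn'n]
      have h1 : Nat.gcd k n' = Nat.gcd 1 n' := hk1.gcd_eq
      unfold Nat.Coprime
      rw [h1]; exact Nat.gcd_one_left _
    · intro j _ hj1
      refine ⟨0, ?_⟩
      rw [pow_zero, ← hn'n]; exact hj1
  · have ha1 : 1 ≤ a := Nat.one_le_iff_ne_zero.mpr ha0
    obtain ⟨k, hkpos, hkcop, hk1, hkp, hlast⟩ := exists_gen_mod p hp a ha1 n' hcop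
    have hpn : p ∣ n := by
      rw [← hnn]; exact Dvd.dvd.mul_right (dvd_pow_self p ha0) _
    refine ⟨k, hkpos, ?_, hk1, hkp, ?_⟩
    · rw [← hnn]
      refine Nat.Coprime.mul_right (Nat.Coprime.pow_right a hkcop) ?_
      have h1 : Nat.gcd k n' = Nat.gcd 1 n' := hk1.gcd_eq
      unfold Nat.Coprime
      rw [h1]; exact Nat.gcd_one_left _
    · intro j hjn hj1
      have hjp : Nat.Coprime j p := Nat.Coprime.coprime_dvd_right hpn hjn
      obtain ⟨i, hi⟩ := hlast j hjp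
      refine ⟨i, ?_⟩
      have h2 : j ≡ k ^ i [MOD n'] := by
        have := hk1.pow i
        rw [one_pow] at this
        exact hj1.trans this.symm
      rw [← hnn]
      exact (Nat.modEq_and_modEq_iff_modEq_mul (Nat.Coprime.pow_left a hcop)).mp ⟨hi, h2⟩

end Cfsg.Agent.Helper48.PRatR0
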