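-- helper48: piece (TOP2) of helper82's WANTED #4790 for S4892: descent to `H = N C_G(Q)`; the unique
-- `p`-rational good extension of `θ` to `H` is `G`-invariant.
import Mathlib
import Cfsg.Agent.Helper82.PRat.Defs
import Cfsg.Agent.Helper78.IrrTransport

set_option autoImplicit false

namespace Cfsg.Agent.Helper48.PRatTOP2

open Cfsg Cfsg.Agent.Helper82.PRat Cfsg.Agent.Helper78

variable {G : Type*} [Group G] [Finite G] (p : ℕ) [Fact p.Prime] (M : Ideal AlgInt)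
  (N : Subgroup G) [N.Normal]

/-- The conclusion of the main lemma (`main_cover` of helper82's skeleton) for the group `↥H` and its
normal subgroup `N.subgroupOf H`. -/
def MainCoverAt (H : Subgroup G) : Prop :=
  ∀ (Q' : Sylow p ↥(N.subgroupOf H))
    (_ : N.subgroupOf H ⊔ Subgroup.centralizer
      (((Q' : Subgroup ↥(N.subgroupOf H)).map (N.subgroupOf H).subtype : Subgroup ↥H) : Set ↥H) = ⊤)
    (θ' : IrrCharacter ↥(N.subgroupOf H))
    (_ : ∀ g : ↥H, ∀ n n' : ↥(N.subgroupOf H), (n' : ↥H) = g * (n : ↥H) * g⁻¹ →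
      (θ' : ↥(N.subgroupOf H) → ℂ) n' = (θ' : ↥(N.subgroupOf H) → ℂ) n)
    (_ : ¬ p ∣ charDegree (θ' : ↥(N.subgroupOf H) → ℂ))
    (_ : IsPRat p (θ' : ↥(N.subgroupOf H) → ℂ))
    (_ : θ' ∈ principalBlock M ↥(N.subgroupOf H)),
    ∃ χ : IrrCharacter ↥H,
      (∀ x : ↥(N.subgroupOf H), (χ : ↥H → ℂ) x = (θ' : ↥(N.subgroupOf H) → ℂ) x) ∧
      Good M (N.subgroupOf H) χ ∧ IsPRat p (χ : ↥H → ℂ) ∧
      ∀ χ' : IrrCharacter ↥H,
        (∀ x : ↥(N.subgroupOf H), (χ' : ↥H → ℂ) x = (θ' : ↥(N.subgroupOf H) → ℂ) x) →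
        Good M (N.subgroupOf H) χ' → IsPRat p (χ' : ↥H → ℂ) → χ' = χ

omit [Finite G] [Fact p.Prime] in
/-- (TOP2) with the main lemma and the normality of `H` as hypotheses. -/
theorem exists_invariant_ext_of_main (Q : Sylow p ↥N)
    (H : Subgroup G)
    (hH : H = N ⊔ Subgroup.centralizer (((Q : Subgroup ↥N).map N.subtype : Subgroup G) : Set G))
    (hNH : N ≤ H) (hHn : H.Normal) (hmain : MainCoverAt p M N H) (θ : IrrCharacter ↥N)
    (hinv : ∀ g : G, ∀ n n' : ↥N, (n' : G) = g * (n : G) * g⁻¹ → (θ : ↥N → ℂ) n' = (θ : ↥N → ℂ) n)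
    (hdeg : ¬ p ∣ charDegree (θ : ↥N → ℂ)) (hrat : IsPRat p (θ : ↥N → ℂ))
    (hθ : θ ∈ principalBlock M ↥N) :
    ∃ χ₂ : IrrCharacter ↥H, χ₂ ∈ principalBlock M ↥H ∧ IsPRat p (χ₂ : ↥H → ℂ) ∧
      (∀ n : ↥N, (χ₂ : ↥H → ℂ) ⟨(n : G), hNH n.2⟩ = (θ : ↥N → ℂ) n) ∧
      ∀ (g : G) (h h' : ↥H), (h' : G) = g * (h : G) * g⁻¹ →
        (χ₂ : ↥H → ℂ) h' = (χ₂ : ↥H → ℂ) h := by
  classical
  have := hHn
  -- the transported data
  set NH : Subgroup ↥H := N.subgroupOf H with hNHdef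
  let e : ↥NH ≃* ↥N := Subgroup.subgroupOfEquivOfLe hNH
  have he : ∀ x : ↥NH, ((e x : ↥N) : G) = ((x : ↥H) : G) := fun x => rfl
  let θH : IrrCharacter ↥NH := irrMap e.symm θ
  have hθH : ∀ x : ↥NH, (θH : ↥NH → ℂ) x = (θ : ↥N → ℂ) (e x) := fun x => by
    rw [irrMap_apply, MulEquiv.symm_symm]
  -- the Sylow subgroup
  let QH : Sylow p ↥NH := Q.comapOfInjective e.toMonoidHom e.injective (by
    intro x _
    exact ⟨e.symm x, e.apply_symm_apply x⟩)
  have hQH : ∀ x : ↥NH, x ∈ (QH : Subgroup ↥NH) ↔ e x ∈ (Q : Subgroup ↥N) := fun x => Iff.rfl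
  have hcov : NH ⊔ Subgroup.centralizer
      (((QH : Subgroup ↥NH).map NH.subtype : Subgroup ↥H) : Set ↥H) = ⊤ := by
    rw [eq_top_iff]
    intro h _
    have hh : (h : G) ∈ N ⊔ Subgroup.centralizer
        (((Q : Subgroup ↥N).map N.subtype : Subgroup G) : Set G) := by
      rw [← hH]; exact h.2
    obtain ⟨n, hn, c, hc, hnc⟩ := Subgroup.mem_sup_of_normal_left.mp hh
    have hcH : c ∈ H := by
      have : c = n⁻¹ * (h : G) := by rw [← hnc]; group
      rw [this]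
      exact H.mul_mem (H.inv_mem (hNH hn)) h.2
    have h1 : h = (⟨n, hNH hn⟩ : ↥H) * ⟨c, hcH⟩ := Subtype.ext hnc.symm
    rw [h1]
    refine Subgroup.mul_mem_sup ?_ ?_
    · show (⟨n, hNH hn⟩ : ↥H) ∈ N.subgroupOf H
      rw [Subgroup.mem_subgroupOf]; exact hn
    · rw [Subgroup.mem_centralizer_iff]
      rintro _ ⟨x, hx, rfl⟩
      apply Subtype.ext
      have h2 : ((x : ↥H) : G) ∈ ((Q : Subgroup ↥N).map N.subtype : Subgroup G) :=
        ⟨e x, (hQH x).mp hx, he x⟩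
      have h3 := Subgroup.mem_centralizer_iff.mp hc _ h2
      simpa using h3
  have hinvH : ∀ g : ↥H, ∀ n n' : ↥NH, (n' : ↥H) = g * (n : ↥H) * g⁻¹ →
      (θH : ↥NH → ℂ) n' = (θH : ↥NH → ℂ) n := by
    intro g n n' hnn
    rw [hθH, hθH]
    apply hinv (g : G) (e n) (e n')
    rw [he, he, hnn]
    simp
  have hdegH : ¬ p ∣ charDegree (θH : ↥NH → ℂ) := by
    have : charDegree (θH : ↥NH → ℂ) = charDegree (θ : ↥N → ℂ) := by
      unfold charDegree
      rw [hθH, map_one]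
    rw [this]; exact hdeg
  have hratH : IsPRat p (θH : ↥NH → ℂ) := by
    obtain ⟨n, hn, hv⟩ := hrat
    exact ⟨n, hn, fun x => by rw [hθH]; exact hv _⟩
  have hθHB : θH ∈ principalBlock M ↥NH :=
    (irrMap_mem_principalBlock_iff M e.symm θ).mpr hθ
  obtain ⟨χ₂, hχ₂N, hχ₂good, hχ₂rat, hχ₂uniq⟩ := hmain QH hcov θH hinvH hdegH hratH hθHB
  refine ⟨χ₂, ?_, hχ₂rat, ?_, ?_⟩
  · -- principal block: `Good` with `J = ⊤`
    obtain ⟨ξ, hξB, hξ⟩ := hχ₂good ⊤ le_top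
    have h1 : irrMap (Subgroup.topEquiv : ↥(⊤ : Subgroup ↥H) ≃* ↥H) ξ = χ₂ := by
      apply Subtype.ext
      funext h
      rw [irrMap_apply, hξ]
      rfl
    rw [← h1]
    exact (irrMap_mem_principalBlock_iff M _ ξ).mpr hξB
  · intro n
    have h1 := hχ₂N (e.symm n)
    rw [hθH, MulEquiv.apply_symm_apply] at h1
    rw [← h1]
    rfl
  · intro g h h' hh'
    -- conjugation by `g` on `↥H`
    let α : ↥H ≃* ↥H := MulAut.conjNormal g
    have hα : ∀ x : ↥H, ((α x : ↥H) : G) = g * (x : G) * g⁻¹ := fun x =>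
      MulAut.conjNormal_apply g x
    have hαs : ∀ x : ↥H, ((α.symm x : ↥H) : G) = g⁻¹ * (x : G) * g := by
      intro x
      have h1 := hα (α.symm x)
      rw [MulEquiv.apply_symm_apply] at h1
      rw [h1]; group
    have hαN : ∀ x : ↥H, x ∈ NH → α x ∈ NH := by
      intro x hx
      rw [hNHdef, Subgroup.mem_subgroupOf] at hx ⊢
      rw [hα]
      exact Subgroup.Normal.conj_mem inferInstance _ hx g
    have hαsN : ∀ x : ↥H, x ∈ NH → α.symm x ∈ NH := by
      intro x hx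
      rw [hNHdef, Subgroup.mem_subgroupOf] at hx ⊢
      rw [hαs]
      have := Subgroup.Normal.conj_mem (inferInstance : N.Normal) _ hx g⁻¹
      rwa [inv_inv] at this
    have hχ' : irrMap α χ₂ = χ₂ := by
      apply hχ₂uniq
      · -- restriction to `NH`
        intro x
        rw [irrMap_apply]
        have h1 := hχ₂N ⟨α.symm (x : ↥H), hαsN _ x.2⟩
        rw [h1, hθH, hθH]
        apply hinv g⁻¹
        rw [he, he]
        show ((α.symm (x : ↥H) : ↥H) : G) = g⁻¹ * ((x : ↥H) : G) * g⁻¹⁻¹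
        rw [hαs, inv_inv]
      · -- good
        intro J hJ
        set J' : Subgroup ↥H := J.map (α.symm : ↥H →* ↥H) with hJ'
        have hJ'N : NH ≤ J' := by
          intro x hx
          exact ⟨α x, hJ (hαN x hx), α.symm_apply_apply x⟩
        obtain ⟨ξ', hξ'B, hξ'⟩ := hχ₂good J' hJ'N
        let β : ↥J ≃* ↥J' := α.symm.subgroupMap J
        refine ⟨irrMap β.symm ξ', (irrMap_mem_principalBlock_iff M β.symm ξ').mpr hξ'B, ?_⟩
        intro y
        rw [irrMap_apply, MulEquiv.symm_symm, hξ', irrMap_apply]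
        rfl
      · obtain ⟨n, hn, hv⟩ := hχ₂rat
        exact ⟨n, hn, fun x => by rw [irrMap_apply]; exact hv _⟩
    have h2 : h' = α h := Subtype.ext (by rw [hα]; exact hh')
    rw [h2]
    conv_lhs => rw [← hχ']
    exact irrMap_apply_apply α χ₂ h

omit [Finite G] in
/-- `N C_G(Q)` is normal in `G` (Frattini). -/
theorem normal_sup_centralizer' [Finite (Sylow p ↥N)] (Q : Sylow p ↥N) :
    (N ⊔ Subgroup.centralizer (((Q : Subgroup ↥N).map N.subtype : Subgroup G) : Set G)).Normal := by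
  set QG : Subgroup G := (Q : Subgroup ↥N).map N.subtype with hQG
  have hfr : Subgroup.normalizer (QG : Set G) ⊔ N = ⊤ := Sylow.normalizer_sup_eq_top Q
  -- conjugation by an element normalizing `QG` preserves `N ⊔ C_G(QG)`
  have key : ∀ x : G, x ∈ Subgroup.normalizer (QG : Set G) →
      ∀ h : G, h ∈ N ⊔ Subgroup.centralizer (QG : Set G) →
        x * h * x⁻¹ ∈ N ⊔ Subgroup.centralizer (QG : Set G) := by
    intro x hx h hh
    obtain ⟨n, hn, c, hc, rfl⟩ := Subgroup.mem_sup_of_normal_left.mp hh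
    have h1 : x * (n * c) * x⁻¹ = (x * n * x⁻¹) * (x * c * x⁻¹) := by group
    rw [h1]
    refine Subgroup.mul_mem_sup (Subgroup.Normal.conj_mem inferInstance n hn x) ?_
    rw [Subgroup.mem_centralizer_iff]
    intro q hq
    have hq' : x⁻¹ * q * x ∈ QG := by
      have := (Subgroup.mem_normalizer_iff.mp (Subgroup.inv_mem _ hx) q).mp hq
      rwa [inv_inv] at this
    have h2 := Subgroup.mem_centralizer_iff.mp hc _ hq'
    calc q * (x * c * x⁻¹) = x * ((x⁻¹ * q * x) * c) * x⁻¹ := by group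
      _ = x * (c * (x⁻¹ * q * x)) * x⁻¹ := by rw [h2]
      _ = x * c * x⁻¹ * q := by group
  constructor
  intro h hh g
  have hg : g ∈ Subgroup.normalizer (QG : Set G) ⊔ N := by rw [hfr]; exact Subgroup.mem_top g
  obtain ⟨n, hn, x, hx, rfl⟩ := Subgroup.mem_sup_of_normal_right.mp hg
  -- `g = n * x` with `n` normalizing `QG` and `x ∈ N`
  have h1 : n * x * h * (n * x)⁻¹ = n * (x * h * x⁻¹) * n⁻¹ := by group
  rw [h1]
  apply key n hn
  exact Subgroup.mul_mem _ (Subgroup.mul_mem _ (Subgroup.mem_sup_left hx) hh)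
    (Subgroup.inv_mem _ (Subgroup.mem_sup_left hx))

/-- (TOP2) with only the main lemma as a hypothesis. -/
theorem exists_invariant_ext_of_main' (Q : Sylow p ↥N)
    (H : Subgroup G)
    (hH : H = N ⊔ Subgroup.centralizer (((Q : Subgroup ↥N).map N.subtype : Subgroup G) : Set G))
    (hNH : N ≤ H) (hmain : MainCoverAt p M N H) (θ : IrrCharacter ↥N)
    (hinv : ∀ g : G, ∀ n n' : ↥N, (n' : G) = g * (n : G) * g⁻¹ → (θ : ↥N → ℂ) n' = (θ : ↥N → ℂ) n)
    (hdeg : ¬ p ∣ charDegree (θ : ↥N → ℂ)) (hrat : IsPRat p (θ : ↥N → ℂ))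
    (hθ : θ ∈ principalBlock M ↥N) :
    ∃ χ₂ : IrrCharacter ↥H, χ₂ ∈ principalBlock M ↥H ∧ IsPRat p (χ₂ : ↥H → ℂ) ∧
      (∀ n : ↥N, (χ₂ : ↥H → ℂ) ⟨(n : G), hNH n.2⟩ = (θ : ↥N → ℂ) n) ∧
      ∀ (g : G) (h h' : ↥H), (h' : G) = g * (h : G) * g⁻¹ →
        (χ₂ : ↥H → ℂ) h' = (χ₂ : ↥H → ℂ) h := by
  have hHn : H.Normal := by
    rw [hH]; exact normal_sup_centralizer' p N Q
  exact exists_invariant_ext_of_main p M N Q H hH hNH hHn hmain θ hinv hdeg hrat hθ

end Cfsg.Agent.Helper48.PRatTOP2
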