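import Mathlib
import Cfsg.Agent.Helper68.PronBU1.Defs

set_option autoImplicit false

namespace Cfsg.Agent.Helper48.PronBU1

open Matrix Cfsg.Agent.Helper99.Pron Cfsg.Agent.Helper68.PronBU1

variable {F : Type*} [Field F]

/-- (FE) an element of order 8: `l⁴ = -1`, and `l^(q+1) ≠ 1`. -/
theorem exists_eight (q : ℕ) (hq : q % 4 = 1) (hO8 : ∃ x : Fˣ, orderOf x = 8) :
    ∃ l : Fˣ, l ∈ Lam2 F ∧ l ^ 4 = -1 ∧ l ^ (q + 1) ≠ 1 := by
  obtain ⟨x, hx⟩ := hO8
  have h8 : x ^ 8 = 1 := by rw [← hx]; exact pow_orderOf_eq_one x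
  refine ⟨x, ⟨3, by simpa using h8⟩, ?_, ?_⟩
  · have h4 : x ^ 4 ≠ 1 := by
      intro h
      have := orderOf_dvd_of_pow_eq_one h
      rw [hx] at this
      omega
    have hF : ((x : F) ^ 4 - 1) * ((x : F) ^ 4 + 1) = 0 := by
      have : ((x ^ 8 : Fˣ) : F) = 1 := by rw [h8]; rfl
      rw [Units.val_pow_eq_pow_val] at this
      linear_combination this
    rcases mul_eq_zero.1 hF with h | h
    · exfalso
      apply h4
      apply Units.ext
      rw [Units.val_pow_eq_pow_val, Units.val_one]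
      linear_combination h
    · apply Units.ext
      rw [Units.val_pow_eq_pow_val, Units.val_neg, Units.val_one]
      linear_combination h
  · intro h
    have := orderOf_dvd_of_pow_eq_one h
    rw [hx] at this
    omega

end Cfsg.Agent.Helper48.PronBU1
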