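import Mathlib
import Cfsg.Agent.Helper68.PronBU1.Defs

set_option autoImplicit false

namespace Cfsg.Agent.Helper48.PronBU1

open Matrix Cfsg.Agent.Helper99.Pron Cfsg.Agent.Helper68.PronBU1

variable {F : Type*} [Field F]

/-- (MU1) the elements of `Pp q` preserve the hyperbolic hermitian form. -/
theorem hyp_Pp (q : ℕ) (hq : q ≠ 0) : ∀ a ∈ Pp (F := F) q,
    ((a : Matrix (Fin 2) (Fin 2) F))ᵀ * Jm * (a : Matrix (Fin 2) (Fin 2) F).map (· ^ q) = Jm := by
  rintro a ⟨l, m, ⟨-, -, h1, h2⟩, rfl | rfl⟩
  · have e1 : (m : F) * (l : F) ^ q = 1 := by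
      have := congrArg (fun u : Fˣ => (u : F)) h1
      simpa using this
    have e2 : (l : F) * (m : F) ^ q = 1 := by
      have := congrArg (fun u : Fˣ => (u : F)) h2
      simpa using this
    rw [dgl_val, Jm]
    ext i j
    fin_cases i <;> fin_cases j <;>
      simp [Matrix.mul_apply, Fin.sum_univ_two, Matrix.map_apply, zero_pow hq, e1, e2]
  · have e1 : (m : F) * (l : F) ^ q = 1 := by
      have := congrArg (fun u : Fˣ => (u : F)) h1
      simpa using this
    have e2 : (l : F) * (m : F) ^ q = 1 := by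
      have := congrArg (fun u : Fˣ => (u : F)) h2
      simpa using this
    rw [Units.val_mul, dgl_val, tau_val, Jm]
    ext i j
    fin_cases i <;> fin_cases j <;>
      simp [Matrix.mul_apply, Fin.sum_univ_two, Matrix.map_apply, zero_pow hq, e1, e2]

end Cfsg.Agent.Helper48.PronBU1
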