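import Cfsg.Agent.Helper61.PslDefs

/-!
# (R3) rank three data for the point stabiliser from four orbits of a two point stabiliser
(piece for S3616, helper61)
-/

set_option autoImplicit false

namespace Cfsg.Agent.Helper48.Psl

open Equiv MulAction Cfsg.Agent.Helper61.Zp DihedralGroup Cfsg.Agent.Helper61.Orbital

/-- (R3) rank three data for the point stabiliser from four orbits of a two point stabiliser. -/
theorem exists_rank3Data_ofStabilizer {G Ω : Type*} [Group G] [MulAction G Ω] [Finite Ω]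
    (α β : Ω) (hβα : β ≠ α)
    (h4 : Nat.card (orbitRel.Quotient ↥(stabilizer G α ⊓ stabilizer G β) Ω) = 4) :
    ∃ b₁ b₂ : ↥(SubMulAction.ofStabilizer G α),
      Rank3Data ↥(stabilizer G α)
        (⟨β, (SubMulAction.mem_ofStabilizer_iff _ _).mpr hβα⟩ : ↥(SubMulAction.ofStabilizer G α))
        b₁ b₂ := by
  classical
  -- fixed points of `K = G_α ⊓ G_β`
  have hKα : ∀ k : ↥(stabilizer G α ⊓ stabilizer G β), k • α = α := fun k => k.2.1
  have hKβ : ∀ k : ↥(stabilizer G α ⊓ stabilizer G β), k • β = β := fun k => k.2.2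
  have horbα : ∀ x : Ω, x ∈ orbit ↥(stabilizer G α ⊓ stabilizer G β) α → x = α := by
    rintro x ⟨k, rfl⟩
    exact hKα k
  have horbβ : ∀ x : Ω, x ∈ orbit ↥(stabilizer G α ⊓ stabilizer G β) β → x = β := by
    rintro x ⟨k, rfl⟩
    exact hKβ k
  have hfin : Finite (orbitRel.Quotient ↥(stabilizer G α ⊓ stabilizer G β) Ω) :=
    Quotient.finite _
  have hft : Fintype (orbitRel.Quotient ↥(stabilizer G α ⊓ stabilizer G β) Ω) :=
    Fintype.ofFinite _
  have hcardQ : Fintype.card (orbitRel.Quotient ↥(stabilizer G α ⊓ stabilizer G β) Ω) = 4 := by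
    rw [← Nat.card_eq_fintype_card]
    exact h4
  obtain ⟨qα, hqα⟩ : ∃ q : orbitRel.Quotient ↥(stabilizer G α ⊓ stabilizer G β) Ω,
      q = Quotient.mk'' α := ⟨_, rfl⟩
  obtain ⟨qβ, hqβ⟩ : ∃ q : orbitRel.Quotient ↥(stabilizer G α ⊓ stabilizer G β) Ω,
      q = Quotient.mk'' β := ⟨_, rfl⟩
  have hmkα : ∀ x : Ω, (Quotient.mk'' x : orbitRel.Quotient ↥(stabilizer G α ⊓ stabilizer G β) Ω)
      = qα → x = α := by
    intro x hx
    rw [hqα] at hx
    exact horbα x (orbitRel_apply.mp (Quotient.eq''.mp hx))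
  have hmkβ : ∀ x : Ω, (Quotient.mk'' x : orbitRel.Quotient ↥(stabilizer G α ⊓ stabilizer G β) Ω)
      = qβ → x = β := by
    intro x hx
    rw [hqβ] at hx
    exact horbβ x (orbitRel_apply.mp (Quotient.eq''.mp hx))
  have hqαβ : qα ≠ qβ := by
    intro heq
    rw [hqα] at heq
    exact hβα (hmkβ α heq).symm
  have hcard2 : ((Finset.univ.erase qα).erase qβ).card = 2 := by
    rw [Finset.card_erase_of_mem, Finset.card_erase_of_mem (Finset.mem_univ _), Finset.card_univ,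
      hcardQ]
    exact Finset.mem_erase.mpr ⟨hqαβ.symm, Finset.mem_univ _⟩
  obtain ⟨q₁, q₂, hq12, hset⟩ := Finset.card_eq_two.mp hcard2
  have hmem : ∀ q, q ≠ qα → q ≠ qβ → q = q₁ ∨ q = q₂ := by
    intro q h1 h2
    have : q ∈ (Finset.univ.erase qα).erase qβ :=
      Finset.mem_erase.mpr ⟨h2, Finset.mem_erase.mpr ⟨h1, Finset.mem_univ _⟩⟩
    rw [hset] at this
    simpa using this
  have hq1 : q₁ ≠ qβ ∧ q₁ ≠ qα := by
    have : q₁ ∈ (Finset.univ.erase qα).erase qβ := by rw [hset]; simp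
    rw [Finset.mem_erase, Finset.mem_erase] at this
    exact ⟨this.1, this.2.1⟩
  have hq2 : q₂ ≠ qβ ∧ q₂ ≠ qα := by
    have : q₂ ∈ (Finset.univ.erase qα).erase qβ := by rw [hset]; simp
    rw [Finset.mem_erase, Finset.mem_erase] at this
    exact ⟨this.1, this.2.1⟩
  -- representatives
  obtain ⟨c₁, hc₁⟩ : ∃ c : Ω, Quotient.mk'' c = q₁ := Quotient.exists_rep q₁
  obtain ⟨c₂, hc₂⟩ : ∃ c : Ω, Quotient.mk'' c = q₂ := Quotient.exists_rep q₂
  have hc₁α : c₁ ≠ α := by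
    rintro rfl
    exact hq1.2 (by rw [← hc₁, hqα])
  have hc₁β : c₁ ≠ β := by
    rintro rfl
    exact hq1.1 (by rw [← hc₁, hqβ])
  have hc₂α : c₂ ≠ α := by
    rintro rfl
    exact hq2.2 (by rw [← hc₂, hqα])
  have hc₂β : c₂ ≠ β := by
    rintro rfl
    exact hq2.1 (by rw [← hc₂, hqβ])
  -- from `K`-orbits to orbits of the stabiliser of `β` in `G_α`
  have hlift : ∀ (c : Ω) (hc : c ≠ α) (b : ↥(SubMulAction.ofStabilizer G α)),
      (Quotient.mk'' b.1 : orbitRel.Quotient ↥(stabilizer G α ⊓ stabilizer G β) Ω) =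
        Quotient.mk'' c →
      b ∈ orbit ↥(stabilizer ↥(stabilizer G α)
        (⟨β, (SubMulAction.mem_ofStabilizer_iff _ _).mpr hβα⟩ : ↥(SubMulAction.ofStabilizer G α)))
        (⟨c, (SubMulAction.mem_ofStabilizer_iff _ _).mpr hc⟩ : ↥(SubMulAction.ofStabilizer G α)) := by
    intro c hc b hb
    obtain ⟨k, hk⟩ := orbitRel_apply.mp (Quotient.eq''.mp hb)
    have hk' : (k : G) • c = b.1 := hk
    refine ⟨⟨⟨(k : G), k.2.1⟩, ?_⟩, ?_⟩
    · rw [mem_stabilizer_iff]
      apply Subtype.ext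
      exact k.2.2
    · apply Subtype.ext
      exact hk'
  have hdown : ∀ (c : Ω) (hc : c ≠ α) (b : ↥(SubMulAction.ofStabilizer G α)),
      b ∈ orbit ↥(stabilizer ↥(stabilizer G α)
        (⟨β, (SubMulAction.mem_ofStabilizer_iff _ _).mpr hβα⟩ : ↥(SubMulAction.ofStabilizer G α)))
        (⟨c, (SubMulAction.mem_ofStabilizer_iff _ _).mpr hc⟩ : ↥(SubMulAction.ofStabilizer G α)) →
      (Quotient.mk'' b.1 : orbitRel.Quotient ↥(stabilizer G α ⊓ stabilizer G β) Ω) =
        Quotient.mk'' c := by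
    rintro c hc b ⟨s, rfl⟩
    apply Quotient.eq''.mpr
    rw [orbitRel_apply]
    have hsβ : ((s : ↥(stabilizer G α)) : G) • β = β := by
      have := s.2
      rw [mem_stabilizer_iff] at this
      exact congrArg Subtype.val this
    exact ⟨⟨((s : ↥(stabilizer G α)) : G), ⟨(s : ↥(stabilizer G α)).2, hsβ⟩⟩, rfl⟩
  refine ⟨⟨c₁, (SubMulAction.mem_ofStabilizer_iff _ _).mpr hc₁α⟩,
    ⟨c₂, (SubMulAction.mem_ofStabilizer_iff _ _).mpr hc₂α⟩, ?_, ?_, ?_, ?_⟩
  · intro h
    exact hc₁β (congrArg Subtype.val h)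
  · intro h
    exact hc₂β (congrArg Subtype.val h)
  · intro hmem2
    have := hdown c₁ hc₁α _ hmem2
    exact hq12 (by rw [← hc₁, ← hc₂]; exact this.symm)
  · intro b hb
    have hbβ : b.1 ≠ β := fun h => hb (Subtype.ext h)
    have hbα : b.1 ≠ α := (SubMulAction.mem_ofStabilizer_iff _ _).mp b.2
    rcases hmem (Quotient.mk'' b.1) (fun h => hbα (hmkα _ h)) (fun h => hbβ (hmkβ _ h)) with h | h
    · left
      exact hlift c₁ hc₁α b (by rw [h, hc₁])
    · right
      exact hlift c₂ hc₂α b (by rw [h, hc₂])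

end Cfsg.Agent.Helper48.Psl
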