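import Cfsg.Agent.Helper61.PslDefs

/-!
# (WINV) a permutation normalising a rank three group with unequal subdegrees preserves the orbitals
(piece for S3616, helper61)
-/

set_option autoImplicit false

namespace Cfsg.Agent.Helper48.Psl

open Equiv MulAction Cfsg.Agent.Helper61.Zp DihedralGroup Cfsg.Agent.Helper61.Orbital
open scoped Classical

/-- (WINV) a permutation normalising a rank three group with unequal subdegrees preserves the
orbitals. -/
theorem orb_perm_invariant {G V : Type*} [Group G] [Fintype V] [DecidableEq V] [MulAction G V]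
    [IsPretransitive G V] {a b₁ b₂ : V} (h : Rank3Data G a b₁ b₂)
    (hne : Nat.card (orbit (stabilizer G a) b₁) ≠ Nat.card (orbit (stabilizer G a) b₂))
    (w : Perm V) (φ : G → G) (hφ : ∀ (g : G) (v : V), φ g • (w v) = w (g • v)) (x y : V) :
    Orb G a b₁ (w x) (w y) ↔ Orb G a b₁ x y := by
  -- invariance of the transported relation
  have hinv : ∀ (g : G) (x y : V),
      Orb G a b₁ (w (g • x)) (w (g • y)) ↔ Orb G a b₁ (w x) (w y) := by
    intro g x y
    rw [← hφ, ← hφ, orb_smul]
  have hstab : ∀ g : G, g • a = a → ∀ b : V,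
      (Orb G a b₁ (w a) (w (g • b)) ↔ Orb G a b₁ (w a) (w b)) := by
    intro g hg b
    have := hinv g a b
    rwa [hg] at this
  -- the three finite sets
  have hcardS : (Finset.univ.filter (fun y => Orb G a b₁ (w a) (w y))).card =
      Nat.card (orbit (stabilizer G a) b₁) := by
    rw [← card_nbrs a b₁ (w a)]
    apply Finset.card_bij (fun y _ => w y)
    · intro y hy
      simpa using hy
    · intro y _ y' _ hyy
      exact w.injective hyy
    · intro z hz
      refine ⟨w.symm z, ?_, by simp⟩
      simpa using hz
  have hcard1 := card_nbrs_base (G := G) a b₁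
  have hcard2 := card_nbrs_base (G := G) a b₂
  -- membership in `O_i` in terms of stabiliser elements
  have hmemO : ∀ (b z : V), Orb G a b a z → ∃ g : G, g • a = a ∧ g • b = z := fun b z hz => hz
  -- Step 3: `R' a b₁`
  have hb1 : Orb G a b₁ (w a) (w b₁) := by
    by_contra hnot
    have hSO2 : Finset.univ.filter (fun y => Orb G a b₁ (w a) (w y)) ⊆
        Finset.univ.filter (fun y => Orb G a b₂ a y) := by
      intro y hy
      simp only [Finset.mem_filter, Finset.mem_univ, true_and] at hy ⊢
      have hya : y ≠ a := by
        rintro rfl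
        exact h.irrefl _ hy
      rcases h.hcover y hya with h1 | h2
      · exfalso
        obtain ⟨g, hga, hgb⟩ := orb_base_iff.mpr h1
        rw [← hgb, hstab g hga] at hy
        exact hnot hy
      · exact orb_base_iff.mpr h2
    have hSne : (Finset.univ.filter (fun y => Orb G a b₁ (w a) (w y))).Nonempty := by
      rw [← Finset.card_pos, hcardS, ← hcard1, Finset.card_pos]
      exact ⟨b₁, by simpa using orb_self a b₁⟩
    obtain ⟨y, hy⟩ := hSne
    have hy2 := hSO2 hy
    simp only [Finset.mem_filter, Finset.mem_univ, true_and] at hy hy2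
    obtain ⟨g, hga, hgb⟩ := hy2
    have hb2 : Orb G a b₁ (w a) (w b₂) := by
      rw [← hgb, hstab g hga] at hy
      exact hy
    have hO2S : Finset.univ.filter (fun y => Orb G a b₂ a y) ⊆
        Finset.univ.filter (fun y => Orb G a b₁ (w a) (w y)) := by
      intro z hz
      simp only [Finset.mem_filter, Finset.mem_univ, true_and] at hz ⊢
      obtain ⟨g', hga', hgb'⟩ := hz
      rw [← hgb', hstab g' hga']
      exact hb2
    have heq := Finset.Subset.antisymm hSO2 hO2S
    apply hne
    rw [← hcardS, ← hcard2, heq]
  -- Step 4: `S = O₁`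
  have hO1S : Finset.univ.filter (fun y => Orb G a b₁ a y) ⊆
      Finset.univ.filter (fun y => Orb G a b₁ (w a) (w y)) := by
    intro z hz
    simp only [Finset.mem_filter, Finset.mem_univ, true_and] at hz ⊢
    obtain ⟨g', hga', hgb'⟩ := hz
    rw [← hgb', hstab g' hga']
    exact hb1
  have hSeq : Finset.univ.filter (fun y => Orb G a b₁ a y) =
      Finset.univ.filter (fun y => Orb G a b₁ (w a) (w y)) :=
    Finset.eq_of_subset_of_card_le hO1S (by rw [hcardS, hcard1])
  have hbase : ∀ z : V, Orb G a b₁ (w a) (w z) ↔ Orb G a b₁ a z := by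
    intro z
    have := Finset.ext_iff.mp hSeq z
    simp only [Finset.mem_filter, Finset.mem_univ, true_and] at this
    exact this.symm
  -- Step 5: general pair
  obtain ⟨g, rfl⟩ := exists_smul_eq G a x
  have hy : y = g • (g⁻¹ • y) := (smul_inv_smul g y).symm
  rw [hy, hinv, hbase, orb_smul]

end Cfsg.Agent.Helper48.Psl
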