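import Mathlib
import Cfsg.Agent.Helper9.PsuA.Defs
import Cfsg.Agent.Helper43.PsuM.RDefs
import Cfsg.Agent.Helper96.StLift.Basic
import Cfsg.Agent.Helper84.RU3.Defs
import Cfsg.Agent.Helper86.RU3TR
import Cfsg.Agent.Helper13.U3O_HC
import Cfsg.Agent.Helper53.U3O_FAC

/-!
Helper48: leaf of helper9 S2089 block A-p.
-/

set_option autoImplicit false
set_option linter.unusedSectionVars false
set_option linter.unusedVariables false

namespace Cfsg.Agent.Helper48.PsuA

open scoped commutatorElement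
open Cfsg.Agent.Helper46.U3O Cfsg.Agent.Helper84.RU3 Cfsg.Agent.Helper9.PsuA Cfsg.Agent.Helper96.StLift

universe u

section abstract

variable {K : Type*} [Field K] (bar : K →+* K) [BarInv K bar] {G : Type*} [Group G] {Γ : Type*} [Group Γ]
  (d : Datum bar G) (τ : Γ →* G) (hτ : Function.Surjective τ) (hc : τ.ker ≤ Subgroup.center Γ)

omit [BarInv K bar] in
/-- (COP) `|Kˣ|` is prime to the characteristic. -/
theorem card_units_coprime [Finite K] (p : ℕ) [Fact p.Prime] [CharP K p] : (Nat.card Kˣ).Coprime p := by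
  have hp : p.Prime := Fact.out
  have := Fintype.ofFinite K
  obtain ⟨n, -, hn⟩ := FiniteField.card K p
  rw [Nat.card_units, Nat.card_eq_fintype_card, hn, Nat.coprime_comm, hp.coprime_iff_not_dvd]
  intro h
  have h1 : p ∣ p ^ (n : ℕ) := dvd_pow_self p n.ne_zero
  have hpos : 1 ≤ p ^ (n : ℕ) := Nat.one_le_pow _ _ hp.pos
  have h2 : p ∣ p ^ (n : ℕ) - (p ^ (n : ℕ) - 1) := Nat.dvd_sub h1 h
  have h3 : p ^ (n : ℕ) - (p ^ (n : ℕ) - 1) = 1 := by omega
  rw [h3] at h2
  exact hp.one_lt.ne' (Nat.dvd_one.1 h2)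

end abstract

end Cfsg.Agent.Helper48.PsuA
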