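import Mathlib
import Cfsg.Agent.Helper9.PsuA.Defs
import Cfsg.Agent.Helper43.PsuM.RDefs
import Cfsg.Agent.Helper96.StLift.Basic
import Cfsg.Agent.Helper84.RU3.Defs
import Cfsg.Agent.Helper86.RU3TR
import Cfsg.Agent.Helper13.U3O_HC
import Cfsg.Agent.Helper53.U3O_FAC

/-!
Helper48: leaf of helper9 S2089 block A-p.
-/

set_option autoImplicit false
set_option linter.unusedSectionVars false
set_option linter.unusedVariables false

namespace Cfsg.Agent.Helper48.PsuA

open scoped commutatorElement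
open Cfsg.Agent.Helper46.U3O Cfsg.Agent.Helper84.RU3 Cfsg.Agent.Helper9.PsuA Cfsg.Agent.Helper96.StLift

universe u

section field

variable {K : Type*} [Field K] [Fintype K] {q : ℕ} (hK : Fintype.card K = q ^ 2) (bar : K →+* K)
  (hbar : ∀ x, bar x = x ^ q) [BarInv K bar]

include hK hbar

/-- (F1) a norm-one torus element acting non-trivially on `U / Z`. -/
theorem exists_norm_one (hq : 3 ≤ q) : ∃ l : Kˣ, nu bar l = 1 ∧ mu bar l ≠ 1 := by
  classical
  obtain ⟨r, rfl⟩ : ∃ r, q = r + 1 := ⟨q - 1, by omega⟩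
  have hr : 2 ≤ r := by omega
  obtain ⟨g, hg⟩ := IsCyclic.exists_generator (α := Kˣ)
  have hord : orderOf g = r * (r + 2) := by
    rw [orderOf_eq_card_of_forall_mem_zpowers hg, Nat.card_eq_fintype_card, Fintype.card_units, hK]
    have : (r + 1) ^ 2 = r * (r + 2) + 1 := by ring
    omega
  have hl1' : (g ^ r) ^ (r + 2) = 1 := by
    rw [← pow_mul, ← hord, pow_orderOf_eq_one]
  obtain ⟨l, hl⟩ : ∃ l : Kˣ, l = g ^ r := ⟨_, rfl⟩
  have hl1 : l ^ (r + 2) = 1 := by rw [hl]; exact hl1'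
  have hbarl : bar (l : K) = ((l ^ (r + 1) : Kˣ) : K) := by
    rw [hbar]
    exact (Units.val_pow_eq_pow_val _ _).symm
  refine ⟨l, ?_, ?_⟩
  · unfold nu
    rw [hbarl, ← Units.val_mul, ← pow_succ', hl1, Units.val_one]
  · intro h
    unfold mu at h
    rw [div_eq_one_iff_eq (Units.ne_zero _), hbarl, ← Units.val_pow_eq_pow_val] at h
    have h2 : (l ^ (r + 1)) ^ 2 = l := Units.ext h
    -- l^(2r+2) = l and l^(r+2) = 1 give l^3 = 1
    have h3 : l ^ 3 = 1 := by
      have e1 : (l ^ (r + 1)) ^ 2 * l ^ 2 = (l ^ (r + 2)) ^ 2 := by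
        rw [← pow_mul, ← pow_add, ← pow_mul]
        congr 1
        ring
      rw [h2, hl1, one_pow] at e1
      rw [pow_succ' l 2]
      exact e1
    rw [hl, ← pow_mul] at h3
    have hdvd : orderOf g ∣ r * 3 := orderOf_dvd_of_pow_eq_one h3
    rw [hord] at hdvd
    have hle : r * (r + 2) ≤ r * 3 := Nat.le_of_dvd (by omega) hdvd
    have : r + 2 ≤ 3 := Nat.le_of_mul_le_mul_left hle (by omega)
    omega

end field

end Cfsg.Agent.Helper48.PsuA
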