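import Mathlib
import Cfsg.Agent.Helper9.PsuA.Defs
import Cfsg.Agent.Helper43.PsuM.RDefs
import Cfsg.Agent.Helper96.StLift.Basic
import Cfsg.Agent.Helper84.RU3.Defs
import Cfsg.Agent.Helper86.RU3TR
import Cfsg.Agent.Helper13.U3O_HC
import Cfsg.Agent.Helper53.U3O_FAC

/-!
Helper48: leaf (F4) of helper9's S2089 block A-p.
-/

set_option autoImplicit false
set_option linter.unusedSectionVars false
set_option linter.unusedVariables false

namespace Cfsg.Agent.Helper48.PsuA

open scoped commutatorElement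
open Cfsg.Agent.Helper46.U3O Cfsg.Agent.Helper84.RU3 Cfsg.Agent.Helper9.PsuA Cfsg.Agent.Helper96.StLift

universe u

section field

variable {K : Type*} [Field K] [Fintype K] {q : ℕ} (hK : Fintype.card K = q ^ 2) (bar : K →+* K)
  (hbar : ∀ x, bar x = x ^ q) [BarInv K bar]

include hK hbar

/-- (F4) a torus element acting non-trivially on `Z`: a generator `g` of `Kˣ` has order `q ^ 2 - 1 > q + 1` (as `3 ≤ q`), and
`nu g = g ^ (q + 1)`. -/
theorem exists_norm_ne_one (hq : 3 ≤ q) : ∃ l : Kˣ, nu bar l ≠ 1 := by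
  classical
  obtain ⟨g, hg⟩ := IsCyclic.exists_generator (α := Kˣ)
  refine ⟨g, ?_⟩
  intro h
  have hord : orderOf g = q ^ 2 - 1 := by
    rw [orderOf_eq_card_of_forall_mem_zpowers hg, Nat.card_eq_fintype_card, Fintype.card_units, hK]
  have hpow : g ^ (q + 1) = 1 := by
    apply Units.ext
    rw [Units.val_pow_eq_pow_val, Units.val_one, pow_succ']
    unfold nu at h
    rw [hbar] at h
    exact h
  have hdvd : orderOf g ∣ q + 1 := orderOf_dvd_of_pow_eq_one hpow
  have hle : q ^ 2 - 1 ≤ q + 1 := by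
    rw [← hord]
    exact Nat.le_of_dvd (by omega) hdvd
  have h3 : 3 * q ≤ q ^ 2 := by nlinarith
  omega

end field

end Cfsg.Agent.Helper48.PsuA
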