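import Mathlib
import Cfsg.Agent.Helper9.PsuA.Defs
import Cfsg.Agent.Helper43.PsuM.RDefs
import Cfsg.Agent.Helper96.StLift.Basic
import Cfsg.Agent.Helper84.RU3.Defs
import Cfsg.Agent.Helper86.RU3TR
import Cfsg.Agent.Helper13.U3O_HC
import Cfsg.Agent.Helper53.U3O_FAC

/-!
Helper48: leaf (KAP) of helper9's S2089 block A-p.
-/

set_option autoImplicit false
set_option linter.unusedSectionVars false
set_option linter.unusedVariables false

namespace Cfsg.Agent.Helper48.PsuA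

open scoped commutatorElement
open Cfsg.Agent.Helper46.U3O Cfsg.Agent.Helper84.RU3 Cfsg.Agent.Helper9.PsuA Cfsg.Agent.Helper96.StLift

universe u

/-- (KAP) a biadditive map `ℓ : K × K → C` (`C` a commutative subgroup of `Γ`) which is invariant modulo `N ≤ C` under
`(a, b) ↦ (s a, s b)` for `s = s₁` and `s = s₂ = 1 + s₁` with `s₁ ^ 2 + s₁ + 1 ≠ 0` has all its values in `N`. -/
theorem kap {K : Type*} [Field K] {Γ : Type*} [Group Γ] (C N : Subgroup Γ)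
    (hC : ∀ x ∈ C, ∀ y ∈ C, x * y = y * x) (hNC : N ≤ C) (ℓ : K → K → Γ) (hℓ : ∀ a b, ℓ a b ∈ C)
    (hl : ∀ a a' b, ℓ (a + a') b = ℓ a b * ℓ a' b) (hr : ∀ a b b', ℓ a (b + b') = ℓ a b * ℓ a b')
    (s₁ s₂ : K) (h12 : s₂ = 1 + s₁) (hs : s₁ ^ 2 + s₁ + 1 ≠ 0)
    (h1 : ∀ a b, ℓ (s₁ * a) (s₁ * b) * (ℓ a b)⁻¹ ∈ N)
    (h2 : ∀ a b, ℓ (s₂ * a) (s₂ * b) * (ℓ a b)⁻¹ ∈ N) :
    ∀ a b, ℓ a b ∈ N := by
  have hnorm : (N.subgroupOf C).Normal := by
    constructor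
    intro n hn g
    have : g * n * g⁻¹ = n := by
      have h := hC g g.2 n n.2
      apply Subtype.ext
      simp only [Subgroup.coe_mul, Subgroup.coe_inv]
      rw [h, mul_assoc, mul_inv_cancel, mul_one]
    rw [this]; exact hn
  let ℓ' : K → K → ↥C ⧸ N.subgroupOf C := fun a b => QuotientGroup.mk ⟨ℓ a b, hℓ a b⟩
  have hl' : ∀ a a' b, ℓ' (a + a') b = ℓ' a b * ℓ' a' b := by
    intro a a' b
    show (QuotientGroup.mk _ : ↥C ⧸ N.subgroupOf C) = QuotientGroup.mk _ * QuotientGroup.mk _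
    rw [← QuotientGroup.mk_mul]
    congr 1
    apply Subtype.ext
    exact hl a a' b
  have hr' : ∀ a b b', ℓ' a (b + b') = ℓ' a b * ℓ' a b' := by
    intro a b b'
    show (QuotientGroup.mk _ : ↥C ⧸ N.subgroupOf C) = QuotientGroup.mk _ * QuotientGroup.mk _
    rw [← QuotientGroup.mk_mul]
    congr 1
    apply Subtype.ext
    exact hr a b b'
  have hinv : ∀ s : K, (∀ a b, ℓ (s * a) (s * b) * (ℓ a b)⁻¹ ∈ N) →
      ∀ a b, ℓ' (s * a) (s * b) = ℓ' a b := by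
    intro s h a b
    show (QuotientGroup.mk _ : ↥C ⧸ N.subgroupOf C) = QuotientGroup.mk _
    rw [QuotientGroup.eq_iff_div_mem, Subgroup.mem_subgroupOf]
    simpa [div_eq_mul_inv] using h a b
  have hi1 := hinv s₁ h1
  have hi2 := hinv s₂ h2
  -- (*)
  have hstar : ∀ a b, ℓ' a (s₁ * b) * ℓ' (s₁ * a) b * ℓ' a b = 1 := by
    intro a b
    have h := hi2 a b
    rw [h12, add_mul, add_mul, one_mul, one_mul, hl', hr', hr', hi1] at h
    -- h : ℓ' a b * ℓ' a (s₁ b) * (ℓ' (s₁ a) b * ℓ' a b) = ℓ' a b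
    have h' : ℓ' a b * (ℓ' a (s₁ * b) * ℓ' (s₁ * a) b * ℓ' a b) = ℓ' a b * 1 := by
      rw [mul_one]
      simpa only [mul_assoc] using h
    exact mul_left_cancel h'
  have hkey : ∀ a b, ℓ' a ((s₁ ^ 2 + s₁ + 1) * b) = 1 := by
    intro a b
    have h := hstar a (s₁ * b)
    rw [hi1] at h
    have e : (s₁ ^ 2 + s₁ + 1) * b = s₁ * (s₁ * b) + b + s₁ * b := by ring
    rw [e, hr', hr']
    exact h
  intro a b
  have h := hkey a ((s₁ ^ 2 + s₁ + 1)⁻¹ * b)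
  rw [← mul_assoc, mul_inv_cancel₀ hs, one_mul] at h
  have h' : (⟨ℓ a b, hℓ a b⟩ : ↥C) ∈ N.subgroupOf C := (QuotientGroup.eq_one_iff _).1 h
  rwa [Subgroup.mem_subgroupOf] at h'

end Cfsg.Agent.Helper48.PsuA
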