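import Cfsg.Agent.Helper78.PsuII.Stmts
import Cfsg.Agent.Helper30.PsuM_PL1
import Cfsg.Agent.Helper93.PsuM_PL2
import Cfsg.Agent.Helper31.PsuM_PL3
import Cfsg.Agent.Helper93.PsuM_PL4
import Cfsg.Agent.Helper93.PsuM_PL5
import Cfsg.Agent.Helper89.PsuM_PL6
import Cfsg.Prelude.Def_LieExceptional

/-!
Helper48: piece of helper78 S2089 block II part A.
-/

set_option autoImplicit false
set_option linter.unusedSectionVars false
set_option linter.unusedVariables false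

namespace Cfsg.Agent.Helper48.PsuII

open Cfsg.Agent.Helper43.PsuM
open Cfsg.Agent.Helper78.PsuII

universe u

section lift

variable {Γ G : Type u} [Group Γ] [Group G] [Finite Γ] {r : ℕ} (τ : Γ →* G)
  (hτ : Function.Surjective τ) (hc : τ.ker ≤ Subgroup.center Γ) (p : ℕ) [Fact p.Prime]
  (hcop : (Nat.card τ.ker).Coprime p) (D : RData G r) (hD : D.IsSplit p) (hG : GFacts D p)

include hτ hc hcop hD hG

omit hcop hD hG [Finite Γ] [Fact p.Prime] in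
/-- (AS) a stem extension with a complement is trivial: `Γ = C · ker`, the kernel is central, so
`commutator Γ = ⁅C, C⁆ ≤ C` and `ker ≤ commutator Γ ⊓ ker ≤ C ⊓ ker = ⊥` -/
theorem ker_eq_bot_of_complement (hstem : τ.ker ≤ commutator Γ) (C : Subgroup Γ)
    (h1 : C ⊓ τ.ker = ⊥) (h2 : C.map τ = ⊤) : τ.ker = ⊥ := by
  -- every element is `c * k`
  have hdec : ∀ g : Γ, ∃ c ∈ C, ∃ k ∈ τ.ker, g = c * k := by
    intro g
    have hg : τ g ∈ C.map τ := by rw [h2]; exact Subgroup.mem_top _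
    obtain ⟨c, hcC, hcg⟩ := hg
    refine ⟨c, hcC, c⁻¹ * g, ?_, by group⟩
    rw [MonoidHom.mem_ker, map_mul, map_inv, hcg, inv_mul_cancel]
  have conj_eq : ∀ (c k x : Γ), k ∈ τ.ker → (c * k) * x * (c * k)⁻¹ = c * x * c⁻¹ := by
    intro c k x hk
    have hk' := Subgroup.mem_center_iff.1 (hc hk) x
    calc (c * k) * x * (c * k)⁻¹ = c * (k * x * k⁻¹) * c⁻¹ := by group
      _ = c * x * c⁻¹ := by rw [← hk', mul_assoc x k, mul_inv_cancel, mul_one]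
  have hcomm : commutator Γ ≤ C := by
    rw [commutator_def, Subgroup.commutator_le]
    intro g₁ _ g₂ _
    obtain ⟨c₁, hc₁, k₁, hk₁, rfl⟩ := hdec g₁
    obtain ⟨c₂, hc₂, k₂, hk₂, rfl⟩ := hdec g₂
    rw [commutatorElement_def, conj_eq c₁ k₁ _ hk₁]
    -- c₁ * (c₂ k₂) * c₁⁻¹ * (c₂ k₂)⁻¹ = c₁ * ((c₂ k₂) c₁⁻¹ (c₂ k₂)⁻¹)
    have : c₁ * (c₂ * k₂) * c₁⁻¹ * (c₂ * k₂)⁻¹ = c₁ * ((c₂ * k₂) * c₁⁻¹ * (c₂ * k₂)⁻¹) := by group
    rw [this, conj_eq c₂ k₂ _ hk₂]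
    exact C.mul_mem hc₁ (C.mul_mem (C.mul_mem hc₂ (C.inv_mem hc₁)) (C.inv_mem hc₂))
  rw [eq_bot_iff, ← h1]
  exact le_inf (hstem.trans hcomm) le_rfl

end lift

end Cfsg.Agent.Helper48.PsuII
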