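import Mathlib

/-!
# (A4a) of board #6037 (helper6, S2361): a subgroup normalizing and self-centralizing on a
subgroup of order 4, in a group with abelian Sylow 2-subgroups, has order 4 or 12 (helper48)
-/

set_option autoImplicit false

namespace Cfsg.Agent.Helper48.ReeA4

/-- **(A4a)** -/
theorem card_eq_four_or_twelve {R : Type*} [Group R] [Finite R]
    (hab : ∀ P : Sylow 2 R, ∀ x ∈ P, ∀ y ∈ P, x * y = y * x) (S V : Subgroup R) (hVS : V ≤ S)
    (hSV : S ≤ Subgroup.normalizer (V : Set R)) (hV : Nat.card ↥V = 4)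
    (hC : S ⊓ Subgroup.centralizer (V : Set R) ≤ V) :
    Nat.card ↥S = 4 ∨ Nat.card ↥S = 12 := by
  classical
  have : Fact (Nat.Prime 2) := ⟨Nat.prime_two⟩
  have hV2 : IsPGroup 2 V := IsPGroup.of_card (n := 2) (by rw [hV]; norm_num)
  obtain ⟨P₀, hP₀⟩ := hV2.exists_le_sylow
  have hVab : ∀ x ∈ V, ∀ y ∈ V, x * y = y * x :=
    fun x hx y hy => hab P₀ x (hP₀ hx) y (hP₀ hy)
  -- every 2-subgroup between `V` and `S` is `V`
  have key : ∀ T : Subgroup R, IsPGroup 2 T → V ≤ T → T ≤ S → T ≤ V := by
    intro T hT hVT hTS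
    obtain ⟨P, hP⟩ := hT.exists_le_sylow
    refine le_trans ?_ hC
    intro t ht
    refine Subgroup.mem_inf.2 ⟨hTS ht, Subgroup.mem_centralizer_iff.2 ?_⟩
    intro v hv
    exact hab P v (hP (hVT hv)) t (hP ht)
  -- the conjugation homomorphism
  let ψ₀ : S →* MulAut V := V.normalizerMonoidHom.comp (Subgroup.inclusion hSV)
  let ψ : S →* Equiv.Perm V := (MulAut.toPerm V).comp ψ₀
  have hker₀ : ∀ s : S, s ∈ ψ₀.ker ↔ (s : R) ∈ Subgroup.centralizer (V : Set R) := by
    intro s
    rw [MonoidHom.mem_ker, MonoidHom.comp_apply, ← MonoidHom.mem_ker,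
      Subgroup.normalizerMonoidHom_ker, Subgroup.mem_subgroupOf]
    rfl
  have hker : ψ.ker = V.subgroupOf S := by
    ext s
    have h1 : s ∈ ψ.ker ↔ s ∈ ψ₀.ker := by
      rw [MonoidHom.mem_ker, MonoidHom.mem_ker, MonoidHom.comp_apply]
      constructor
      · intro h
        apply MulEquiv.toEquiv_injective
        exact h
      · intro h
        rw [h, map_one]
    rw [h1, hker₀, Subgroup.mem_subgroupOf]
    constructor
    · intro h
      exact hC (Subgroup.mem_inf.2 ⟨s.2, h⟩)
    · intro h
      rw [Subgroup.mem_centralizer_iff]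
      intro v hv
      exact hVab v hv s h
  have hcardker : Nat.card ψ.ker = 4 := by
    rw [hker, Nat.card_congr (Subgroup.subgroupOfEquivOfLe hVS).toEquiv, hV]
  have hmul : Nat.card S = 4 * Nat.card ψ.range := by
    rw [← Subgroup.card_mul_index ψ.ker, Subgroup.index_ker, hcardker]
  -- the range has order dividing 24
  have hdvd : Nat.card ψ.range ∣ 24 := by
    have h1 : Nat.card ψ.range ∣ Nat.card (Equiv.Perm V) := Subgroup.card_subgroup_dvd_card _
    rw [Nat.card_perm, hV] at h1
    exact h1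
  -- the range has odd order
  have hodd : ¬ 2 ∣ Nat.card ψ.range := by
    intro h2
    -- a Sylow 2-subgroup of `S` containing `V`
    have hVS2 : IsPGroup 2 (V.subgroupOf S) :=
      hV2.comap_of_injective S.subtype S.subtype_injective
    obtain ⟨Q, hQ⟩ := hVS2.exists_le_sylow
    let T : Subgroup R := (Q : Subgroup S).map S.subtype
    have hT2 : IsPGroup 2 T := Q.2.map S.subtype
    have hVT : V ≤ T := by
      intro v hv
      exact ⟨⟨v, hVS hv⟩, hQ (Subgroup.mem_subgroupOf.2 hv), rfl⟩
    have hTS : T ≤ S := by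
      rintro _ ⟨s, -, rfl⟩
      exact s.2
    have hTV : T = V := le_antisymm (key T hT2 hVT hTS) hVT
    have hcardQ : Nat.card (Q : Subgroup S) = 4 := by
      rw [← hV, ← hTV]
      exact (Nat.card_congr ((Q : Subgroup S).equivMapOfInjective S.subtype
        S.subtype_injective).toEquiv)
    have hidx : ¬ 2 ∣ (Q : Subgroup S).index := Q.not_dvd_index
    apply hidx
    have h3 : Nat.card S = 4 * (Q : Subgroup S).index := by
      rw [← hcardQ, Subgroup.card_mul_index]
    have h4 : (Q : Subgroup S).index = Nat.card ψ.range := by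
      have : 4 * (Q : Subgroup S).index = 4 * Nat.card ψ.range := by rw [← h3, hmul]
      omega
    rw [h4]
    exact h2
  -- odd divisors of 24 are 1 and 3
  have hle : Nat.card ψ.range ≤ 24 := Nat.le_of_dvd (by norm_num) hdvd
  have hr : Nat.card ψ.range = 1 ∨ Nat.card ψ.range = 3 := by
    generalize Nat.card ψ.range = r at hdvd hodd hle
    interval_cases r <;> simp_all
  rcases hr with hr | hr
  · left; rw [hmul, hr]
  · right; rw [hmul, hr]

end Cfsg.Agent.Helper48.ReeA4
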