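import Mathlib

/-!
# (A4b) of board #6037 (helper6, S2361): an element of order dividing 3 normalizing a 2-subgroup
`V`, in a group with abelian Sylow 2-subgroups and `3 ∤ |C(V)|`, normalizes a Sylow 2-subgroup
containing `V` (helper48)
-/

set_option autoImplicit false

namespace Cfsg.Agent.Helper48.ReeA4

open scoped Pointwise

/-- the normalizer of `V` normalizes the centralizer of `V` (one inclusion) -/
theorem conj_mem_centralizer {R : Type*} [Group R] (V : Subgroup R) (g : R)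
    (hg : g ∈ Subgroup.normalizer (V : Set R)) (c : R)
    (hc : c ∈ Subgroup.centralizer (V : Set R)) :
    g * c * g⁻¹ ∈ Subgroup.centralizer (V : Set R) := by
  rw [Subgroup.mem_centralizer_iff] at hc ⊢
  intro v hv
  have hw : g⁻¹ * v * g ∈ V := by
    refine ((Subgroup.mem_normalizer_iff.1 hg) _).2 ?_
    have : g * (g⁻¹ * v * g) * g⁻¹ = v := by group
    rw [this]
    exact hv
  have h1 := hc _ hw
  calc v * (g * c * g⁻¹) = g * ((g⁻¹ * v * g) * c) * g⁻¹ := by group
    _ = g * (c * (g⁻¹ * v * g)) * g⁻¹ := by rw [h1]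
    _ = g * c * g⁻¹ * v := by group

theorem mem_normalizer_centralizer {R : Type*} [Group R] (V : Subgroup R) (g : R)
    (hg : g ∈ Subgroup.normalizer (V : Set R)) :
    g ∈ Subgroup.normalizer ((Subgroup.centralizer (V : Set R) : Subgroup R) : Set R) := by
  rw [Subgroup.mem_normalizer_iff]
  intro c
  constructor
  · exact conj_mem_centralizer V g hg c
  · intro h
    have := conj_mem_centralizer V g⁻¹ (inv_mem hg) _ h
    have e : g⁻¹ * (g * c * g⁻¹) * g⁻¹⁻¹ = c := by group
    rwa [e] at this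

/-- **(A4b)** -/
theorem exists_sylow_two_of_normalizes {R : Type*} [Group R] [Finite R]
    (hab : ∀ P : Sylow 2 R, ∀ x ∈ P, ∀ y ∈ P, x * y = y * x) (V : Subgroup R)
    (hV : IsPGroup 2 ↥V) (σ : R) (hσ3 : σ ^ 3 = 1)
    (hσV : σ ∈ Subgroup.normalizer (V : Set R))
    (h3 : ¬ 3 ∣ Nat.card ↥(Subgroup.centralizer (V : Set R))) :
    ∃ P : Sylow 2 R, V ≤ (P : Subgroup R) ∧
      σ ∈ Subgroup.normalizer ((P : Subgroup R) : Set R) := by
  classical
  have : Fact (Nat.Prime 2) := ⟨Nat.prime_two⟩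
  have : Fact (Nat.Prime 3) := ⟨Nat.prime_three⟩
  set C : Subgroup R := Subgroup.centralizer (V : Set R) with hCdef
  -- a Sylow 2-subgroup of `R` containing `V`; it lies in `C`
  obtain ⟨P₀, hP₀⟩ := hV.exists_le_sylow
  have hP₀C : (P₀ : Subgroup R) ≤ C := by
    intro x hx
    rw [hCdef, Subgroup.mem_centralizer_iff]
    intro v hv
    exact hab P₀ v (hP₀ hv) x hx
  have hVC : V ≤ C := hP₀.trans hP₀C
  -- `σ` normalizes `C`
  have hσC : σ ∈ Subgroup.normalizer (C : Set R) := mem_normalizer_centralizer V σ hσV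
  let σ' : Subgroup.normalizer (C : Set R) := ⟨σ, hσC⟩
  have hσ'3 : σ' ^ 3 = 1 := Subtype.ext (by simpa using hσ3)
  let Z : Subgroup (Subgroup.normalizer (C : Set R)) := Subgroup.zpowers σ'
  have hZ : IsPGroup 3 Z := by
    rintro ⟨z, hz⟩
    refine ⟨1, Subtype.ext ?_⟩
    obtain ⟨n, rfl⟩ := Subgroup.mem_zpowers_iff.1 hz
    simp only [pow_one, Subgroup.coe_pow, Subgroup.coe_one]
    rw [← zpow_natCast, ← zpow_mul, mul_comm, zpow_mul, zpow_natCast, hσ'3, one_zpow]
  -- the number of Sylow 2-subgroups of `C` is prime to 3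
  have hcard : ¬ 3 ∣ Nat.card (Sylow 2 ↥C) := by
    intro h
    apply h3
    obtain ⟨Q₁⟩ : Nonempty (Sylow 2 ↥C) := inferInstance
    exact h.trans ((Sylow.card_dvd_index Q₁).trans (Subgroup.index_dvd_card _))
  -- a fixed point
  obtain ⟨Q, hQ⟩ := hZ.nonempty_fixed_point_of_prime_not_dvd_card (Sylow 2 ↥C) hcard
  have hfix : ∀ z : Subgroup.normalizer (C : Set R), z ∈ Z → ∀ q : C, q ∈ Q →
      (⟨(z : R) * q * (z : R)⁻¹, (Subgroup.mem_normalizer_iff.1 z.2 q).1 q.2⟩ : C) ∈ Q := by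
    intro z hz q hq
    have h1 : (⟨z, hz⟩ : Z) • Q = Q := hQ ⟨z, hz⟩
    have h2 : z • (Q : Subgroup C) = Q := by
      have := congrArg (fun S : Sylow 2 ↥C => (S : Subgroup C)) h1
      exact this
    have h3' : z • q ∈ z • (Q : Subgroup C) := Subgroup.smul_mem_pointwise_smul q z _ hq
    rw [h2] at h3'
    exact h3'
  -- the image of `Q` in `R`
  let P' : Subgroup R := (Q : Subgroup C).map C.subtype
  have hcardP' : Nat.card P' = 2 ^ (Nat.card R).factorization 2 := by
    have e1 : Nat.card P' = Nat.card (Q : Subgroup C) :=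
      (Nat.card_congr ((Q : Subgroup C).equivMapOfInjective C.subtype
        C.subtype_injective).toEquiv).symm
    have e2 : Nat.card ((P₀.subtype hP₀C : Sylow 2 ↥C) : Subgroup C) = Nat.card (P₀ : Subgroup R) := by
      rw [Sylow.coe_subtype]
      exact Nat.card_congr (Subgroup.subgroupOfEquivOfLe hP₀C).toEquiv
    rw [e1, Q.card_eq_multiplicity, ← (P₀.subtype hP₀C).card_eq_multiplicity, e2,
      P₀.card_eq_multiplicity]
  refine ⟨Sylow.ofCard P' hcardP', ?_, ?_⟩
  · -- `V ≤ P'`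
    rw [Sylow.coe_ofCard]
    have hnorm : (V.subgroupOf C).Normal := by
      refine ⟨fun n hn g => ?_⟩
      rw [Subgroup.mem_subgroupOf] at hn ⊢
      have hg : (g : R) ∈ Subgroup.centralizer (V : Set R) := g.2
      rw [Subgroup.mem_centralizer_iff] at hg
      have : ((g * n * g⁻¹ : C) : R) = (n : R) := by
        push_cast
        rw [← hg _ hn, mul_inv_cancel_right]
      rw [this]
      exact hn
    have hV' : IsPGroup 2 (V.subgroupOf C) :=
      hV.comap_of_injective C.subtype C.subtype_injective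
    have hle := hV'.le_sylow_of_normal Q
    intro v hv
    exact ⟨⟨v, hVC hv⟩, hle (Subgroup.mem_subgroupOf.2 hv), rfl⟩
  · rw [Sylow.coe_ofCard, Subgroup.mem_normalizer_iff]
    have hσZ : σ' ∈ Z := Subgroup.mem_zpowers σ'
    have hσZ' : σ'⁻¹ ∈ Z := inv_mem hσZ
    intro h
    constructor
    · rintro ⟨q, hq, rfl⟩
      exact ⟨_, hfix σ' hσZ q hq, rfl⟩
    · rintro ⟨q, hq, hqe⟩
      have := hfix σ'⁻¹ hσZ' q hq
      refine ⟨_, this, ?_⟩
      have hqe' : (q : R) = σ * h * σ⁻¹ := hqe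
      show σ⁻¹ * (q : R) * σ⁻¹⁻¹ = h
      rw [hqe']
      group
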