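import Mathlib
import Cfsg.Agent.Helper77.Res.Defs

/-!
# S5289 piece (T) `torus` (architect helper77): the section `X = V/W` and the action `ρ : A → Aut(X)`
-/

set_option autoImplicit false

universe u

namespace Cfsg.Agent.Helper48.Res

open Subgroup Cfsg.Agent.Helper77.Res

variable {Ω : Type u} [Group Ω] {p : ℕ} [hp : Fact p.Prime]

set_option linter.unusedSectionVars false

/-- `W ≤ V ≤ P`, both invariant under `A`, `W` normal in `V` -/
structure TSetup (P V W : Subgroup Ω) (A : Subgroup (MulAut ↥P)) : Prop where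
  hWV : W ≤ V
  hVP : V ≤ P
  hVinv : ∀ α ∈ A, ∀ x : P, (x : Ω) ∈ V → ((α x : P) : Ω) ∈ V
  hWinv : ∀ α ∈ A, ∀ x : P, (x : Ω) ∈ W → ((α x : P) : Ω) ∈ W
  hWn : ∀ v ∈ V, ∀ w ∈ W, v * w * v⁻¹ ∈ W

variable {P V W : Subgroup Ω} {A : Subgroup (MulAut ↥P)}

theorem TSetup.normal (h : TSetup P V W A) : (W.subgroupOf V).Normal := by
  constructor
  intro w hw v
  rw [Subgroup.mem_subgroupOf] at hw ⊢
  exact h.hWn v v.2 w hw

/-- an element of `V` as an element of `P` -/
def TSetup.toP (h : TSetup P V W A) (v : ↥V) : ↥P := ⟨(v : Ω), h.hVP v.2⟩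

/-- the restriction of `α ∈ A` to `V` -/
def TSetup.resV (h : TSetup P V W A) (α : ↥A) : ↥V →* ↥V where
  toFun v := ⟨(((α : MulAut ↥P) (h.toP v) : P) : Ω), h.hVinv α α.2 _ v.2⟩
  map_one' := by
    apply Subtype.ext
    have e : h.toP 1 = 1 := rfl
    simp [e]
  map_mul' a b := by
    apply Subtype.ext
    have e : h.toP (a * b) = h.toP a * h.toP b := rfl
    simp [e]

theorem TSetup.resV_coe (h : TSetup P V W A) (α : ↥A) (v : ↥V) :
    ((h.resV α v : ↥V) : Ω) = (((α : MulAut ↥P) (h.toP v) : P) : Ω) := rfl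

theorem TSetup.toP_resV (h : TSetup P V W A) (α : ↥A) (v : ↥V) :
    h.toP (h.resV α v) = (α : MulAut ↥P) (h.toP v) := rfl

theorem TSetup.resV_mul (h : TSetup P V W A) (α β : ↥A) (v : ↥V) :
    h.resV (α * β) v = h.resV α (h.resV β v) := rfl

theorem TSetup.resV_one (h : TSetup P V W A) (v : ↥V) : h.resV 1 v = v := rfl

/-- the section `X = V/W` -/
abbrev TSetup.X (h : TSetup P V W A) : Type u :=
  letI := h.normal
  ↥V ⧸ W.subgroupOf V

noncomputable instance TSetup.instGroupX (h : TSetup P V W A) : Group h.X :=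
  letI := h.normal
  QuotientGroup.Quotient.group _

/-- the class of `v ∈ V` in `X` -/
def TSetup.cls (h : TSetup P V W A) (v : ↥V) : h.X :=
  letI := h.normal
  (QuotientGroup.mk v : ↥V ⧸ W.subgroupOf V)

theorem TSetup.cls_mul (h : TSetup P V W A) (a b : ↥V) : h.cls (a * b) = h.cls a * h.cls b := rfl

theorem TSetup.cls_one (h : TSetup P V W A) : h.cls 1 = 1 := rfl

theorem TSetup.cls_inv (h : TSetup P V W A) (a : ↥V) : h.cls a⁻¹ = (h.cls a)⁻¹ := rfl

theorem TSetup.cls_pow (h : TSetup P V W A) (a : ↥V) (n : ℕ) : h.cls (a ^ n) = (h.cls a) ^ n := by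
  have := h.normal
  exact QuotientGroup.mk_pow _ a n

theorem TSetup.cls_surjective (h : TSetup P V W A) : Function.Surjective h.cls := by
  have := h.normal
  exact QuotientGroup.mk_surjective

theorem TSetup.cls_eq_mk (h : TSetup P V W A) (a b : ↥V) :
    h.cls a = h.cls b ↔ (a : Ω)⁻¹ * (b : Ω) ∈ W := by
  have := h.normal
  unfold TSetup.cls
  rw [QuotientGroup.eq, Subgroup.mem_subgroupOf]
  rfl

theorem TSetup.cls_eq_one (h : TSetup P V W A) (a : ↥V) : h.cls a = 1 ↔ (a : Ω) ∈ W := by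
  have := h.normal
  unfold TSetup.cls
  rw [QuotientGroup.eq_one_iff, Subgroup.mem_subgroupOf]

/-- the action of `α ∈ A` on `X` as a monoid hom -/
noncomputable def TSetup.rhoHom (h : TSetup P V W A) (α : ↥A) : h.X →* h.X :=
  letI := h.normal
  QuotientGroup.map (W.subgroupOf V) (W.subgroupOf V) (h.resV α) (by
    intro v hv
    rw [Subgroup.mem_comap, Subgroup.mem_subgroupOf] at *
    exact h.hWinv α α.2 (h.toP v) hv)

theorem TSetup.rhoHom_cls (h : TSetup P V W A) (α : ↥A) (v : ↥V) :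
    h.rhoHom α (h.cls v) = h.cls (h.resV α v) := rfl

/-- the action of `A` on `X` -/
noncomputable def TSetup.rho (h : TSetup P V W A) : ↥A →* MulAut h.X where
  toFun α :=
    { toFun := h.rhoHom α
      invFun := h.rhoHom α⁻¹
      left_inv := by
        intro x
        obtain ⟨v, rfl⟩ := h.cls_surjective x
        rw [h.rhoHom_cls, h.rhoHom_cls, ← h.resV_mul, inv_mul_cancel, h.resV_one]
      right_inv := by
        intro x
        obtain ⟨v, rfl⟩ := h.cls_surjective x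
        rw [h.rhoHom_cls, h.rhoHom_cls, ← h.resV_mul, mul_inv_cancel, h.resV_one]
      map_mul' := map_mul _ }
  map_one' := by
    ext x
    obtain ⟨v, rfl⟩ := h.cls_surjective x
    show h.rhoHom 1 (h.cls v) = h.cls v
    rw [h.rhoHom_cls, h.resV_one]
  map_mul' α β := by
    ext x
    obtain ⟨v, rfl⟩ := h.cls_surjective x
    show h.rhoHom (α * β) (h.cls v) = h.rhoHom α (h.rhoHom β (h.cls v))
    rw [h.rhoHom_cls, h.rhoHom_cls, h.rhoHom_cls, h.resV_mul]

theorem TSetup.rho_cls (h : TSetup P V W A) (α : ↥A) (v : ↥V) :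
    h.rho α (h.cls v) = h.cls (h.resV α v) := rfl

/-- (F1) the kernel of `ρ` -/
theorem TSetup.rho_eq_one_iff (h : TSetup P V W A) (α : ↥A) :
    h.rho α = 1 ↔ ∀ x : P, (x : Ω) ∈ V → (x : Ω)⁻¹ * (((α : MulAut ↥P) x : P) : Ω) ∈ W := by
  constructor
  · intro h1 x hx
    have h2 : h.rho α (h.cls ⟨(x : Ω), hx⟩) = h.cls ⟨(x : Ω), hx⟩ := by rw [h1]; rfl
    rw [h.rho_cls, eq_comm, h.cls_eq_mk] at h2
    exact h2
  · intro h1
    ext y
    obtain ⟨v, rfl⟩ := h.cls_surjective y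
    show h.rho α (h.cls v) = h.cls v
    rw [h.rho_cls, eq_comm, h.cls_eq_mk]
    exact h1 (h.toP v) v.2

/-- `X` is commutative when `V/W` is -/
@[reducible] noncomputable def TSetup.commGroupX (h : TSetup P V W A)
    (hab : ∀ u ∈ V, ∀ v ∈ V, u * v * u⁻¹ * v⁻¹ ∈ W) : CommGroup h.X :=
  { h.instGroupX with
    mul_comm := by
      intro x y
      obtain ⟨a, rfl⟩ := h.cls_surjective x
      obtain ⟨b, rfl⟩ := h.cls_surjective y
      rw [← h.cls_mul, ← h.cls_mul, h.cls_eq_mk]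
      have := hab _ (V.inv_mem b.2) _ (V.inv_mem a.2)
      simpa [mul_assoc] using this }

theorem TSetup.card_X (h : TSetup P V W A) [Finite ↥V] (hcard : Nat.card V = p ^ 2 * Nat.card W) :
    Nat.card h.X = p ^ 2 := by
  have := h.normal
  have h1 := Subgroup.card_eq_card_quotient_mul_card_subgroup (W.subgroupOf V)
  have h2 : Nat.card ↥(W.subgroupOf V) = Nat.card ↥W :=
    Nat.card_congr (Subgroup.subgroupOfEquivOfLe h.hWV).toEquiv
  have : Finite ↥W := Finite.of_injective (Subgroup.inclusion h.hWV) (Subgroup.inclusion_injective _)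
  have h3 : 0 < Nat.card ↥W := Nat.card_pos
  rw [h2, hcard] at h1
  exact (Nat.eq_of_mul_eq_mul_right h3 h1).symm

theorem TSetup.pow_X (h : TSetup P V W A) (hexp : ∀ v ∈ V, v ^ p ∈ W) (x : h.X) : x ^ p = 1 := by
  obtain ⟨v, rfl⟩ := h.cls_surjective x
  rw [← h.cls_pow, h.cls_eq_one]
  exact hexp v v.2

/-- the preimage in `V ≤ Ω` of a subgroup of `X` -/
def TSetup.pre (h : TSetup P V W A) (C : Subgroup h.X) : Subgroup Ω where
  carrier := {v | ∃ hv : v ∈ V, h.cls ⟨v, hv⟩ ∈ C}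
  one_mem' := ⟨V.one_mem, by
    have : h.cls ⟨1, V.one_mem⟩ = 1 := h.cls_one
    rw [this]
    exact C.one_mem⟩
  mul_mem' := by
    rintro a b ⟨ha, ha'⟩ ⟨hb, hb'⟩
    refine ⟨V.mul_mem ha hb, ?_⟩
    have : h.cls ⟨a * b, V.mul_mem ha hb⟩ = h.cls ⟨a, ha⟩ * h.cls ⟨b, hb⟩ := h.cls_mul ⟨a, ha⟩ ⟨b, hb⟩
    rw [this]
    exact C.mul_mem ha' hb'
  inv_mem' := by
    rintro a ⟨ha, ha'⟩
    refine ⟨V.inv_mem ha, ?_⟩
    have : h.cls ⟨a⁻¹, V.inv_mem ha⟩ = (h.cls ⟨a, ha⟩)⁻¹ := h.cls_inv ⟨a, ha⟩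
    rw [this]
    exact C.inv_mem ha'

theorem TSetup.mem_pre (h : TSetup P V W A) (C : Subgroup h.X) (v : Ω) :
    v ∈ h.pre C ↔ ∃ hv : v ∈ V, h.cls ⟨v, hv⟩ ∈ C := Iff.rfl

theorem TSetup.pre_le (h : TSetup P V W A) (C : Subgroup h.X) : h.pre C ≤ V := fun _ hv => hv.1

theorem TSetup.le_pre (h : TSetup P V W A) (C : Subgroup h.X) : W ≤ h.pre C := by
  intro w hw
  refine ⟨h.hWV hw, ?_⟩
  have : h.cls ⟨w, h.hWV hw⟩ = 1 := (h.cls_eq_one _).2 hw
  rw [this]
  exact C.one_mem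

theorem TSetup.card_pre (h : TSetup P V W A) [Finite ↥V] (hcard : Nat.card V = p ^ 2 * Nat.card W)
    (C : Subgroup h.X) (hC : Nat.card C = p) : Nat.card (h.pre C) = p * Nat.card W := by
  have hn := h.normal
  have hp0 : 0 < p := hp.out.pos
  -- `pre C` is the image of the comap
  have e1 : h.pre C = (C.comap (QuotientGroup.mk' (W.subgroupOf V))).map V.subtype := by
    ext v
    rw [h.mem_pre, Subgroup.mem_map]
    constructor
    · rintro ⟨hv, hv'⟩
      exact ⟨⟨v, hv⟩, hv', rfl⟩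
    · rintro ⟨⟨v', hv⟩, hv', rfl⟩
      exact ⟨hv, hv'⟩
  have e2 : Nat.card (h.pre C) = Nat.card (C.comap (QuotientGroup.mk' (W.subgroupOf V))) := by
    rw [e1]
    exact (Nat.card_congr
      (Subgroup.equivMapOfInjective _ V.subtype V.subtype_injective).toEquiv).symm
  have hX : Nat.card h.X = p ^ 2 := h.card_X hcard
  have hfin : Finite h.X := Nat.finite_of_card_ne_zero (by rw [hX]; positivity)
  have i1 : C.index = p := by
    have := C.card_mul_index
    rw [hC, hX, pow_two] at this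
    exact Nat.eq_of_mul_eq_mul_left hp0 this
  have i2 : (C.comap (QuotientGroup.mk' (W.subgroupOf V))).index = p := by
    rw [Subgroup.index_comap_of_surjective _ (QuotientGroup.mk'_surjective _)]
    exact i1
  have i3 := (C.comap (QuotientGroup.mk' (W.subgroupOf V))).card_mul_index
  rw [i2, hcard, ← e2] at i3
  have : Nat.card (h.pre C) * p = p * Nat.card W * p := by rw [i3]; ring
  exact Nat.eq_of_mul_eq_mul_right hp0 this

end Cfsg.Agent.Helper48.Res
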