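import Mathlib
import Cfsg.Agent.Helper77.Res.Defs
import Cfsg.Agent.Helper2.ResTTA1
import Cfsg.Agent.Helper12.ResTTA2
import Cfsg.Agent.Helper12.ResTTB3
import Cfsg.Agent.Helper66.ResTTA3
import Cfsg.Agent.Helper66.ResTTG1
import Cfsg.Agent.Helper73.ResTTB2
import Cfsg.Agent.Helper73.ResTTB6
import Cfsg.Agent.Helper37.ResSL2

/-!
# S5289 piece (T) `torus`: the lemmas of the sub-farm #14163 (helper2, helper12, helper66, helper73) and helper37's (SL2),
restated in one namespace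
-/

set_option autoImplicit false

universe u

namespace Cfsg.Agent.Helper48.ResT

open Subgroup Cfsg.Agent.Helper77.Res

variable {Ω : Type u} [Group Ω] {p : ℕ} [hp : Fact p.Prime]

/-! ## abstract lemmas (Mathlib only): `X ≅ C_p²` -/

section abstractX

variable {X : Type u} [CommGroup X] [Finite X]

/-- (TA1) a `p`-group of automorphisms of `C_p²` has order `≤ p`.
PROOF: `S` fixes some `x1 ≠ 1` (fixed points of a `p`-group on the `p`-group `X`: `IsPGroup.card_modEq_card_fixedPoints` for the action of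
`S` on `X`, `1` is fixed, so `p ∣ #Fix`); pick `x2 ∉ ⟨x1⟩`; `X = {x1^a x2^b}` (count `p²`).  Each `s ∈ S` acts trivially on `X/⟨x1⟩` (order `p`, same
fixed point count; or: `s x2 = x1^a x2^b`, and `s^(p^k) = 1` forces `b ≡ 1`), so `s x2 = x2 * x1^(j s)`; `s ↦ j s mod p` is injective
(`s` is determined by its values on `x1, x2`), so `#S ≤ p`. -/
theorem card_le_of_pgroup_aut (hX : Nat.card X = p ^ 2) (hXexp : ∀ x : X, x ^ p = 1)
    (S : Subgroup (MulAut X)) (hS : IsPGroup p S) : Nat.card S ≤ p :=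
  Cfsg.Agent.Helper2.ResT.card_le_of_pgroup_aut hX hXexp S hS

/-- (TA2) an automorphism `u ≠ 1` of order `p` of `C_p²` is a transvection: its fixed points form a subgroup `C` of order `p` and
`x⁻¹ u(x) ∈ C` for all `x`; the same for all powers of `u`.
PROOF: `C = {x | u x = x}`; `#C ≡ #X ≡ 0 mod p` (fixed points of the `p`-group `⟨u⟩`), `C ≠ ⊤` as `u ≠ 1`, `#C ∣ p²`: `#C = p`.
`δ x = x⁻¹ u x` is a hom `X → X` (`X` commutative) with kernel `C`, so `#δ(X) = p`; `δ(X)` is `u`-invariant of order `p`, and a `p`-element of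
`Aut(C_p)` is trivial (fixed point count again), so `δ(X) ≤ C`.  For `s = u^k`: `s x = x * δ(x)^k`. -/
theorem fix_structure (hX : Nat.card X = p ^ 2) (hXexp : ∀ x : X, x ^ p = 1)
    (u : MulAut X) (hu1 : u ≠ 1) (hup : u ^ p = 1) :
    ∃ C : Subgroup X, Nat.card C = p ∧ (∀ x : X, u x = x ↔ x ∈ C) ∧
      (∀ s ∈ Subgroup.zpowers u, ∀ x ∈ C, s x = x) ∧
      (∀ s ∈ Subgroup.zpowers u, ∀ x : X, x⁻¹ * s x ∈ C) :=
  Cfsg.Agent.Helper12.ResT.fix_structure hX hXexp u hu1 hup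

/-- (TA3) the three properties delivered by (SL2) `sl2_torus` survive `h ↦ h^(p^a)`.
PROOF: induction on `a` reduces to `a = 1`.  By induction on `k`: `h^k u h^(-k) = u^((m*m)^k)`, `h^k x = x^(m^k)` on the fixed points of `u`
(`h` maps fixed points to fixed points: `x^m`), `h^k x = x^(n^k) * y_k` with `u y_k = y_k`.  For `k = p`: `m^p ≡ m`, `n^p ≡ n`, `(m*m)^p ≡ m*m mod p`
(Fermat, `ZMod.pow_card`) and `x^p = 1`, `u^p = 1`. -/
theorem torus_pow (hXexp : ∀ x : X, x ^ p = 1) (u h : MulAut X) (hup : u ^ p = 1) (m n : ℕ)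
    (hconj : h * u * h⁻¹ = u ^ (m * m))
    (hfix : ∀ x : X, u x = x → h x = x ^ m)
    (hquot : ∀ x : X, ∃ y : X, u y = y ∧ h x = x ^ n * y) (a : ℕ) :
    (h ^ (p ^ a)) * u * (h ^ (p ^ a))⁻¹ = u ^ (m * m) ∧
      (∀ x : X, u x = x → (h ^ (p ^ a)) x = x ^ m) ∧
      (∀ x : X, ∃ y : X, u y = y ∧ (h ^ (p ^ a)) x = x ^ n * y) :=
  Cfsg.Agent.Helper66.ResT.torus_pow hXexp u h hup m n hconj hfix hquot a

end abstractX

/-- (TG1) the `p'`-part of an element of finite order: `a = (orderOf ψ).factorization p`, `orderOf (ψ^(p^a)) = ordCompl`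
(`orderOf_pow'`, `Nat.coprime_ordCompl`). -/
theorem exists_pow_coprime {G : Type*} [Group G] (ψ : G) (hψ : IsOfFinOrder ψ) :
    ∃ a : ℕ, (orderOf (ψ ^ (p ^ a))).Coprime p :=
  Cfsg.Agent.Helper66.ResT.exists_pow_coprime ψ hψ

/-! ## the configuration and a hom `ρ : A → M` whose kernel consists of `p`-elements -/

section cfg

variable {T P : Subgroup Ω} {A : Subgroup (MulAut ↥P)} {B : Subgroup (MulAut ↥T)} {M : Type*} [Group M]

/-- (TB2) the kernel of `ρ` consists of automorphisms induced by `T`, indeed by `P`.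
PROOF: `K = ρ.ker` is a normal `p`-subgroup of `↥A` (`IsPGroup` from `hker`); `U = {β : ↥A | ConjBy T P β}` is a `p`-subgroup of `↥A` (image of the
`p`-group `T`; or: closed under products/inverses, and `β^(p^k) = 1` when `t^(p^k) = 1`); `K ⊔ U` is a `p`-group
(`IsPGroup.to_sup_of_normal_left`); apply `hc.sylow` to `Q = (K ⊔ U).map A.subtype`: every element of `K` is `ConjBy T P`.  Then `hrad` with
`N = K.map A.subtype` (normal: `K` is a kernel). -/
theorem conjBy_of_ker (hc : Cfg p T P A B) (hrad : Rad p P A) (ρ : ↥A →* M)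
    (hker : ∀ α : ↥A, ρ α = 1 → ∃ k : ℕ, orderOf α = p ^ k) (α : ↥A) (hα : ρ α = 1) :
    ConjBy T P (α : MulAut ↥P) ∧ ConjBy P P (α : MulAut ↥P) :=
  Cfsg.Agent.Helper73.ResT.conjBy_of_ker hc hrad ρ hker α hα

/-- (TB3) an element of `T` inducing an automorphism in the kernel of `ρ` lies in `P`.
PROOF: by (TB2) (restate it locally or import it) `α` is conjugation by some `x ∈ P`; so `x⁻¹ t ∈ T` centralizes `P`, hence lies in `P` (`hc.cent`). -/
theorem mem_of_ker (hc : Cfg p T P A B) (hrad : Rad p P A) (ρ : ↥A →* M)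
    (hker : ∀ α : ↥A, ρ α = 1 → ∃ k : ℕ, orderOf α = p ^ k) (α : ↥A) (hα : ρ α = 1) (t : Ω) (ht : t ∈ T)
    (hconj : ∀ x : P, ((((α : MulAut ↥P) x : P)) : Ω) = t * (x : Ω) * t⁻¹) : t ∈ P :=
  Cfsg.Agent.Helper12.ResT.mem_of_ker hc hrad ρ hker α hα t ht hconj

/-- (TB6) if the image of `Aut_T(P)` is normalized by the image of `A` then `A` is `p`-closed.
PROOF: `α ∈ A`, `β` with `ConjBy T P β` (so `β ∈ A` by `hc.conj_mem`): `hn` gives `γ` with `ρ (α β α⁻¹ γ⁻¹) = 1`; by (TB2) `α β α⁻¹ γ⁻¹` is `ConjBy T P`,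
and `ConjBy T P` is closed under products. -/
theorem pclosed_of_normal_image (hc : Cfg p T P A B) (hrad : Rad p P A) (ρ : ↥A →* M)
    (hker : ∀ α : ↥A, ρ α = 1 → ∃ k : ℕ, orderOf α = p ^ k)
    (hn : ∀ α β : ↥A, ConjBy T P (β : MulAut ↥P) →
      ∃ γ : ↥A, ConjBy T P (γ : MulAut ↥P) ∧ ρ (α * β * α⁻¹) = ρ γ) : PClosed T P A :=
  Cfsg.Agent.Helper73.ResT.pclosed_of_normal_image hc hrad ρ hker hn

end cfg

/-- local stub of helper77's (SL2) -/
theorem sl2_torus {X : Type u} [CommGroup X] [Finite X] (hX : Nat.card X = p ^ 2) (hXexp : ∀ x : X, x ^ p = 1)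
    (H : Subgroup (MulAut X)) (u : MulAut X) (hu : u ∈ H) (hup : u ^ p = 1) (hu1 : u ≠ 1)
    (g : MulAut X) (hg : g ∈ H) (hgu : g * u * g⁻¹ ∉ Subgroup.zpowers u) (m : ℕ) (hm : ¬ p ∣ m) :
    ∃ (h : MulAut X) (n : ℕ), h ∈ H ∧ m * n % p = 1 ∧ h * u * h⁻¹ = u ^ (m * m) ∧
      (∀ x : X, u x = x → h x = x ^ m) ∧ (∀ x : X, ∃ y : X, u y = y ∧ h x = x ^ n * y) :=
  Cfsg.Agent.Helper37.Res.sl2_torus hX hXexp H u hu hup hu1 g hg hgu m hm

end Cfsg.Agent.Helper48.ResT
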