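import Mathlib
import Cfsg.Agent.Helper77.Res.Defs
import Cfsg.Agent.Helper48.ResTDefs
import Cfsg.Agent.Helper48.ResTDeps

/-!
# S5289 piece (T) `torus` (architect helper77)
-/

set_option autoImplicit false
set_option linter.unusedSectionVars false
set_option linter.unusedVariables false

universe u

namespace Cfsg.Agent.Helper48.Res

open Subgroup Cfsg.Agent.Helper77.Res Cfsg.Agent.Helper48.ResT

variable {Ω : Type u} [Group Ω] {p : ℕ} [hp : Fact p.Prime]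

section localcfg
variable {T P : Subgroup Ω} {A : Subgroup (MulAut ↥P)} {B : Subgroup (MulAut ↥T)}

/-- conjugation by `t ∈ T` as an element of `A` -/
noncomputable def cT (hc : Cfg p T P A B) : ↥T →* ↥A :=
  ((Subgroup.normalizerMonoidHom P).comp (Subgroup.inclusion hc.norm)).codRestrict A (fun t =>
    hc.conj_mem _ ⟨(t : Ω), t.2, fun x => rfl⟩)

theorem cT_apply (hc : Cfg p T P A B) (t : ↥T) (x : ↥P) :
    ((((cT hc t : ↥A) : MulAut ↥P) x : ↥P) : Ω) = (t : Ω) * (x : Ω) * (t : Ω)⁻¹ := rfl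

theorem conjBy_iff (hc : Cfg p T P A B) (α : MulAut ↥P) :
    ConjBy T P α ↔ ∃ t : ↥T, ((cT hc t : ↥A) : MulAut ↥P) = α := by
  constructor
  · rintro ⟨g, hg, h⟩
    refine ⟨⟨g, hg⟩, ?_⟩
    ext x
    rw [h x]
    rfl
  · rintro ⟨t, rfl⟩
    exact ⟨t, t.2, fun x => rfl⟩

theorem conjBy_cT (hc : Cfg p T P A B) (t : ↥T) : ConjBy T P ((cT hc t : ↥A) : MulAut ↥P) :=
  (conjBy_iff hc _).2 ⟨t, rfl⟩

/-- conjugating `c_x`, `x ∈ P`, by `α` gives `c_{α x}` -/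
theorem conj_cT_of_mem (hc : Cfg p T P A B) (α : ↥A) (x : ↥P) :
    α * cT hc ⟨(x : Ω), hc.le x.2⟩ * α⁻¹ =
      cT hc ⟨((((α : MulAut ↥P) x : ↥P)) : Ω), hc.le ((α : MulAut ↥P) x).2⟩ := by
  apply Subtype.ext
  ext y
  show ((((α : MulAut ↥P) (((cT hc ⟨(x : Ω), hc.le x.2⟩ : ↥A) : MulAut ↥P)
    (((α : MulAut ↥P)⁻¹) y)) : ↥P)) : Ω) = _
  rw [cT_apply]
  have e : (⟨(x : Ω) * ((((α : MulAut ↥P)⁻¹) y : ↥P) : Ω) * (x : Ω)⁻¹,
      P.mul_mem (P.mul_mem x.2 (((α : MulAut ↥P)⁻¹) y).2) (P.inv_mem x.2)⟩ : ↥P) =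
      x * (((α : MulAut ↥P)⁻¹) y) * x⁻¹ := rfl
  have e2 : ((α : MulAut ↥P) (((cT hc ⟨(x : Ω), hc.le x.2⟩ : ↥A) : MulAut ↥P)
      (((α : MulAut ↥P)⁻¹) y))) = (α : MulAut ↥P) (x * (((α : MulAut ↥P)⁻¹) y) * x⁻¹) := by
    congr 1
  rw [e2, map_mul, map_mul, map_inv, MulAut.apply_inv_self]
  rfl

/-- (T) **the torus lemma.** -/
theorem torus (hc : Cfg p T P A B) (hrad : Rad p P A) (hnpc : ¬ PClosed T P A)
    (V W : Subgroup Ω) (hWV : W ≤ V) (hVP : V ≤ P)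
    (hVinv : ∀ α ∈ A, ∀ x : P, (x : Ω) ∈ V → ((α x : P) : Ω) ∈ V)
    (hWinv : ∀ α ∈ A, ∀ x : P, (x : Ω) ∈ W → ((α x : P) : Ω) ∈ W)
    (hcard : Nat.card V = p ^ 2 * Nat.card W)
    (hWn : ∀ v ∈ V, ∀ w ∈ W, v * w * v⁻¹ ∈ W)
    (hab : ∀ u ∈ V, ∀ v ∈ V, u * v * u⁻¹ * v⁻¹ ∈ W) (hexp : ∀ v ∈ V, v ^ p ∈ W)
    (hker : ∀ α ∈ A, (∀ x : P, (x : Ω) ∈ V → (x : Ω)⁻¹ * ((α x : P) : Ω) ∈ W) → ∃ k : ℕ, orderOf α = p ^ k)
    (m : ℕ) (hm : ¬ p ∣ m) : TorusData p T P A B hc.le V W m := by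
  classical
  have hs : TSetup P V W A := ⟨hWV, hVP, hVinv, hWinv, hWn⟩
  have hfT : Finite ↥T := hc.fin
  have hfP : Finite ↥P :=
    Finite.of_injective (Subgroup.inclusion hc.le) (Subgroup.inclusion_injective _)
  have hfV : Finite ↥V :=
    Finite.of_injective (Subgroup.inclusion hVP) (Subgroup.inclusion_injective _)
  letI : CommGroup hs.X := hs.commGroupX hab
  have hX : Nat.card hs.X = p ^ 2 := hs.card_X hcard
  have hfX : Finite hs.X :=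
    Nat.finite_of_card_ne_zero (by rw [hX]; exact pow_ne_zero _ hp.out.ne_zero)
  have hXexp : ∀ x : hs.X, x ^ p = 1 := hs.pow_X hexp
  -- the kernel of `ρ`
  have hker' : ∀ α : ↥A, hs.rho α = 1 → ∃ k : ℕ, orderOf α = p ^ k := by
    intro α hα
    obtain ⟨k, hk⟩ := hker α α.2 ((hs.rho_eq_one_iff α).1 hα)
    exact ⟨k, (Subgroup.orderOf_coe α).symm.trans hk⟩
  set σ : ↥T →* MulAut hs.X := hs.rho.comp (cT hc) with hσ
  have hσa : ∀ t, σ t = hs.rho (cT hc t) := fun t => rfl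
  -- automorphisms in `A` whose image lies in the image of `T` are induced by `T`
  have LS : ∀ β : ↥A, hs.rho β ∈ σ.range → ConjBy T P (β : MulAut ↥P) := by
    rintro β ⟨t', ht'⟩
    rw [hσa] at ht'
    have h1 : hs.rho (β * (cT hc t')⁻¹) = 1 := by
      rw [map_mul, map_inv, ← ht']
      exact mul_inv_cancel _
    obtain ⟨t'', ht''⟩ := (conjBy_iff hc _).1 (conjBy_of_ker hc hrad hs.rho hker' _ h1).1
    refine (conjBy_iff hc _).2 ⟨t'' * t', ?_⟩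
    have e : cT hc t'' = β * (cT hc t')⁻¹ := Subtype.ext ht''
    rw [map_mul, e, inv_mul_cancel_right]
  have hkerσ : ∀ t : ↥T, σ t = 1 → (t : Ω) ∈ P := by
    intro t ht
    exact mem_of_ker hc hrad hs.rho hker' (cT hc t) ht (t : Ω) t.2 (fun x => rfl)
  -- the image `S` of `T`
  have hSp : IsPGroup p σ.range := hc.pgrp.of_surjective σ.rangeRestrict σ.rangeRestrict_surjective
  have hSle : Nat.card σ.range ≤ p := card_le_of_pgroup_aut hX hXexp σ.range hSp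
  obtain ⟨t0, ht0T, ht0P⟩ : ∃ t0, t0 ∈ T ∧ t0 ∉ P :=
    SetLike.exists_of_lt (lt_of_le_of_ne hc.le hc.ne)
  set u : MulAut hs.X := σ ⟨t0, ht0T⟩ with hu
  have hu1 : u ≠ 1 := fun h => ht0P (hkerσ ⟨t0, ht0T⟩ h)
  have huS : u ∈ σ.range := ⟨_, rfl⟩
  have hScard : Nat.card σ.range = p := by
    obtain ⟨k, hk⟩ := hSp.exists_card_eq
    rcases k with _ | k
    · exfalso
      apply hu1
      rw [pow_zero] at hk
      have hsub : Subsingleton σ.range := (Nat.card_eq_one_iff_unique.1 hk).1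
      have := Subsingleton.elim (⟨u, huS⟩ : σ.range) 1
      exact congrArg Subtype.val this
    · have hk0 : k = 0 := by
        by_contra hk0
        have h2 : p ^ 2 ≤ p ^ (k + 1) := Nat.pow_le_pow_right hp.out.pos (by omega)
        have hp2 := hp.out.two_le
        rw [hk] at hSle
        nlinarith
      subst hk0
      simpa using hk
  have hup : u ^ p = 1 := by
    have h1 := pow_card_eq_one' (G := σ.range) (x := ⟨u, huS⟩)
    rw [hScard] at h1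
    exact congrArg Subtype.val h1
  have hSz : ∀ s ∈ σ.range, s ∈ Subgroup.zpowers u := by
    intro s hs'
    have h1 : (⟨s, hs'⟩ : σ.range) ∈ Subgroup.zpowers (⟨u, huS⟩ : σ.range) :=
      mem_zpowers_of_prime_card hScard (by intro h; exact hu1 (congrArg Subtype.val h))
    obtain ⟨k, hk⟩ := h1
    exact ⟨k, by have := congrArg Subtype.val hk; simpa using this⟩
  have hzS : ∀ s ∈ Subgroup.zpowers u, s ∈ σ.range :=
    fun s hs' => (Subgroup.zpowers_le.2 huS) hs'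
  have hconjS : ∀ g : MulAut hs.X, g * u * g⁻¹ ∈ Subgroup.zpowers u →
      ∀ s ∈ σ.range, g * s * g⁻¹ ∈ σ.range := by
    intro g hg s hs'
    obtain ⟨k, rfl⟩ := hSz s hs'
    have e : g * u ^ k * g⁻¹ = (g * u * g⁻¹) ^ k := by rw [conj_zpow]
    rw [e]
    exact hzS _ (Subgroup.zpow_mem _ hg k)
  -- `S` is not normalized by the image of `A`
  obtain ⟨α0, hα0⟩ : ∃ α0 : ↥A, hs.rho α0 * u * (hs.rho α0)⁻¹ ∉ Subgroup.zpowers u := by
    by_contra hcon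
    push Not at hcon
    apply hnpc
    intro α hα β hβ
    obtain ⟨t, rfl⟩ := (conjBy_iff hc β).1 hβ
    exact LS (⟨α, hα⟩ * cT hc t * ⟨α, hα⟩⁻¹) (by
      rw [map_mul, map_mul, map_inv]
      exact hconjS _ (hcon ⟨α, hα⟩) _ ⟨t, rfl⟩)
  -- `P` acts trivially on `X`
  have hPker : ∀ x : ↥P, σ ⟨(x : Ω), hc.le x.2⟩ = 1 := by
    intro x
    by_contra hx
    have hxS : σ ⟨(x : Ω), hc.le x.2⟩ ∈ σ.range := ⟨_, rfl⟩
    have h1 : (⟨u, huS⟩ : σ.range) ∈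
        Subgroup.zpowers (⟨σ ⟨(x : Ω), hc.le x.2⟩, hxS⟩ : σ.range) :=
      mem_zpowers_of_prime_card hScard (by intro h; exact hx (congrArg Subtype.val h))
    obtain ⟨k, hk⟩ := h1
    have hk' : (σ ⟨(x : Ω), hc.le x.2⟩) ^ k = u := by
      have := congrArg Subtype.val hk
      simpa using this
    apply hα0
    have e : hs.rho α0 * u * (hs.rho α0)⁻¹ =
        (hs.rho α0 * σ ⟨(x : Ω), hc.le x.2⟩ * (hs.rho α0)⁻¹) ^ k := by
      rw [conj_zpow, hk']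
    rw [e]
    apply Subgroup.zpow_mem
    apply hSz
    refine ⟨⟨_, hc.le ((α0 : MulAut ↥P) x).2⟩, ?_⟩
    rw [hσa, hσa, ← conj_cT_of_mem hc α0 x, map_mul, map_mul, map_inv]
  -- `|T : P| = p`
  have hTcard : Nat.card T = p * Nat.card P := by
    have hkereq : σ.ker = P.subgroupOf T := by
      ext t
      rw [MonoidHom.mem_ker, Subgroup.mem_subgroupOf]
      constructor
      · exact hkerσ t
      · intro ht
        exact hPker ⟨(t : Ω), ht⟩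
    have h1 := Subgroup.card_eq_card_quotient_mul_card_subgroup σ.ker
    have h2 : Nat.card (↥T ⧸ σ.ker) = Nat.card σ.range :=
      Nat.card_congr (QuotientGroup.quotientKerEquivRange σ).toEquiv
    have h3 : Nat.card ↥(P.subgroupOf T) = Nat.card ↥P :=
      Nat.card_congr (Subgroup.subgroupOfEquivOfLe hc.le).toEquiv
    rw [h2, hScard, hkereq, h3] at h1
    exact h1
  -- the torus element
  obtain ⟨hbar, n, hhH, hmn, hconj, hfix, hquot⟩ :=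
    sl2_torus hX hXexp hs.rho.range u ⟨cT hc ⟨t0, ht0T⟩, rfl⟩ hup hu1 (hs.rho α0) ⟨α0, rfl⟩ hα0 m hm
  obtain ⟨h0, rfl⟩ := hhH
  obtain ⟨C, hCcard, hCfix, hCs, hCq⟩ := fix_structure hX hXexp u hu1 hup
  have hnorm : ∀ α, ConjBy T P α →
      ConjBy T P ((h0 : MulAut ↥P) * α * (h0 : MulAut ↥P)⁻¹) := by
    intro α hα
    obtain ⟨t, rfl⟩ := (conjBy_iff hc α).1 hα
    exact LS (h0 * cT hc t * h0⁻¹) (by
      rw [map_mul, map_mul, map_inv]
      exact hconjS _ (by rw [hconj]; exact Subgroup.pow_mem _ (Subgroup.mem_zpowers u) _) _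
        ⟨t, rfl⟩)
  obtain ⟨ψ0, hψ0B, hψ0⟩ := hc.ext h0 h0.2 hnorm
  obtain ⟨a, ha⟩ := exists_pow_coprime (p := p) ψ0 (isOfFinOrder_of_finite ψ0)
  have hext : ∀ (k : ℕ) (x : P), (((ψ0 ^ k) ⟨(x : Ω), hc.le x.2⟩ : T) : Ω) =
      ((((h0 : MulAut ↥P) ^ k) x : P) : Ω) := by
    intro k
    induction k with
    | zero => intro x; rfl
    | succ k ih =>
      intro x
      rw [pow_succ, pow_succ, MulAut.mul_apply, MulAut.mul_apply]
      have e : ψ0 ⟨(x : Ω), hc.le x.2⟩ =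
          ⟨(((h0 : MulAut ↥P) x : P) : Ω), hc.le ((h0 : MulAut ↥P) x).2⟩ := Subtype.ext (hψ0 x)
      rw [e]
      exact ih _
  obtain ⟨hconj', hfix', hquot'⟩ := torus_pow hXexp u (hs.rho h0) hup m n hconj hfix hquot a
  set ψ : MulAut ↥T := ψ0 ^ (p ^ a) with hψ
  set h : ↥A := h0 ^ (p ^ a) with hh
  have hρh : hs.rho h = (hs.rho h0) ^ (p ^ a) := map_pow _ _ _
  have hG4 : ∀ x : P, ((ψ ⟨(x : Ω), hc.le x.2⟩ : T) : Ω) = (((h : MulAut ↥P) x : P) : Ω) :=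
    fun x => hext (p ^ a) x
  refine ⟨hs.pre C, n, (h : MulAut ↥P), ψ, hs.le_pre C, hs.pre_le C, hs.card_pre hcard C hCcard,
    hTcard, ?_, ?_, ?_, hmn, h.2, Subgroup.pow_mem _ hψ0B _, ha, hG4, ?_, ?_, ?_⟩
  · -- `T` is trivial on `V1/W`
    rintro t ht v ⟨hv, hvC⟩
    have h1 : σ ⟨t, ht⟩ (hs.cls ⟨v, hv⟩) = hs.cls ⟨v, hv⟩ := hCs _ (hSz _ ⟨_, rfl⟩) _ hvC
    have h2 : σ ⟨t, ht⟩ (hs.cls ⟨v, hv⟩) = hs.cls (hs.resV (cT hc ⟨t, ht⟩) ⟨v, hv⟩) := rfl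
    rw [h2, eq_comm, hs.cls_eq_mk] at h1
    exact h1
  · -- `T` is trivial on `V/V1`
    intro t ht v hv
    have h1 := hCq _ (hSz _ (⟨⟨t, ht⟩, rfl⟩ : σ ⟨t, ht⟩ ∈ σ.range)) (hs.cls ⟨v, hv⟩)
    have hmem : t * v * t⁻¹ ∈ V := (hs.resV (cT hc ⟨t, ht⟩) ⟨v, hv⟩).2
    refine ⟨V.mul_mem (V.inv_mem hv) hmem, ?_⟩
    have e : hs.cls ⟨v⁻¹ * (t * v * t⁻¹), V.mul_mem (V.inv_mem hv) hmem⟩ =
        (hs.cls ⟨v, hv⟩)⁻¹ * σ ⟨t, ht⟩ (hs.cls ⟨v, hv⟩) := rfl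
    rw [e]
    exact h1
  · -- `T` is not trivial on `V/W`
    obtain ⟨x, hx⟩ : ∃ x, u x ≠ x := by
      by_contra hcon
      push Not at hcon
      exact hu1 (MulEquiv.ext hcon)
    obtain ⟨v, rfl⟩ := hs.cls_surjective x
    refine ⟨t0, ht0T, v, v.2, fun hW => hx ?_⟩
    have h2 : u (hs.cls v) = hs.cls (hs.resV (cT hc ⟨t0, ht0T⟩) v) := rfl
    rw [h2, eq_comm, hs.cls_eq_mk]
    exact hW
  · -- `h` acts as `m` on `V1/W`
    rintro x ⟨hxV, hxC⟩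
    have h1 : u (hs.cls ⟨x, hxV⟩) = hs.cls ⟨x, hxV⟩ := (hCfix _).2 hxC
    have h2 := hfix' _ h1
    rw [← hρh] at h2
    have h3 : hs.rho h (hs.cls ⟨x, hxV⟩) = hs.cls (hs.resV h ⟨x, hxV⟩) := rfl
    rw [h3, ← hs.cls_pow, eq_comm, hs.cls_eq_mk] at h2
    exact h2
  · -- `h` acts as `n` on `V/V1`
    intro x hxV
    obtain ⟨y, hy, hxy⟩ := hquot' (hs.cls ⟨x, hxV⟩)
    rw [← hρh] at hxy
    have hyC : y ∈ C := (hCfix y).1 hy
    have hmem : ((((h : MulAut ↥P) x : P)) : Ω) ∈ V := hVinv _ h.2 x hxV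
    refine ⟨V.mul_mem (V.inv_mem (V.pow_mem hxV n)) hmem, ?_⟩
    have e : hs.cls ⟨((x : Ω) ^ n)⁻¹ * ((((h : MulAut ↥P) x : P)) : Ω),
        V.mul_mem (V.inv_mem (V.pow_mem hxV n)) hmem⟩ =
        ((hs.cls ⟨x, hxV⟩) ^ n)⁻¹ * hs.rho h (hs.cls ⟨x, hxV⟩) := by
      rw [← hs.cls_pow]
      rfl
    rw [e, hxy, inv_mul_cancel_left]
    exact hyC
  · -- `ψ` acts as `m²` on `T/P`
    intro t
    have key : cT hc (ψ t) = h * cT hc t * h⁻¹ := by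
      apply Subtype.ext
      ext y
      set z : ↥P := ((h : MulAut ↥P)⁻¹) y with hz
      have hy : (h : MulAut ↥P) z = y := MulAut.apply_inv_self ↥P (h : MulAut ↥P) y
      have e1 : ψ ⟨(z : Ω), hc.le z.2⟩ = ⟨(y : Ω), hc.le y.2⟩ := by
        apply Subtype.ext
        rw [hG4 z, hy]
      set z' : ↥P := ((cT hc t : ↥A) : MulAut ↥P) z with hz'
      have e2 : ψ ⟨(z' : Ω), hc.le z'.2⟩ =
          ⟨((((h : MulAut ↥P) z' : P)) : Ω), hc.le ((h : MulAut ↥P) z').2⟩ := Subtype.ext (hG4 z')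
      have e3 : (⟨(z' : Ω), hc.le z'.2⟩ : ↥T) = t * ⟨(z : Ω), hc.le z.2⟩ * t⁻¹ := Subtype.ext rfl
      have h4 : ψ (t * ⟨(z : Ω), hc.le z.2⟩ * t⁻¹) = ψ t * ψ ⟨(z : Ω), hc.le z.2⟩ * (ψ t)⁻¹ := by
        rw [map_mul, map_mul, map_inv]
      rw [← e3, e2, e1] at h4
      have h5 := congrArg (fun w : ↥T => (w : Ω)) h4
      exact h5.symm
    have h1 : σ (ψ t) = hs.rho h * σ t * (hs.rho h)⁻¹ := by
      rw [hσa (ψ t), hσa t, key, map_mul, map_mul, map_inv]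
    obtain ⟨k, hk⟩ := hSz (σ t) ⟨t, rfl⟩
    have hk' : u ^ k = σ t := hk
    have h2 : σ (ψ t) = σ (t ^ (m * m)) := by
      rw [h1, ← hk', hρh, ← conj_zpow, hconj', map_pow, ← hk', ← zpow_natCast, ← zpow_natCast,
        ← zpow_mul, ← zpow_mul, mul_comm]
    have h3 : σ ((t ^ (m * m))⁻¹ * ψ t) = 1 := by
      rw [map_mul, map_inv, h2]
      exact inv_mul_cancel _
    exact hkerσ _ h3

end localcfg

end Cfsg.Agent.Helper48.Res
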