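import Mathlib

/-!
# (K3) of board #5796 (helper3, S3805): the local analysis on the support of `A`
(pure arithmetic, no sums) (helper48)
-/

set_option autoImplicit false
set_option maxHeartbeats 1600000

namespace Cfsg.Agent.Helper48.S3S3

/-- **(K3)** the local analysis on the support of `A` (pure arithmetic, no sums). -/
theorem local_arith (e₀ a₁ a₂ c₀ c₁ c₂ : ℤ) (D d₁ d₂ g : ℕ)
    (he : e₀ = 1 ∨ e₀ = -1) (h1 : a₁ = 1 ∨ a₁ = -1) (h2 : a₂ = 1 ∨ a₂ = -1)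
    (hD : 0 < D) (hd1 : 0 < d₁) (hd2 : 0 < d₂) (hg : 0 < g)
    (hC4 : c₀ ^ 2 + c₁ ^ 2 + c₂ ^ 2 ≤ 4)
    (hAC : e₀ * c₀ + a₁ * c₁ + a₂ * c₂ = -1)
    (hdA : e₀ * D + a₁ * d₁ + a₂ * d₂ = 0)
    (hq1 : ((e₀ - c₀) ^ 2 * e₀ : ℚ) / D + ((a₁ + c₁) ^ 2 * a₁ : ℚ) / d₁
      + ((a₂ + c₂) ^ 2 * a₂ : ℚ) / d₂ = 0)
    (hq2 : ((e₀ - c₀) ^ 2 * e₀ : ℚ) / D + ((-a₁ - c₁) * (2 * a₁ - c₁) * a₁ : ℚ) / d₁
      + ((-a₂ - c₂) * (2 * a₂ - c₂) * a₂ : ℚ) / d₂ = -108 / g)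
    (hq3 : ((e₀ - c₀) * (-2 * e₀ - c₀) * e₀ : ℚ) / D + ((a₁ + c₁) ^ 2 * a₁ : ℚ) / d₁
      + ((a₂ + c₂) ^ 2 * a₂ : ℚ) / d₂ = 54 / g) :
    g = 9 * D ∧ 2 * d₁ = D ∧ 2 * d₂ = D := by
  have hDq : (0 : ℚ) < D := by exact_mod_cast hD
  have hd1q : (0 : ℚ) < d₁ := by exact_mod_cast hd1
  have hd2q : (0 : ℚ) < d₂ := by exact_mod_cast hd2
  have hgq : (0 : ℚ) < g := by exact_mod_cast hg
  have hdAq : (e₀ : ℚ) * D + a₁ * d₁ + a₂ * d₂ = 0 := by exact_mod_cast hdA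
  have b0 : -2 ≤ c₀ ∧ c₀ ≤ 2 := by constructor <;> nlinarith [sq_nonneg c₁, sq_nonneg c₂]
  have b1 : -2 ≤ c₁ ∧ c₁ ≤ 2 := by constructor <;> nlinarith [sq_nonneg c₀, sq_nonneg c₂]
  have b2 : -2 ≤ c₂ ∧ c₂ ≤ 2 := by constructor <;> nlinarith [sq_nonneg c₀, sq_nonneg c₁]
  obtain ⟨l0, u0⟩ := b0
  obtain ⟨l1, u1⟩ := b1
  obtain ⟨l2, u2⟩ := b2
  -- Step A
  have hA : ((c₀ : ℚ) - e₀) / D = 18 / g := by
    rcases he with rfl | rfl
    · push_cast at hq1 hq3 ⊢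
      linear_combination (1 / 3 : ℚ) * hq3 - (1 / 3 : ℚ) * hq1
    · push_cast at hq1 hq3 ⊢
      linear_combination (1 / 3 : ℚ) * hq3 - (1 / 3 : ℚ) * hq1
  have hA' : ((c₀ : ℚ) - e₀) * g = 18 * D := by
    field_simp at hA
    linarith
  have hpos : (0 : ℚ) < (c₀ : ℚ) - e₀ := by
    by_contra hneg
    push Not at hneg
    have : ((c₀ : ℚ) - e₀) * g ≤ 0 := mul_nonpos_of_nonpos_of_nonneg hneg hgq.le
    nlinarith
  have hposZ : e₀ < c₀ := by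
    have : ((e₀ : ℤ) : ℚ) < (c₀ : ℚ) := by linarith
    exact_mod_cast this
  rcases he with rfl | rfl
  · -- e₀ = 1: c₀ = 2, impossible
    exfalso
    have : c₀ = 2 := by omega
    subst this
    have : c₁ = 0 := by nlinarith [sq_nonneg c₁, sq_nonneg c₂]
    have : c₂ = 0 := by nlinarith [sq_nonneg c₁, sq_nonneg c₂]
    subst_vars
    omega
  · have l0' : 0 ≤ c₀ := by omega
    rcases h1 with rfl | rfl <;> rcases h2 with rfl | rfl <;> interval_cases c₀ <;>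
      interval_cases c₁ <;> interval_cases c₂ <;>
      try (exfalso; revert hC4 hAC; norm_num; done)
    all_goals (push_cast at hq1 hA' hdAq; norm_num at hq1 hA' hdAq)
    all_goals
      have hp12 := mul_pos hd1q hd2q
      have hpD1 := mul_pos hDq hd1q
      have hpD2 := mul_pos hDq hd2q
      field_simp at hq1
      first
        | (exfalso; linarith)
        | (exfalso; nlinarith [sq_nonneg ((d₁ : ℚ) - d₂), sq_nonneg ((d₁ : ℚ) + d₂)])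
        | (have hsq : ((d₁ : ℚ) - d₂) ^ 2 = 0 := by nlinarith
           have hd : (d₁ : ℚ) = d₂ := by
             have := pow_eq_zero_iff (two_ne_zero) |>.1 hsq
             linarith
           have hg9 : (g : ℚ) = 9 * D := by linarith
           have hd1' : (2 : ℚ) * d₁ = D := by linarith
           have hd2' : (2 : ℚ) * d₂ = D := by linarith
           refine ⟨?_, ?_, ?_⟩
           · exact_mod_cast hg9
           · exact_mod_cast hd1'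
           · exact_mod_cast hd2')

end Cfsg.Agent.Helper48.S3S3
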