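import Cfsg.Agent.Helper48.SPA1core
import Cfsg.Agent.Helper23.SPA1c
import Cfsg.Agent.Helper87.SPF1
import Cfsg.Agent.Helper73.SPS0g
import Cfsg.Agent.Helper76.SPS0bc
import Cfsg.Agent.Helper4.SPS0

/-!
# (A1c), (A1d), (A1) for helper6's S2347 with the exact skeleton statements
-/

set_option autoImplicit false

namespace Cfsg.Agent.Helper48.SPrep

open Matrix Cfsg.Agent.Helper13 Cfsg.Agent.Helper5 Module
open Cfsg.Agent.Helper6.SUrep (fpr)
open Cfsg.Agent.Helper6.SPrep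

variable {F : Type*} [Field F] {m : ℕ}

local notation "Vec" => (Fin m ⊕ Fin m → F)
local notation "⟪" x ", " y "⟫" => Cfsg.sympForm m F x y

section A1

variable [Fintype F] {M : Type*} [AddCommGroup M] [Module ℂ M]

/-- (A1c) the Heisenberg bound (helper23's core form glued with (S0b), (S0g), (S0h), (S0j)) -/
theorem le_finrank_range_fpr [FiniteDimensional ℂ M] (h2 : (2 : F) ≠ 0)
    {W : Submodule F (Fin m ⊕ Fin m → F)} (hW : RelNondeg W) (k : ℕ)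
    (hk : finrank F W = 2 * k) (ρ : Representation ℂ ↥(spW W) M) (u : Vec) (hu : u ∈ W)
    (hu0 : u ≠ 0) (ψ : AddChar F ℂ) (hψ : ψ ≠ 0)
    (hne : LinearMap.range (fpr (rootOp W ρ u hu) ψ) ≠ ⊥) :
    Fintype.card F ^ (k - 1) ≤ finrank ℂ (LinearMap.range (fpr (rootOp W ρ u hu) ψ)) :=
  Cfsg.Agent.Helper23.SPrep.le_finrank_range_fpr_of hW k hk ρ u hu hu0 ψ hψ hne
    (fun u' hu' huu' => Cfsg.Agent.Helper76.SPrep.finrank_hypCompl W u u' hu hu' huu')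
    (fun u' hu' huu' y₀ hy₀ hy₀0 c₀ s =>
      Cfsg.Agent.Helper73.SPrep.exists_eiW_conj h2 hW u u' hu hu' huu' y₀ hy₀ hy₀0 c₀ s)
    (fun y hy hyu c s => Cfsg.Agent.Helper4.SPrep.eiW_comm_tvW W u y hu hy hyu c s)
    (fun y y' hy hy' hyu hy'u c c' =>
      Cfsg.Agent.Helper4.SPrep.eiW_mul W u y y' hu hy hy' hyu hy'u c c')

/-- (A1) -/
theorem finrank_fixZ_add_le [FiniteDimensional ℂ M] (hodd : Odd (Fintype.card F))
    {W : Submodule F (Fin m ⊕ Fin m → F)} (hW : RelNondeg W) (k : ℕ)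
    (hk : finrank F W = 2 * k) (ρ : Representation ℂ ↥(spW W) M) (u : Vec) (hu : u ∈ W)
    (hu0 : u ≠ 0) (c₀ : F) (hc₀ : ρ (tvW W u hu c₀) ≠ 1) :
    finrank ℂ (fixZ W ρ u hu) + (Fintype.card F - 1) / 2 * Fintype.card F ^ (k - 1) ≤
      finrank ℂ M :=
  finrank_fixZ_add_le_of hW k ρ u hu hu0 c₀ hc₀
    (fun ψ hψ hne =>
      le_finrank_range_fpr (two_ne_zero_of_odd hodd) hW k hk ρ u hu hu0 ψ hψ hne)
    (fun ψ₀ hψ₀ => Cfsg.Agent.Helper87.SPrep.card_sq_orbit hodd ψ₀ hψ₀)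

/-- (A1d) if all the non-trivial characters of the root group occur -/
theorem le_finrank_of_forall [FiniteDimensional ℂ M] (hodd : Odd (Fintype.card F))
    {W : Submodule F (Fin m ⊕ Fin m → F)} (hW : RelNondeg W) (k : ℕ)
    (hk : finrank F W = 2 * k) (ρ : Representation ℂ ↥(spW W) M) (u : Vec) (hu : u ∈ W)
    (hu0 : u ≠ 0)
    (H : ∀ ψ : AddChar F ℂ, ψ ≠ 0 → LinearMap.range (fpr (rootOp W ρ u hu) ψ) ≠ ⊥) :
    (Fintype.card F - 1) * Fintype.card F ^ (k - 1) ≤ finrank ℂ M :=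
  le_finrank_of_forall_of k ρ u hu
    (fun ψ hψ hne =>
      le_finrank_range_fpr (two_ne_zero_of_odd hodd) hW k hk ρ u hu hu0 ψ hψ hne) H

end A1

end Cfsg.Agent.Helper48.SPrep
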