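import Cfsg.Agent.Helper6.SPrep2
import Cfsg.Agent.Helper60.SUG1

/-!
# (A1z), and core forms of (A1d), (A1) for helper6's S2347 (Landazuri–Seitz bound for `Sp_2n(q)`)

The core forms take the Heisenberg bound (A1c) and the orbit of characters (F1) as hypotheses.
-/

set_option autoImplicit false

namespace Cfsg.Agent.Helper48.SPrep

open Matrix Cfsg.Agent.Helper13 Cfsg.Agent.Helper5 Module
open Cfsg.Agent.Helper6.SUrep (fpr)
open Cfsg.Agent.Helper6.SPrep

variable {F : Type*} [Field F] {m : ℕ}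

local notation "Vec" => (Fin m ⊕ Fin m → F)
local notation "⟪" x ", " y "⟫" => Cfsg.sympForm m F x y

/-- multiplication by a non-zero element as an additive equivalence -/
def mulRightAddEquiv (a : F) (ha : a ≠ 0) : F ≃+ F where
  toFun x := x * a
  invFun x := x * a⁻¹
  left_inv x := by
    show x * a * a⁻¹ = x
    rw [mul_assoc, mul_inv_cancel₀ ha, mul_one]
  right_inv x := by
    show x * a⁻¹ * a = x
    rw [mul_assoc, inv_mul_cancel₀ ha, mul_one]
  map_add' x y := add_mul x y a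

theorem mulRightAddEquiv_apply (a : F) (ha : a ≠ 0) (x : F) :
    mulRightAddEquiv a ha x = x * a := rfl

theorem two_ne_zero_of_odd [Fintype F] (hodd : Odd (Fintype.card F)) : (2 : F) ≠ 0 := by
  apply Ring.two_ne_zero
  intro h
  have h1 := FiniteField.even_card_of_char_two h
  obtain ⟨k, hk⟩ := hodd
  omega

section A1

variable [Fintype F] {M : Type*} [AddCommGroup M] [Module ℂ M]

/-- (A1z) the trivial character gives the fixed points -/
theorem range_fpr_zero (W : Submodule F (Fin m ⊕ Fin m → F)) (ρ : Representation ℂ ↥(spW W) M)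
    (u : Vec) (hu : u ∈ W) :
    LinearMap.range (fpr (rootOp W ρ u hu) 0) = fixZ W ρ u hu := by
  ext x
  rw [Cfsg.Agent.Helper60.SUrep.mem_range_fpr_iff _ (rootOp_zero W ρ u hu) (rootOp_add W ρ u hu),
    mem_fixZ]
  simp only [AddChar.zero_apply, one_smul]
  rfl

/-- (A1d), core form: (A1c) as a hypothesis -/
theorem le_finrank_of_forall_of [FiniteDimensional ℂ M]
    {W : Submodule F (Fin m ⊕ Fin m → F)} (k : ℕ)
    (ρ : Representation ℂ ↥(spW W) M) (u : Vec) (hu : u ∈ W)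
    (h1c : ∀ ψ : AddChar F ℂ, ψ ≠ 0 → LinearMap.range (fpr (rootOp W ρ u hu) ψ) ≠ ⊥ →
      Fintype.card F ^ (k - 1) ≤ finrank ℂ (LinearMap.range (fpr (rootOp W ρ u hu) ψ)))
    (H : ∀ ψ : AddChar F ℂ, ψ ≠ 0 → LinearMap.range (fpr (rootOp W ρ u hu) ψ) ≠ ⊥) :
    (Fintype.card F - 1) * Fintype.card F ^ (k - 1) ≤ finrank ℂ M := by
  classical
  rw [Cfsg.Agent.Helper60.SUrep.finrank_eq_sum_fpr _ (rootOp_zero W ρ u hu) (rootOp_add W ρ u hu),
    ← Finset.add_sum_erase Finset.univ _ (Finset.mem_univ (0 : AddChar F ℂ))]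
  refine le_trans ?_ (Nat.le_add_left _ _)
  calc (Fintype.card F - 1) * Fintype.card F ^ (k - 1)
      = ∑ _ψ ∈ Finset.univ.erase (0 : AddChar F ℂ), Fintype.card F ^ (k - 1) := by
        rw [Finset.sum_const, Finset.card_erase_of_mem (Finset.mem_univ _), Finset.card_univ,
          AddChar.card_eq, smul_eq_mul]
    _ ≤ _ := Finset.sum_le_sum (fun ψ hψ =>
        h1c ψ (Finset.ne_of_mem_erase hψ) (H ψ (Finset.ne_of_mem_erase hψ)))

/-- (A1), core form: (A1c) and (F1) as hypotheses -/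
theorem finrank_fixZ_add_le_of [FiniteDimensional ℂ M]
    {W : Submodule F (Fin m ⊕ Fin m → F)} (hW : RelNondeg W) (k : ℕ)
    (ρ : Representation ℂ ↥(spW W) M) (u : Vec) (hu : u ∈ W)
    (hu0 : u ≠ 0) (c₀ : F) (hc₀ : ρ (tvW W u hu c₀) ≠ 1)
    (h1c : ∀ ψ : AddChar F ℂ, ψ ≠ 0 → LinearMap.range (fpr (rootOp W ρ u hu) ψ) ≠ ⊥ →
      Fintype.card F ^ (k - 1) ≤ finrank ℂ (LinearMap.range (fpr (rootOp W ρ u hu) ψ)))
    (hF1 : ∀ ψ₀ : AddChar F ℂ, ψ₀ ≠ 0 →
      ∃ T : Finset (AddChar F ℂ), (Fintype.card F - 1) / 2 ≤ T.card ∧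
        ∀ ψ ∈ T, ψ ≠ 0 ∧ ∃ κ : F, κ ≠ 0 ∧ ∀ c, ψ (c * κ ^ 2) = ψ₀ c) :
    finrank ℂ (fixZ W ρ u hu) + (Fintype.card F - 1) / 2 * Fintype.card F ^ (k - 1) ≤
      finrank ℂ M := by
  classical
  have hs0 := rootOp_zero W ρ u hu
  have hs := rootOp_add W ρ u hu
  have hsum := Cfsg.Agent.Helper60.SUrep.finrank_eq_sum_fpr _ hs0 hs
  have hfix := range_fpr_zero W ρ u hu
  -- some non-trivial character occurs
  have hex : ∃ ψ₀ : AddChar F ℂ, ψ₀ ≠ 0 ∧ LinearMap.range (fpr (rootOp W ρ u hu) ψ₀) ≠ ⊥ := by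
    by_contra hno
    apply hc₀
    have h1 : finrank ℂ M = finrank ℂ (fixZ W ρ u hu) := by
      rw [hsum, ← hfix]
      rw [Finset.sum_eq_single (0 : AddChar F ℂ)]
      · intro ψ _ hψ
        have : LinearMap.range (fpr (rootOp W ρ u hu) ψ) = ⊥ := by
          by_contra hb
          exact hno ⟨ψ, hψ, hb⟩
        rw [this, finrank_bot]
      · intro h
        exact absurd (Finset.mem_univ _) h
    have htop : fixZ W ρ u hu = ⊤ := Submodule.eq_top_of_finrank_eq h1.symm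
    ext x
    have hx : x ∈ fixZ W ρ u hu := by
      rw [htop]
      exact Submodule.mem_top
    exact hx c₀
  obtain ⟨ψ₀, hψ₀, hne₀⟩ := hex
  obtain ⟨T, hTcard, hT⟩ := hF1 ψ₀ hψ₀
  -- the characters of `T` have the same rank as `ψ₀`
  have hrank : ∀ ψ ∈ T, finrank ℂ (LinearMap.range (fpr (rootOp W ρ u hu) ψ₀)) =
      finrank ℂ (LinearMap.range (fpr (rootOp W ρ u hu) ψ)) := by
    intro ψ hψ
    obtain ⟨-, κ, hκ, hκψ⟩ := hT ψ hψ
    obtain ⟨g, hg⟩ := exists_conj_tvW hW u hu hu0 κ hκ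
    refine Cfsg.Agent.Helper60.SUrep.finrank_range_fpr_conj (rootOp W ρ u hu) (ρ g) (ρ g⁻¹) ?_ ?_
      (mulRightAddEquiv (κ ^ 2) (pow_ne_zero 2 hκ)) ?_ ψ₀ ψ ?_
    · rw [← map_mul, mul_inv_cancel, map_one]
    · rw [← map_mul, inv_mul_cancel, map_one]
    · intro x
      simp only [rootOp]
      rw [← map_mul, ← map_mul, hg, mulRightAddEquiv_apply]
    · intro x
      rw [mulRightAddEquiv_apply]
      exact hκψ x
  have hge : ∀ ψ ∈ T, Fintype.card F ^ (k - 1) ≤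
      finrank ℂ (LinearMap.range (fpr (rootOp W ρ u hu) ψ)) := by
    intro ψ hψ
    apply h1c ψ (hT ψ hψ).1
    intro hbot
    apply hne₀
    have h2 := hrank ψ hψ
    rw [hbot, finrank_bot] at h2
    exact Submodule.finrank_eq_zero.mp h2
  have h0T : (0 : AddChar F ℂ) ∉ T := fun h => (hT 0 h).1 rfl
  rw [hsum, ← hfix, ← Finset.add_sum_erase Finset.univ _ (Finset.mem_univ (0 : AddChar F ℂ))]
  apply Nat.add_le_add_left
  have hsub : T ⊆ Finset.univ.erase (0 : AddChar F ℂ) := by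
    intro ψ hψ
    rw [Finset.mem_erase]
    exact ⟨fun h => h0T (h ▸ hψ), Finset.mem_univ _⟩
  calc (Fintype.card F - 1) / 2 * Fintype.card F ^ (k - 1)
      ≤ T.card * Fintype.card F ^ (k - 1) := Nat.mul_le_mul_right _ hTcard
    _ = ∑ _ψ ∈ T, Fintype.card F ^ (k - 1) := by rw [Finset.sum_const, smul_eq_mul]
    _ ≤ ∑ ψ ∈ T, finrank ℂ (LinearMap.range (fpr (rootOp W ρ u hu) ψ)) :=
        Finset.sum_le_sum hge
    _ ≤ _ := Finset.sum_le_sum_of_subset hsub

end A1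

end Cfsg.Agent.Helper48.SPrep
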