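import Mathlib
import Cfsg.Agent.Helper84.SU3P.Defs
import Cfsg.Agent.Helper84.RU3.Crit
import Cfsg.Agent.Helper81.RU3FGSF
import Cfsg.Agent.Helper53.SU3P_BAS
import Cfsg.Agent.Helper13.UGen1

/-!
helper48 for helper84 (S2289, board #12729): piece (GEN) `closure_gens` of
`tools/helper84_su3p/Skel.lean.txt`: the three generators generate the model group.
-/

set_option autoImplicit false

namespace Cfsg.Agent.Helper48.SU3P

open Matrix Polynomial Cfsg.Agent.Helper84.RU3 Cfsg.Agent.Helper96.SLPres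
  Cfsg.Agent.Helper96.StemSLTwo Cfsg.Agent.Helper96.StPres Cfsg.Agent.Helper84.SU3P

variable {K : Type*} [Field K] [Fintype K] (bar : K →+* K) (hb : ∀ x, bar (bar x) = x)

/-- the order of a generator of the multiplicative group -/
theorem GEN_orderOf {q : ℕ} (hK : Fintype.card K = q ^ 2)
    {ζ : K} (hζ : ∀ x : K, x ≠ 0 → ∃ n : ℕ, ζ ^ n = x) : ζ ≠ 0 ∧ orderOf ζ = q ^ 2 - 1 := by
  classical
  have hζ0 : ζ ≠ 0 := by
    intro h0
    obtain ⟨n, hn⟩ := hζ 1 one_ne_zero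
    have hK2 : 1 < Fintype.card K := Fintype.one_lt_card
    obtain ⟨x, hx0, hx1⟩ : ∃ x : K, x ≠ 0 ∧ x ≠ 1 := by
      by_contra hcon
      push Not at hcon
      have : Fintype.card K ≤ 2 := by
        rw [← Finset.card_univ]
        calc (Finset.univ : Finset K).card ≤ ({0, 1} : Finset K).card := by
              apply Finset.card_le_card
              intro x _
              by_cases hx : x = 0
              · simp [hx]
              · simp [hcon x hx]
          _ ≤ 2 := Finset.card_le_two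
      have hq2 : q ^ 2 ≤ 2 := hK ▸ this
      have hq1 : 1 < q ^ 2 := hK ▸ hK2
      have : q ≤ 1 := by
        by_contra hq
        have : 2 ≤ q := by omega
        nlinarith
      interval_cases q <;> omega
    obtain ⟨m, hm⟩ := hζ x hx0
    rw [h0] at hm hn
    rcases Nat.eq_zero_or_pos m with rfl | hmpos
    · rw [pow_zero] at hm
      exact hx1 hm.symm
    · rw [zero_pow (by omega)] at hm
      exact hx0 hm.symm
  refine ⟨hζ0, ?_⟩
  have h1 : orderOf (Units.mk0 ζ hζ0) = Nat.card Kˣ := by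
    apply orderOf_eq_card_of_forall_mem_zpowers
    intro x
    obtain ⟨n, hn⟩ := hζ x.1 x.ne_zero
    refine ⟨(n : ℤ), ?_⟩
    apply Units.ext
    simp only [zpow_natCast, Units.val_pow_eq_pow_val, Units.val_mk0]
    exact hn
  have h2 : orderOf (Units.mk0 ζ hζ0) = orderOf ζ := by
    rw [← orderOf_units]
    rfl
  rw [← h2, h1, Nat.card_eq_fintype_card, Fintype.card_units, hK]

/-- the multiplier of the torus generator lies in no proper subfield -/
theorem GEN_mult {q : ℕ} (hK : Fintype.card K = q ^ 2) (hq : ∀ x, bar x = x ^ q) (hq2 : q ≠ 2)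
    {ζ : K} (hζ : ∀ x : K, x ≠ 0 → ∃ n : ℕ, ζ ^ n = x) (A : AddSubgroup K)
    (hA : ∀ x ∈ A, bar ζ / ζ / ζ * x ∈ A) {c : K} (hc : c ≠ 0) (hcA : c ∈ A) : A = ⊤ := by
  obtain ⟨hζ0, hord⟩ := GEN_orderOf hK hζ
  have hq2' : 2 ≤ q := Cfsg.Agent.Helper13.two_le_of_card_eq_sq hK
  have hq3 : 3 ≤ q := by omega
  have hρ0 : bar ζ / ζ / ζ ≠ 0 :=
    div_ne_zero (div_ne_zero ((map_ne_zero bar).mpr hζ0) hζ0) hζ0
  refine Cfsg.Agent.Helper81.RU3.addSubgroup_eq_top (bar ζ / ζ / ζ) ?_ A hA hc hcA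
  refine Cfsg.Agent.Helper81.RU3.subfield_eq_top_of_pow_ne (bar ζ / ζ / ζ) hρ0 ?_
  intro s k hsk hk hpow
  rw [hK] at hsk
  -- `s ≤ q`, `2 ≤ s`
  have hs0 : s ≠ 0 := by
    rintro rfl
    rw [zero_pow (by omega)] at hsk
    have : 0 < q ^ 2 := by positivity
    omega
  have hs1 : s ≠ 1 := by
    rintro rfl
    rw [one_pow] at hsk
    nlinarith
  have hsq : s ≤ q := by
    by_contra hcon
    have h1 : q + 1 ≤ s := by omega
    have h2 : s ^ 2 ≤ s ^ k := Nat.pow_le_pow_right (by omega) hk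
    nlinarith
  -- the relation on `ζ`
  have hρ : bar ζ / ζ / ζ * ζ ^ 2 = ζ ^ q := by
    rw [hq]
    field_simp
  have h1 : (ζ ^ q) ^ (s - 1) = (ζ ^ 2) ^ (s - 1) := by
    rw [← hρ, mul_pow, hpow, one_mul]
  have h2 : ζ ^ ((q - 2) * (s - 1)) = 1 := by
    have hsplit : q = (q - 2) + 2 := by omega
    rw [hsplit, pow_add, mul_pow] at h1
    have h3 : (ζ ^ 2) ^ (s - 1) ≠ 0 := pow_ne_zero _ (pow_ne_zero _ hζ0)
    have h4 : (ζ ^ (q - 2)) ^ (s - 1) = 1 := by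
      have := mul_right_cancel₀ h3 (h1.trans (one_mul _).symm)
      exact this
    rw [pow_mul]
    exact h4
  have h3 := orderOf_dvd_of_pow_eq_one h2
  rw [hord] at h3
  have hpos : 0 < (q - 2) * (s - 1) := Nat.mul_pos (by omega) (by omega)
  have hle := Nat.le_of_dvd hpos h3
  have hlt : (q - 2) * (s - 1) < q ^ 2 - 1 := by
    have h5 : (q - 2) * (s - 1) ≤ (q - 2) * (q - 1) := Nat.mul_le_mul_left _ (by omega)
    have h6 : (q - 2) * (q - 1) + 3 * q = q ^ 2 + 2 := by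
      obtain ⟨r, rfl⟩ : ∃ r, q = r + 3 := ⟨q - 3, by omega⟩
      simp only [show r + 3 - 2 = r + 1 by omega, show r + 3 - 1 = r + 2 by omega]
      ring
    omega
  omega

include hb

/-- (GEN) the three generators generate the model group -/
theorem closure_gens {q : ℕ} (hK : Fintype.card K = q ^ 2) (hq : ∀ x, bar x = x ^ q) (hq2 : q ≠ 2)
    {ζ : K} (hζ : ∀ x : K, x ≠ 0 → ∃ n : ℕ, ζ ^ n = x)
    (U₀ H₀ T₀ : SUJ bar) {a₀ b₀ ε : K} (ha₀ : a₀ ≠ 0) (hε : ε ≠ 0)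
    (hU₀ : mt bar U₀ = uM bar a₀ b₀) (hH₀ : mt bar H₀ = hM bar ζ) (hT₀ : mt bar T₀ = tM ε) :
    Subgroup.closure {U₀, H₀, T₀} = ⊤ := by
  have htr : ∀ y : K, bar y = y → ∃ t, t + bar t = y := by
    intro y hy
    obtain ⟨t, ht⟩ := Cfsg.Agent.Helper13.exists_trace_eq_of_fixed hK (a := y) (by rw [← hq]; exact hy)
    exact ⟨t, by rw [hq]; exact ht⟩
  have hnm : ∀ y : K, bar y = y → ∃ t, t * bar t = y := by
    intro y hy
    obtain ⟨t, ht⟩ := Cfsg.Agent.Helper13.exists_norm_eq_of_fixed hK (a := y) (by rw [← hq]; exact hy)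
    exact ⟨t, by rw [hq]; exact ht⟩
  -- unitarity of `T₀`, `U₀`
  have hεb : bar ε = -ε := by
    have h := isUn_mt bar T₀
    rw [hT₀] at h
    have h02 := congrFun (congrFun h 0) 2
    simp [tM, Jm, Matrix.mul_apply, Fin.sum_univ_three, map_inv₀] at h02
    have hbε : bar ε ≠ 0 := (map_ne_zero bar).mpr hε
    field_simp at h02
    linear_combination -h02
  have h₀ : b₀ + bar b₀ + a₀ * bar a₀ = 0 := by
    have h := isUn_mt bar U₀
    rw [hU₀] at h
    have h22 := congrFun (congrFun h 2) 2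
    simp [uM, Jm, Matrix.mul_apply, Fin.sum_univ_three] at h22
    linear_combination h22
  have hb₀ : b₀ ≠ 0 := by
    rintro rfl
    rw [map_zero, add_zero, zero_add] at h₀
    rcases mul_eq_zero.1 h₀ with h | h
    · exact ha₀ h
    · exact ha₀ ((map_eq_zero bar).1 h)
  set G : Subgroup (SUJ bar) := Subgroup.closure {U₀, H₀, T₀} with hG
  have hUG : U₀ ∈ G := Subgroup.subset_closure (by simp)
  have hHG : H₀ ∈ G := Subgroup.subset_closure (by simp)
  have hTG : T₀ ∈ G := Subgroup.subset_closure (by simp)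
  have hUe : U₀ = uE bar hb a₀ b₀ h₀ := ext_mt bar (by rw [hU₀, mt_uE])
  obtain ⟨-, -, -, -, -, hBt, -, -, hBconj⟩ := Cfsg.Agent.Helper53.SU3P.basic_identities bar hb
  -- the inverse of `T₀`
  have hTinv : mt bar T₀⁻¹ = tM (-ε) := by
    have h1 := mt_inv_mul bar T₀
    rw [hT₀] at h1
    calc mt bar T₀⁻¹ = mt bar T₀⁻¹ * (tM ε * tM (-ε)) := by rw [(hBt ε hε).1, Matrix.mul_one]
      _ = (mt bar T₀⁻¹ * tM ε) * tM (-ε) := by rw [Matrix.mul_assoc]
      _ = tM (-ε) := by rw [h1, Matrix.one_mul]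
  have h₁ : -(ε ^ 2 * b₀) + bar (-(ε ^ 2 * b₀)) + -(ε * a₀) * bar (-(ε * a₀)) = 0 := by
    simp only [map_neg, map_mul, map_pow, hεb]
    linear_combination (-ε ^ 2) * h₀
  have hVe : T₀ * U₀ * T₀⁻¹ = lE bar hb (-(ε * a₀)) (-(ε ^ 2 * b₀)) h₁ := by
    apply ext_mt
    rw [mt_mul, mt_mul, hT₀, hU₀, hTinv, mt_lE]
    exact hBconj ε a₀ b₀ hε hεb
  have hVG : lE bar hb (-(ε * a₀)) (-(ε ^ 2 * b₀)) h₁ ∈ G := by
    rw [← hVe]
    exact G.mul_mem (G.mul_mem hTG hUG) (G.inv_mem hTG)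
  have hc₀ : -(ε * a₀) ≠ 0 := neg_ne_zero.mpr (mul_ne_zero hε ha₀)
  refine Cfsg.Agent.Helper84.RU3.eq_top_of_mult bar hb hnm htr G h₀ hb₀ (hUe ▸ hUG) h₁ hVG H₀ hHG
    ?_ ?_ ?_ ?_
  · rw [hH₀]; simp [hM]
  · rw [hH₀]; simp [hM]
  · rw [hH₀]; simp [hM]
  · intro A hA hcA
    have e11 : mt bar H₀ 1 1 = bar ζ / ζ := by rw [hH₀]; simp [hM]
    have e00 : mt bar H₀ 0 0 = ζ := by rw [hH₀]; simp [hM]
    rw [e11, e00] at hA
    exact GEN_mult bar hK hq hq2 hζ A hA hc₀ hcA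

end Cfsg.Agent.Helper48.SU3P
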