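import Cfsg.Agent.Helper78.Sak.Defs

/-!
# S5544 (Sakuma, Majorana setting), piece B1 for helper78: conjugating a Majorana pair by an
automorphism, and uniqueness of the Majorana involution of an axis
-/

set_option autoImplicit false

namespace Cfsg.Agent.Helper48.Sak

open Cfsg.Axial Cfsg.Agent.Helper78.Sak

variable {V : Type*} [AddCommGroup V] [Module ℝ V]
variable {mul : V →ₗ[ℝ] V →ₗ[ℝ] V} {B : LinearMap.BilinForm ℝ V}

/-- eigenspaces are transported by an algebra automorphism -/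
theorem B1_eigen_map (g : V ≃ₗ[ℝ] V)
    (hg : ∀ u v : V, g (mul u v) = mul (g u) (g v)) (a : V) (c : ℝ) :
    eigen mul (g a) c = (eigen mul a c).map (g : V →ₗ[ℝ] V) := by
  ext v
  simp only [eigen, Module.End.mem_eigenspace_iff, Submodule.mem_map]
  constructor
  · intro h
    refine ⟨g.symm v, ?_, by simp⟩
    apply g.injective
    rw [hg, map_smul]
    simp only [LinearEquiv.apply_symm_apply]
    exact h
  · rintro ⟨v', hv', rfl⟩
    have : mul (g a) (g v') = g (mul a v') := (hg a v').symm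
    simp only [LinearEquiv.coe_coe]
    rw [this, hv', map_smul]

theorem B1_eigenSum_map (g : V ≃ₗ[ℝ] V)
    (hg : ∀ u v : V, g (mul u v) = mul (g u) (g v)) (a : V) (S : Set ℝ) :
    eigenSum mul (g a) S = (eigenSum mul a S).map (g : V →ₗ[ℝ] V) := by
  unfold eigenSum
  simp only [Submodule.map_iSup, B1_eigen_map g hg]

theorem conj_pair (μ g : V ≃ₗ[ℝ] V) (a : V) (h : IsMajoranaPair mul B μ a)
    (hgm : ∀ u v : V, g (mul u v) = mul (g u) (g v)) (hgB : ∀ u v : V, B (g u) (g v) = B u v) :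
    IsMajoranaPair mul B (g * μ * g⁻¹) (g a) := by
  obtain ⟨hμm, hμB, ⟨⟨ha0, haa, htop, hfus⟩, hprim⟩, hM1, hM2⟩ := h
  have hinv : ∀ v, g (g⁻¹ v) = v := fun v => by
    change g (g.symm v) = v
    exact g.apply_symm_apply v
  have hinv' : ∀ v, g⁻¹ (g v) = v := fun v => by
    change g.symm (g v) = v
    exact g.symm_apply_apply v
  have him : ∀ u v : V, g⁻¹ (mul u v) = mul (g⁻¹ u) (g⁻¹ v) := by
    intro u v
    apply g.injective
    rw [hgm, hinv, hinv, hinv]
  have hiB : ∀ u v : V, B (g⁻¹ u) (g⁻¹ v) = B u v := by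
    intro u v
    rw [← hgB (g⁻¹ u) (g⁻¹ v), hinv, hinv]
  have happ : ∀ v, (g * μ * g⁻¹) v = g (μ (g⁻¹ v)) := fun v => rfl
  refine ⟨?_, ?_, ⟨⟨?_, ?_, ?_, ?_⟩, ?_⟩, ?_, ?_⟩
  · intro u v
    rw [happ, happ, happ, him, hμm, hgm]
  · intro u v
    rw [happ, happ, hgB, hμB, hiB]
  · intro h0
    apply ha0
    apply g.injective
    rw [h0, map_zero]
  · rw [← hgm, haa]
  · rw [B1_eigenSum_map g hgm, htop, Submodule.map_top]
    exact LinearMap.range_eq_top.2 g.surjective
  · intro c hcS d hdS u hu v hv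
    rw [B1_eigen_map g hgm] at hu hv
    obtain ⟨u', hu', rfl⟩ := Submodule.mem_map.1 hu
    obtain ⟨v', hv', rfl⟩ := Submodule.mem_map.1 hv
    rw [B1_eigenSum_map g hgm]
    refine Submodule.mem_map.2 ⟨mul u' v', hfus c hcS d hdS u' hu' v' hv', ?_⟩
    simp only [LinearEquiv.coe_coe]
    exact hgm u' v'
  · rw [B1_eigen_map g hgm, hprim, Submodule.map_span, Set.image_singleton]
    rfl
  · intro v hv
    rw [B1_eigenSum_map g hgm] at hv
    obtain ⟨v', hv', rfl⟩ := Submodule.mem_map.1 hv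
    have := hM1 v' hv'
    simp only [LinearEquiv.coe_coe] at this ⊢
    rw [happ, hinv', this]
  · intro v hv
    rw [B1_eigen_map g hgm] at hv
    obtain ⟨v', hv', rfl⟩ := Submodule.mem_map.1 hv
    have := hM2 v' hv'
    simp only [LinearEquiv.coe_coe] at this ⊢
    rw [happ, hinv', this, map_neg]

theorem inv_unique (μ μ' : V ≃ₗ[ℝ] V) (a : V) (h : IsMajoranaPair mul B μ a)
    (h' : IsMajoranaPair mul B μ' a) : μ = μ' := by
  obtain ⟨-, -, ⟨⟨-, -, htop, -⟩, -⟩, hM1, hM2⟩ := h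
  obtain ⟨-, -, -, hM1', hM2'⟩ := h'
  have hS : eigenSum mul a majoranaSpectrum =
      eigenSum mul a {1, 0, 1 / 4} ⊔ eigen mul a (1 / 32) := by
    have e1 : eigenSum mul a majoranaSpectrum =
        eigen mul a 1 ⊔ (eigen mul a 0 ⊔ (eigen mul a (1 / 4) ⊔ eigen mul a (1 / 32))) := by
      unfold eigenSum majoranaSpectrum
      rw [iSup_insert, iSup_insert, iSup_insert, iSup_singleton]
    have e2 : eigenSum mul a {1, 0, 1 / 4} =
        eigen mul a 1 ⊔ (eigen mul a 0 ⊔ eigen mul a (1 / 4)) := by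
      unfold eigenSum
      rw [iSup_insert, iSup_insert, iSup_singleton]
    rw [e1, e2, sup_assoc, sup_assoc]
  apply LinearEquiv.ext
  intro v
  have hv : v ∈ eigenSum mul a majoranaSpectrum := by rw [htop]; exact Submodule.mem_top
  rw [hS] at hv
  obtain ⟨p, hp, q, hq, rfl⟩ := Submodule.mem_sup.1 hv
  have e1 := hM1 p hp
  have e2 := hM2 q hq
  have e1' := hM1' p hp
  have e2' := hM2' q hq
  simp only [LinearEquiv.coe_coe] at e1 e2 e1' e2'
  rw [map_add, map_add, e1, e2, e1', e2']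

end Cfsg.Agent.Helper48.Sak
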