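import Cfsg.Agent.Helper78.Sak.Defs

/-!
# S5544 (Sakuma, Majorana setting), piece C1 for helper78: the half table of the dihedral
configuration from the two unit Majorana pairs
-/

set_option autoImplicit false

namespace Cfsg.Agent.Helper48.Sak

open Cfsg.Axial Cfsg.Agent.Helper78.Sak

variable {V : Type*} [AddCommGroup V] [Module ℝ V]
variable {mul : V →ₗ[ℝ] V →ₗ[ℝ] V} {B : LinearMap.BilinForm ℝ V}

/-- `a (t y)` in terms of `a y` -/
theorem C1_mul_t {t : V ≃ₗ[ℝ] V} {a : V} (h : UAx mul B t a) (y : V) :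
    mul a (t y) = mul a y - (1 / 32 : ℝ) • (y - t y) := by
  have h' := h.anti y
  rw [map_sub] at h'
  rw [← h']
  abel

theorem htab_of_uax (A : Amb mul B) {t0 t1 : V ≃ₗ[ℝ] V} {a0 a1 : V} (h0 : UAx mul B t0 a0)
    (h1 : UAx mul B t1 a1) :
    HTab mul B (B a0 a1) (B a0 (t1 a0)) a0 a1 (t0 a1) (t1 a0) (t0 (t1 a0)) (t1 (t0 a1))
      (mul a0 a1 - (1 / 32 : ℝ) • (a0 + a1)) (mul a0 (t1 a0) - (1 / 32 : ℝ) • (a0 + t1 a0))
      (mul a1 (t0 a1) - (1 / 32 : ℝ) • (a1 + t0 a1)) := by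
  have e0 := C1_mul_t h0
  have e1 := C1_mul_t h1
  -- `t0` fixes `s`
  have ts : t0 (mul a0 a1 - (1 / 32 : ℝ) • (a0 + a1)) = mul a0 a1 - (1 / 32 : ℝ) • (a0 + a1) := by
    rw [map_sub, map_smul, map_add, h0.tmul, h0.ta, e0]
    module
  -- `a1 s`
  have hF := h1.F1 a0
  have hs' : mul a1 a0 - (1 / 32 : ℝ) • (a1 + a0) = mul a0 a1 - (1 / 32 : ℝ) • (a0 + a1) := by
    rw [A.comm a1 a0, add_comm a1 a0]
  rw [hs', A.symm a1 a0] at hF
  -- Gram rules
  have g1 : B (t0 a1) (t1 a0) = B a0 (t1 (t0 a1)) := by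
    rw [A.symm (t0 a1) (t1 a0), ← h1.tB a0 (t1 (t0 a1)), h1.tt]
  exact
    { p00 := h0.aa
      pm1m1 := by rw [← h0.tmul, h1.aa]
      pm2m2 := by rw [← h0.tmul, ← h1.tmul, h0.aa]
      p01 := by rw [sub_add_cancel]
      p0m1 := by
        rw [e0]
        module
      pm1m2 := by
        rw [← h0.tmul, e1 a0, A.comm a1 a0, map_sub, map_smul, map_sub, h0.tmul, h0.ta, e0 a1]
        module
      p02 := by rw [sub_add_cancel]
      p0m2 := by
        rw [e0]
        module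
      p0s := h0.F1 a1
      pm1s := by
        calc mul (t0 a1) (mul a0 a1 - (1 / 32 : ℝ) • (a0 + a1))
            = mul (t0 a1) (t0 (mul a0 a1 - (1 / 32 : ℝ) • (a0 + a1))) := by rw [ts]
          _ = t0 (mul a1 (mul a0 a1 - (1 / 32 : ℝ) • (a0 + a1))) := (h0.tmul _ _).symm
          _ = _ := by
            rw [hF, map_add, map_add, map_smul, map_smul, map_smul, map_add, ts, h0.ta]
      p0se := h0.F1 (t1 a0)
      f00 := h0.f00
      f04 := h0.f04
      f44 := h0.f44
      n0 := h0.nrm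
      nm1 := by rw [h0.tB, h1.nrm]
      nm2 := by rw [h0.tB, h1.tB, h0.nrm]
      l01 := rfl
      l0m1 := by
        have := h0.tB a0 a1
        rw [h0.ta] at this
        exact this
      lm1m2 := by
        rw [h0.tB]
        have := h1.tB a1 a0
        rw [h1.ta] at this
        rw [this, A.symm]
      f02 := rfl
      f0m2 := by
        have := h0.tB a0 (t1 a0)
        rw [h0.ta] at this
        exact this
      g1 := g1
      g2 := by
        rw [← g1, ← h0.tB (t0 (t1 a0)) a1, h0.tt, A.symm] }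

end Cfsg.Agent.Helper48.Sak
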