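import Cfsg.Agent.Helper48.SidkiSimpleA
import Cfsg.Agent.Helper49.SidkiP

/-!
# SK-7 (for S3048, helper51): final form, with `claimP` (SK-7P, helper49) plugged in.
-/

set_option autoImplicit false
universe u

namespace Cfsg.Agent.Helper48.SidkiSimple

open Cfsg Cfsg.Agent.Helper51.Sidki

theorem normal_sub_minNormal {G : Type u} [Group G] [Finite G] {V : Subgroup G} (ctx : Ctx V)
    {N : Subgroup G} (hN : MinNormal N) (hNV : N ⊔ V = ⊤)
    (hC : Subgroup.centralizer (N : Set G) = ⊥) (L : Subgroup G) (hLN : L ≤ N)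
    (hLnorm : ∀ n ∈ N, ∀ x ∈ L, n * x * n⁻¹ ∈ L) : L = ⊥ ∨ L = N :=
  normal_sub_minNormal_of_claimP ctx
    (fun _ h1 h2 h3 h4 _ hx hx1 ho =>
      Cfsg.Agent.Helper49.SidkiP.claimP ctx.elem ctx.sidki h1 h2 h3 h4 hx hx1 ho)
    hN hNV hC L hLN hLnorm

end Cfsg.Agent.Helper48.SidkiSimple
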