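import Cfsg.Agent.Helper51.SidkiCtx

/-!
# SK-7 (for S3048, helper51): a minimal normal subgroup `N` with `G = N V`, `C_G(N) = 1`
has no proper nontrivial `N`-invariant subgroup.  Here: the proof relative to `claimP` (SK-7P)
taken as a hypothesis.
-/

set_option autoImplicit false
universe u

namespace Cfsg.Agent.Helper48.SidkiSimple

open Cfsg Cfsg.Agent.Lib Cfsg.Agent.Helper51.Sidki

variable {G : Type u} [Group G]

/-- elements of `L ⊔ U` when `U` normalizes `L`. -/
theorem exists_mul_of_mem_sup {L U : Subgroup G} (h : U ≤ Subgroup.normalizer (L : Set G)) {k : G}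
    (hk : k ∈ L ⊔ U) : ∃ l ∈ L, ∃ u ∈ U, k = l * u := by
  rw [Subgroup.sup_eq_closure] at hk
  induction hk using Subgroup.closure_induction with
  | mem x hx =>
    rcases hx with hx | hx
    · exact ⟨x, hx, 1, U.one_mem, by simp⟩
    · exact ⟨1, L.one_mem, x, hx, by simp⟩
  | one => exact ⟨1, L.one_mem, 1, U.one_mem, by simp⟩
  | mul x y _ _ hx hy =>
    obtain ⟨l₁, hl₁, u₁, hu₁, rfl⟩ := hx
    obtain ⟨l₂, hl₂, u₂, hu₂, rfl⟩ := hy
    have h1 : u₁ * l₂ * u₁⁻¹ ∈ L := (Subgroup.mem_normalizer_iff.1 (h hu₁) l₂).1 hl₂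
    refine ⟨l₁ * (u₁ * l₂ * u₁⁻¹), L.mul_mem hl₁ h1, u₁ * u₂, U.mul_mem hu₁ hu₂, by group⟩
  | inv x _ hx =>
    obtain ⟨l, hl, u, hu, rfl⟩ := hx
    have h1 : u⁻¹ * l⁻¹ * u⁻¹⁻¹ ∈ L :=
      (Subgroup.mem_normalizer_iff.1 (h (U.inv_mem hu)) l⁻¹).1 (L.inv_mem hl)
    exact ⟨u⁻¹ * l⁻¹ * u⁻¹⁻¹, h1, u⁻¹, U.inv_mem hu, by group⟩

/-- every element of `N ⊔ V` is `n * v` when `N` is normal. -/
theorem exists_mul_of_sup_eq_top {N V : Subgroup G} (hN : N.Normal) (hNV : N ⊔ V = ⊤) (g : G) :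
    ∃ n ∈ N, ∃ v ∈ V, g = n * v := by
  have hV : V ≤ Subgroup.normalizer (N : Set G) := by
    rw [Subgroup.normalizer_eq_top_iff.2 hN]; exact le_top
  exact exists_mul_of_mem_sup hV (by rw [hNV]; exact Subgroup.mem_top g)

/-- If conjugation by `v` maps the finite subgroup `L` into itself then `v` normalizes `L`. -/
theorem mem_normalizer_of_conj_mem [Finite G] {L : Subgroup G} {v : G}
    (h : ∀ z ∈ L, v * z * v⁻¹ ∈ L) : v ∈ Subgroup.normalizer (L : Set G) := by
  have hle : L.map (MulAut.conj v).toMonoidHom ≤ L := by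
    rintro _ ⟨z, hz, rfl⟩
    simpa [MulAut.conj_apply] using h z hz
  have hcard : Nat.card (L.map (MulAut.conj v).toMonoidHom) = Nat.card L :=
    Subgroup.card_map_of_injective (MulAut.conj v).injective
  have heq : L.map (MulAut.conj v).toMonoidHom = L :=
    Subgroup.eq_of_le_of_card_ge hle (by rw [hcard])
  rw [Subgroup.mem_normalizer_iff]
  intro z
  constructor
  · exact h z
  · intro hz
    rw [← heq] at hz
    obtain ⟨y, hy, hyz⟩ := hz
    have : y = z := by
      have h2 : v * y * v⁻¹ = v * z * v⁻¹ := by simpa [MulAut.conj_apply] using hyz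
      exact mul_left_cancel (mul_right_cancel h2)
    rwa [← this]

section Main

variable [Finite G] {V : Subgroup G}

/-- The statement of `claimP` (SK-7P), quantified over `L`. -/
def ClaimPStatement (V : Subgroup G) : Prop :=
  ∀ L : Subgroup G,
    (∀ v ∈ V, v ∉ Subgroup.normalizer (L : Set G) → ∀ z ∈ L, v * z * v⁻¹ ∈ L → z = 1) →
    (∀ v ∈ V, v ∉ Subgroup.normalizer (L : Set G) → ∀ a ∈ L, ∀ b ∈ L,
      a * (v * b * v⁻¹) = (v * b * v⁻¹) * a) →
    (∀ x ∈ L, (∀ y ∈ L, x * y = y * x) → x = 1) →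
    (∃ v ∈ V, v ∉ Subgroup.normalizer (L : Set G)) →
    ∀ x ∈ L, x ≠ 1 → Odd (orderOf x) →
      ∃ w ∈ V, w ∈ Subgroup.normalizer (L : Set G) ∧ w ≠ 1 ∧ w * x = x * w

/-- The core: a nontrivial proper `N`-invariant `L ≤ N` all of whose `N`-invariant subgroups are
trivial or `L` leads to a contradiction. -/
theorem false_of_minimal (ctx : Ctx V) (hP : ClaimPStatement V) {N : Subgroup G}
    (hN : MinNormal N) (hNV : N ⊔ V = ⊤) (hC : Subgroup.centralizer (N : Set G) = ⊥)
    (L : Subgroup G) (hLN : L ≤ N) (hLnorm : ∀ n ∈ N, ∀ x ∈ L, n * x * n⁻¹ ∈ L)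
    (hL1 : L ≠ ⊥) (hL2 : L ≠ N)
    (hmin : ∀ M : Subgroup G, M ≤ L → (∀ n ∈ N, ∀ x ∈ M, n * x * n⁻¹ ∈ M) → M = ⊥ ∨ M = L) :
    False := by
  have hNn : N.Normal := hN.1
  have hVe := ctx.elem
  -- (CONJ) every G-conjugate of an element of L is a V-conjugate of an element of L
  have hconj : ∀ g : G, ∀ x ∈ L, ∃ v ∈ V, ∃ x' ∈ L, g * x * g⁻¹ = v * x' * v⁻¹ := by
    intro g x hx
    obtain ⟨n, hn, v, hv, rfl⟩ := exists_mul_of_sup_eq_top hNn hNV g
    have hm : v⁻¹ * n * v ∈ N := by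
      have := hNn.conj_mem n hn v⁻¹
      simpa using this
    refine ⟨v, hv, (v⁻¹ * n * v) * x * (v⁻¹ * n * v)⁻¹, hLnorm _ hm x hx, by group⟩
  -- normalClosure L = N
  have hNC : Subgroup.normalClosure (L : Set G) = N := by
    have h1 : Subgroup.normalClosure (L : Set G) ≤ N :=
      Subgroup.normalClosure_le_normal (N := N) hLN
    have h2 : Subgroup.normalClosure (L : Set G) ≠ ⊥ := by
      intro h
      apply hL1
      rw [eq_bot_iff, ← h]
      exact Subgroup.le_normalClosure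
    rcases hN.2.2 _ Subgroup.normalClosure_normal h1 with h | h
    · exact absurd h h2
    · exact h
  -- (CENT)
  have hcent : ∀ u : G, (∀ v ∈ V, ∀ x ∈ L, u * (v * x * v⁻¹) = (v * x * v⁻¹) * u) → u = 1 := by
    intro u hu
    have h1 : Subgroup.normalClosure (L : Set G) ≤ Subgroup.centralizer ({u} : Set G) := by
      rw [Subgroup.normalClosure]
      rw [Subgroup.closure_le]
      intro y hy
      rw [Group.mem_conjugatesOfSet_iff] at hy
      obtain ⟨x, hx, hxy⟩ := hy
      rw [isConj_iff] at hxy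
      obtain ⟨c, rfl⟩ := hxy
      obtain ⟨v, hv, x', hx', he⟩ := hconj c x hx
      rw [he]
      rw [SetLike.mem_coe, Subgroup.mem_centralizer_iff]
      intro w hw
      rw [Set.mem_singleton_iff] at hw
      rw [hw]
      exact hu v hv x' hx'
    rw [hNC] at h1
    have h2 : u ∈ Subgroup.centralizer (N : Set G) := by
      rw [Subgroup.mem_centralizer_iff]
      intro n hn
      have := h1 hn
      rw [Subgroup.mem_centralizer_iff] at this
      exact (this u rfl).symm
    rw [hC] at h2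
    simpa using h2
  -- (1) some v ∈ V does not normalize L
  have h1 : ∃ v ∈ V, v ∉ Subgroup.normalizer (L : Set G) := by
    by_contra hcon
    push Not at hcon
    have hVn : V ≤ Subgroup.normalizer (L : Set G) := fun v hv => hcon v hv
    have hNn' : N ≤ Subgroup.normalizer (L : Set G) := by
      intro n hn
      apply mem_normalizer_of_conj_mem
      exact hLnorm n hn
    have htop : Subgroup.normalizer (L : Set G) = ⊤ := by
      rw [eq_top_iff, ← hNV]
      exact sup_le hNn' hVn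
    have hLn : L.Normal := Subgroup.normalizer_eq_top_iff.1 htop
    rcases hN.2.2 L hLn hLN with h | h
    · exact hL1 h
    · exact hL2 h
  -- (2) disjointness and commuting
  have hdisj : ∀ v ∈ V, v ∉ Subgroup.normalizer (L : Set G) → ∀ z ∈ L, v * z * v⁻¹ ∈ L → z = 1 := by
    intro v hv hvn
    let M : Subgroup G := L ⊓ L.comap (MulAut.conj v).toMonoidHom
    have hMmem : ∀ z, z ∈ M ↔ z ∈ L ∧ v * z * v⁻¹ ∈ L := by
      intro z
      simp [M, Subgroup.mem_inf, Subgroup.mem_comap, MulAut.conj_apply]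
    have hMinv : ∀ n ∈ N, ∀ x ∈ M, n * x * n⁻¹ ∈ M := by
      intro n hn x hx
      rw [hMmem] at hx ⊢
      refine ⟨hLnorm n hn x hx.1, ?_⟩
      have hm : v * n * v⁻¹ ∈ N := hNn.conj_mem n hn v
      have := hLnorm _ hm _ hx.2
      have he : v * (n * x * n⁻¹) * v⁻¹ = v * n * v⁻¹ * (v * x * v⁻¹) * (v * n * v⁻¹)⁻¹ := by group
      rw [he]; exact this
    rcases hmin M inf_le_left hMinv with h | h
    · intro z hz hz'
      have : z ∈ M := (hMmem z).2 ⟨hz, hz'⟩
      rw [h] at this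
      simpa using this
    · exfalso
      apply hvn
      apply mem_normalizer_of_conj_mem
      intro z hz
      have : z ∈ M := by rw [h]; exact hz
      exact ((hMmem z).1 this).2
  have hcomm : ∀ v ∈ V, v ∉ Subgroup.normalizer (L : Set G) → ∀ a ∈ L, ∀ b ∈ L,
      a * (v * b * v⁻¹) = (v * b * v⁻¹) * a := by
    intro v hv hvn a ha b hb
    have hvv : v⁻¹ = v := elem_inv hVe hv
    set c := v * b * v⁻¹ with hc
    have hcN : c ∈ N := hNn.conj_mem b (hLN hb) v
    have haN : a ∈ N := hLN ha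
    -- k = a c a⁻¹ c⁻¹
    have hk1 : a * c * a⁻¹ * c⁻¹ ∈ L := by
      have h2 : c * a⁻¹ * c⁻¹ ∈ L := hLnorm c hcN _ (L.inv_mem ha)
      have := L.mul_mem ha h2
      have he : a * (c * a⁻¹ * c⁻¹) = a * c * a⁻¹ * c⁻¹ := by group
      rwa [he] at this
    have hk2 : v * (a * c * a⁻¹ * c⁻¹) * v⁻¹ ∈ L := by
      -- v k v⁻¹ = (v a v⁻¹) b (v a v⁻¹)⁻¹ b⁻¹, using v c v⁻¹ = b
      have hvc : v * c * v⁻¹ = b := by
        rw [hc]
        have : v * (v * b * v⁻¹) * v⁻¹ = (v * v) * b * (v * v)⁻¹ := by group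
        rw [this, elem_sq hVe hv]; simp
      have hm : v * a * v⁻¹ ∈ N := hNn.conj_mem a haN v
      have h3 : (v * a * v⁻¹) * b * (v * a * v⁻¹)⁻¹ ∈ L := hLnorm _ hm b hb
      have h4 := L.mul_mem h3 (L.inv_mem hb)
      have he : v * (a * c * a⁻¹ * c⁻¹) * v⁻¹
          = (v * a * v⁻¹) * (v * c * v⁻¹) * (v * a * v⁻¹)⁻¹ * (v * c * v⁻¹)⁻¹ := by group
      rw [he, hvc]; exact h4
    have hk := hdisj v hv hvn _ hk1 hk2
    calc a * c = (a * c * a⁻¹ * c⁻¹) * (c * a) := by group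
      _ = c * a := by rw [hk, one_mul]
  -- (3) trivial centre
  have hZ : ∀ x ∈ L, (∀ y ∈ L, x * y = y * x) → x = 1 := by
    let Z : Subgroup G := L ⊓ Subgroup.centralizer (L : Set G)
    have hZmem : ∀ z, z ∈ Z ↔ z ∈ L ∧ ∀ y ∈ L, y * z = z * y := by
      intro z
      simp only [Z, Subgroup.mem_inf, Subgroup.mem_centralizer_iff, SetLike.mem_coe]
    have hZinv : ∀ n ∈ N, ∀ x ∈ Z, n * x * n⁻¹ ∈ Z := by
      intro n hn x hx
      rw [hZmem] at hx ⊢
      refine ⟨hLnorm n hn x hx.1, ?_⟩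
      intro y hy
      have hy' : n⁻¹ * y * n ∈ L := by
        have := hLnorm n⁻¹ (N.inv_mem hn) y hy
        simpa using this
      have h2 := hx.2 _ hy'
      calc y * (n * x * n⁻¹) = n * ((n⁻¹ * y * n) * x) * n⁻¹ := by group
        _ = n * (x * (n⁻¹ * y * n)) * n⁻¹ := by rw [h2]
        _ = n * x * n⁻¹ * y := by group
    rcases hmin Z inf_le_left hZinv with h | h
    · intro x hx hxy
      have : x ∈ Z := (hZmem x).2 ⟨hx, fun y hy => (hxy y hy).symm⟩
      rw [h] at this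
      simpa using this
    · -- L abelian: contradiction
      exfalso
      have hab : ∀ x ∈ L, ∀ y ∈ L, y * x = x * y := by
        intro x hx y hy
        have : x ∈ Z := by rw [h]; exact hx
        exact ((hZmem x).1 this).2 y hy
      apply hL1
      rw [Subgroup.eq_bot_iff_forall]
      intro y hy
      apply hcent y
      intro v hv x hx
      by_cases hvn : v ∈ Subgroup.normalizer (L : Set G)
      · have hx' : v * x * v⁻¹ ∈ L := (Subgroup.mem_normalizer_iff.1 hvn x).1 hx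
        exact hab _ hx' y hy
      · exact hcomm v hv hvn y hy x hx
  -- (4) O_2(L) = 1
  have hO2 : pCoreOf 2 L = ⊥ := by
    have hPinv : ∀ n ∈ N, ∀ x ∈ pCoreOf 2 L, n * x * n⁻¹ ∈ pCoreOf 2 L := by
      intro n hn x hx
      have hle : (pCoreOf 2 L).map (MulAut.conj n).toMonoidHom ≤ pCoreOf 2 L := by
        apply le_pCoreOf'
        · rintro _ ⟨y, hy, rfl⟩
          have := hLnorm n hn y (pCoreOf_le' L hy)
          simpa [MulAut.conj_apply] using this
        · exact (pCoreOf_isPGroup' L).map _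
        · rintro g hg _ ⟨y, hy, rfl⟩
          have hg' : n⁻¹ * g * n ∈ L := by
            have := hLnorm n⁻¹ (N.inv_mem hn) g hg
            simpa using this
          have h2 := pCoreOf_conj_mem hg' hy
          refine ⟨(n⁻¹ * g * n) * y * (n⁻¹ * g * n)⁻¹, h2, ?_⟩
          simp only [MulEquiv.coe_toMonoidHom, MulAut.conj_apply]
          group
      apply hle
      exact ⟨x, hx, by simp [MulAut.conj_apply]⟩
    rcases hmin (pCoreOf 2 L) (pCoreOf_le' L) hPinv with h | h
    · exact h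
    · exfalso
      have hLp : IsPGroup 2 L := by
        have := pCoreOf_isPGroup' L
        rwa [h] at this
      have hle : L ≤ pCoreOf 2 N := le_pCoreOf' hLN hLp hLnorm
      rw [pCoreOf_eq_bot_of_normal hNn ctx.core] at hle
      exact hL1 (le_bot_iff.1 hle)
  -- an element of odd order in L
  have hodd : ∃ x0 ∈ L, x0 ≠ 1 ∧ Odd (orderOf x0) := by
    by_contra hcon
    push Not at hcon
    have hLp : IsPGroup 2 L := by
      intro g
      obtain ⟨e, m, hm, hem⟩ := Nat.exists_eq_two_pow_mul_odd (orderOf_pos (g : G)).ne'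
      refine ⟨e, ?_⟩
      by_contra hne
      have hx0 : ((g : G) ^ 2 ^ e) ∈ L := L.pow_mem g.2 _
      have hx1 : ((g : G) ^ 2 ^ e) ≠ 1 := by
        intro h
        apply hne
        apply Subtype.ext
        simpa using h
      have ho : Odd (orderOf ((g : G) ^ 2 ^ e)) := by
        have hdvd : orderOf ((g : G) ^ 2 ^ e) ∣ m := by
          apply orderOf_dvd_of_pow_eq_one
          rw [← pow_mul, ← hem, pow_orderOf_eq_one]
        exact Odd.of_dvd_nat hm hdvd
      exact hcon _ hx0 hx1 ho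
    have hle : L ≤ pCoreOf 2 L :=
      le_pCoreOf' le_rfl hLp (fun g hg x hx => L.mul_mem (L.mul_mem hg hx) (L.inv_mem hg))
    rw [hO2] at hle
    exact hL1 (le_bot_iff.1 hle)
  obtain ⟨x0, hx0L, hx01, hx0o⟩ := hodd
  -- (5)
  have h5 : ∀ x ∈ L, x ≠ 1 → Odd (orderOf x) →
      ∃ w ∈ V, w ∈ Subgroup.normalizer (L : Set G) ∧ w ≠ 1 ∧ w * x = x * w :=
    hP L hdisj hcomm hZ h1
  -- (6)
  set V0 : Subgroup G := V ⊓ Subgroup.normalizer (L : Set G) with hV0
  have hV0ne : V0 ≠ ⊥ := by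
    obtain ⟨w, hwV, hwn, hw1, _⟩ := h5 x0 hx0L hx01 hx0o
    intro h
    have : w ∈ V0 := ⟨hwV, hwn⟩
    rw [h] at this
    exact hw1 (by simpa using this)
  set X : Subgroup G := L ⊔ V0 with hX
  have hV0n : V0 ≤ Subgroup.normalizer (L : Set G) := inf_le_right
  have hXn : X ≤ Subgroup.normalizer (L : Set G) := sup_le Subgroup.le_normalizer hV0n
  have hXtop : X ≠ ⊤ := by
    intro h
    obtain ⟨v, hv, hvn⟩ := h1
    apply hvn
    apply hXn
    rw [h]; exact Subgroup.mem_top v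
  have hV0e : IsElementaryAbelian 2 V0 := elem_mono hVe inf_le_left
  have hrel : RelSidki X V0 := by
    intro k hk v hv hko hinv
    obtain ⟨l, hl, u, hu, rfl⟩ := exists_mul_of_mem_sup hV0n hk
    have huu : u * u = 1 := elem_sq hV0e hu
    have hul : u * l * u⁻¹ ∈ L := (Subgroup.mem_normalizer_iff.1 (hV0n hu) l).1 hl
    have hsq : (l * u) ^ 2 ∈ L := by
      have he : (l * u) ^ 2 = l * (u * l * u⁻¹) * (u * u) := by rw [pow_two]; group
      rw [he, huu, mul_one]
      exact L.mul_mem hl hul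
    have hkL : l * u ∈ L := mem_of_sq_mem_of_odd hko hsq
    by_cases hk1 : l * u = 1
    · obtain ⟨w, hw1⟩ := (Subgroup.ne_bot_iff_exists_ne_one).1 hV0ne
      refine ⟨w, w.2, ?_, ?_⟩
      · intro h; apply hw1; exact Subtype.ext h
      · rw [hk1]; simp
    · obtain ⟨w, hwV, hwn, hw1, hwc⟩ := h5 _ hkL hk1 hko
      exact ⟨w, ⟨hwV, hwn⟩, hw1, hwc⟩
  obtain ⟨u, hu, hu1, huX⟩ := ctx.minG hXtop le_sup_right hV0e hV0ne hrel
  -- u centralizes L
  have huL : ∀ l ∈ L, u * l = l * u := by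
    intro l hl
    have hK : pCoreOf 2 X ⊓ L ≤ pCoreOf 2 L := by
      apply le_pCoreOf' inf_le_right ((pCoreOf_isPGroup' X).to_le inf_le_left)
      intro g hg y hy
      exact ⟨pCoreOf_conj_mem (le_sup_left (a := L) (b := V0) hg) hy.1,
        L.mul_mem (L.mul_mem hg hy.2) (L.inv_mem hg)⟩
    rw [hO2] at hK
    have hmem : u * l * u⁻¹ * l⁻¹ ∈ pCoreOf 2 X ⊓ L := by
      refine Subgroup.mem_inf.2 ⟨?_, ?_⟩
      · have h2 : l * u⁻¹ * l⁻¹ ∈ pCoreOf 2 X :=
          pCoreOf_conj_mem (le_sup_left (a := L) (b := V0) hl) (inv_mem huX)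
        have := mul_mem huX h2
        have he : u * (l * u⁻¹ * l⁻¹) = u * l * u⁻¹ * l⁻¹ := by group
        rwa [he] at this
      · have h2 : u * l * u⁻¹ ∈ L := (Subgroup.mem_normalizer_iff.1 (hV0n hu) l).1 hl
        exact L.mul_mem h2 (L.inv_mem hl)
    have h3 : u * l * u⁻¹ * l⁻¹ = 1 := by
      have := hK hmem
      simpa using this
    calc u * l = (u * l * u⁻¹ * l⁻¹) * (l * u) := by group
      _ = l * u := by rw [h3, one_mul]
  -- (7)
  apply hu1
  apply hcent u
  intro v hv x hx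
  have huv : u * v = v * u := elem_comm hVe hu.1 hv
  have hux := huL x hx
  have huv' : u * v⁻¹ = v⁻¹ * u := by rw [elem_inv hVe hv]; exact huv
  calc u * (v * x * v⁻¹) = (u * v) * x * v⁻¹ := by group
    _ = (v * u) * x * v⁻¹ := by rw [huv]
    _ = v * (u * x) * v⁻¹ := by group
    _ = v * (x * u) * v⁻¹ := by rw [hux]
    _ = v * x * (u * v⁻¹) := by group
    _ = v * x * (v⁻¹ * u) := by rw [huv']
    _ = v * x * v⁻¹ * u := by group

/-- SK-7 relative to `claimP`. -/
theorem normal_sub_minNormal_of_claimP (ctx : Ctx V) (hP : ClaimPStatement V) {N : Subgroup G}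
    (hN : MinNormal N) (hNV : N ⊔ V = ⊤) (hC : Subgroup.centralizer (N : Set G) = ⊥)
    (L : Subgroup G) (hLN : L ≤ N) (hLnorm : ∀ n ∈ N, ∀ x ∈ L, n * x * n⁻¹ ∈ L) :
    L = ⊥ ∨ L = N := by
  by_contra hcon
  push Not at hcon
  -- the set of bad subgroups, pick one of minimal cardinality
  let P : ℕ → Prop := fun k => ∃ M : Subgroup G, M ≤ N ∧ (∀ n ∈ N, ∀ x ∈ M, n * x * n⁻¹ ∈ M) ∧
    M ≠ ⊥ ∧ M ≠ N ∧ Nat.card M = k
  have hex : ∃ k, P k := ⟨Nat.card L, L, hLN, hLnorm, hcon.1, hcon.2, rfl⟩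
  classical
  obtain ⟨M, hMN, hMnorm, hM1, hM2, hMcard⟩ := Nat.find_spec hex
  refine false_of_minimal ctx hP hN hNV hC M hMN hMnorm hM1 hM2 ?_
  intro M' hM'M hM'norm
  by_contra hcon'
  push Not at hcon'
  have hlt : Nat.card M' < Nat.card M := by
    have hle : Nat.card M' ≤ Nat.card M := Subgroup.card_le_of_le hM'M
    rcases lt_or_eq_of_le hle with h | h
    · exact h
    · exact absurd (Subgroup.eq_of_le_of_card_ge hM'M h.ge) hcon'.2
  have hM'N : M' ≠ N := by
    intro h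
    apply hcon'.2
    exact le_antisymm hM'M (by rw [← h] at hMN; exact hMN)
  have := Nat.find_min hex (m := Nat.card M') (by rw [← hMcard]; exact hlt)
  exact this ⟨M', hM'M.trans hMN, hM'norm, hcon'.1, hM'N, rfl⟩

end Main

end Cfsg.Agent.Helper48.SidkiSimple
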