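import Mathlib
import Cfsg.Agent.Helper8.Sims3Defs
import Cfsg.Agent.Helper45.Dihedral

/-!
helper48 for helper8 (S3385/S3685, board #12989): piece (ID3) `iso_D12` of
`tools/helper8_sims3/Skel.lean.txt`: a group of order 12 generated by three involutions-or-trivial
elements `y0, y1, y2` with `y1` central is dihedral of order 12.
-/

set_option autoImplicit false

namespace Cfsg.Agent.Helper48.Sims3

open Cfsg.Agent.Helper8.Sims3 Pointwise

section dih
variable {S : Type*} [Group S]

/-- the dihedral homomorphism is injective when the involution is outside the cyclic group -/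
theorem ID3_dih_inj (a x : S) (hx2 : x * x = 1) (hrel : x * a * x⁻¹ = a⁻¹)
    (hxa : x ∉ Subgroup.zpowers a) :
    Function.Injective
      (Cfsg.Agent.Helper45.dihHom (orderOf a) a x (pow_orderOf_eq_one a) hx2 hrel) := by
  rw [injective_iff_map_eq_one]
  rintro (i | i) hy
  · have hy' : (Cfsg.Agent.Helper45.zpowHom (orderOf a) a (pow_orderOf_eq_one a) i).toMul = 1 := hy
    rw [Cfsg.Agent.Helper45.zpowHom_eq_one a i hy']
    rfl
  · exfalso
    have hy' : x * (Cfsg.Agent.Helper45.zpowHom (orderOf a) a (pow_orderOf_eq_one a) i).toMul = 1 :=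
      hy
    apply hxa
    rw [eq_inv_of_mul_eq_one_left hy']
    exact inv_mem (Cfsg.Agent.Helper45.zpowHom_mem _ _ _ _)

/-- an element inverting `a` with `a² ≠ 1` is not a power of `a` -/
theorem ID3_not_mem (a x : S) (hrel : x * a * x⁻¹ = a⁻¹) (ha : a * a ≠ 1) :
    x ∉ Subgroup.zpowers a := by
  intro hx
  obtain ⟨k, rfl⟩ := Subgroup.mem_zpowers_iff.1 hx
  have h1 : a ^ k * a * (a ^ k)⁻¹ = a := by group
  rw [h1] at hrel
  exact ha (mul_eq_one_iff_eq_inv.2 hrel)

theorem ID3_sq_ne_one (a : S) (h3 : 3 ≤ orderOf a) : a * a ≠ 1 := by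
  intro h
  have h2 : a ^ 2 = 1 := by rw [pow_two]; exact h
  have := Nat.le_of_dvd (by norm_num) (orderOf_dvd_of_pow_eq_one h2)
  omega

/-- recognition of the dihedral group by an element of the right order -/
theorem ID3_of_order (n : ℕ) (a x : S) (hn : orderOf a = n) (hc : Nat.card S = 2 * n)
    (hn3 : 3 ≤ n) (hx2 : x * x = 1) (hrel : x * a * x⁻¹ = a⁻¹) :
    Nonempty (S ≃* DihedralGroup n) := by
  subst hn
  have hxa := ID3_not_mem a x hrel (ID3_sq_ne_one a hn3)
  have hinj := ID3_dih_inj a x hx2 hrel hxa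
  have : Finite S := Nat.finite_of_card_ne_zero (by omega)
  have hbij : Function.Bijective
      (Cfsg.Agent.Helper45.dihHom (orderOf a) a x (pow_orderOf_eq_one a) hx2 hrel) := by
    rw [Nat.bijective_iff_injective_and_card]
    exact ⟨hinj, by rw [DihedralGroup.nat_card, hc]⟩
  exact ⟨(MulEquiv.ofBijective _ hbij).symm⟩

end dih

/-- (ID3) `⟨y0, y2⟩` is dihedral of order 12 or 6; with the central `y1` get `D₁₂`. -/
theorem iso_D12 {H : Type*} [Group H] (hc : Nat.card H = 12) (y0 y1 y2 : H)
    (h0 : y0 * y0 = 1) (h1 : y1 * y1 = 1) (h2 : y2 * y2 = 1)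
    (c01 : Commute y0 y1) (c12 : Commute y1 y2)
    (hgen : Subgroup.closure {y0, y1, y2} = ⊤) :
    Nonempty (H ≃* DihedralGroup 6) := by
  have : Finite H := Nat.finite_of_card_ne_zero (by omega)
  have hy0i : y0⁻¹ = y0 := inv_eq_of_mul_eq_one_left h0
  have hy1i : y1⁻¹ = y1 := inv_eq_of_mul_eq_one_left h1
  have hy2i : y2⁻¹ = y2 := inv_eq_of_mul_eq_one_left h2
  set ρ : H := y0 * y2 with hρ
  have hρi : ρ⁻¹ = y2 * y0 := by rw [hρ, mul_inv_rev, hy0i, hy2i]
  have hrel : y0 * ρ * y0⁻¹ = ρ⁻¹ := by
    rw [hρi, hy0i, hρ, ← mul_assoc, h0, one_mul]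
  have c1ρ : Commute y1 ρ := c01.symm.mul_right c12
  have e2 : y2 = ρ⁻¹ * y0 := by rw [hρi, mul_assoc, h0, mul_one]
  have e2' : y0 * y2 = ρ := rfl
  -- normal form of the elements
  have hform : ∀ g : H, ∃ (i : ℤ) (a b : Bool),
      g = ρ ^ i * (if a then y0 else 1) * (if b then y1 else 1) := by
    intro g
    have hg : g ∈ Subgroup.closure ({y0, y1, y2} : Set H) := by rw [hgen]; exact Subgroup.mem_top g
    have hstep : ∀ g : H, (∃ (i : ℤ) (a b : Bool),
        g = ρ ^ i * (if a then y0 else 1) * (if b then y1 else 1)) → ∀ y ∈ ({y0, y1, y2} : Set H),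
        ∃ (i : ℤ) (a b : Bool), g * y = ρ ^ i * (if a then y0 else 1) * (if b then y1 else 1) := by
      rintro g ⟨i, a, b, rfl⟩ y hy
      have hB0 : Commute (if b then y1 else 1) y0 := by
        cases b
        · exact Commute.one_left _
        · exact c01.symm
      have hB2 : Commute (if b then y1 else 1) y2 := by
        cases b
        · exact Commute.one_left _
        · exact c12
      rcases hy with hy | hy | hy
      · -- multiply by `y0`
        rw [hy]
        refine ⟨i, !a, b, ?_⟩
        rw [mul_assoc, hB0.eq, ← mul_assoc]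
        congr 1
        cases a
        · simp
        · simp [mul_assoc, h0]
      · -- multiply by `y1`
        rw [hy]
        refine ⟨i, a, !b, ?_⟩
        rw [mul_assoc]
        congr 1
        cases b
        · simp
        · simp [h1]
      · -- multiply by `y2`
        have hy2 : y = y2 := hy
        rw [hy2]
        cases a
        · refine ⟨i - 1, true, b, ?_⟩
          rw [mul_assoc, hB2.eq, ← mul_assoc]
          congr 1
          simp only [Bool.false_eq_true, if_false, mul_one, if_true]
          rw [zpow_sub_one, mul_assoc, ← e2]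
        · refine ⟨i + 1, false, b, ?_⟩
          rw [mul_assoc, hB2.eq, ← mul_assoc]
          congr 1
          simp only [Bool.false_eq_true, if_false, mul_one, if_true]
          rw [zpow_add_one, mul_assoc, e2']
    induction hg using Subgroup.closure_induction_right with
    | one => exact ⟨0, false, false, by simp⟩
    | mul_right g _ y hy ih => exact hstep g ih y hy
    | mul_inv_cancel g _ y hy ih =>
      have hyi : y⁻¹ = y := by
        rcases hy with rfl | rfl | rfl
        · exact hy0i
        · exact hy1i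
        · exact hy2i
      rw [hyi]
      exact hstep g ih y hy
  set n := orderOf ρ with hn
  have hnpos : 0 < n := orderOf_pos ρ
  -- reduce the exponent
  have hform' : ∀ g : H, ∃ (k : Fin n) (a b : Bool),
      g = ρ ^ (k : ℕ) * (if a then y0 else 1) * (if b then y1 else 1) := by
    intro g
    obtain ⟨i, a, b, rfl⟩ := hform g
    have hnn : (0 : ℤ) ≤ i % (n : ℤ) := Int.emod_nonneg _ (by omega)
    have hlt : (i % (n : ℤ)).toNat < n := by
      have := Int.emod_lt_of_pos i (show (0 : ℤ) < n by omega)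
      omega
    refine ⟨⟨(i % (n : ℤ)).toNat, hlt⟩, a, b, ?_⟩
    congr 2
    show ρ ^ i = ρ ^ ((i % (n : ℤ)).toNat)
    rw [← zpow_natCast, Int.toNat_of_nonneg hnn, hn, zpow_mod_orderOf]
  -- counting
  have hcount : 12 ≤ 4 * n := by
    have hsurj : Function.Surjective (fun p : Fin n × Bool × Bool =>
        ρ ^ (p.1 : ℕ) * (if p.2.1 then y0 else 1) * (if p.2.2 then y1 else 1)) := by
      intro g
      obtain ⟨k, a, b, h⟩ := hform' g
      exact ⟨(k, a, b), h.symm⟩
    have := Nat.card_le_card_of_surjective _ hsurj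
    rw [hc] at this
    simp only [Nat.card_eq_fintype_card, Fintype.card_prod, Fintype.card_fin, Fintype.card_bool] at this
    omega
  have hcount' : y1 = 1 → 12 ≤ 2 * n := by
    intro hy1
    have hsurj : Function.Surjective (fun p : Fin n × Bool =>
        ρ ^ (p.1 : ℕ) * (if p.2 then y0 else 1)) := by
      intro g
      obtain ⟨k, a, b, h⟩ := hform' g
      refine ⟨(k, a), ?_⟩
      rw [h, hy1]
      simp
    have := Nat.card_le_card_of_surjective _ hsurj
    rw [hc] at this
    simp only [Nat.card_eq_fintype_card, Fintype.card_prod, Fintype.card_fin, Fintype.card_bool] at this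
    omega
  have hn3 : 3 ≤ n := by omega
  -- the dihedral subgroup `⟨ρ, y0⟩` has order `2n`
  have hxa := ID3_not_mem ρ y0 hrel (ID3_sq_ne_one ρ hn3)
  have hinj := ID3_dih_inj ρ y0 h0 hrel hxa
  have hdvd : 2 * n ∣ 12 := by
    have h1 := Subgroup.card_subgroup_dvd_card
      (Cfsg.Agent.Helper45.dihHom (orderOf ρ) ρ y0 (pow_orderOf_eq_one ρ) h0 hrel).range
    have h2 : Nat.card (Cfsg.Agent.Helper45.dihHom (orderOf ρ) ρ y0 (pow_orderOf_eq_one ρ) h0 hrel).range
        = 2 * n := by
      have := Nat.card_range_of_injective hinj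
      rw [DihedralGroup.nat_card] at this
      exact this
    rw [h2, hc] at h1
    exact h1
  have hn6 : n = 3 ∨ n = 6 := by
    have hle : 2 * n ≤ 12 := Nat.le_of_dvd (by norm_num) hdvd
    have hnle : n ≤ 6 := by omega
    interval_cases n
    · left; rfl
    · exfalso; revert hdvd; decide
    · exfalso; revert hdvd; decide
    · right; rfl
  rcases hn6 with h3 | h6
  · -- `n = 3`: use `ρ * y1`
    have hy1 : y1 ≠ 1 := by
      intro h
      have := hcount' h
      omega
    have ho1 : orderOf y1 = 2 := by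
      have : Fact (Nat.Prime 2) := ⟨Nat.prime_two⟩
      exact orderOf_eq_prime (by rw [pow_two]; exact h1) hy1
    have hoa : orderOf (ρ * y1) = 6 := by
      rw [c1ρ.symm.orderOf_mul_eq_mul_orderOf_of_coprime (by rw [← hn, h3, ho1]; decide), ← hn, h3,
        ho1]
    have hrel' : y0 * (ρ * y1) * y0⁻¹ = (ρ * y1)⁻¹ := by
      have hc1 : y0 * y1 * y0⁻¹ = y1 := by rw [c01.eq, mul_assoc, mul_inv_cancel, mul_one]
      calc y0 * (ρ * y1) * y0⁻¹ = (y0 * ρ * y0⁻¹) * (y0 * y1 * y0⁻¹) := by group
        _ = ρ⁻¹ * y1 := by rw [hrel, hc1]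
        _ = y1 * ρ⁻¹ := (c1ρ.inv_right.eq).symm
        _ = (ρ * y1)⁻¹ := by rw [mul_inv_rev ρ y1, hy1i]
    exact ID3_of_order 6 (ρ * y1) y0 hoa (by rw [hc]) (by norm_num) h0 hrel'
  · exact ID3_of_order 6 ρ y0 (by rw [← hn, h6]) (by rw [hc]) (by norm_num) h0 hrel

end Cfsg.Agent.Helper48.Sims3
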