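import Mathlib
import Cfsg.Agent.Helper86.Spec4.Defs

/-!
# (M2) indecomposable ⇒ irreducible minimal polynomial of the `p'`-part (piece for S2510, helper86)
-/

set_option autoImplicit false

namespace Cfsg.Agent.Helper48.Spec4

open Matrix Cfsg.Agent.Helper86.Spec4

variable {F : Type*} [Field F] [Fintype F]

/-- (M2) if no nontrivial idempotent commutes with `x`, then every power `s` of `x` of order prime to
the characteristic has irreducible minimal polynomial. -/
theorem minpoly_irreducible_of_indec {n : ℕ} (hn : 1 ≤ n) (x s : Matrix (Fin n) (Fin n) F) (j m : ℕ)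
    (hs : s = x ^ j) (hm : (m : F) ≠ 0) (hsm : s ^ m = 1)
    (hind : ∀ e : Matrix (Fin n) (Fin n) F, e * e = e → e * x = x * e → e = 0 ∨ e = 1) :
    Irreducible (minpoly F s) := by
  classical
  have hne : NeZero n := ⟨by omega⟩
  -- `x` commutes with every polynomial in `s`
  have hxs : Commute x s := by
    rw [hs]
    exact (Commute.refl x).pow_right j
  have hcomm : ∀ q : Polynomial F, Commute x (Polynomial.aeval s q) := by
    intro q
    induction q using Polynomial.induction_on' with
    | add p q hp hq =>
      rw [map_add]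
      exact hp.add_right hq
    | monomial k a =>
      rw [Polynomial.aeval_monomial]
      exact (Algebra.commute_algebraMap_right a x).mul_right (hxs.pow_right k)
  -- the minimal polynomial is separable
  have hdvd : minpoly F s ∣ (Polynomial.X ^ m - Polynomial.C (1 : F)) := by
    apply minpoly.dvd
    simp [hsm]
  have hsep : (minpoly F s).Separable :=
    (Polynomial.separable_X_pow_sub_C (1 : F) hm one_ne_zero).of_dvd hdvd
  rw [irreducible_iff]
  refine ⟨minpoly.not_isUnit F s, ?_⟩
  intro a b hab
  have hcop : IsCoprime a b := by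
    rw [hab] at hsep
    exact hsep.isCoprime
  obtain ⟨u, v, huv⟩ := hcop
  -- the idempotent
  have hprod : Polynomial.aeval s (a * b) = 0 := by
    rw [← hab]
    exact minpoly.aeval F s
  have hsum : Polynomial.aeval s (u * a) + Polynomial.aeval s (v * b) = 1 := by
    rw [← map_add, huv, map_one]
  have hmul0 : Polynomial.aeval s (u * a) * Polynomial.aeval s (v * b) = 0 := by
    rw [← map_mul]
    have : u * a * (v * b) = (u * v) * (a * b) := by ring
    rw [this, map_mul, hprod, mul_zero]
  have hidem : Polynomial.aeval s (u * a) * Polynomial.aeval s (u * a) = Polynomial.aeval s (u * a) := by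
    have h1 : Polynomial.aeval s (u * a) * (Polynomial.aeval s (u * a) + Polynomial.aeval s (v * b))
        = Polynomial.aeval s (u * a) := by rw [hsum, mul_one]
    rw [mul_add, hmul0, add_zero] at h1
    exact h1
  rcases hind _ hidem (hcomm (u * a)).symm.eq with h0 | h1
  · -- `e = 0`: `b ∣ 1`
    right
    have h1 : minpoly F s ∣ u * a := minpoly.dvd F s h0
    have h2 : b ∣ u * a := dvd_trans ⟨a, by rw [hab]; ring⟩ h1
    have h3 : b ∣ u * a + v * b := dvd_add h2 (dvd_mul_left b v)
    rw [huv] at h3
    exact isUnit_of_dvd_one h3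
  · -- `e = 1`: `a ∣ 1`
    left
    have h0 : Polynomial.aeval s (v * b) = 0 := by
      rw [h1] at hsum
      exact add_left_cancel (a := (1 : Matrix (Fin n) (Fin n) F)) (by rw [hsum, add_zero])
    have h2 : minpoly F s ∣ v * b := minpoly.dvd F s h0
    have h3 : a ∣ v * b := dvd_trans ⟨b, hab⟩ h2
    have h4 : a ∣ u * a + v * b := dvd_add (dvd_mul_left a u) h3
    rw [huv] at h4
    exact isUnit_of_dvd_one h4

end Cfsg.Agent.Helper48.Spec4
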