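-- helper48: piece (E1) of helper74's WANTED #5091/#5100 for S4130: a nilpotent normal subgroup centralizes
-- a normal cyclic subgroup of squarefree order.
import Mathlib

set_option autoImplicit false

namespace Cfsg.Agent.Helper48.Sqf

open scoped commutatorElement

theorem le_centralizer_of_nilpotent {G : Type*} [Group G] [Finite G] (g₀ : G)
    (hsq : Squarefree (orderOf g₀)) (hn : (Subgroup.zpowers g₀).Normal) (M : Subgroup G)
    [M.Normal] (hM : Group.IsNilpotent M) : M ≤ Subgroup.centralizer ({g₀} : Set G) := by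
  intro x hx
  -- `x g₀ x⁻¹ = g₀ ^ k`
  obtain ⟨k, hk⟩ := Subgroup.mem_zpowers_iff.mp (hn.conj_mem g₀ (Subgroup.mem_zpowers g₀) x)
  -- conjugation of powers
  have hconj : ∀ e : ℤ, x * g₀ ^ e * x⁻¹ = g₀ ^ (k * e) := by
    intro e
    rw [← conj_zpow, ← hk, ← zpow_mul]
  -- the iterated commutators
  have hcomm : ∀ e : ℤ, ⁅g₀ ^ e, x⁆ = g₀ ^ (e * (1 - k)) := by
    intro e
    have h1 : ⁅g₀ ^ e, x⁆ = g₀ ^ e * (x * g₀ ^ e * x⁻¹)⁻¹ := by
      rw [commutatorElement_def]; group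
    rw [h1, hconj, ← zpow_neg, ← zpow_add]
    congr 1
    ring
  have hmem : ∀ i : ℕ, g₀ ^ ((1 - k) ^ (i + 1)) ∈ M.lowerCentralSeries i := by
    intro i
    induction i with
    | zero =>
      rw [Subgroup.lowerCentralSeries_zero]
      have h1 : g₀ ^ ((1 - k) ^ (0 + 1)) = ⁅g₀ ^ (1 : ℤ), x⁆ := by
        rw [hcomm]; congr 1; ring
      rw [h1, zpow_one, commutatorElement_def]
      exact M.mul_mem (Subgroup.Normal.conj_mem inferInstance x hx g₀) (M.inv_mem hx)
    | succ i ih =>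
      rw [Subgroup.lowerCentralSeries_succ]
      have h1 : g₀ ^ ((1 - k) ^ (i + 1 + 1)) = ⁅g₀ ^ ((1 - k) ^ (i + 1)), x⁆ := by
        rw [hcomm]; congr 1; ring
      rw [h1]
      exact Subgroup.commutator_mem_commutator ih hx
  obtain ⟨n, hn0⟩ := (Subgroup.isNilpotent_iff_lowerCentralSeries M).mp hM
  have h1 : g₀ ^ ((1 - k) ^ (n + 1)) = 1 := by
    have := hmem n
    rw [hn0, Subgroup.mem_bot] at this
    exact this
  have h2 : (orderOf g₀ : ℤ) ∣ (1 - k) ^ (n + 1) := orderOf_dvd_iff_zpow_eq_one.mpr h1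
  have hsqZ : Squarefree (orderOf g₀ : ℤ) := Int.squarefree_natCast.mpr hsq
  have h3 : (orderOf g₀ : ℤ) ∣ 1 - k :=
    (hsqZ.dvd_pow_iff_dvd (Nat.succ_ne_zero n)).mp h2
  have h4 : g₀ ^ (1 - k) = 1 := orderOf_dvd_iff_zpow_eq_one.mp h3
  have h5 : ⁅g₀, x⁆ = 1 := by
    have := hcomm 1
    rw [zpow_one, one_mul, h4] at this
    exact this
  rw [Subgroup.mem_centralizer_iff]
  intro y hy
  rw [Set.mem_singleton_iff] at hy
  subst hy
  exact (commutatorElement_eq_one_iff_mul_comm.mp h5)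

end Cfsg.Agent.Helper48.Sqf
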