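-- helper48: piece (K) of helper74's WANTED #5091/#5100 for S4130 (Knoche): an `r`-group all of whose
-- centralizers have index dividing `r` has a commutator subgroup of order at most `r`.
import Mathlib

set_option autoImplicit false

namespace Cfsg.Agent.Helper48.Sqf

open scoped commutatorElement

theorem commutator_le_iff {P : Type*} [Group P] (H : Subgroup P) :
    commutator P ≤ H ↔ ∀ a b : P, ⁅a, b⁆ ∈ H := by
  rw [_root_.commutator_def, Subgroup.commutator_le]
  exact ⟨fun h a b => h a (Subgroup.mem_top a) b (Subgroup.mem_top b), fun h a _ b _ => h a b⟩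

/-- a group is not the union of two proper subgroups -/
theorem exists_not_mem_of_ne_top {P : Type*} [Group P] (H K : Subgroup P) (hH : H ≠ ⊤)
    (hK : K ≠ ⊤) : ∃ c : P, c ∉ H ∧ c ∉ K := by
  by_cases hHK : H ≤ K
  · obtain ⟨c, hc⟩ : ∃ c : P, c ∉ K := by
      by_contra h
      push Not at h
      exact hK (eq_top_iff.mpr fun x _ => h x)
    exact ⟨c, fun h => hc (hHK h), hc⟩
  by_cases hKH : K ≤ H
  · obtain ⟨c, hc⟩ : ∃ c : P, c ∉ H := by
      by_contra h
      push Not at h
      exact hH (eq_top_iff.mpr fun x _ => h x)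
    exact ⟨c, hc, fun h => hc (hKH h)⟩
  obtain ⟨h, hhH, hhK⟩ := Set.not_subset.mp hHK
  obtain ⟨k, hkK, hkH⟩ := Set.not_subset.mp hKH
  refine ⟨h * k, ?_, ?_⟩
  · intro hmem
    apply hkH
    have := H.mul_mem (H.inv_mem hhH) hmem
    rwa [inv_mul_cancel_left] at this
  · intro hmem
    apply hhK
    have := K.mul_mem hmem (K.inv_mem hkK)
    rwa [mul_inv_cancel_right] at this

theorem card_commutator_le_of_breadth_one {P : Type*} [Group P] [Finite P] (r : ℕ)
    [Fact r.Prime] (hP : IsPGroup r P)
    (hb : ∀ y : P, (Subgroup.centralizer ({y} : Set P)).index ∣ r) :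
    Nat.card (commutator P) ≤ r := by
  classical
  have hr : r.Prime := Fact.out
  -- (a) the commutator subgroup lies in every centralizer, hence in the centre
  have ha : ∀ y : P, commutator P ≤ Subgroup.centralizer ({y} : Set P) := by
    intro y
    rcases (Nat.dvd_prime hr).mp (hb y) with h1 | h1
    · rw [Subgroup.index_eq_one] at h1
      rw [h1]; exact le_top
    · -- index `r`: normal with cyclic quotient
      obtain ⟨n, hn⟩ := (IsPGroup.iff_card.mp hP)
      have hn0 : n ≠ 0 := by
        rintro rfl
        rw [pow_zero] at hn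
        have h2 := Subgroup.index_dvd_card (Subgroup.centralizer ({y} : Set P))
        rw [h1, hn] at h2
        exact hr.one_lt.ne' (Nat.dvd_one.mp h2)
      have hnorm : (Subgroup.centralizer ({y} : Set P)).Normal := by
        apply Subgroup.normal_of_index_eq_minFac_card
        rw [h1, hn, Nat.Prime.pow_minFac hr hn0]
      have hcard : Nat.card (P ⧸ Subgroup.centralizer ({y} : Set P)) = r := by
        rw [← Subgroup.index_eq_card]; exact h1
      have hcyc : IsCyclic (P ⧸ Subgroup.centralizer ({y} : Set P)) :=
        isCyclic_of_prime_card hcard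
      rw [commutator_le_iff]
      intro a b
      rw [← QuotientGroup.eq_one_iff]
      have h2 : ((⁅a, b⁆ : P) : P ⧸ Subgroup.centralizer ({y} : Set P))
          = ⁅(a : P ⧸ Subgroup.centralizer ({y} : Set P)), (b : P ⧸ _)⁆ :=
        map_commutatorElement (QuotientGroup.mk' (Subgroup.centralizer ({y} : Set P))) a b
      rw [h2, commutatorElement_eq_one_iff_mul_comm]
      exact (IsCyclic.commGroup (α := P ⧸ Subgroup.centralizer ({y} : Set P))).mul_comm _ _
  have hcen : ∀ a b y : P, ⁅a, b⁆ * y = y * ⁅a, b⁆ := by
    intro a b y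
    have h1 := (commutator_le_iff _).mp (ha y) a b
    exact (Subgroup.mem_centralizer_iff.mp h1 y (Set.mem_singleton y)).symm
  -- (b) the homomorphisms `g ↦ ⁅y, g⁆`
  let φ : P → P →* P := fun y =>
    { toFun := fun g => ⁅y, g⁆
      map_one' := by simp
      map_mul' := by
        intro g h
        have h1 : ⁅y, g * h⁆ = ⁅y, g⁆ * (g * ⁅y, h⁆ * g⁻¹) := by
          simp only [commutatorElement_def]; group
        rw [h1, ← hcen y h g, mul_inv_cancel_right] }
  have hφ : ∀ y g : P, φ y g = ⁅y, g⁆ := fun y g => rfl
  have hker : ∀ y : P, (φ y).ker = Subgroup.centralizer ({y} : Set P) := by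
    intro y
    ext g
    rw [MonoidHom.mem_ker, hφ, commutatorElement_eq_one_iff_mul_comm,
      Subgroup.mem_centralizer_iff]
    constructor
    · intro h z hz
      rw [Set.mem_singleton_iff] at hz
      rw [hz]; exact h
    · intro h
      exact h y (Set.mem_singleton y)
  have hcardR : ∀ y : P, Nat.card (φ y).range ∣ r := by
    intro y
    rw [← Subgroup.index_ker, hker]
    exact hb y
  have hmemR : ∀ a b : P, ⁅a, b⁆ ∈ (φ a).range := fun a b => ⟨b, rfl⟩
  have hmemR' : ∀ a b : P, ⁅a, b⁆ ∈ (φ b).range := by
    intro a b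
    have h1 : ⁅a, b⁆ = (⁅b, a⁆)⁻¹ := (commutatorElement_inv b a).symm
    rw [h1]
    exact Subgroup.inv_mem _ (hmemR b a)
  -- (c) ranges containing a common nontrivial element coincide
  have hle : ∀ a b z : P, z ≠ 1 → z ∈ (φ a).range → z ∈ (φ b).range →
      (φ a).range ≤ (φ b).range := by
    intro a b z hz hza hzb
    have h1 : (φ a).range ⊓ (φ b).range = (φ a).range := by
      apply Subgroup.eq_of_le_of_card_ge inf_le_left
      have h2 : Nat.card ((φ a).range ⊓ (φ b).range : Subgroup P) ∣ Nat.card (φ a).range :=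
        Subgroup.card_dvd_of_le inf_le_left
      have h3 : Nat.card ((φ a).range ⊓ (φ b).range : Subgroup P) ≠ 1 := by
        intro h
        rw [Subgroup.card_eq_one] at h
        have : z ∈ ((φ a).range ⊓ (φ b).range : Subgroup P) := ⟨hza, hzb⟩
        rw [h, Subgroup.mem_bot] at this
        exact hz this
      rcases (Nat.dvd_prime hr).mp (hcardR a) with h4 | h4
      · rw [h4] at h2
        exact absurd (Nat.dvd_one.mp h2) h3
      · rw [h4] at h2 ⊢
        rcases (Nat.dvd_prime hr).mp h2 with h5 | h5
        · exact absurd h5 h3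
        · exact h5.ge
    rw [← h1]; exact inf_le_right
  have heq : ∀ a b : P, ⁅a, b⁆ ≠ 1 → (φ a).range = (φ b).range := fun a b hab =>
    le_antisymm (hle a b _ hab (hmemR a b) (hmemR' a b)) (hle b a _ hab (hmemR' a b) (hmemR a b))
  have hne_top : ∀ a : P, (φ a).range ≠ ⊥ → Subgroup.centralizer ({a} : Set P) ≠ ⊤ := by
    intro a ha' htop
    apply ha'
    rw [eq_bot_iff]
    rintro _ ⟨g, rfl⟩
    rw [Subgroup.mem_bot, hφ, commutatorElement_eq_one_iff_mul_comm]
    have : g ∈ Subgroup.centralizer ({a} : Set P) := by rw [htop]; exact Subgroup.mem_top g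
    exact Subgroup.mem_centralizer_iff.mp this a (Set.mem_singleton a)
  have hall : ∀ a b : P, (φ a).range ≠ ⊥ → (φ b).range ≠ ⊥ → (φ a).range = (φ b).range := by
    intro a b hane hbne
    by_cases hab : ⁅a, b⁆ = 1
    · obtain ⟨c, hca, hcb⟩ := exists_not_mem_of_ne_top _ _ (hne_top a hane) (hne_top b hbne)
      have h1 : ⁅a, c⁆ ≠ 1 := by
        intro h
        apply hca
        rw [Subgroup.mem_centralizer_iff]
        intro z hz
        rw [Set.mem_singleton_iff] at hz
        rw [hz]
        exact commutatorElement_eq_one_iff_mul_comm.mp h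
      have h2 : ⁅b, c⁆ ≠ 1 := by
        intro h
        apply hcb
        rw [Subgroup.mem_centralizer_iff]
        intro z hz
        rw [Set.mem_singleton_iff] at hz
        rw [hz]
        exact commutatorElement_eq_one_iff_mul_comm.mp h
      rw [heq a c h1, heq b c h2]
    · exact heq a b hab
  -- (d) conclusion
  by_cases hex : ∃ a : P, (φ a).range ≠ ⊥
  · obtain ⟨a, hane⟩ := hex
    have h1 : commutator P ≤ (φ a).range := by
      rw [commutator_le_iff]
      intro c d
      by_cases hcd : ⁅c, d⁆ = 1
      · rw [hcd]; exact Subgroup.one_mem _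
      · have hcne : (φ c).range ≠ ⊥ := by
          intro h
          have := hmemR c d
          rw [h, Subgroup.mem_bot] at this
          exact hcd this
        rw [hall a c hane hcne]
        exact hmemR c d
    exact (Subgroup.card_le_of_le h1).trans (Nat.le_of_dvd hr.pos (hcardR a))
  · push Not at hex
    have h1 : commutator P ≤ ⊥ := by
      rw [commutator_le_iff]
      intro c d
      rw [← hex c]
      exact hmemR c d
    have h2 : commutator P = ⊥ := le_bot_iff.mp h1
    rw [h2, Subgroup.card_bot]
    exact hr.one_lt.le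

end Cfsg.Agent.Helper48.Sqf
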