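-- helper48: piece (M) of helper74's WANTED #5091/#5094 for S4130: a nontrivial group with squarefree class
-- sizes has a normal subgroup of prime order ((T) and (CL) are hypotheses).
import Mathlib
import Cfsg.Agent.Helper74.SqfDefs

set_option autoImplicit false

namespace Cfsg.Agent.Helper48.Sqf

open Cfsg.Agent.Helper74.Sqf
open scoped commutatorElement

universe u

/-- the conclusion of (T) `SF.isSolvable_and_sylow_normal` for the group `G` -/
def TStmt (G : Type u) [Group G] : Prop :=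
  Group.IsSolvable G ∧ ∀ (r : ℕ) [Fact r.Prime],
    (∀ q : ℕ, q.Prime → q ∣ Nat.card G → q ≤ r) → ∀ R : Sylow r G, (R : Subgroup G).Normal

/-- the statement of (CL) `card_commutator_le` for the group `G` -/
def CLStmt (G : Type u) [Group G] : Prop :=
  ∀ (r : ℕ) [Fact r.Prime] (N E : Subgroup G) [N.Normal], IsPGroup r N →
    (∀ a ∈ N, ∀ b ∈ N, a * b = b * a) →
    (∀ e ∈ E, ∀ e' ∈ E, e * e' * e⁻¹ * e'⁻¹ ∈ Subgroup.centralizer (N : Set G)) →
    (∀ e ∈ E, e ^ r ∈ Subgroup.centralizer (N : Set G) → e ∈ Subgroup.centralizer (N : Set G)) →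
    (∀ e ∈ E, ¬ r ^ 2 ∣ (Subgroup.centralizer ({e} : Set G)).index) →
    Nat.card (⁅N, E⁆ : Subgroup G) ≤ r

theorem exists_normal_prime_of {G : Type u} [Group G] [Finite G] [Nontrivial G] (h : SF G)
    (hT : TStmt G) (hCL : CLStmt G) : ∃ N : Subgroup G, N.Normal ∧ (Nat.card N).Prime := by
  classical
  -- the largest prime divisor
  have hcard : 1 < Nat.card G := Finite.one_lt_card
  have hne : (Nat.card G).primeFactors.Nonempty := Nat.nonempty_primeFactors.mpr hcard
  set r := (Nat.card G).primeFactors.max' hne with hrdef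
  have hrmem : r ∈ (Nat.card G).primeFactors := Finset.max'_mem _ _
  have hr : r.Prime := Nat.prime_of_mem_primeFactors hrmem
  have hrdvd : r ∣ Nat.card G := Nat.dvd_of_mem_primeFactors hrmem
  have hrmax : ∀ q : ℕ, q.Prime → q ∣ Nat.card G → q ≤ r := fun q hq hqd =>
    Finset.le_max' _ q (Nat.mem_primeFactors.mpr ⟨hq, hqd, by omega⟩)
  have : Fact r.Prime := ⟨hr⟩
  obtain ⟨hsol, hTn⟩ := hT
  -- the normal Sylow subgroup
  let R : Sylow r G := default
  have hRn : (R : Subgroup G).Normal := hTn r hrmax R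
  have hRcard : Nat.card (R : Subgroup G) = r ^ (Nat.card G).factorization r :=
    Sylow.card_eq_multiplicity R
  have hfac : 1 ≤ (Nat.card G).factorization r :=
    (hr.dvd_iff_one_le_factorization (by omega)).mp hrdvd
  have hRnt : Nontrivial ↥(R : Subgroup G) := by
    rw [← Finite.one_lt_card_iff_nontrivial, hRcard]
    exact Nat.one_lt_pow (by omega) hr.one_lt
  have := hRnt
  have hRp : IsPGroup r ↥(R : Subgroup G) := R.isPGroup'
  have hcnt : Nontrivial (Subgroup.center ↥(R : Subgroup G)) := hRp.center_nontrivial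
  obtain ⟨z, hz1⟩ : ∃ z : Subgroup.center ↥(R : Subgroup G), z ≠ 1 := exists_ne 1
  -- `N₀ = Z(R)` as a subgroup of `G`
  set N₀ : Subgroup G := (R : Subgroup G) ⊓ Subgroup.centralizer ((R : Subgroup G) : Set G)
    with hN₀
  have hN₀n : N₀.Normal := by rw [hN₀]; infer_instance
  have hz0 : (((z : ↥(R : Subgroup G)) : G)) ∈ N₀ := by
    refine ⟨(z : ↥(R : Subgroup G)).2, ?_⟩
    show _ ∈ Subgroup.centralizer ((R : Subgroup G) : Set G)
    rw [Subgroup.mem_centralizer_iff]
    intro y hy
    have := Subgroup.mem_center_iff.mp z.2 ⟨y, hy⟩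
    exact congrArg Subtype.val this
  have hz0ne : (((z : ↥(R : Subgroup G)) : G)) ≠ 1 := by
    intro h0
    apply hz1
    apply Subtype.ext
    apply Subtype.ext
    exact h0
  have hN₀ne : N₀ ≠ ⊥ := by
    intro hbot
    rw [hbot, Subgroup.mem_bot] at hz0
    exact hz0ne hz0
  have hN₀ab : ∀ a ∈ N₀, ∀ b ∈ N₀, a * b = b * a := by
    intro a ha b hb
    exact (Subgroup.mem_centralizer_iff.mp hb.2 a ha.1)
  have hN₀p : IsPGroup r ↥N₀ := IsPGroup.to_le R.isPGroup' inf_le_left
  -- the centralizer of `N₀`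
  set C : Subgroup G := Subgroup.centralizer (N₀ : Set G) with hC
  have hCn : C.Normal := by rw [hC]; infer_instance
  have hRC : (R : Subgroup G) ≤ C := by
    intro y hy
    rw [hC, Subgroup.mem_centralizer_iff]
    intro n hn
    exact (Subgroup.mem_centralizer_iff.mp hn.2 y hy).symm
  have hcop : Nat.Coprime r C.index := by
    rw [Nat.Prime.coprime_iff_not_dvd hr]
    intro hd
    exact R.not_dvd_index (hd.trans (Subgroup.index_dvd_of_le hRC))
  have hr' : ∀ e : G, e ^ r ∈ C → e ∈ C := by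
    intro e he
    rw [← QuotientGroup.eq_one_iff] at he ⊢
    have h1 : ((e : G) : G ⧸ C) ^ r = 1 := by
      rw [← QuotientGroup.mk_pow]; exact he
    have h2 : orderOf ((e : G) : G ⧸ C) ∣ r := orderOf_dvd_of_pow_eq_one h1
    have h3 : orderOf ((e : G) : G ⧸ C) ∣ C.index := by
      rw [Subgroup.index_eq_card]; exact orderOf_dvd_natCard _
    have h4 : orderOf ((e : G) : G ⧸ C) ∣ 1 := by
      rw [← Nat.Coprime.gcd_eq_one hcop]; exact Nat.dvd_gcd h2 h3
    exact orderOf_eq_one_iff.mp (Nat.dvd_one.mp h4)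
  by_cases hCtop : C = ⊤
  · -- `N₀` is central: an element of order `r` generates a normal subgroup
    obtain ⟨k, hk⟩ := IsPGroup.iff_card.mp hN₀p
    have hk0 : k ≠ 0 := by
      rintro rfl
      rw [pow_zero, Subgroup.card_eq_one] at hk
      exact hN₀ne hk
    have hdvd : r ∣ Nat.card ↥N₀ := by
      rw [hk]; exact dvd_pow_self r hk0
    obtain ⟨w, hw⟩ := exists_prime_orderOf_dvd_card' r hdvd
    have hw0 : orderOf ((w : ↥N₀) : G) = r := by
      rw [Subgroup.orderOf_coe]; exact hw
    refine ⟨Subgroup.zpowers ((w : ↥N₀) : G), ?_, ?_⟩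
    · constructor
      intro x hx g
      have hxN : x ∈ N₀ := (Subgroup.zpowers_le.mpr w.2) hx
      have hgC : g ∈ C := by rw [hCtop]; exact Subgroup.mem_top g
      have h1 : x * g = g * x := Subgroup.mem_centralizer_iff.mp hgC x hxN
      rw [← h1, mul_inv_cancel_right]
      exact hx
    · rw [Nat.card_zpowers, hw0]; exact hr
  · -- `G ⧸ C` is a nontrivial solvable group
    obtain ⟨e₀, he₀⟩ : ∃ e₀ : G, e₀ ∉ C := by
      by_contra hall
      push Not at hall
      exact hCtop (eq_top_iff.mpr fun x _ => hall x)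
    have hsolQ : Group.IsSolvable (G ⧸ C) := inferInstance
    have hex : ∃ n, derivedSeries (G ⧸ C) n = ⊥ := (Group.isSolvable_def (G ⧸ C)).mp hsolQ
    set m := Nat.find hex with hm
    have hmbot : derivedSeries (G ⧸ C) m = ⊥ := Nat.find_spec hex
    have hm0 : m ≠ 0 := by
      intro h0
      rw [h0, derivedSeries_zero] at hmbot
      have : ((e₀ : G) : G ⧸ C) ∈ (⊤ : Subgroup (G ⧸ C)) := Subgroup.mem_top _
      rw [hmbot, Subgroup.mem_bot, QuotientGroup.eq_one_iff] at this
      exact he₀ this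
    set A : Subgroup (G ⧸ C) := derivedSeries (G ⧸ C) (m - 1) with hA
    have hAne : A ≠ ⊥ := Nat.find_min hex (by omega : m - 1 < m)
    have hAA : ⁅A, A⁆ = ⊥ := by
      have := derivedSeries_succ (G ⧸ C) (m - 1)
      rw [show m - 1 + 1 = m by omega, hmbot] at this
      rw [hA]; exact this.symm
    have hAn : A.Normal := derivedSeries_normal (G ⧸ C) (m - 1)
    set E : Subgroup G := A.comap (QuotientGroup.mk' C) with hE
    have hEn : E.Normal := hAn.comap _
    have hEab : ∀ e ∈ E, ∀ e' ∈ E, e * e' * e⁻¹ * e'⁻¹ ∈ Subgroup.centralizer (N₀ : Set G) := by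
      intro e he e' he'
      show e * e' * e⁻¹ * e'⁻¹ ∈ C
      rw [← QuotientGroup.eq_one_iff]
      have h1 : ⁅((e : G) : G ⧸ C), ((e' : G) : G ⧸ C)⁆ ∈ ⁅A, A⁆ :=
        Subgroup.commutator_mem_commutator he he'
      rw [hAA, Subgroup.mem_bot] at h1
      rw [← h1, commutatorElement_def]
      rfl
    obtain ⟨⟨a, haA⟩, ha1⟩ := (Subgroup.ne_bot_iff_exists_ne_one.mp hAne)
    obtain ⟨e, rfl⟩ := QuotientGroup.mk_surjective a
    have heE : e ∈ E := haA
    have heC : e ∉ C := by
      intro hmem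
      apply ha1
      apply Subtype.ext
      exact (QuotientGroup.eq_one_iff e).mpr hmem
    have hsmall : ∀ e ∈ E, ¬ r ^ 2 ∣ (Subgroup.centralizer ({e} : Set G)).index :=
      fun e _ => h.not_sq_dvd hr e
    have hL : Nat.card (⁅N₀, E⁆ : Subgroup G) ≤ r :=
      hCL r N₀ E hN₀p hN₀ab hEab (fun e _ he => hr' e he) hsmall
    have hLne : (⁅N₀, E⁆ : Subgroup G) ≠ ⊥ := by
      intro hbot
      rw [Subgroup.commutator_eq_bot_iff_le_centralizer] at hbot
      apply heC
      rw [hC, Subgroup.mem_centralizer_iff]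
      intro n hn
      exact (Subgroup.mem_centralizer_iff.mp (hbot hn) e heE).symm
    have hLle : (⁅N₀, E⁆ : Subgroup G) ≤ N₀ := Subgroup.commutator_le_left N₀ E
    have hLp : IsPGroup r ↥(⁅N₀, E⁆ : Subgroup G) := IsPGroup.to_le hN₀p hLle
    obtain ⟨j, hj⟩ := IsPGroup.iff_card.mp hLp
    have hj0 : j ≠ 0 := by
      rintro rfl
      rw [pow_zero, Subgroup.card_eq_one] at hj
      exact hLne hj
    have hj1 : j = 1 := by
      by_contra hne1
      have hj2 : 2 ≤ j := by omega
      have h1 : r ^ 2 ≤ r ^ j := Nat.pow_le_pow_right hr.pos hj2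
      have h2 : r < r ^ 2 := by
        have := hr.one_lt
        nlinarith
      rw [hj] at hL
      omega
    refine ⟨⁅N₀, E⁆, inferInstance, ?_⟩
    rw [hj, hj1, pow_one]
    exact hr

end Cfsg.Agent.Helper48.Sqf
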