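import Cfsg.Agent.Helper6.Sz16
import Cfsg.Agent.Helper89.SzCl_B0
import Cfsg.Agent.Helper75.FrobeniusClasses

/-!
# [CB] Suzuki groups: the class number of the Sylow 2-subgroup `Q` is `3 q - 2`
(piece for S4775, helper6)
-/

set_option autoImplicit false

namespace Cfsg.Agent.Helper48.Szc

open Cfsg Cfsg.Agent.Helper6

universe u

variable {F : Type u} [Field F] [Fintype F] {m : ℕ}

/-- the parametrisation of `Q` -/
noncomputable def qEquiv (hm : 1 ≤ m) (hF : Fintype.card F = 2 ^ (2 * m + 1)) : F × F ≃ szQ hm hF :=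
  Equiv.ofBijective (fun p => qU hm hF p.1 p.2) ⟨by
    rintro ⟨a, b⟩ ⟨c, d⟩ h
    obtain ⟨rfl, rfl⟩ := qU_inj hm hF h
    rfl, by
    intro x
    obtain ⟨a, b, rfl⟩ := qU_surj hm hF x
    exact ⟨(a, b), rfl⟩⟩

theorem qEquiv_apply (hm : 1 ≤ m) (hF : Fintype.card F = 2 ^ (2 * m + 1)) (p : F × F) :
    qEquiv hm hF p = qU hm hF p.1 p.2 := rfl

/-- two translations commute iff `a^θ c = c^θ a` -/
theorem commute_qU_iff (hm : 1 ≤ m) (hF : Fintype.card F = 2 ^ (2 * m + 1)) (a b c d : F) :
    Commute (qU hm hF a b) (qU hm hF c d) ↔ a ^ (2 ^ (m + 1)) * c = c ^ (2 ^ (m + 1)) * a := by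
  unfold Commute SemiconjBy
  rw [qU_mul, qU_mul]
  constructor
  · intro h
    have h2 := (qU_inj hm hF h).2
    linear_combination h2
  · intro h
    congr 1
    · ring
    · linear_combination h

/-- for `a ≠ 0`: `a^θ c = c^θ a` iff `c = 0` or `c = a` -/
theorem sigma_comm_iff (hF : Fintype.card F = 2 ^ (2 * m + 1)) {a : F} (ha : a ≠ 0) (c : F) :
    a ^ (2 ^ (m + 1)) * c = c ^ (2 ^ (m + 1)) * a ↔ (c = 0 ∨ c = a) := by
  have hθ : (2 : ℕ) ^ (m + 1) ≠ 0 := by positivity
  constructor
  · intro h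
    have hx : (c / a) ^ (2 ^ (m + 1)) = c / a := by
      rw [div_pow]
      have ha' : a ^ (2 ^ (m + 1)) ≠ 0 := pow_ne_zero _ ha
      field_simp
      linear_combination -h
    rcases Cfsg.Agent.Helper89.SzCl.eq_zero_or_one_of_pow_sigma_eq hF _ hx with h0 | h1
    · left
      rcases div_eq_zero_iff.1 h0 with h | h
      · exact h
      · exact absurd h ha
    · right
      exact (div_eq_one_iff_eq ha).1 h1
  · rintro (rfl | rfl)
    · rw [zero_pow hθ, mul_zero, zero_mul]
    · ring

open Classical in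
/-- the order of the centralizer of a translation -/
theorem card_commute_qU (hm : 1 ≤ m) (hF : Fintype.card F = 2 ^ (2 * m + 1)) (a b : F) :
    Nat.card {y : szQ hm hF // Commute (qU hm hF a b) y} =
      if a = 0 then Fintype.card F ^ 2 else 2 * Fintype.card F := by
  classical
  have hθ : (2 : ℕ) ^ (m + 1) ≠ 0 := by positivity
  -- transport to `F × F`
  have e1 : Nat.card {y : szQ hm hF // Commute (qU hm hF a b) y} =
      Nat.card {p : F × F // a ^ (2 ^ (m + 1)) * p.1 = p.1 ^ (2 ^ (m + 1)) * a} := by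
    refine (Nat.card_congr ((qEquiv hm hF).subtypeEquiv ?_)).symm
    intro p
    rw [qEquiv_apply, commute_qU_iff]
  rw [e1]
  by_cases ha : a = 0
  · rw [if_pos ha]
    subst ha
    have : ∀ p : F × F, (0 : F) ^ (2 ^ (m + 1)) * p.1 = p.1 ^ (2 ^ (m + 1)) * 0 := by
      intro p
      rw [zero_pow hθ, mul_zero, zero_mul]
    rw [Nat.card_congr (Equiv.subtypeUnivEquiv this), Nat.card_prod, Nat.card_eq_fintype_card, sq]
  · rw [if_neg ha]
    have e2 : Nat.card {p : F × F // a ^ (2 ^ (m + 1)) * p.1 = p.1 ^ (2 ^ (m + 1)) * a} =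
        Nat.card {p : F × F // p.1 = 0 ∨ p.1 = a} :=
      Nat.card_congr (Equiv.subtypeEquivRight (fun p => sigma_comm_iff hF ha p.1))
    rw [e2, Nat.card_eq_fintype_card, Fintype.card_subtype]
    have e3 : (Finset.univ.filter (fun p : F × F => p.1 = 0 ∨ p.1 = a)) =
        ({0, a} : Finset F) ×ˢ (Finset.univ : Finset F) := by
      ext p
      simp only [Finset.mem_filter, Finset.mem_univ, true_and, Finset.mem_product,
        Finset.mem_insert, Finset.mem_singleton, and_true]
    rw [e3, Finset.card_product, Finset.card_pair (Ne.symm ha), Finset.card_univ]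

/-- CB: the class number of `Q` -/
theorem szc_conc_classesQ (hm : 1 ≤ m) (hF : Fintype.card F = 2 ^ (2 * m + 1)) :
    Nat.card (ConjClasses ↥(szQ hm hF)) = 3 * (2 * (2 ^ m) ^ 2) - 2 := by
  classical
  have hq' : Fintype.card F = 2 * (2 ^ m) ^ 2 := by
    rw [hF]
    ring
  have hFin : Fintype (szQ hm hF) := Fintype.ofFinite _
  have key := Cfsg.Agent.Helper75.cl_sum_card_commute (szQ hm hF)
  rw [card_szQ hm hF] at key
  -- compute the left hand side
  have hsum : ∑ x : szQ hm hF, Nat.card {y : szQ hm hF // Commute x y} =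
      Fintype.card F * (Fintype.card F ^ 2 + (Fintype.card F - 1) * (2 * Fintype.card F)) := by
    rw [← Equiv.sum_comp (qEquiv hm hF), Fintype.sum_prod_type]
    simp_rw [qEquiv_apply, card_commute_qU]
    have hinner : ∀ a : F, ∑ _b : F, (if a = 0 then Fintype.card F ^ 2 else 2 * Fintype.card F) =
        Fintype.card F * (if a = 0 then Fintype.card F ^ 2 else 2 * Fintype.card F) := by
      intro a
      rw [Finset.sum_const, Finset.card_univ, smul_eq_mul]
    simp_rw [hinner]
    rw [← Finset.mul_sum]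
    congr 1
    rw [← Finset.add_sum_erase Finset.univ _ (Finset.mem_univ (0 : F)), if_pos rfl]
    congr 1
    rw [Finset.sum_congr rfl (fun x hx => if_neg (Finset.ne_of_mem_erase hx)), Finset.sum_const,
      Finset.card_erase_of_mem (Finset.mem_univ _), Finset.card_univ, smul_eq_mul]
  rw [hsum, hq'] at key
  set r := (2 ^ m) ^ 2 with hr
  have hrpos : 0 < r := by positivity
  -- `k * (2r)^2 = 2r ((2r)^2 + (2r-1)(2 (2r)))`
  obtain ⟨s, hs⟩ : ∃ s, 2 * r = s + 1 := ⟨2 * r - 1, by omega⟩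
  rw [hs] at key ⊢
  have h3 : Nat.card (ConjClasses ↥(szQ hm hF)) * (s + 1) ^ 2 = (3 * s + 1) * (s + 1) ^ 2 := by
    rw [← key]
    have : s + 1 - 1 = s := by omega
    rw [this]
    ring
  have h4 := Nat.eq_of_mul_eq_mul_right (by positivity) h3
  rw [h4]
  omega

end Cfsg.Agent.Helper48.Szc
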