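import Cfsg.Agent.Helper6.Sub5
import Cfsg.Agent.Helper89.SzCl_B0

/-!
# [CC] Suzuki groups: an element of order `4` of `Q` not `B`-conjugate to its inverse, and `Q` is
a T.I. set with normalizer `B` (pieces for S4775, helper6)
-/

set_option autoImplicit false

namespace Cfsg.Agent.Helper48.Szc

open Cfsg Cfsg.Agent.Helper6

universe u

variable {F : Type u} [Field F] [Fintype F] {m : ℕ}

/-- conjugation of a translation by a translation -/
theorem sU_conj_sU (hm : 1 ≤ m) (hF : Fintype.card F = 2 ^ (2 * m + 1)) (c d a b : F) :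
    sU hF c d * sU hF a b * (sU hF c d)⁻¹ =
      sU hF a (b + c ^ (2 ^ (m + 1)) * a + a ^ (2 ^ (m + 1)) * c) := by
  have h2 : (2 : F) = 0 := two_eq_zero_of_card hF
  rw [sU_inv hm hF, sU_mul hm hF, sU_mul hm hF, add_pow_sigma hF]
  congr 1
  · linear_combination c * h2
  · linear_combination (d + c ^ (2 ^ (m + 1)) * c) * h2

/-- CC1: an element of order `4` is not conjugate to its inverse -/
theorem szc_conc_nonreal (hm : 1 ≤ m) (hF : Fintype.card F = 2 ^ (2 * m + 1)) :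
    ∃ ρ ∈ szQ hm hF, ∀ b ∈ szB F m, b * ρ * b⁻¹ ≠ ρ⁻¹ := by
  refine ⟨sU hF 1 0, (mem_szQ_iff hm hF _).2 ⟨1, 0, rfl⟩, ?_⟩
  intro b hb hconj
  obtain ⟨c, d, t, rfl⟩ := (mem_szB_iff_exists hm hF b).1 hb
  have e1 : sU hF c d * sD hF t * sU hF 1 0 * (sU hF c d * sD hF t)⁻¹ =
      sU hF c d * (sD hF t * sU hF 1 0 * (sD hF t)⁻¹) * (sU hF c d)⁻¹ := by group
  rw [e1, sD_conj_sU hm hF, sU_conj_sU hm hF, sU_inv hm hF] at hconj
  obtain ⟨h1, h2⟩ := sU_inj hF hconj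
  rw [mul_one] at h1
  rw [h1] at h2
  apply Cfsg.Agent.Helper89.SzCl.sigma_add_ne_one hF c
  linear_combination h2

/-- CC2: `Q` is a T.I. set with normalizer `B` -/
theorem szc_conc_TI (hm : 1 ≤ m) (hF : Fintype.card F = 2 ^ (2 * m + 1)) :
    ∀ x ∈ szQ hm hF, x ≠ 1 → ∀ g : Cfsg.Sz F m, g⁻¹ * x * g ∈ szB F m → g ∈ szB F m :=
  fun _ hx hx1 _ h => mem_szB_of_conj_mem_szB hm hF hx hx1 h

end Cfsg.Agent.Helper48.Szc
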