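-- helper48: piece (W3) of helper21's WANTED #5260 for S3797 (Thompson: solvable groups with one class of
-- involutions have 2-length one): the structure of a minimal `Γ`-invariant non-centralized subgroup.
import Mathlib
import Cfsg.Agent.Helper1.CoprimeAction

set_option autoImplicit false

namespace Cfsg.Agent.Helper48.TH

open Subgroup
open scoped commutatorElement

section Toolkit

variable {G : Type*} [Group G]

/-- elementwise invariance -/
def Inv (Γ X : Subgroup G) : Prop := ∀ g ∈ Γ, ∀ x ∈ X, g * x * g⁻¹ ∈ X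

theorem inv_of_le_normalizer {Γ X : Subgroup G} (h : Γ ≤ normalizer (X : Set G)) : Inv Γ X :=
  fun g hg x hx => (mem_normalizer_iff.mp (h hg) x).mp hx

theorem le_normalizer_of_inv {Γ X : Subgroup G} (h : Inv Γ X) : Γ ≤ normalizer (X : Set G) := by
  intro g hg
  rw [mem_normalizer_iff]
  intro x
  refine ⟨h g hg x, fun hx => ?_⟩
  have := h g⁻¹ (Γ.inv_mem hg) _ hx
  have e : g⁻¹ * (g * x * g⁻¹) * g⁻¹⁻¹ = x := by group
  rwa [e] at this

theorem Inv.commutator {Γ A B : Subgroup G} (hA : Inv Γ A) (hB : Inv Γ B) : Inv Γ ⁅A, B⁆ := by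
  intro g hg
  have h1 : ⁅A, B⁆ ≤ (⁅A, B⁆).comap (MulAut.conj g).toMonoidHom := by
    rw [commutator_le]
    intro a ha b hb
    rw [mem_comap]
    have e : (MulAut.conj g).toMonoidHom ⁅a, b⁆ = ⁅g * a * g⁻¹, g * b * g⁻¹⁆ := by
      rw [map_commutatorElement]; rfl
    rw [e]
    exact commutator_mem_commutator (hA g hg a ha) (hB g hg b hb)
  intro x hx
  exact h1 hx

theorem Inv.inf_centralizer {Γ Y U : Subgroup G} (hY : Inv Γ Y) (hU : Inv Γ U) :
    Inv Γ (Y ⊓ centralizer (U : Set G)) := by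
  intro g hg x hx
  refine ⟨hY g hg x hx.1, ?_⟩
  show _ ∈ centralizer (U : Set G)
  rw [mem_centralizer_iff]
  intro u hu
  have h1 : g⁻¹ * u * g ∈ U := by
    have := hU g⁻¹ (Γ.inv_mem hg) u hu
    rwa [inv_inv] at this
  have h2 := mem_centralizer_iff.mp hx.2 _ h1
  calc u * (g * x * g⁻¹) = g * ((g⁻¹ * u * g) * x) * g⁻¹ := by group
    _ = g * (x * (g⁻¹ * u * g)) * g⁻¹ := by rw [h2]
    _ = g * x * g⁻¹ * u := by group

/-- class two: squares of products -/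
theorem mul_sq_of_comm {a b : G} (h1 : ⁅b, a⁆ * a = a * ⁅b, a⁆) (h2 : ⁅b, a⁆ * b = b * ⁅b, a⁆) :
    (a * b) ^ 2 = a ^ 2 * b ^ 2 * ⁅b, a⁆ := by
  have e : b * a = ⁅b, a⁆ * a * b := by rw [commutatorElement_def]; group
  rw [pow_two, pow_two, pow_two]
  calc (a * b) * (a * b) = a * (b * a) * b := by group
    _ = a * (⁅b, a⁆ * a * b) * b := by rw [e]
    _ = a * (⁅b, a⁆ * a) * b * b := by group
    _ = a * (a * ⁅b, a⁆) * b * b := by rw [h1]
    _ = a * a * (⁅b, a⁆ * b) * b := by group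
    _ = a * a * (b * ⁅b, a⁆) * b := by rw [h2]
    _ = a * a * b * (⁅b, a⁆ * b) := by group
    _ = a * a * b * (b * ⁅b, a⁆) := by rw [h2]
    _ = a * a * (b * b) * ⁅b, a⁆ := by group

/-- class two: commutators with squares -/
theorem comm_sq_of_comm {a b : G} (h1 : ⁅a, b⁆ * a = a * ⁅a, b⁆) :
    ⁅a ^ 2, b⁆ = ⁅a, b⁆ ^ 2 := by
  have e : a * b * a⁻¹ = ⁅a, b⁆ * b := by rw [commutatorElement_def]; group
  rw [pow_two, pow_two]
  calc ⁅a * a, b⁆ = a * (a * b * a⁻¹) * a⁻¹ * b⁻¹ := by rw [commutatorElement_def]; group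
    _ = a * (⁅a, b⁆ * b) * a⁻¹ * b⁻¹ := by rw [e]
    _ = (a * ⁅a, b⁆) * b * a⁻¹ * b⁻¹ := by group
    _ = (⁅a, b⁆ * a) * b * a⁻¹ * b⁻¹ := by rw [h1]
    _ = ⁅a, b⁆ * (a * b * a⁻¹) * b⁻¹ := by group
    _ = ⁅a, b⁆ * (⁅a, b⁆ * b) * b⁻¹ := by rw [e]
    _ = ⁅a, b⁆ * ⁅a, b⁆ := by group

end Toolkit

section Coprime

universe u

variable {G : Type u} [Group G] [Finite G]

/-- coprime action: if `U` centralizes `[Y, U]` then it centralizes `Y`. -/
theorem le_centralizer_of_le_centralizer_commutator (Y U : Subgroup G)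
    (hUY : U ≤ normalizer (Y : Set G))
    (hcop : (Nat.card U).Coprime (Nat.card (⁅Y, U⁆ : Subgroup G)))
    (hsol : Group.IsSolvable (⁅Y, U⁆ : Subgroup G))
    (h : U ≤ centralizer ((⁅Y, U⁆ : Subgroup G) : Set G)) : U ≤ centralizer (Y : Set G) := by
  have hUN : U ≤ normalizer ((⁅Y, U⁆ : Subgroup G) : Set G) :=
    le_normalizer_of_inv (Inv.commutator (inv_of_le_normalizer hUY)
      (inv_of_le_normalizer le_normalizer))
  rw [le_centralizer_iff]
  intro y hy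
  obtain ⟨d, hd, hdy⟩ := Cfsg.Agent.Helper1.exists_mem_coset_centralizer U ⁅Y, U⁆ hUN hcop
    (Or.inr hsol) y (by
      intro a ha
      refine ⟨⁅a, y⁆, ?_, ?_⟩
      · rw [commutator_comm]
        exact commutator_mem_commutator ha hy
      · rw [commutatorElement_def]; group)
  have h1 : d⁻¹ ∈ centralizer (U : Set G) := (le_centralizer_iff.mp h) (inv_mem hd)
  have h2 := mul_mem h1 hdy
  rwa [inv_mul_cancel_left] at h2

end Coprime

section Main

variable {G : Type*} [Group G] [Finite G]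

/-- a nontrivial `2`-subgroup contains an involution -/
theorem exists_invol_of_ne_bot {Y : Subgroup G} (hYp : IsPGroup 2 Y) (hYne : Y ≠ ⊥) :
    ∃ v ∈ Y, v ≠ 1 ∧ v ^ 2 = 1 := by
  have : Fact (Nat.Prime 2) := ⟨Nat.prime_two⟩
  obtain ⟨n, hn⟩ := IsPGroup.iff_card.mp hYp
  have hn0 : n ≠ 0 := by
    rintro rfl
    rw [pow_zero, Subgroup.card_eq_one] at hn
    exact hYne hn
  have hdvd : 2 ∣ Nat.card ↥Y := by rw [hn]; exact dvd_pow_self 2 hn0
  obtain ⟨x, hx⟩ := exists_prime_orderOf_dvd_card' 2 hdvd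
  refine ⟨(x : G), x.2, ?_, ?_⟩
  · intro h1
    have : x = 1 := Subtype.ext h1
    rw [this, orderOf_one] at hx
    omega
  · have h2 : x ^ 2 = 1 := by rw [← hx]; exact pow_orderOf_eq_one x
    have := congrArg Subtype.val h2
    simpa using this

theorem special_of_minimal (P V U Γ Y : Subgroup G)
    (hP : IsPGroup 2 P) (hV : ∀ g : G, g ∈ V ↔ g ∈ P ∧ g ^ 2 = 1)
    (hVZ : V ≤ centralizer (P : Set G))
    (hUΓ : U ≤ Γ) (hΓU : Γ ≤ normalizer (U : Set G)) (hUodd : Odd (Nat.card U))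
    (hUV : U ≤ centralizer (V : Set G))
    (htrans : ∀ v ∈ V, v ≠ 1 → ∀ w ∈ V, w ≠ 1 → ∃ g ∈ Γ, g * v * g⁻¹ = w)
    (hYP : Y ≤ P) (hΓY : Γ ≤ normalizer (Y : Set G)) (hYU : ¬ U ≤ centralizer (Y : Set G))
    (hmin : ∀ Y₀ : Subgroup G, Y₀ < Y → Γ ≤ normalizer (Y₀ : Set G) →
      U ≤ centralizer (Y₀ : Set G)) :
    V ≤ Y ∧ (∀ y ∈ Y, y ^ 2 ∈ V) ∧ ⁅Y, Y⁆ ≤ V ∧ Y ⊓ centralizer (U : Set G) = V ∧
      ⁅Y, U⁆ = Y := by
  classical
  have : Fact (Nat.Prime 2) := ⟨Nat.prime_two⟩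
  have hYp : IsPGroup 2 Y := hP.to_le hYP
  have hIY : Inv Γ Y := inv_of_le_normalizer hΓY
  have hIU : Inv Γ U := inv_of_le_normalizer hΓU
  have hUY : U ≤ normalizer (Y : Set G) := hUΓ.trans hΓY
  have hNY : ⁅Y, U⁆ ≤ Y := by
    rw [commutator_le]
    intro y hy u hu
    have h1 : u * y⁻¹ * u⁻¹ ∈ Y := inv_of_le_normalizer hUY u hu _ (Y.inv_mem hy)
    have e : ⁅y, u⁆ = y * (u * y⁻¹ * u⁻¹) := by rw [commutatorElement_def]; group
    rw [e]
    exact Y.mul_mem hy h1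
  have hcopY : (Nat.card U).Coprime (Nat.card Y) := by
    obtain ⟨n, hn⟩ := IsPGroup.iff_card.mp hYp
    rw [hn]
    exact Nat.Coprime.pow_right n (Nat.coprime_two_right.mpr hUodd)
  -- (5) `[Y, U] = Y`
  have hN : ⁅Y, U⁆ = Y := by
    by_contra hne
    have hlt : ⁅Y, U⁆ < Y := lt_of_le_of_ne hNY hne
    have hΓN : Γ ≤ normalizer ((⁅Y, U⁆ : Subgroup G) : Set G) :=
      le_normalizer_of_inv (hIY.commutator hIU)
    have hUcN := hmin _ hlt hΓN
    apply hYU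
    apply le_centralizer_of_le_centralizer_commutator Y U hUY
    · exact Nat.Coprime.coprime_dvd_right (Subgroup.card_dvd_of_le hNY) hcopY
    · have hNp : IsPGroup 2 (⁅Y, U⁆ : Subgroup G) := hYp.to_le hNY
      have := hNp.isNilpotent
      infer_instance
    · exact hUcN
  -- `Z = C_Y(U)`
  set Z : Subgroup G := Y ⊓ centralizer (U : Set G) with hZ
  have hZY : Z ≤ Y := inf_le_left
  have hZne : Z ≠ Y := by
    intro h
    apply hYU
    rw [le_centralizer_iff, ← h]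
    exact inf_le_right
  have hIZ : Inv Γ Z := hIY.inf_centralizer hIU
  have hA : ∀ Y₁ : Subgroup G, Y₁ < Y → Inv Γ Y₁ → Y₁ ≤ Z := by
    intro Y₁ hlt hI
    have := hmin Y₁ hlt (le_normalizer_of_inv hI)
    exact le_inf hlt.le (le_centralizer_iff.mp this)
  have hYne : Y ≠ ⊥ := by
    rintro rfl
    apply hYU
    intro u _
    rw [mem_centralizer_iff]
    intro y hy
    rw [SetLike.mem_coe, mem_bot] at hy
    subst hy
    simp
  -- the derived subgroup lies in `Z`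
  have hY'lt : ⁅Y, Y⁆ < Y := by
    have : Nontrivial ↥Y := (Subgroup.nontrivial_iff_ne_bot Y).mpr hYne
    have := hYp.isNilpotent
    have h := Group.IsSolvable.commutator_lt_top_of_nontrivial ↥Y
    have h1 : (_root_.commutator ↥Y).map Y.subtype = ⁅Y, Y⁆ := by
      rw [_root_.commutator_def, map_commutator, ← MonoidHom.range_eq_map, Y.range_subtype]
    have h2 : (⊤ : Subgroup ↥Y).map Y.subtype = Y := by
      rw [← MonoidHom.range_eq_map, Y.range_subtype]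
    rw [← h1]
    conv_rhs => rw [← h2]
    exact Subgroup.map_subtype_lt_map_subtype.mpr h
  have hY'Z : ⁅Y, Y⁆ ≤ Z := hA _ hY'lt (hIY.commutator hIY)
  -- `Z` is central in `Y` (three subgroups)
  have hZU : ⁅Z, U⁆ = ⊥ := by
    rw [commutator_eq_bot_iff_le_centralizer]
    exact inf_le_right
  have hYZ : ⁅Y, Z⁆ = ⊥ := by
    have h1 : ⁅⁅Y, Z⁆, U⁆ = ⊥ := by
      rw [eq_bot_iff, ← hZU]
      exact commutator_mono ((commutator_mono le_rfl hZY).trans hY'Z) le_rfl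
    have h2 : ⁅⁅Z, U⁆, Y⁆ = ⊥ := by
      rw [hZU]
      exact commutator_bot_left Y
    have h3 := commutator_commutator_eq_bot_of_rotate h1 h2
    rwa [commutator_comm U Y, hN] at h3
  have hcen : ∀ z ∈ Z, ∀ y ∈ Y, z * y = y * z := fun z hz y hy =>
    mem_centralizer_iff.mp ((commutator_eq_bot_iff_le_centralizer.mp hYZ) hy) z hz
  have hcomm_mem : ∀ a ∈ Y, ∀ b ∈ Y, ⁅a, b⁆ ∈ Z := fun a ha b hb =>
    hY'Z (commutator_mem_commutator ha hb)
  have hsq_mul : ∀ a ∈ Y, ∀ b ∈ Y, (a * b) ^ 2 = a ^ 2 * b ^ 2 * ⁅b, a⁆ := fun a ha b hb =>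
    mul_sq_of_comm (hcen _ (hcomm_mem b hb a ha) a ha) (hcen _ (hcomm_mem b hb a ha) b hb)
  -- all squares lie in `Z`
  let T : Subgroup G :=
    { carrier := {y | y ∈ Y ∧ y ^ 2 ∈ Z}
      one_mem' := ⟨Y.one_mem, by rw [one_pow]; exact Z.one_mem⟩
      mul_mem' := by
        rintro a b ⟨ha, ha2⟩ ⟨hb, hb2⟩
        refine ⟨Y.mul_mem ha hb, ?_⟩
        rw [hsq_mul a ha b hb]
        exact Z.mul_mem (Z.mul_mem ha2 hb2) (hcomm_mem b hb a ha)
      inv_mem' := by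
        rintro a ⟨ha, ha2⟩
        refine ⟨Y.inv_mem ha, ?_⟩
        rw [inv_pow]
        exact Z.inv_mem ha2 }
  have hTmem : ∀ y, y ∈ T ↔ y ∈ Y ∧ y ^ 2 ∈ Z := fun y => Iff.rfl
  have hTY : T ≤ Y := fun y hy => hy.1
  have hIT : Inv Γ T := by
    intro g hg y hy
    rw [hTmem] at hy ⊢
    refine ⟨hIY g hg y hy.1, ?_⟩
    rw [conj_pow]
    exact hIZ g hg _ hy.2
  have hTeq : T = Y := by
    by_contra hne
    have hTZ : T ≤ Z := hA T (lt_of_le_of_ne hTY hne) hIT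
    apply hZne
    apply le_antisymm hZY
    intro y hy
    obtain ⟨k, hk⟩ := hYp ⟨y, hy⟩
    have hk' : y ^ (2 ^ k) = 1 := by
      have := congrArg Subtype.val hk
      simpa using this
    have hdesc : ∀ j, j ≤ k → y ^ (2 ^ (k - j)) ∈ Z := by
      intro j
      induction j with
      | zero =>
        intro _
        rw [Nat.sub_zero, hk']
        exact Z.one_mem
      | succ j ih =>
        intro hj
        have h1 := ih (by omega)
        have e : y ^ (2 ^ (k - j)) = (y ^ (2 ^ (k - (j + 1)))) ^ 2 := by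
          rw [← pow_mul, ← pow_succ]
          congr 2
          omega
        rw [e] at h1
        exact hTZ ((hTmem _).mpr ⟨Y.pow_mem hy _, h1⟩)
    have := hdesc k le_rfl
    simpa using this
  have hsqZ : ∀ y ∈ Y, y ^ 2 ∈ Z := by
    intro y hy
    have : y ∈ T := by rw [hTeq]; exact hy
    exact ((hTmem y).mp this).2
  -- commutators are involutions, hence lie in `V`
  have hcomm_sq : ∀ a ∈ Y, ∀ b ∈ Y, ⁅a, b⁆ ^ 2 = 1 := by
    intro a ha b hb
    rw [← comm_sq_of_comm (hcen _ (hcomm_mem a ha b hb) a ha),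
      commutatorElement_eq_one_iff_mul_comm]
    exact hcen _ (hsqZ a ha) b hb
  have hY'V : ⁅Y, Y⁆ ≤ V := by
    rw [commutator_le]
    intro a ha b hb
    rw [hV]
    exact ⟨hYP (hZY (hcomm_mem a ha b hb)), hcomm_sq a ha b hb⟩
  -- `V ≤ Y`
  obtain ⟨v₀, hv₀Y, hv₀1, hv₀2⟩ := exists_invol_of_ne_bot hYp hYne
  have hv₀V : v₀ ∈ V := (hV v₀).mpr ⟨hYP hv₀Y, hv₀2⟩
  have hVY : V ≤ Y := by
    intro w hw
    by_cases hw1 : w = 1
    · rw [hw1]; exact Y.one_mem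
    · obtain ⟨g, hg, rfl⟩ := htrans v₀ hv₀V hv₀1 w hw hw1
      exact hIY g hg v₀ hv₀Y
  have hVZ' : V ≤ Z := le_inf hVY (le_centralizer_iff.mp hUV)
  -- `Z` has exponent two
  have hZab : ∀ z₁ ∈ Z, ∀ z₂ ∈ Z, z₁ * z₂ = z₂ * z₁ := fun z₁ hz₁ z₂ hz₂ =>
    hcen z₁ hz₁ z₂ (hZY hz₂)
  have hZexp : ∀ z ∈ Z, z ^ 2 = 1 := by
    by_contra hex
    push Not at hex
    obtain ⟨z₀, hz₀Z, hz₀⟩ := hex
    let Z₂ : Subgroup G :=
      { carrier := {x | ∃ z ∈ Z, z ^ 2 = x}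
        one_mem' := ⟨1, Z.one_mem, one_pow 2⟩
        mul_mem' := by
          rintro a b ⟨z₁, hz₁, rfl⟩ ⟨z₂, hz₂, rfl⟩
          exact ⟨z₁ * z₂, Z.mul_mem hz₁ hz₂, (Commute.mul_pow (hZab z₁ hz₁ z₂ hz₂) 2)⟩
        inv_mem' := by
          rintro a ⟨z₁, hz₁, rfl⟩
          exact ⟨z₁⁻¹, Z.inv_mem hz₁, inv_pow z₁ 2⟩ }
    have hZ₂mem : ∀ x, x ∈ Z₂ ↔ ∃ z ∈ Z, z ^ 2 = x := fun x => Iff.rfl
    have hZ₂Z : Z₂ ≤ Z := by
      rintro x ⟨z, hz, rfl⟩
      exact Z.pow_mem hz 2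
    have hIZ₂ : Inv Γ Z₂ := by
      rintro g hg x ⟨z, hz, rfl⟩
      exact ⟨g * z * g⁻¹, hIZ g hg z hz, conj_pow⟩
    have hZ₂ne : Z₂ ≠ ⊥ := by
      intro hbot
      have : z₀ ^ 2 ∈ Z₂ := ⟨z₀, hz₀Z, rfl⟩
      rw [hbot, mem_bot] at this
      exact hz₀ this
    have hZ₂p : IsPGroup 2 Z₂ := hYp.to_le (hZ₂Z.trans hZY)
    obtain ⟨t, htZ₂, ht1, ht2⟩ := exists_invol_of_ne_bot hZ₂p hZ₂ne
    have htV : t ∈ V := (hV t).mpr ⟨hYP (hZY (hZ₂Z htZ₂)), ht2⟩
    have hVZ₂ : V ≤ Z₂ := by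
      intro w hw
      by_cases hw1 : w = 1
      · rw [hw1]; exact Z₂.one_mem
      · obtain ⟨g, hg, rfl⟩ := htrans t htV ht1 w hw hw1
        exact hIZ₂ g hg t htZ₂
    -- every square of `Y` is a square of `Z`
    let S : Subgroup G :=
      { carrier := {y | y ∈ Y ∧ y ^ 2 ∈ Z₂}
        one_mem' := ⟨Y.one_mem, by rw [one_pow]; exact Z₂.one_mem⟩
        mul_mem' := by
          rintro a b ⟨ha, ha2⟩ ⟨hb, hb2⟩
          refine ⟨Y.mul_mem ha hb, ?_⟩
          rw [hsq_mul a ha b hb]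
          exact Z₂.mul_mem (Z₂.mul_mem ha2 hb2)
            (hVZ₂ (hY'V (commutator_mem_commutator hb ha)))
        inv_mem' := by
          rintro a ⟨ha, ha2⟩
          refine ⟨Y.inv_mem ha, ?_⟩
          rw [inv_pow]
          exact Z₂.inv_mem ha2 }
    have hSmem : ∀ y, y ∈ S ↔ y ∈ Y ∧ y ^ 2 ∈ Z₂ := fun y => Iff.rfl
    have hYS : Y ≤ S := by
      rw [← hN, commutator_le]
      intro y hy u hu
      rw [hSmem]
      have hb : u * y⁻¹ * u⁻¹ ∈ Y := inv_of_le_normalizer hUY u hu _ (Y.inv_mem hy)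
      have e : ⁅y, u⁆ = y * (u * y⁻¹ * u⁻¹) := by rw [commutatorElement_def]; group
      refine ⟨by rw [e]; exact Y.mul_mem hy hb, ?_⟩
      rw [e, hsq_mul y hy _ hb]
      -- `y ^ 2 * (u * y⁻¹ * u⁻¹) ^ 2 = 1`
      have hy2 : y ^ 2 ∈ Z := hsqZ y hy
      have hu2 : u * (y ^ 2)⁻¹ * u⁻¹ = (y ^ 2)⁻¹ := by
        have h1 : (y ^ 2)⁻¹ ∈ centralizer (U : Set G) := (Z.inv_mem hy2).2
        have h2 := mem_centralizer_iff.mp h1 u hu
        rw [h2, mul_inv_cancel_right]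
      have e2 : (u * y⁻¹ * u⁻¹) ^ 2 = (y ^ 2)⁻¹ := by
        rw [conj_pow, inv_pow, hu2]
      rw [e2, mul_inv_cancel, one_mul]
      exact hVZ₂ (hY'V (commutator_mem_commutator hb hy))
    apply hZne
    apply le_antisymm hZY
    intro y hy
    obtain ⟨z, hz, hzy⟩ := ((hSmem y).mp (hYS hy)).2
    have hcomm : Commute y z⁻¹ := (hcen z⁻¹ (Z.inv_mem hz) y hy).symm
    have h1 : (y * z⁻¹) ^ 2 = 1 := by
      rw [hcomm.mul_pow, inv_pow, hzy, mul_inv_cancel]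
    have h2 : y * z⁻¹ ∈ V :=
      (hV _).mpr ⟨hYP (Y.mul_mem hy (Y.inv_mem (hZY hz))), h1⟩
    have h3 := Z.mul_mem (hVZ' h2) hz
    rwa [inv_mul_cancel_right] at h3
  have hZV : Z = V := by
    apply le_antisymm
    · intro z hz
      exact (hV z).mpr ⟨hYP (hZY hz), hZexp z hz⟩
    · exact hVZ'
  refine ⟨hVY, ?_, hY'V, hZV, hN⟩
  intro y hy
  rw [← hZV]
  exact hsqZ y hy

end Main

end Cfsg.Agent.Helper48.TH
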