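import Mathlib
import Cfsg.Agent.Helper95.TIC.Defs

/-!
# S4064 piece (SUB), for helper95: `TIC` passes to subgroups
-/

set_option autoImplicit false

namespace Cfsg.Agent.Helper48.TICent

open Subgroup Cfsg.Agent.Helper95.TICent

variable {G : Type*} [Group G]

/-- membership in a centralizer of a subgroup, seen in the ambient group -/
theorem SUB_mem_centralizer_iff (H : Subgroup G) (x h : H) :
    h ∈ Subgroup.centralizer ({x} : Set H) ↔
      (h : G) ∈ Subgroup.centralizer ({(x : G)} : Set G) := by
  rw [Subgroup.mem_centralizer_singleton_iff, Subgroup.mem_centralizer_singleton_iff]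
  constructor
  · intro e
    have := congrArg (Subtype.val : H → G) e
    simpa using this
  · intro e
    apply Subtype.ext
    simpa using e

/-- (SUB) `TIC` passes to subgroups. -/
theorem TIC.subgroup (h : TIC G) (H : Subgroup G) : TIC H := by
  intro x g hg y hy hgy
  by_contra hy1
  apply hg
  have hyG : (y : G) ∈ Subgroup.centralizer ({(x : G)} : Set G) :=
    (SUB_mem_centralizer_iff H x y).mp hy
  have hy1G : (y : G) ≠ 1 := fun e => hy1 (Subtype.ext (by simpa using e))
  have hgyG : (g : G) * (y : G) * (g : G)⁻¹ ∈ Subgroup.centralizer ({(x : G)} : Set G) := by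
    have := (SUB_mem_centralizer_iff H x (g * y * g⁻¹)).mp hgy
    simpa using this
  have hN := h.mem_normalizer hyG hy1G hgyG
  rw [Subgroup.mem_normalizer_iff] at hN
  rw [Subgroup.mem_set_normalizer_iff]
  intro k
  show k ∈ Subgroup.centralizer ({x} : Set H) ↔ g * k * g⁻¹ ∈ Subgroup.centralizer ({x} : Set H)
  rw [SUB_mem_centralizer_iff, SUB_mem_centralizer_iff, hN (k : G)]
  simp

end Cfsg.Agent.Helper48.TICent
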