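import Mathlib
import Cfsg.Agent.Helper44.U4Defs
import Cfsg.Agent.S2677
import Cfsg.Agent.Helper55.U4G1a

/-!
# S6001 (helper44), pieces (FW3), (FW5): the common core

`x ∈ SU_4(p)` with `x ^ r = z • 1`: `z ^ 4 = 1`; `s := scalar (z ^ e)` is unitary and
`(s x) ^ r = 1` as soon as `(z ^ e) ^ r * z = 1`; `s x ≠ 1` has order `r`; a `GU`-class
representative in `N0` and the general forward step (FWG) finish.
-/

set_option autoImplicit false
open scoped MatrixGroups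

namespace Cfsg.Agent.Helper48.U4

open Matrix Polynomial Cfsg.Agent.Helper99.P4 Cfsg.Geo Cfsg.Agent.Helper44.U4

variable {F : Type*} [Field F]

/-- the matrix determinant of an element of `SU_4` -/
theorem det_eq_one_of_mem_SU4 {p : ℕ} (x : GL (Fin 4) F) (hx : x ∈ SU4 F p) :
    (x : Matrix (Fin 4) (Fin 4) F).det = 1 := by
  have h : Matrix.GeneralLinearGroup.det x = 1 := hx.2
  have h2 := congrArg (fun u : Fˣ => (u : F)) h
  simpa using h2

/-- `x ^ r = z • 1` in `SU_4` forces `z ^ 4 = 1` -/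
theorem pow_four_of_pow_eq_scalar {p : ℕ} (x : GL (Fin 4) F) (hx : x ∈ SU4 F p) (r : ℕ) (z : F)
    (hz : ((x ^ r : GL (Fin 4) F) : Matrix (Fin 4) (Fin 4) F) = z • 1) : z ^ 4 = 1 := by
  have h1 := congrArg Matrix.det hz
  rw [Units.val_pow_eq_pow_val, Matrix.det_pow, det_eq_one_of_mem_SU4 x hx, one_pow, Matrix.det_smul,
    Matrix.det_one, mul_one, Fintype.card_fin] at h1
  exact h1.symm

/-- the common core of (FW3) and (FW5) -/
theorem fw_core [Fintype F] {p : ℕ} [Fact p.Prime] [CharP F p] (hF : Fintype.card F = p ^ 2)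
    (hp4 : p % 4 = 3) {i : F} (hi : i ^ 2 = -1) (r : ℕ) (hr : r.Prime) (hrp : r ≠ p) (e : ℕ)
    (he : ∀ z : F, z ^ 4 = 1 → (z ^ e) ^ r * z = 1)
    (hclass : ∀ x1 : GL (Fin 4) F, x1 ∈ Cfsg.GU 4 F p → orderOf x1 = r →
      ∃ u ∈ Cfsg.GU 4 F p, ∃ y ∈ N0 i hi, u⁻¹ * x1 * u = y)
    (hFWG : ∀ (x s y u : GL (Fin 4) F), x ∈ SU4 F p → ∀ c : F,
      (s : Matrix (Fin 4) (Fin 4) F) = c • 1 → s ∈ Cfsg.GU 4 F p → u ∈ Cfsg.GU 4 F p →
      y ∈ N0 i hi → u⁻¹ * (s * x) * u = y → ∀ k : ℕ, k.Coprime p → (s * x) ^ k = 1 →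
      ∃ g ∈ SU4 F p, g⁻¹ * x * g ∈ N0 i hi) :
    FixProp F p r (N0 i hi) := by
  have hp : p.Prime := Fact.out
  intro x hx hz hns
  obtain ⟨z, hz⟩ := hz
  have hz4 : z ^ 4 = 1 := pow_four_of_pow_eq_scalar x hx r z hz
  set bar : F →+* F := frobenius F p with hbardef
  have hbar : ∀ a, bar a = a ^ p := fun a => frobenius_def p a
  obtain ⟨-, -, h2, -, hunit⟩ := Cfsg.Agent.Helper55.U4.bar_facts hF hp4 bar hbar
  set w : F := z ^ e with hw
  have hw4 : w ^ 4 = 1 := by rw [hw, ← pow_mul, mul_comm, pow_mul, hz4, one_pow]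
  have hw0 : w ≠ 0 := by
    intro h
    rw [h] at hw4
    norm_num at hw4
  set wu : Fˣ := Units.mk0 w hw0 with hwu
  set s : GL (Fin 4) F := Matrix.GeneralLinearGroup.scalar (Fin 4) wu with hs
  have hsU : s ∈ Cfsg.GU 4 F p := by
    apply Cfsg.Agent.S2677.scalar_mem_GU bar hbar wu
    rw [hwu, Units.val_mk0, pow_succ, ← hbar, mul_comm]
    exact hunit w hw4
  have hsM : (s : Matrix (Fin 4) (Fin 4) F) = w • 1 := by
    rw [hs, Matrix.GeneralLinearGroup.coe_scalar, Matrix.scalar_apply, ← Matrix.smul_one_eq_diagonal, hwu,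
      Units.val_mk0]
  have hsx : ((s * x : GL (Fin 4) F) : Matrix (Fin 4) (Fin 4) F) =
      w • (x : Matrix (Fin 4) (Fin 4) F) := by
    rw [Units.val_mul, hsM, Matrix.smul_mul, Matrix.one_mul]
  have hpow : (s * x) ^ r = 1 := by
    apply Units.ext
    rw [Units.val_pow_eq_pow_val, hsx, _root_.smul_pow, ← Units.val_pow_eq_pow_val, hz, smul_smul, he z hz4,
      one_smul, Units.val_one]
  have hne : s * x ≠ 1 := by
    intro h
    have h1 := congrArg (fun g : GL (Fin 4) F => (g : Matrix (Fin 4) (Fin 4) F)) h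
    simp only [hsx, Units.val_one] at h1
    apply hns w⁻¹
    calc (x : Matrix (Fin 4) (Fin 4) F) = w⁻¹ • (w • (x : Matrix (Fin 4) (Fin 4) F)) := by
          rw [smul_smul, inv_mul_cancel₀ hw0, one_smul]
      _ = w⁻¹ • 1 := by rw [h1]
  have hfact : Fact r.Prime := ⟨hr⟩
  have hord : orderOf (s * x) = r := orderOf_eq_prime hpow hne
  have hx1U : s * x ∈ Cfsg.GU 4 F p := Subgroup.mul_mem _ hsU hx.1
  obtain ⟨u, hu, y, hy, huy⟩ := hclass (s * x) hx1U hord
  exact hFWG x s y u hx w hsM hsU hu hy huy r ((Nat.coprime_primes hr hp).mpr hrp) hpow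

end Cfsg.Agent.Helper48.U4
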