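import Mathlib
import Cfsg.Agent.Helper48.U4FWcore

/-!
# S6001 (helper44), pieces (FW3), (FW5) relative to the leaf pieces (Y3), (C3), (Y5), (C5), (FWG)
(given as hypotheses in their exact Skel form)
-/

set_option autoImplicit false
open scoped MatrixGroups

namespace Cfsg.Agent.Helper48.U4

open Matrix Polynomial Cfsg.Agent.Helper99.P4 Cfsg.Geo Cfsg.Agent.Helper44.U4

variable {F : Type*} [Field F]

theorem natCast_ne_zero_of_prime_ne {p : ℕ} [Fact p.Prime] [CharP F p] (r : ℕ) (hr : r.Prime)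
    (hrp : r ≠ p) : (r : F) ≠ 0 := by
  intro h
  rw [CharP.cast_eq_zero_iff F p r] at h
  exact hrp ((Nat.prime_dvd_prime_iff_eq (Fact.out : p.Prime) hr).mp h).symm

theorem trace_one_four : Matrix.trace (1 : Matrix (Fin 4) (Fin 4) F) = 4 := by
  rw [Matrix.trace_one, Fintype.card_fin]
  norm_num

/-- (FW3) relative to (Y3), (C3), (FWG) -/
theorem fw_three_of [Fintype F] {p : ℕ} [Fact p.Prime] [CharP F p] (hF : Fintype.card F = p ^ 2)
    (hp4 : p % 4 = 3) (hp3 : p % 3 = 1) {i : F} (hi : i ^ 2 = -1)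
    (hY3 : ∃ ya yb : GL (Fin 4) F, ya ∈ Cfsg.GU 4 F p ∧ ya ∈ N0 i hi ∧ ya ^ 3 = 1 ∧
      Matrix.trace (ya : Matrix (Fin 4) (Fin 4) F) = 1 ∧
      yb ∈ Cfsg.GU 4 F p ∧ yb ∈ N0 i hi ∧ yb ^ 3 = 1 ∧
      Matrix.trace (yb : Matrix (Fin 4) (Fin 4) F) = -2)
    (hC3 : ∀ (ya yb : GL (Fin 4) F), ya ∈ Cfsg.GU 4 F p → yb ∈ Cfsg.GU 4 F p → orderOf ya = 3 →
      orderOf yb = 3 →
      Matrix.trace (ya : Matrix (Fin 4) (Fin 4) F) ≠ Matrix.trace (yb : Matrix (Fin 4) (Fin 4) F) →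
      ∀ x : GL (Fin 4) F, x ∈ Cfsg.GU 4 F p → orderOf x = 3 →
      ∃ u ∈ Cfsg.GU 4 F p, u⁻¹ * x * u = ya ∨ u⁻¹ * x * u = yb)
    (hFWG : ∀ (x s y u : GL (Fin 4) F), x ∈ SU4 F p → ∀ c : F,
      (s : Matrix (Fin 4) (Fin 4) F) = c • 1 → s ∈ Cfsg.GU 4 F p → u ∈ Cfsg.GU 4 F p →
      y ∈ N0 i hi → u⁻¹ * (s * x) * u = y → ∀ k : ℕ, k.Coprime p → (s * x) ^ k = 1 →
      ∃ g ∈ SU4 F p, g⁻¹ * x * g ∈ N0 i hi) :
    FixProp F p 3 (N0 i hi) := by
  have hp : p.Prime := Fact.out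
  have h3p : 3 ≠ p := by
    intro h
    rw [← h] at hp3
    norm_num at hp3
  have h2p : 2 ≠ p := by
    intro h
    rw [← h] at hp4
    norm_num at hp4
  have h3 : (3 : F) ≠ 0 := by
    have := natCast_ne_zero_of_prime_ne (F := F) (p := p) 3 Nat.prime_three h3p
    exact_mod_cast this
  have h2 : (2 : F) ≠ 0 := by
    have := natCast_ne_zero_of_prime_ne (F := F) (p := p) 2 Nat.prime_two h2p
    exact_mod_cast this
  apply fw_core hF hp4 hi 3 Nat.prime_three h3p 1 _ _ hFWG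
  · intro z hz
    rw [pow_one, ← pow_succ]
    exact hz
  · intro x1 hx1 hord
    obtain ⟨ya, yb, hya, hyaN, hya3, htra, hyb, hybN, hyb3, htrb⟩ := hY3
    have hfact : Fact (Nat.Prime 3) := ⟨Nat.prime_three⟩
    have hya1 : ya ≠ 1 := by
      intro h
      rw [h, Units.val_one, trace_one_four] at htra
      apply h3
      linear_combination htra
    have hyb1 : yb ≠ 1 := by
      intro h
      rw [h, Units.val_one, trace_one_four] at htrb
      have h6 : (2 : F) * 3 = 0 := by linear_combination htrb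
      rcases mul_eq_zero.mp h6 with h | h
      · exact h2 h
      · exact h3 h
    have hoa : orderOf ya = 3 := orderOf_eq_prime hya3 hya1
    have hob : orderOf yb = 3 := orderOf_eq_prime hyb3 hyb1
    have htr : Matrix.trace (ya : Matrix (Fin 4) (Fin 4) F) ≠
        Matrix.trace (yb : Matrix (Fin 4) (Fin 4) F) := by
      rw [htra, htrb]
      intro h
      apply h3
      linear_combination h
    obtain ⟨u, hu, h | h⟩ := hC3 ya yb hya hyb hoa hob htr x1 hx1 hord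
    · exact ⟨u, hu, ya, hyaN, h⟩
    · exact ⟨u, hu, yb, hybN, h⟩

/-- (FW5) relative to (Y5), (C5), (FWG) -/
theorem fw_five_of [Fintype F] {p : ℕ} [Fact p.Prime] [CharP F p] (hF : Fintype.card F = p ^ 2)
    (hp4 : p % 4 = 3) (hord : orderOf (p : ZMod 5) = 4) {i : F} (hi : i ^ 2 = -1)
    (hY5 : ∃ y : GL (Fin 4) F, y ∈ Cfsg.GU 4 F p ∧ y ∈ N0 i hi ∧ y ^ 5 = 1 ∧
      Matrix.trace (y : Matrix (Fin 4) (Fin 4) F) = -1)
    (hC5 : ∀ y : GL (Fin 4) F, y ∈ Cfsg.GU 4 F p → orderOf y = 5 →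
      ∀ x : GL (Fin 4) F, x ∈ Cfsg.GU 4 F p → orderOf x = 5 →
      ∃ u ∈ Cfsg.GU 4 F p, u⁻¹ * x * u = y)
    (hFWG : ∀ (x s y u : GL (Fin 4) F), x ∈ SU4 F p → ∀ c : F,
      (s : Matrix (Fin 4) (Fin 4) F) = c • 1 → s ∈ Cfsg.GU 4 F p → u ∈ Cfsg.GU 4 F p →
      y ∈ N0 i hi → u⁻¹ * (s * x) * u = y → ∀ k : ℕ, k.Coprime p → (s * x) ^ k = 1 →
      ∃ g ∈ SU4 F p, g⁻¹ * x * g ∈ N0 i hi) :
    FixProp F p 5 (N0 i hi) := by
  have hp : p.Prime := Fact.out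
  have h5p : 5 ≠ p := by
    intro h
    rw [← h] at hord
    have h1 := pow_orderOf_eq_one ((5 : ℕ) : ZMod 5)
    rw [hord] at h1
    revert h1
    decide
  have h5 : (5 : F) ≠ 0 := by
    have := natCast_ne_zero_of_prime_ne (F := F) (p := p) 5 Nat.prime_five h5p
    exact_mod_cast this
  apply fw_core hF hp4 hi 5 Nat.prime_five h5p 3 _ _ hFWG
  · intro z hz
    calc (z ^ 3) ^ 5 * z = (z ^ 4) ^ 4 := by ring
      _ = 1 := by rw [hz, one_pow]
  · intro x1 hx1 hord1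
    obtain ⟨y, hy, hyN, hy5, htry⟩ := hY5
    have hfact : Fact (Nat.Prime 5) := ⟨Nat.prime_five⟩
    have hy1 : y ≠ 1 := by
      intro h
      rw [h, Units.val_one, trace_one_four] at htry
      apply h5
      linear_combination htry
    have hoy : orderOf y = 5 := orderOf_eq_prime hy5 hy1
    obtain ⟨u, hu, h⟩ := hC5 y hy hoy x1 hx1 hord1
    exact ⟨u, hu, y, hyN, h⟩

end Cfsg.Agent.Helper48.U4
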