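import Mathlib
import Cfsg.Agent.Helper48.U4FW35of
import Cfsg.Agent.Helper76.U4Y3
import Cfsg.Agent.Helper12.U4C3
import Cfsg.Agent.Helper55.U4FWG

/-!
# S6001 (helper44), piece (FW3): `FixProp F p 3 (N0 i hi)` for `p ≡ 1 (mod 3)`
-/

set_option autoImplicit false
open scoped MatrixGroups

namespace Cfsg.Agent.Helper48.U4

open Matrix Polynomial Cfsg.Agent.Helper99.P4 Cfsg.Geo Cfsg.Agent.Helper44.U4

variable {F : Type*} [Field F]

/-- (FW3) -/
theorem fw_three [Fintype F] {p : ℕ} [Fact p.Prime] [CharP F p] (hF : Fintype.card F = p ^ 2)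
    (hp4 : p % 4 = 3) (hp3 : p % 3 = 1) {i : F} (hi : i ^ 2 = -1) : FixProp F p 3 (N0 i hi) := by
  have hbar : ∀ a, (frobenius F p) a = a ^ p := fun a => frobenius_def p a
  obtain ⟨-, -, h2, hbi, -⟩ := Cfsg.Agent.Helper55.U4.bar_facts hF hp4 (frobenius F p) hbar
  exact fw_three_of hF hp4 hp3 hi
    (Cfsg.Agent.Helper76.U4.exists_cubes (frobenius F p) hbar h2 hi (hbi i hi))
    (fun ya yb hya hyb hoa hob htr x hx hox =>
      Cfsg.Agent.Helper12.U4.order_three_classes hF hp3 ya yb hya hyb hoa hob htr x hx hox)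
    (fun x s y u hx c hs hsU hu hy huy k hk hxk =>
      Cfsg.Agent.Helper55.U4.fw_gen hF hi x s y u hx c hs hsU hu hy huy k hk hxk)

end Cfsg.Agent.Helper48.U4
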