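import Mathlib
import Cfsg.Agent.Helper48.U4FW35of
import Cfsg.Agent.Helper76.U4Y5
import Cfsg.Agent.Helper12.U4C5
import Cfsg.Agent.Helper55.U4FWG

/-!
# S6001 (helper44), piece (FW5): `FixProp F p 5 (N0 i hi)` for `p` of order `4` modulo `5`
-/

set_option autoImplicit false
open scoped MatrixGroups

namespace Cfsg.Agent.Helper48.U4

open Matrix Polynomial Cfsg.Agent.Helper99.P4 Cfsg.Geo Cfsg.Agent.Helper44.U4

variable {F : Type*} [Field F]

/-- (FW5) -/
theorem fw_five [Fintype F] {p : ℕ} [Fact p.Prime] [CharP F p] (hF : Fintype.card F = p ^ 2)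
    (hp4 : p % 4 = 3) (hord : orderOf (p : ZMod 5) = 4) {i : F} (hi : i ^ 2 = -1) :
    FixProp F p 5 (N0 i hi) := by
  have hbar : ∀ a, (frobenius F p) a = a ^ p := fun a => frobenius_def p a
  obtain ⟨-, -, h2, hbi, -⟩ := Cfsg.Agent.Helper55.U4.bar_facts hF hp4 (frobenius F p) hbar
  exact fw_five_of hF hp4 hord hi
    (Cfsg.Agent.Helper76.U4.exists_fifth (frobenius F p) hbar h2 hi (hbi i hi))
    (fun y hy hoy x hx hox =>
      Cfsg.Agent.Helper12.U4.order_five_class hF hord y hy hoy x hx hox)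
    (fun x s y u hx c hs hsU hu hy huy k hk hxk =>
      Cfsg.Agent.Helper55.U4.fw_gen hF hi x s y u hx c hs hsU hu hy huy k hk hxk)

end Cfsg.Agent.Helper48.U4
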