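import Mathlib
import Cfsg.Agent.Helper99.UNdDefs

/-!
# (RP) for helper99's S5954: elements with `x ^ p` scalar are scalar multiples of unipotent elements
-/

set_option autoImplicit false
set_option linter.unusedVariables false

namespace Cfsg.Agent.Helper48.UNdRP

open Matrix Polynomial
open Cfsg.Agent.Helper99.UNd

variable {F : Type*} [Field F]

theorem isUM_one {q n : ℕ} : IsUM n q (1 : Matrix (Fin n) (Fin n) F) := by
  intro u v
  rw [Matrix.one_mulVec, Matrix.one_mulVec]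

theorem isUM_mul {q n : ℕ} {A B : Matrix (Fin n) (Fin n) F} (hA : IsUM n q A) (hB : IsUM n q B) :
    IsUM n q (A * B) := by
  intro u v
  rw [← Matrix.mulVec_mulVec, ← Matrix.mulVec_mulVec, hA, hB]

theorem isUM_pow {q n : ℕ} {A : Matrix (Fin n) (Fin n) F} (hA : IsUM n q A) (k : ℕ) :
    IsUM n q (A ^ k) := by
  induction k with
  | zero => rw [pow_zero]; exact isUM_one
  | succ k ih => rw [pow_succ]; exact isUM_mul ih hA

/-- a unitary scalar has norm one -/
theorem norm_of_scalar {q n : ℕ} (hn : 1 ≤ n) (z : F)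
    (h : IsUM n q (z • (1 : Matrix (Fin n) (Fin n) F))) : z ^ (q + 1) = 1 := by
  have h1 := h (Pi.single (⟨0, hn⟩ : Fin n) 1) (Pi.single (⟨0, hn⟩ : Fin n) 1)
  rw [Matrix.smul_mulVec, Matrix.one_mulVec] at h1
  simp only [Cfsg.hermForm, Pi.smul_apply, smul_eq_mul] at h1
  rw [Finset.sum_eq_single (⟨0, hn⟩ : Fin n), Finset.sum_eq_single (⟨0, hn⟩ : Fin n)] at h1
  · simp only [Pi.single_eq_same, mul_one, one_pow] at h1
    rw [pow_succ', h1]
  · intro b _ hb
    rw [Pi.single_eq_of_ne hb, zero_mul]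
  · intro h0; exact absurd (Finset.mem_univ _) h0
  · intro b _ hb
    rw [Pi.single_eq_of_ne hb, mul_zero, zero_mul]
  · intro h0; exact absurd (Finset.mem_univ _) h0

/-- (RP) elements with `x ^ p` scalar are scalar multiples of unipotent elements -/
theorem exists_unip_smul [Fintype F] (p : ℕ) [Fact p.Prime] [CharP F p] {q n : ℕ}
    (hF : Fintype.card F = q ^ 2) (hn : 1 ≤ n) (x : Matrix (Fin n) (Fin n) F)
    (hx : IsElt n q p x) :
    ∃ lam : F, lam ≠ 0 ∧ lam ^ (q + 1) = 1 ∧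
      (lam⁻¹ • x) ^ p = 1 ∧ lam⁻¹ • x ≠ 1 := by
  obtain ⟨hU, hdet, ⟨z, hz⟩, hns⟩ := hx
  have hp0 : p ≠ 0 := (Fact.out : p.Prime).ne_zero
  have hn0 : n ≠ 0 := by omega
  -- `z ≠ 0`
  have hz0 : z ≠ 0 := by
    rintro rfl
    have h1 : (x ^ p).det = 0 := by
      have : Nonempty (Fin n) := ⟨⟨0, hn⟩⟩
      rw [hz, zero_smul, Matrix.det_zero]
    rw [Matrix.det_pow, hdet, one_pow] at h1
    exact one_ne_zero h1
  -- norm of `z`
  have hzn : z ^ (q + 1) = 1 := norm_of_scalar hn z (by rw [← hz]; exact isUM_pow hU p)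
  -- a `p`-th root of `z`
  have hsurj : Function.Surjective (frobenius F p) :=
    Finite.injective_iff_surjective.mp (frobenius_inj F p)
  obtain ⟨lam, hlam⟩ := hsurj z
  rw [frobenius_def] at hlam
  have hlam0 : lam ≠ 0 := by
    rintro rfl
    rw [zero_pow hp0] at hlam
    exact hz0 hlam.symm
  refine ⟨lam, hlam0, ?_, ?_, ?_⟩
  · apply frobenius_inj F p
    rw [frobenius_def, frobenius_def, one_pow, ← pow_mul, mul_comm, pow_mul, hlam, hzn]
  · rw [_root_.smul_pow, hz, smul_smul, inv_pow, hlam, inv_mul_cancel₀ hz0, one_smul]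
  · intro h1
    apply hns lam
    have h2 : lam • (lam⁻¹ • x) = lam • (1 : Matrix (Fin n) (Fin n) F) := by rw [h1]
    rwa [smul_smul, mul_inv_cancel₀ hlam0, one_smul] at h2

end Cfsg.Agent.Helper48.UNdRP
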