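import Mathlib
import Cfsg.Agent.Helper99.UNdDefs

/-!
# (T9) for helper99's S5954: `X ^ r - z` is `utilde`-invariant for `z` of norm one
-/

set_option autoImplicit false
set_option linter.unusedVariables false

namespace Cfsg.Agent.Helper48.UNdT9

open Matrix Polynomial
open Cfsg.Agent.Helper99.UNd
open Cfsg.Agent.Helper43.GUPrime (utilde)

variable {F : Type*} [Field F]

/-- (T9) `X ^ r - z` is `utilde`-invariant for `z` of norm one -/
theorem utilde_X_pow_sub_C [Fintype F] {q : ℕ} (hF : Fintype.card F = q ^ 2)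
    (bar : F →+* F) (hbar : ∀ x, bar x = x ^ q) (r : ℕ) (hr : 0 < r) (z : F)
    (hz : z ^ (q + 1) = 1) : utilde bar (X ^ r - C z : F[X]) = X ^ r - C z := by
  obtain ⟨w, hw⟩ : ∃ w, w = z ^ q := ⟨_, rfl⟩
  have hzw : z * w = 1 := by rw [hw, ← pow_succ']; exact hz
  have hw0 : w ≠ 0 := right_ne_zero_of_mul_eq_one hzw
  have hwinv : w⁻¹ = z := inv_eq_of_mul_eq_one_left hzw
  unfold utilde
  rw [Polynomial.map_sub, Polynomial.map_pow, Polynomial.map_X, Polynomial.map_C, hbar z, ← hw]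
  have h1 : (X ^ r - C w : F[X]) = X ^ r + C (-w) := by rw [C_neg]; ring
  have hc : (X ^ r - C w : F[X]).coeff 0 = -w := by
    rw [coeff_sub, coeff_X_pow, coeff_C_zero, if_neg hr.ne]; ring
  unfold Cfsg.Agent.Helper43.SpPrime.star
  rw [hc, h1, reverse_add_C, natDegree_X_pow]
  have h2 : (X ^ r : F[X]).reverse = 1 := by
    have := reverse_X_pow_mul (1 : F[X]) r
    rw [mul_one] at this
    rw [this, ← C_1, reverse_C]
  rw [h2, mul_add, mul_one, ← mul_assoc, ← C_mul, inv_mul_cancel₀ (neg_ne_zero.mpr hw0), C_1,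
    one_mul, inv_neg, hwinv, C_neg]
  ring

end Cfsg.Agent.Helper48.UNdT9
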